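import Groth.Agent.DecSec.GerbeCrit
import Groth.Agent.ASp.Univ
import Groth.Agent.ASt.StQc
import Groth.Agent.ASt.InertiaDiag
import Groth.Agent.ASt.PairJ
import Groth.Agent.ASt.LocQOpen

/-! The criterion for gerbes and its consequences. -/

set_option autoImplicit false
set_option backward.isDefEq.respectTransparency false
set_option backward.isDefEq.respectTransparency.types false

universe u

open CategoryTheory CategoryTheory.Limits AlgebraicGeometry Opposite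

namespace Groth.Agent.DecSec

open _root_.AlgSp Groth.Agent.ASp Groth.Agent.ASt Groth.Agent.Boot

variable {S : Scheme.{u}}

theorem isLocalOnBase_fppf_locP {P : MorphismProperty Scheme.{u}} [IsEtLocal P]
    [P.DescendsAlong (@Surjective ⊓ @Flat ⊓ @QuasiCompact)] [IsZariskiLocalAtTarget P] :
    IsLocalOnBase (IsFppfCover (S := S)) (LocP P) :=
  fun _ _ Yi g hY hYi hτ _ f hX Xi p q hXi hsq =>
    isLocalOnBase_locP (P := P) Yi g hY hYi
      (isFpqcCover_of_fppf hY hYi (fun i => (hτ.1 i).1) (fun i => (hτ.1 i).2) hτ.2) f hX Xi p q hXi hsq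

variable {𝒳 𝒴 : AlgSt.Cat S} [FibCat.IsFibGrpd 𝒳.p] [FibCat.IsFibGrpd 𝒴.p] {f : 𝒳 ⥤ᵇ 𝒴}

theorem gerbe_iff (hX : AlgSt.IsAlgStack Scheme.fppfPrecoverage 𝒳) (hY : AlgSt.IsAlgStack Scheme.fppfPrecoverage 𝒴) :
    Gerb.IsGerbeOver (J S) f ↔
      (AlgSt.IsSurjective f ∧ AlgSt.LocQ (LocP @Flat) f ∧
        AlgSt.LocQ (LocP @LocallyOfFinitePresentation) f) ∧
      (AlgSt.IsSurjective (FibCat.diag f) ∧ AlgSt.LocQ (LocP @Flat) (FibCat.diag f) ∧
        AlgSt.LocQ (LocP @LocallyOfFinitePresentation) (FibCat.diag f)) := by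
  have hXX := isAlgStack_fp (isPrestack_of_isStack hY.isStack) hY.diag hX hX f f
  haveI := hXX.isStack.1
  refine ⟨fun h => ?_, ?_⟩
  · obtain ⟨h₁, -, h₂, h₃⟩ := smooth_of_gerbe hX hY h
    obtain ⟨d₁, d₂, d₃⟩ := fppf_diag hX hY h
    exact ⟨⟨h₁, h₂, h₃⟩, isSurjective_of_repByAlgSpWith d₃, locQ_of_repByAlgSpWith hXX d₁,
      locQ_of_repByAlgSpWith hXX d₂⟩
  · rintro ⟨⟨h₁, h₂, h₃⟩, d₁, d₂, d₃⟩
    have hΔ : AlgSt.RepByAlgSp1 (FibCat.diag f) := repByAlgSp1_of_faithful hX hXX _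
    exact ⟨locSurjObj_of_fppf hX hY h₁ h₂ h₃, locSurjHom_of_diag hX hY
      (repByAlgSpWith_of_locQ isSmoothLocalST_locP
        (fun _ _ _ _ h₁' h₂' _ h₄' _ _ _ _ sq h => locP_of_isPullback sq.flip h₁' h₂' h₄' h)
        isLocalOnBase_fppf_locP hXX hΔ d₂)
      (repByAlgSpWith_of_locQ isSmoothLocalST_locP
        (fun _ _ _ _ h₁' h₂' _ h₄' _ _ _ _ sq h => locP_of_isPullback sq.flip h₁' h₂' h₄' h)
        isLocalOnBase_fppf_locP hXX hΔ d₃)
      (repByAlgSpWith_surjective_of_isSurjective hΔ d₁)⟩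

theorem isUnivHomeo_of_gerbe (hX : AlgSt.IsAlgStack Scheme.fppfPrecoverage 𝒳)
    (hY : AlgSt.IsAlgStack Scheme.fppfPrecoverage 𝒴) (hf : Gerb.IsGerbeOver (J S) f) :
    AlgSt.IsUnivHomeo Scheme.fppfPrecoverage f := by
  intro 𝒵 hZ g
  have hP := isAlgStack_fp (isPrestack_of_isStack hY.isStack) hY.diag hZ hX g f
  haveI := hZ.isStack.1
  haveI := hP.isStack.1
  obtain ⟨h₁, -, h₂, h₃⟩ := smooth_of_gerbe hP hZ (Groth.Agent.S16864.result S 𝒳 𝒴 𝒵 hX hY hZ f g hf)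
  exact ⟨continuous_map_stack hZ _, isOpenMor_of_fppf hP h₂ h₃,
    injective_fpFst_of_liftsIso (liftsIso_of_locSurjHom hf.2) g, h₁⟩

/-- Sections of gerbes. -/
theorem fppf_of_section (hX : AlgSt.IsAlgStack Scheme.fppfPrecoverage 𝒳)
    (hY : AlgSt.IsAlgStack Scheme.fppfPrecoverage 𝒴) (hf : Gerb.IsGerbeOver (J S) f)
    {x : 𝒴 ⥤ᵇ 𝒳} (e : BasedFunctor.comp x f ≅ BasedFunctor.id 𝒴) :
    AlgSt.RepByAlgSpWith (LocP @Flat) x ∧ AlgSt.RepByAlgSpWith (LocP @LocallyOfFinitePresentation) x ∧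
      AlgSt.RepByAlgSpWith IsSurjectiveMor x := by
  obtain ⟨d₁, d₂, d₃⟩ := fppf_diag hX hY hf
  haveI : MorphismProperty.ContainsIdentities (@LocallyOfFinitePresentation : MorphismProperty Scheme.{u}) :=
    ⟨fun _ => inferInstance⟩
  exact ⟨repByAlgSpWith_of_comp compLocal_flat (repByAlgSpWith_congr e.symm
      (repByAlgSpWith_id fun _ => locP_of_repWith (repWith_id _ _))) d₁,
    repByAlgSpWith_of_comp compLocal_lfp (repByAlgSpWith_congr e.symm
      (repByAlgSpWith_id fun _ => locP_of_repWith (repWith_id _ _))) d₂,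
    repByAlgSpWith_of_comp compLocal_surjective (repByAlgSpWith_congr e.symm
      (repByAlgSpWith_id fun _ => fun z => ⟨z, AlgSp.Points.map_id z⟩)) d₃⟩

end Groth.Agent.DecSec
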