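import Groth.Agent.DecSec.MonoField
import Groth.Agent.ASt.LocNoeth
import Groth.Agent.ASt.RepDesc
import Groth.Agent.FpqcDesc.Stalk
import Groth.Agent.ASp.LargestOpen
import Groth.Agent.ASp.OnePoint

/-! Algebraic stacks with surjective flat field-valued points. -/

set_option autoImplicit false
set_option backward.isDefEq.respectTransparency false
set_option backward.isDefEq.respectTransparency.types false

universe u

open CategoryTheory CategoryTheory.Limits AlgebraicGeometry Opposite TopologicalSpace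

namespace Groth.Agent.DecSec

open _root_.AlgSp Groth.Agent.ASp Groth.Agent.ASt

variable {S : Scheme.{u}}

/-- Morphisms to the spectrum of a field are flat. -/
theorem flat_to_spec_field {K : Type u} [Field K] {U : Scheme.{u}} (h : U ⟶ Spec (CommRingCat.of K)) : Flat h :=
  flat_of_isField_stalk h fun v => isField_stalk_of_etale_field (K := K) (𝟙 _) v

variable {𝒵 : AlgSt.Cat S} [FibCat.IsFibGrpd 𝒵.p]

/-- A chart of the product of two morphisms from schemes, with the properties of both projections. -/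
theorem exists_cross_chart {M : MorphismProperty Scheme.{u}} [IsEtLocal M]
    (hM : CompLocal (LocP M : MorphismProperty (Sp S))) {U₁ U₂ : Over S}
    {x₁ : FibCat.overCat U₁ ⥤ᵇ 𝒵} {x₂ : FibCat.overCat U₂ ⥤ᵇ 𝒵}
    (h₁ : AlgSt.RepByAlgSpWith (LocP M) x₁) (h₂ : AlgSt.RepByAlgSp1 x₂) :
    ∃ (W : Over S) (w₁ : W ⟶ U₁) (w₂ : W ⟶ U₂), M w₂.left ∧
      (∀ (N : MorphismProperty Scheme.{u}) [IsEtLocal N], AlgSt.RepByAlgSpWith (LocP N) x₂ → N w₁.left) ∧
      (AlgSt.RepByAlgSpWith IsSurjectiveMor x₂ → Surjective w₁.left) ∧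
      (∀ (N : MorphismProperty Scheme.{u}) [IsEtLocal N], N w₁.left → FibHas (LocP N) x₁ x₂) ∧
      Nonempty (BasedFunctor.comp (AlgSt.overMap w₁) x₁ ≅ BasedFunctor.comp (AlgSt.overMap w₂) x₂) := by
  obtain ⟨hs, hA, W, p, E, w₁, hpe, hps, hcomp, ⟨α⟩, -, hE⟩ := exists_chart_of_fib h₂ x₁
  haveI : FibCat.IsFibGrpd (FibCat.fp x₁ x₂).p := isFibGrpd_fp
  obtain ⟨w₂, ⟨β⟩⟩ := exists_overMap (BasedFunctor.comp E (FibCat.fpSnd x₁ x₂))
  have hEM := hE (P := LocP M) hpe fun v hv => locP_of_repWith (repWith_yon_map (IsEtLocal.etale_le _ hv))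
  refine ⟨W, w₁, w₂, prop_of_repByAlgSpWith_overMap
      (repByAlgSpWith_congr β (repByAlgSpWith_comp hM hEM (repByAlgSpWith_fpSnd x₂ h₁))),
    fun N _ hN => ?_, fun hsu => ?_, fun N _ hN => ⟨hs, hA, ?_⟩,
    ⟨(wR α.symm x₁).trans ((wL E (FibCat.fpIso x₁ x₂)).trans (wR β x₂))⟩⟩
  · obtain ⟨_, _, q1⟩ := (repByAlgSpWith_iff.1 hN).2 U₁ x₁
    exact prop_chart hpe hcomp q1
  · obtain ⟨_, _, q3⟩ := (repByAlgSpWith_iff.1 hsu).2 U₁ x₁
    exact surjective_left_of_map (by
      rw [← hcomp, show AlgSp.Points.map (p ≫ _) = AlgSp.Points.map _ ∘ AlgSp.Points.map p from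
        funext (AlgSp.Points.map_comp p _)]
      exact q3.comp (surjective_map_of_repWith hps))
  · exact locP_of_chart hpe hps (AlgSp.repWith_id _ U₁) (by rw [Category.comp_id, hcomp]) hN

/-- Flatness of the fibre is detected after a flat surjective change of the test scheme. -/
theorem fibHas_flat_of_cover {U T V : Over S} {z : FibCat.overCat U ⥤ᵇ 𝒵} (hz : AlgSt.RepByAlgSp1 z)
    (l : T ⟶ V) [Flat l.left] [Surjective l.left] (y : FibCat.overCat V ⥤ᵇ 𝒵)
    (h : FibHas (LocP @Flat) (BasedFunctor.comp (AlgSt.overMap l) y) z) : FibHas (LocP @Flat) y z := by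
  obtain ⟨hs, hA, W, p, E, k, hpe, hps, hcomp, -, -, -⟩ := exists_chart_of_fib hz y
  refine ⟨hs, hA, locP_of_chart hpe hps (AlgSp.repWith_id _ V) (by rw [Category.comp_id, hcomp]) ?_⟩
  obtain ⟨hs', hA', hfl⟩ := h
  have sq : IsPullback (ObjectProperty.homMk (clFun (restrF l y z)) :
      (⟨fib (BasedFunctor.comp (AlgSt.overMap l) y) z, hs'⟩ : Sp S) ⟶ (⟨fib y z, hs⟩ : Sp S))
      (ObjectProperty.homMk (fibπ (BasedFunctor.comp (AlgSt.overMap l) y) z))
      (ObjectProperty.homMk (fibπ y z)) ((yon S).map l) :=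
    IsPullback.of_map_of_faithful (sheafToPresheaf (J S) (Type (u + 1))) (isPullback_restrF l y)
  have hP := isPullback_yon_map (IsPullback.of_hasPullback k l)
  rw [← hcomp] at hP
  obtain ⟨r, hr₁, hr₂⟩ : ∃ r, r ≫ _ = _ ∧ r ≫ _ = _ :=
    ⟨sq.lift ((yon S).map (pullback.fst k l) ≫ p) ((yon S).map (pullback.snd k l))
      (by rw [Category.assoc]; exact hP.w), sq.lift_fst _ _ _, sq.lift_snd _ _ _⟩
  have hre : RepWith @Etale r :=
    repWith_of_isPullback (IsPullback.of_bot (by rw [hr₂]; exact hP) hr₁.symm sq) hpe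
  haveI : Flat (pullback.snd k l).left := prop_chart hre hr₂ hfl
  have hleft := isPullback_left (IsPullback.of_hasPullback k l)
  haveI : Flat (pullback.fst k l).left :=
    MorphismProperty.of_isPullback (P := @Flat) hleft.flip (inferInstanceAs (Flat l.left))
  haveI : Surjective (pullback.fst k l).left :=
    MorphismProperty.of_isPullback (P := @Surjective) hleft.flip (inferInstanceAs (Surjective l.left))
  haveI : Flat ((pullback.fst k l).left ≫ k.left) := by
    rw [← Over.comp_left, pullback.condition, Over.comp_left]; infer_instance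
  exact Groth.Agent.FlatDescStalk.flat_of_comp (pullback.fst k l).left k.left

variable {k₀ : Type u} [Field k₀] {a₀ : Spec (CommRingCat.of k₀) ⟶ S}
  {z₀ : FibCat.overCat (Over.mk a₀) ⥤ᵇ 𝒵}

/-- With one surjective flat field-valued point, every field-valued point is flat. -/
theorem flat_point (h𝒵 : AlgSt.IsAlgStack Scheme.fppfPrecoverage 𝒵)
    (hzs : AlgSt.RepByAlgSpWith IsSurjectiveMor z₀) (hzf : AlgSt.RepByAlgSpWith (LocP @Flat) z₀)
    {k : Type u} [Field k] {a : Spec (CommRingCat.of k) ⟶ S} (z : FibCat.overCat (Over.mk a) ⥤ᵇ 𝒵) :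
    AlgSt.RepByAlgSpWith (LocP @Flat) z := by
  have hz : AlgSt.RepByAlgSp1 z := repByAlgSp1_of_diag h𝒵.diag z
  refine repByAlgSpWith_iff.2 ⟨faithful_of_repByAlgSp1 hz, fun V y => ?_⟩
  obtain ⟨hs, hA, T, p, E, l, hpe, hps, hcomp, ⟨α⟩, -, -⟩ := exists_chart_of_fib (repByAlgSp1_of_with hzs) y
  obtain ⟨_, _, q1⟩ := (repByAlgSpWith_iff.1 hzf).2 V y
  obtain ⟨_, _, q3⟩ := (repByAlgSpWith_iff.1 hzs).2 V y
  haveI : Flat l.left := prop_chart hpe hcomp q1
  haveI : Surjective l.left := surjective_left_of_map (by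
    rw [← hcomp, show AlgSp.Points.map (p ≫ _) = AlgSp.Points.map _ ∘ AlgSp.Points.map p from
      funext (AlgSp.Points.map_comp p _)]
    exact q3.comp (surjective_map_of_repWith hps))
  haveI : FibCat.IsFibGrpd (FibCat.fp y z₀).p := isFibGrpd_fp
  obtain ⟨m, ⟨β⟩⟩ := exists_overMap (BasedFunctor.comp E (FibCat.fpSnd y z₀))
  have γ : BasedFunctor.comp (AlgSt.overMap l) y ≅ BasedFunctor.comp (AlgSt.overMap m) z₀ :=
    (wR α.symm y).trans ((wL E (FibCat.fpIso y z₀)).trans (wR β z₀))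
  obtain ⟨hs', hA', W, p', E', k', hpe', hps', hcomp', -, -, -⟩ := exists_chart_of_fib hz z₀
  have h0 : FibHas (LocP @Flat) z₀ z :=
    ⟨hs', hA', locP_of_chart hpe' hps' (AlgSp.repWith_id _ _) (by rw [Category.comp_id, hcomp'])
      (flat_to_spec_field (K := k₀) k'.left)⟩
  exact fibHas_flat_of_cover hz l y (fibHas_congr γ.symm
    (fibHas_restr (fun _ _ _ _ hX₁ hY₁ hX₂ hY₂ _ _ _ _ sq h => locP_of_isPullback sq.flip hX₁ hY₁ hY₂ h)
      hz m z₀ h0))

theorem subsingleton_points_of_point (hzs : AlgSt.RepByAlgSpWith IsSurjectiveMor z₀) :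
    Nonempty (AlgSt.Points 𝒵) ∧ Subsingleton (AlgSt.Points 𝒵) := by
  haveI : Subsingleton ↥(Over.mk a₀).left := inferInstanceAs (Subsingleton ↥(Spec (CommRingCat.of k₀)))
  exact ⟨⟨AlgSt.Points.ofChart z₀ (IsLocalRing.closedPoint k₀)⟩, (surjective_chart hzs).subsingleton⟩

theorem surjective_point_of_subsingleton (h𝒵 : AlgSt.IsAlgStack Scheme.fppfPrecoverage 𝒵)
    [Subsingleton (AlgSt.Points 𝒵)] {k : Type u} [Field k] {a : Spec (CommRingCat.of k) ⟶ S}
    (z : FibCat.overCat (Over.mk a) ⥤ᵇ 𝒵) : AlgSt.RepByAlgSpWith IsSurjectiveMor z :=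
  repByAlgSpWith_surjective_of_isSurjective (repByAlgSp1_of_diag h𝒵.diag z) fun x =>
    ⟨AlgSt.Points.ofChart (BasedFunctor.id (FibCat.overCat (Over.mk a))) (IsLocalRing.closedPoint k),
      Subsingleton.elim _ _⟩

theorem smooth_le {M : MorphismProperty Scheme.{u}} (h : ∀ {X Y : Scheme.{u}} (f : X ⟶ Y), Smooth f → M f)
    {𝒳 : AlgSt.Cat S} [FibCat.IsFibGrpd 𝒳.p] {f : 𝒳 ⥤ᵇ 𝒵}
    (hf : AlgSt.RepByAlgSpWith (LocP @Smooth) f) : AlgSt.RepByAlgSpWith (LocP M) f :=
  repByAlgSpWith_mono (fun _ _ _ _ _ h' U V p q k hp hq e => h _ (h' p q k hp hq e)) hf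

theorem smoothLocally_reduced_of_point (h𝒵 : AlgSt.IsAlgStack Scheme.fppfPrecoverage 𝒵)
    (hzs : AlgSt.RepByAlgSpWith IsSurjectiveMor z₀) (hzf : AlgSt.RepByAlgSpWith (LocP @Flat) z₀) :
    AlgSt.SmoothLocally (fun T => IsReduced T) 𝒵 := by
  obtain ⟨U, b, hb, hbs⟩ := h𝒵.atlas
  obtain ⟨W, w₁, w₂, hsm, hfl, hsu, -, -⟩ := exists_cross_chart compLocal_smooth hb (repByAlgSp1_of_with hzs)
  haveI := hfl @Flat hzf
  haveI := hsu hzs
  let w : W.left ⟶ Spec (CommRingCat.of k₀) := w₂.left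
  haveI : Smooth w := hsm
  haveI : IsReduced W.left := isReduced_of_smooth w
  haveI : IsReduced U.left := Groth.Agent.FlatDescStalk.isReduced_of_flat_surjective w₁.left
  exact smoothLocally_of_chart (P := fun T => IsReduced T) (fun U' R hR => isReduced_iff_of_presieve U' R hR)
    hb hbs inferInstance

theorem smoothLocally_noetherian_of_point (h𝒵 : AlgSt.IsAlgStack Scheme.fppfPrecoverage 𝒵)
    (hzp : AlgSt.RepByAlgSpWith (LocP @LocallyOfFinitePresentation) z₀)
    (hzs : AlgSt.RepByAlgSpWith IsSurjectiveMor z₀) (hzf : AlgSt.RepByAlgSpWith (LocP @Flat) z₀) :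
    AlgSt.SmoothLocally (fun T => IsLocallyNoetherian T) 𝒵 := by
  obtain ⟨U, b, hb, hbs⟩ := h𝒵.atlas
  obtain ⟨W, w₁, w₂, hsm, hfl, hsu, -, -⟩ := exists_cross_chart compLocal_smooth hb (repByAlgSp1_of_with hzs)
  haveI := hfl @Flat hzf
  haveI := hfl @LocallyOfFinitePresentation hzp
  haveI := hsu hzs
  let w : W.left ⟶ Spec (CommRingCat.of k₀) := w₂.left
  haveI : Smooth w := hsm
  haveI : IsLocallyNoetherian W.left := LocallyOfFiniteType.isLocallyNoetherian w
  exact smoothLocally_of_chart (P := fun T => IsLocallyNoetherian T) isLocallyNoetherian_smLocal hb hbs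
    (Groth.Agent.NoethDesc.of_fppf w₁.left)

/-- The generic point of a component of a reduced scheme gives a flat field-valued point. -/
theorem exists_flat_point_scheme (U : Scheme.{u}) [IsReduced U] [Nonempty ↥U] :
    ∃ η : ↥U, Flat (U.fromSpecResidueField η) := by
  obtain ⟨w, hw⟩ : ∃ w : ↥U, ∀ y, y ⤳ w → y = w := by
    let T := irreducibleComponent (Classical.arbitrary ↥U)
    obtain ⟨w, hw⟩ := QuasiSober.sober (isIrreducible_irreducibleComponent (x := Classical.arbitrary ↥U))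
      isClosed_irreducibleComponent
    exact ⟨w, (exists_component_iff w).1 ⟨T, irreducibleComponent_mem_irreducibleComponents _, hw⟩⟩
  have hd : ringKrullDim ↥(U.presheaf.stalk w) = 0 := ringKrullDim_stalk_eq_zero hw
  haveI : Ring.KrullDimLE 0 ↥(U.presheaf.stalk w) := (Ring.krullDimLE_iff).2 (by rw [hd]; rfl)
  refine ⟨w, Flat.of_stalkMap _ fun x => ?_⟩
  have hF : IsField ↥(U.presheaf.stalk (U.fromSpecResidueField w x)) := by
    rw [Scheme.fromSpecResidueField_apply]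
    exact Ring.KrullDimLE.isField_of_isReduced
  letI := hF.toField
  letI := ((U.fromSpecResidueField w).stalkMap x).hom.toAlgebra
  change Module.Flat ↥(U.presheaf.stalk (U.fromSpecResidueField w x)) ↥((Spec (U.residueField w)).presheaf.stalk x)
  infer_instance

/-- A field-valued point through a scheme. -/
theorem exists_point_of_atlas {U : Over S} {M : MorphismProperty Scheme.{u}} [IsEtLocal M]
    (hM : CompLocal (LocP M : MorphismProperty (Sp S))) {b : FibCat.overCat U ⥤ᵇ 𝒵}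
    (hb : AlgSt.RepByAlgSpWith (LocP M) b) {K : Type u} [Field K] (g : Spec (CommRingCat.of K) ⟶ U.left)
    (hg : M g) : ∃ (a : Spec (CommRingCat.of K) ⟶ S) (z : FibCat.overCat (Over.mk a) ⥤ᵇ 𝒵),
      AlgSt.RepByAlgSpWith (LocP M) z :=
  ⟨g ≫ U.hom, BasedFunctor.comp (AlgSt.overMap (Over.homMk g rfl : Over.mk (g ≫ U.hom) ⟶ U)) b,
    repByAlgSpWith_comp hM (repByAlgSpWith_overMap_locP hg) hb⟩

theorem nonempty_atlas [Nonempty (AlgSt.Points 𝒵)] {U : Over S} {b : FibCat.overCat U ⥤ᵇ 𝒵}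
    (hbs : AlgSt.RepByAlgSpWith IsSurjectiveMor b) : Nonempty ↥U.left :=
  (surjective_chart hbs (Classical.arbitrary _)).nonempty

/-- A reduced one point stack has a surjective flat field-valued point. -/
theorem exists_point_of_reduced (h𝒵 : AlgSt.IsAlgStack Scheme.fppfPrecoverage 𝒵)
    (hred : AlgSt.SmoothLocally (fun T => IsReduced T) 𝒵) [Nonempty (AlgSt.Points 𝒵)]
    [Subsingleton (AlgSt.Points 𝒵)] :
    ∃ (k : Type u) (_ : Field k) (a : Spec (CommRingCat.of k) ⟶ S) (z : FibCat.overCat (Over.mk a) ⥤ᵇ 𝒵),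
      AlgSt.RepByAlgSpWith IsSurjectiveMor z ∧ AlgSt.RepByAlgSpWith (LocP @Flat) z := by
  obtain ⟨U, b, hb, hbs⟩ := h𝒵.atlas
  haveI : IsReduced U.left := hred U b hb
  haveI := nonempty_atlas hbs
  obtain ⟨η, hη⟩ := exists_flat_point_scheme U.left
  obtain ⟨a, z, hz⟩ := exists_point_of_atlas (M := @Flat) compLocal_flat
    (smooth_le (fun f (_ : Smooth f) => inferInstanceAs (Flat f)) hb) (K := ↥(U.left.residueField η))
    (U.left.fromSpecResidueField η) hη
  exact ⟨_, inferInstance, a, z, surjective_point_of_subsingleton h𝒵 z, hz⟩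

/-- A nonempty scheme has a field-valued point locally of finite type. -/
theorem exists_lft_point_scheme (U : Scheme.{u}) [Nonempty ↥U] :
    ∃ (K : Type u) (_ : Field K) (g : Spec (CommRingCat.of K) ⟶ U), LocallyOfFiniteType g := by
  obtain ⟨E, hE, hvE, -⟩ := exists_isAffineOpen_mem_and_subset (x := Classical.arbitrary ↥U) (U := (⊤ : U.Opens))
    (by simp)
  haveI : IsAffine E.toScheme := hE
  haveI : Nonempty ↥E.toScheme := ⟨⟨_, hvE⟩⟩
  haveI : CompactSpace ↥E.toScheme := inferInstance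
  obtain ⟨v, -, hv⟩ := isClosed_univ.exists_closed_singleton (Set.univ_nonempty (α := ↥E.toScheme))
  haveI : IsClosedImmersion (E.toScheme.fromSpecResidueField v) := isClosed_singleton_iff_isClosedImmersion.1 hv
  exact ⟨_, inferInstance, E.toScheme.fromSpecResidueField v ≫ E.ι, inferInstance⟩

theorem exists_lft_point (h𝒵 : AlgSt.IsAlgStack Scheme.fppfPrecoverage 𝒵) [Nonempty (AlgSt.Points 𝒵)] :
    ∃ (k : Type u) (_ : Field k) (a : Spec (CommRingCat.of k) ⟶ S) (z : FibCat.overCat (Over.mk a) ⥤ᵇ 𝒵),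
      AlgSt.RepByAlgSpWith (LocP @LocallyOfFiniteType) z ∧
      (AlgSt.SmoothLocally (fun T => IsLocallyNoetherian T) 𝒵 →
        AlgSt.RepByAlgSpWith (LocP @LocallyOfFinitePresentation) z) := by
  obtain ⟨U, b, hb, hbs⟩ := h𝒵.atlas
  haveI := nonempty_atlas hbs
  obtain ⟨K, hK, g, hg⟩ := exists_lft_point_scheme U.left
  refine ⟨K, hK, _, BasedFunctor.comp (AlgSt.overMap (Over.homMk g rfl : Over.mk (g ≫ U.hom) ⟶ U)) b,
    repByAlgSpWith_comp compLocal_lft (repByAlgSpWith_overMap_locP (M := @LocallyOfFiniteType) hg)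
      (smooth_le (fun f (_ : Smooth f) => inferInstanceAs (LocallyOfFiniteType f)) hb), fun hn => ?_⟩
  haveI : IsLocallyNoetherian U.left := hn U b hb
  exact repByAlgSpWith_comp compLocal_lfp (repByAlgSpWith_overMap_locP (M := @LocallyOfFinitePresentation)
      (locallyOfFinitePresentation_of_noetherian g))
    (smooth_le (fun f (_ : Smooth f) => inferInstanceAs (LocallyOfFinitePresentation f)) hb)

/-- A reduced locally Noetherian one point stack has an fppf field-valued point. -/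
theorem exists_fppf_point (h𝒵 : AlgSt.IsAlgStack Scheme.fppfPrecoverage 𝒵)
    (hred : AlgSt.SmoothLocally (fun T => IsReduced T) 𝒵)
    (hn : AlgSt.SmoothLocally (fun T => IsLocallyNoetherian T) 𝒵) [Nonempty (AlgSt.Points 𝒵)]
    [Subsingleton (AlgSt.Points 𝒵)] :
    ∃ (k : Type u) (_ : Field k) (a : Spec (CommRingCat.of k) ⟶ S) (z : FibCat.overCat (Over.mk a) ⥤ᵇ 𝒵),
      AlgSt.RepByAlgSpWith (LocP @LocallyOfFinitePresentation) z ∧ AlgSt.RepByAlgSpWith IsSurjectiveMor z ∧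
        AlgSt.RepByAlgSpWith (LocP @Flat) z := by
  obtain ⟨k₁, hk₁, a₁, z₁, hs₁, hf₁⟩ := exists_point_of_reduced h𝒵 hred
  obtain ⟨k, hk, a, z, -, hz⟩ := exists_lft_point h𝒵
  exact ⟨k, hk, a, z, hz hn, surjective_point_of_subsingleton h𝒵 z, flat_point h𝒵 hs₁ hf₁ z⟩

end Groth.Agent.DecSec
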