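import Groth.Agent.DecSec.AlgGerbe
import Groth.Agent.DecSec.OnePointStack
import Groth.Agent.ASt.RepDesc
import Groth.Agent.ASt.LocQCalc
import Groth.Agent.S12855

/-! One point stacks with an fppf field-valued point are gerbes. -/

set_option autoImplicit false
set_option backward.isDefEq.respectTransparency false
set_option backward.isDefEq.respectTransparency.types false

universe u

open CategoryTheory CategoryTheory.Limits AlgebraicGeometry Opposite

namespace Groth.Agent.DecSec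

open _root_.AlgSp Groth.Agent.ASp Groth.Agent.ASt Groth.Agent.Boot

variable {S : Scheme.{u}} {𝒵 : AlgSt.Cat S} [FibCat.IsFibGrpd 𝒵.p] {k : Type u} [Field k]
  {a : Spec (CommRingCat.of k) ⟶ S} {z : FibCat.overCat (Over.mk a) ⥤ᵇ 𝒵}

theorem isAlgGerbe_of_point (hZ : AlgSt.IsAlgStack Scheme.fppfPrecoverage 𝒵)
    (hzp : AlgSt.RepByAlgSpWith (LocP @LocallyOfFinitePresentation) z)
    (hzs : AlgSt.RepByAlgSpWith IsSurjectiveMor z) (hzf : AlgSt.RepByAlgSpWith (LocP @Flat) z) :
    Gerb.IsAlgGerbe Scheme.fppfPrecoverage 𝒵 := by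
  haveI := isFibGrpd_inertia (FibCat.toSelf 𝒵)
  let i := FibCat.inertiaToBase (FibCat.toSelf 𝒵)
  have hl : AlgSt.RepByAlgSpWith (LocP @LocallyOfFiniteType) i :=
    repByAlgSpWith_inertiaToBase _ (lft_diag_toSelf hZ)
  have hr : AlgSt.RepByAlgSp1 i := repByAlgSp1_of_with hl
  have h0 : AlgSt.RepByAlgSpWith (LocP @Flat) (FibCat.fpFst z i) ∧
      AlgSt.RepByAlgSpWith (LocP @LocallyOfFinitePresentation) (FibCat.fpFst z i) := by
    haveI : FibCat.IsFibGrpd (FibCat.fp z i).p := isFibGrpd_fp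
    have hb := repByAlgSpWith_fpFst z hl
    obtain ⟨hf, hfib⟩ := repByAlgSpWith_iff.1 hb
    have key : ∀ (U : Over S) (y : FibCat.overCat U ⥤ᵇ FibCat.overCat (Over.mk a)),
        FibHas (LocP @Flat) y (FibCat.fpFst z i) ∧
          FibHas (LocP @LocallyOfFinitePresentation) y (FibCat.fpFst z i) := by
      intro U y
      obtain ⟨m, ⟨β⟩⟩ := exists_overMap y
      obtain ⟨hs, hA, hP⟩ := hfib (Over.mk a) (AlgSt.overMap (𝟙 _))
      obtain ⟨hs', hA', T, p, E, l, hpe, hps, hcomp, -, -, -⟩ :=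
        exists_chart_of_fib (repByAlgSp1_of_with hb) (AlgSt.overMap (𝟙 (Over.mk a)))
      haveI : LocallyOfFiniteType l.left := prop_chart hpe hcomp hP
      have c1 : FibHas (LocP @Flat) (AlgSt.overMap (𝟙 (Over.mk a))) (FibCat.fpFst z i) :=
        ⟨hs, hA, locP_of_chart hpe hps (AlgSp.repWith_id _ _) (by rw [Category.comp_id, hcomp])
          (flat_to_spec_field (K := k) l.left)⟩
      have c2 : FibHas (LocP @LocallyOfFinitePresentation) (AlgSt.overMap (𝟙 (Over.mk a))) (FibCat.fpFst z i) :=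
        ⟨hs, hA, locP_of_chart hpe hps (AlgSp.repWith_id _ _) (by rw [Category.comp_id, hcomp])
          (by haveI : IsLocallyNoetherian (Over.mk a).left := inferInstanceAs (IsLocallyNoetherian (Spec (CommRingCat.of k)))
              exact locallyOfFinitePresentation_of_noetherian l.left)⟩
      have γ : BasedFunctor.comp (AlgSt.overMap m) (AlgSt.overMap (𝟙 (Over.mk a))) ≅ y :=
        (overMapComp m (𝟙 _)).trans ((eqToIso (by rw [Category.comp_id])).trans β.symm)
      exact ⟨fibHas_congr γ (fibHas_restr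
          (fun _ _ _ _ h₁ h₂ _ h₄ _ _ _ _ sq h => locP_of_isPullback sq.flip h₁ h₂ h₄ h) (repByAlgSp1_of_with hb) m _ c1),
        fibHas_congr γ (fibHas_restr
          (fun _ _ _ _ h₁ h₂ _ h₄ _ _ _ _ sq h => locP_of_isPullback sq.flip h₁ h₂ h₄ h) (repByAlgSp1_of_with hb) m _ c2)⟩
    exact ⟨repByAlgSpWith_iff.2 ⟨hf, fun U y => (key U y).1⟩, repByAlgSpWith_iff.2 ⟨hf, fun U y => (key U y).2⟩⟩
  have hid : BasedFunctor.comp (BasedFunctor.id (FibCat.overCat (Over.mk a))) z = z :=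
    Groth.Agent.ASt.basedFunctor_ext rfl
  have hsu : AlgSt.IsSurjective (BasedFunctor.comp (BasedFunctor.id (FibCat.overCat (Over.mk a))) z) := by
    rw [hid]; exact isSurjective_of_repByAlgSpWith hzs
  exact isAlgGerbe_of_inertia hZ
    (locQ_of_repByAlgSpWith hZ (repByAlgSpWith_of_fppf isLocalOnBase_fppf_locP hr (BasedFunctor.id _)
      (hid.symm ▸ hzf) (hid.symm ▸ hzp) hsu h0.1))
    (locQ_of_repByAlgSpWith hZ (repByAlgSpWith_of_fppf isLocalOnBase_fppf_locP hr (BasedFunctor.id _)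
      (hid.symm ▸ hzf) (hid.symm ▸ hzp) hsu h0.2))

/-- The space under a one point gerbe is a reduced, locally Noetherian one point space. -/
theorem space_of_point_gerbe (hZ : AlgSt.IsAlgStack Scheme.fppfPrecoverage 𝒵) (X : AlgSp.Space S)
    {π : 𝒵 ⥤ᵇ AlgSt.ofSp X.obj} (hπ : Gerb.IsGerbeOver (J S) π)
    (hzp : AlgSt.RepByAlgSpWith (LocP @LocallyOfFinitePresentation) z)
    (hzs : AlgSt.RepByAlgSpWith IsSurjectiveMor z) (hzf : AlgSt.RepByAlgSpWith (LocP @Flat) z) :
    AlgSt.SmoothLocally (fun T => IsReduced T) (AlgSt.ofSp X.obj) ∧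
      AlgSt.SmoothLocally (fun T => IsLocallyNoetherian T) (AlgSt.ofSp X.obj) ∧
      Nonempty (AlgSt.Points (AlgSt.ofSp X.obj)) ∧ Subsingleton (AlgSt.Points (AlgSt.ofSp X.obj)) := by
  haveI : FibCat.IsFibGrpd (AlgSt.ofSp X.obj).p := Groth.Agent.ASt.isFibGrpd_ofSp X.obj
  have hY : AlgSt.IsAlgStack Scheme.fppfPrecoverage (AlgSt.ofSp X.obj) :=
    (isDM_of_repByAlgSp ⟨X, BasedFunctor.id _, isEquivOver_id⟩).1
  obtain ⟨s, -, hfl, hfp⟩ := smooth_of_gerbe hZ hY hπ
  have hr : AlgSt.RepByAlgSp1 (BasedFunctor.comp z π) := repByAlgSp1_of_diag hY.diag _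
  have hc1 : AlgSt.RepByAlgSpWith (LocP @Flat) (BasedFunctor.comp z π) :=
    repByAlgSpWith_of_locQ isSmoothLocalST_locP
      (fun _ _ _ _ h₁ h₂ _ h₄ _ _ _ _ sq h => locP_of_isPullback sq.flip h₁ h₂ h₄ h)
      isLocalOnBase_fppf_locP hY hr
      (locQ_comp isSmoothLocalST_locP (fun {A B C} u v hu hv => locP_of_prop_left (by
          haveI := prop_left_of_locP hu; haveI := prop_left_of_locP hv
          rw [Over.comp_left]; infer_instance))
        (isAlgStack_overCat _) hZ hY (locQ_of_repByAlgSpWith hZ hzf) hfl)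
  have hc2 : AlgSt.RepByAlgSpWith (LocP @LocallyOfFinitePresentation) (BasedFunctor.comp z π) :=
    repByAlgSpWith_of_locQ isSmoothLocalST_locP
      (fun _ _ _ _ h₁ h₂ _ h₄ _ _ _ _ sq h => locP_of_isPullback sq.flip h₁ h₂ h₄ h)
      isLocalOnBase_fppf_locP hY hr
      (locQ_comp isSmoothLocalST_locP (fun {A B C} u v hu hv => locP_of_prop_left (by
          haveI := prop_left_of_locP hu; haveI := prop_left_of_locP hv
          rw [Over.comp_left]; infer_instance))
        (isAlgStack_overCat _) hZ hY (locQ_of_repByAlgSpWith hZ hzp) hfp)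
  have hc3 : AlgSt.RepByAlgSpWith IsSurjectiveMor (BasedFunctor.comp z π) :=
    repByAlgSpWith_surjective_of_isSurjective hr fun x => by
      obtain ⟨y, hy⟩ := s x
      obtain ⟨w, hw⟩ := isSurjective_of_repByAlgSpWith hzs y
      exact ⟨w, by rw [← map_map, hw, hy]⟩
  exact ⟨smoothLocally_reduced_of_point hY hc3 hc1, smoothLocally_noetherian_of_point hY hc2 hc3 hc1,
    subsingleton_points_of_point hc3⟩

/-- A point of the category of a space gives a point of the space. -/
noncomputable def toSpPoint {F : Sp S} : AlgSt.Points (AlgSt.ofSp F) → AlgSp.Points F :=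
  Quot.lift (fun p => AlgSp.Points.mk
    ⟨p.K, p.str, F.obj.map (eqToHom (p.lies : p.obj.base = _).symm).op p.obj.sec⟩) fun p q h => by
    obtain ⟨r, a, b, -⟩ := h
    refine AlgSp.Points.sound ⟨r.K, inferInstance, r.str,
      eqToHom (r.lies : r.obj.base = _).symm ≫ a.hom ≫ eqToHom (p.lies : p.obj.base = _),
      eqToHom (r.lies : r.obj.base = _).symm ≫ b.hom ≫ eqToHom (q.lies : q.obj.base = _), ?_⟩
    refine (presheaf_map_map _ _ _).trans (Eq.trans ?_ (presheaf_map_map _ _ _).symm)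
    refine (presheaf_map_congr (f' := eqToHom (r.lies : r.obj.base = _).symm ≫ a.hom) (by simp) _).trans
      (Eq.trans ?_ (presheaf_map_congr (f := eqToHom (r.lies : r.obj.base = _).symm ≫ b.hom) (by simp) _))
    rw [← presheaf_map_map, ← presheaf_map_map]
    exact congrArg _ (a.map_sec.trans b.map_sec.symm)

theorem surjective_toSpPoint {F : Sp S} : Function.Surjective (toSpPoint (F := F)) := fun x => by
  induction x using AlgSp.Points.ind with
  | h p =>
    let q : AlgSt.FPt (AlgSt.ofSp F) :=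
      { K := p.K, str := p.str, obj := ⟨Over.mk p.str, p.val⟩, lies := rfl }
    refine ⟨AlgSt.Points.mk q, congrArg AlgSp.Points.mk ?_⟩
    change (⟨p.K, p.str, F.obj.map (𝟙 _) p.val⟩ : AlgSp.FieldPt F) = p
    rw [FunctorToTypes.map_id_apply]
    cases p
    rfl

/-- A one point stack with an fppf point is a gerbe over a one point space. -/
theorem exists_gerbe_space (hZ : AlgSt.IsAlgStack Scheme.fppfPrecoverage 𝒵)
    (hzp : AlgSt.RepByAlgSpWith (LocP @LocallyOfFinitePresentation) z)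
    (hzs : AlgSt.RepByAlgSpWith IsSurjectiveMor z) (hzf : AlgSt.RepByAlgSpWith (LocP @Flat) z) :
    ∃ (X : AlgSp.Space S) (π : 𝒵 ⥤ᵇ AlgSt.ofSp X.obj),
      Gerb.IsGerbeOver (J S) π ∧
        AlgSp.EtaleLocally (fun T => IsReduced T) X.obj ∧ AlgSp.IsLocNoethSp X.obj ∧
        Nonempty (AlgSp.Points X.obj) ∧ Subsingleton (AlgSp.Points X.obj) := by
  obtain ⟨X, π, hπ⟩ := isAlgGerbe_of_point hZ hzp hzs hzf
  obtain ⟨h1, h2, h3, h4⟩ := space_of_point_gerbe hZ X hπ hzp hzs hzf
  haveI := h4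
  obtain ⟨V, p, hpe, hps⟩ := X.property.atlas
  have hsm : AlgSt.RepByAlgSpWith (LocP @Smooth) (spChart p) :=
    repByAlgSpWith_spChart hpe fun v (hv : Etale v.left) => locP_of_repWith
      (repWith_yon_map (inferInstanceAs (Smooth v.left)))
  exact ⟨X, π, hπ, ⟨V, p, hpe, hps, h1 V (spChart p) hsm⟩, ⟨V, p, hpe, hps, h2 V (spChart p) hsm⟩,
    h3.map toSpPoint, surjective_toSpPoint.subsingleton⟩

end Groth.Agent.DecSec
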