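import Groth.Agent.DecSec.QuotTriv
import Groth.Agent.ASp.Affine
import Groth.Agent.ASt.Rep
import Groth.Agent.ASt.Cls

/-! Invariant maps descend to the quotient category of scheme torsors. -/

set_option autoImplicit false
set_option backward.isDefEq.respectTransparency false
set_option backward.isDefEq.respectTransparency.types false

universe v w u

open CategoryTheory CategoryTheory.Limits MonoidalCategory CartesianMonoidalCategory MonObj GrpObj AlgebraicGeometry Opposite

namespace Groth.Agent.DecSec.QuotSch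

open _root_.AlgSt

variable {S : Scheme.{u}} {G : Over S} [GrpObj G] {X : Over S} {aX : AlgGrp.Action G X}

/-- The structure map of a torsor is an epimorphism of fppf sheaves. -/
theorem epi_π (A : AlgSt.QuotObj Scheme.fppfPrecoverage G aX) : Epi ((AlgSp.yon S).map A.π) := by
  let Sv : Sieve A.base :=
    { arrows := fun V h => ∃ l : V ⟶ A.P, l ≫ A.π = h
      downward_closed := fun {V W h} ⟨l, hl⟩ k => ⟨k ≫ l, by rw [Category.assoc, hl]⟩ }
  have hSv : Sv ∈ AlgSp.J S A.base := by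
    rw [AlgSp.J_eq, GrothendieckTopology.mem_over_iff]
    obtain ⟨R, hR, hs⟩ := A.loc
    refine (Scheme.fppfTopology).superset_covering ?_ (Precoverage.generate_mem_toGrothendieck hR)
    rw [Sieve.generate_le_iff]
    intro W f hf
    obtain ⟨s, hs⟩ := hs f hf
    rw [Sieve.overEquiv_iff]
    exact ⟨Over.homMk s (by
      change s ≫ A.P.hom = f ≫ A.base.hom
      rw [← Over.w A.π, ← Category.assoc]
      exact congrArg (· ≫ A.base.hom) hs), Over.OverMorphism.ext hs⟩
  haveI : Presheaf.IsLocallySurjective (AlgSp.J S) ((AlgSp.yon S).map A.π).hom := ⟨fun {V} s => by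
    obtain ⟨g⟩ := s
    refine (AlgSp.J S).superset_covering ?_ ((AlgSp.J S).pullback_stable g hSv)
    rintro W h ⟨l, hl⟩
    exact ⟨ULift.up l, congrArg ULift.up hl⟩⟩
  haveI : Sheaf.IsLocallySurjective ((AlgSp.yon S).map A.π) := ‹_›
  exact Sheaf.epi_of_isLocallySurjective' _

theorem equalizes {M : AlgSp.Sp S} {f : (AlgSp.yon S).obj X ⟶ M}
    (hf : (AlgSp.yon S).map aX.act ≫ f = (AlgSp.yon S).map (snd G X) ≫ f)
    (A : AlgSt.QuotObj Scheme.fppfPrecoverage G aX) :
    (AlgSp.yon S).map A.act.act ≫ (AlgSp.yon S).map A.φ ≫ f =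
      (AlgSp.yon S).map (snd G A.P) ≫ (AlgSp.yon S).map A.φ ≫ f := by
  rw [← Functor.map_comp_assoc, A.eqv, Functor.map_comp_assoc, hf, ← Functor.map_comp_assoc,
    whiskerLeft_snd, Functor.map_comp_assoc]

/-- The section of an object. -/
noncomputable abbrev sy {M : AlgSp.Sp S} (a : (AlgSt.ofSp M).obj) : (AlgSp.yon S).obj a.base ⟶ M :=
  (AlgSp.J S).uliftYonedaEquiv.{u+1}.symm a.sec

theorem sy_map {M : AlgSp.Sp S} {a b : (AlgSt.ofSp M).obj} (g : a ⟶ b) :
    (AlgSp.yon S).map g.hom ≫ sy b = sy a := by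
  have h := g.map_sec
  change (AlgSp.yon S).map g.hom ≫ (AlgSp.J S).uliftYonedaEquiv.{u+1}.symm b.sec =
    (AlgSp.J S).uliftYonedaEquiv.{u+1}.symm a.sec
  rw [← h, ← GrothendieckTopology.uliftYonedaEquiv_symm_naturality_left]

theorem obj_ext {M : AlgSp.Sp S} {a b : (AlgSt.ofSp M).obj} (h : a.base = b.base)
    (hs : sy a = (AlgSp.yon S).map (eqToHom h) ≫ sy b) : a = b := by
  obtain ⟨T, s⟩ := a
  obtain ⟨T', t⟩ := b
  obtain rfl : T = T' := h
  rw [eqToHom_refl, CategoryTheory.Functor.map_id, Category.id_comp] at hs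
  rw [show s = t from (AlgSp.J S).uliftYonedaEquiv.{u+1}.symm.injective hs]

theorem equiv_yon_map {T Y : Over S} (g : T ⟶ Y) :
    (AlgSp.J S).uliftYonedaEquiv.{u+1} ((AlgSp.yon S).map g) = (⟨g⟩ : ULift.{u+1} (T ⟶ Y)) := by
  refine (GrothendieckTopology.uliftYonedaEquiv_apply.{u+1} (AlgSp.J S) _).trans ?_
  exact congrArg ULift.up (Category.id_comp g)

/-- Functors into the category of a sheaf are determined on objects. -/
theorem ofSp_ext {𝒳 : BasedCategory.{v, w} (Over S)} {M : AlgSp.Sp S} {F F' : 𝒳 ⥤ᵇ AlgSt.ofSp M}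
    (h : ∀ x, F.obj x = F'.obj x) : F = F' :=
  Groth.Agent.ASt.basedFunctor_ext (CategoryTheory.Functor.ext h fun a b f =>
    (AlgSt.ofSp M).p.map_injective (by
      rw [Groth.Agent.ASt.map_w F f, Functor.map_comp, Functor.map_comp, Groth.Agent.ASt.map_w F' f,
        eqToHom_map, eqToHom_map]
      simp))

/-- An invariant map descends uniquely. -/
theorem existsUnique_desc (M : AlgSp.Sp S) (f : (AlgSp.yon S).obj X ⟶ M)
    (hf : (AlgSp.yon S).map aX.act ≫ f = (AlgSp.yon S).map (snd G X) ≫ f) :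
    ∃! φ : AlgSt.QuotSt Scheme.fppfPrecoverage G aX ⥤ᵇ AlgSt.ofSp M,
      BasedFunctor.comp (AlgSt.quotMap Scheme.fppfPrecoverage G aX) φ = AlgSt.ofSpMap f := by
  have hd : ∀ A : AlgSt.QuotObj Scheme.fppfPrecoverage G aX, ∃ p : (AlgSp.yon S).obj A.base ⟶ M,
      (AlgSp.yon S).map A.π ≫ p = (AlgSp.yon S).map A.φ ≫ f := fun A => by
    haveI := epi_π A
    exact Groth.Agent.ASp.exists_desc_of_epi _ (A.cart.map (AlgSp.yon S)) _ (equalizes hf A)
  choose p hp using hd
  have hnat : ∀ {A B : AlgSt.QuotObj Scheme.fppfPrecoverage G aX} (m : A ⟶ B),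
      (AlgSp.yon S).map m.base ≫ p B = p A := fun {A B} m => by
    haveI := epi_π A
    rw [← cancel_epi ((AlgSp.yon S).map A.π), hp, ← Functor.map_comp_assoc, ← m.cart.w,
      Functor.map_comp_assoc, hp, ← Functor.map_comp_assoc, m.wφ]
  let φ : AlgSt.QuotSt Scheme.fppfPrecoverage G aX ⥤ᵇ AlgSt.ofSp M :=
    { toFunctor :=
        { obj := fun A => ⟨A.base, (AlgSp.J S).uliftYonedaEquiv.{u+1} (p A)⟩
          map := fun {A B} m => ⟨m.base, (AlgSp.J S).uliftYonedaEquiv.{u+1}.symm.injective (by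
            rw [← GrothendieckTopology.uliftYonedaEquiv_symm_naturality_left, Equiv.symm_apply_apply,
              Equiv.symm_apply_apply]
            exact hnat m)⟩ }
      w := rfl }
  have hsy : ∀ A, sy (φ.obj A) = p A := fun A => Equiv.symm_apply_apply _ _
  refine ⟨φ, ofSp_ext fun a => obj_ext rfl ?_, fun ψ hψ => ofSp_ext fun A => obj_ext (ψ.w_obj A) ?_⟩
  · rw [eqToHom_refl, CategoryTheory.Functor.map_id, Category.id_comp]
    refine (hsy _).trans ?_
    have h1 := hp ((AlgSt.quotMap Scheme.fppfPrecoverage G aX).obj a)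
    have h2 : unitSec a.base ≫ (G ◁ a.sec.down) ≫ aX.act = a.sec.down := unitSec_triv aX a.sec.down
    have h3 := congrArg ((AlgSp.yon S).map (unitSec a.base) ≫ ·) h1
    change (AlgSp.yon S).map (unitSec a.base) ≫ (AlgSp.yon S).map (snd G a.base) ≫ _ =
      (AlgSp.yon S).map (unitSec a.base) ≫ (AlgSp.yon S).map ((G ◁ a.sec.down) ≫ aX.act) ≫ f at h3
    rw [← Functor.map_comp_assoc, unitSec_snd, CategoryTheory.Functor.map_id, Category.id_comp,
      ← Functor.map_comp_assoc, h2] at h3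
    refine h3.trans ?_
    apply (AlgSp.J S).uliftYonedaEquiv.{u+1}.injective
    rw [GrothendieckTopology.uliftYonedaEquiv_comp]
    refine (congrArg (f.hom.app (op a.base)) ?_).trans (Equiv.apply_symm_apply _ _).symm
    exact equiv_yon_map a.sec.down
  · rw [hsy]
    haveI := epi_π A
    obtain ⟨m, ⟨hm, -⟩, -⟩ := existsUnique_hom A.φ A A.π (𝟙 A.P) (Category.id_comp _) (Category.id_comp _)
    have h1 := sy_map (ψ.map m)
    have h2 := Groth.Agent.ASt.map_w ψ m
    change (ψ.map m).hom = eqToHom _ ≫ m.base ≫ eqToHom _ at h2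
    rw [h2, hm, Functor.map_comp, Functor.map_comp, Category.assoc, Category.assoc] at h1
    have e : ψ.obj (qObj Scheme.fppfPrecoverage G aX A.φ) =
        (AlgSt.ofSpMap f).obj ((ofOverCat X).obj (Over.mk A.φ)) :=
      congrArg (fun F : AlgSt.ofSch X ⥤ᵇ AlgSt.ofSp M => F.obj ((ofOverCat X).obj (Over.mk A.φ))) hψ
    have hf' : sy ((AlgSt.ofSpMap f).obj ((ofOverCat X).obj (Over.mk A.φ))) = (AlgSp.yon S).map A.φ ≫ f := by
      apply (AlgSp.J S).uliftYonedaEquiv.{u+1}.injective
      rw [GrothendieckTopology.uliftYonedaEquiv_comp]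
      refine (Equiv.apply_symm_apply _ _).trans (congrArg (f.hom.app (op A.P)) ?_)
      exact (equiv_yon_map A.φ).symm
    have key : ∀ (a b : (AlgSt.ofSp M).obj) (e : a = b) (h : b.base = A.P) (h' : A.P = a.base),
        (AlgSp.yon S).map (eqToHom h') ≫ sy a = (AlgSp.yon S).map (eqToHom h.symm) ≫ sy b := by
      rintro a _ rfl h h'; rfl
    have h3 := key _ _ e rfl (ψ.w_obj (qObj Scheme.fppfPrecoverage G aX A.φ)).symm
    rw [eqToHom_refl, CategoryTheory.Functor.map_id, Category.id_comp, hf', ← h1, ← Functor.map_comp_assoc,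
      eqToHom_trans, eqToHom_refl, CategoryTheory.Functor.map_id, Category.id_comp, ← hp,
      cancel_epi] at h3
    rw [← h3, ← Functor.map_comp_assoc, eqToHom_trans, eqToHom_refl, CategoryTheory.Functor.map_id,
      Category.id_comp]

end Groth.Agent.DecSec.QuotSch
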