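import Groth.Agent.DecSec.QuotTriv

/-! The quotient category of scheme torsors is fibred in groupoids. -/

set_option autoImplicit false
set_option backward.isDefEq.respectTransparency false
set_option backward.isDefEq.respectTransparency.types false

universe u

open CategoryTheory CategoryTheory.Limits MonoidalCategory CartesianMonoidalCategory MonObj GrpObj AlgebraicGeometry

namespace Groth.Agent.DecSec.QuotSch

open _root_.AlgSt

variable {S : Scheme.{u}} {K : Precoverage Scheme.{u}} [K.IsStableUnderBaseChange] {G : Over S} [GrpObj G]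
  {X : Over S} {aX : AlgGrp.Action G X}

theorem loc_baseChange {T T' P P' : Over S} (f : T' ⟶ T) {π : P ⟶ T} {π' : P' ⟶ T'} {p₁ : P' ⟶ P}
    (h : IsPullback p₁ π' π f) (hl : NonAbH1.IsLocallyTrivialFor K (Over.mk π.left : Over T.left)) :
    NonAbH1.IsLocallyTrivialFor K (Over.mk π'.left : Over T'.left) := by
  obtain ⟨R, hR, hs⟩ := hl
  have h' : IsPullback p₁.left π'.left π.left f.left := h.map (Over.forget S)
  obtain ⟨J₀, W, g, rfl⟩ := Presieve.exists_eq_ofArrows R
  refine ⟨Presieve.ofArrows _ (fun i => pullback.snd (g i) f.left),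
    Precoverage.mem_coverings_of_isPullback g hR f.left (fun i => pullback.snd (g i) f.left)
      (fun i => pullback.fst (g i) f.left) (fun i => (IsPullback.of_hasPullback (g i) f.left).flip), ?_⟩
  rintro _ _ ⟨i⟩
  obtain ⟨s, hs⟩ := hs _ (Presieve.ofArrows.mk i)
  refine ⟨h'.lift (pullback.fst (g i) f.left ≫ s) (pullback.snd _ _) ?_, h'.lift_snd _ _ _⟩
  rw [Category.assoc]
  exact (congrArg (pullback.fst (g i) f.left ≫ ·) hs).trans pullback.condition

/-- The quotient category of scheme torsors is fibred in groupoids. -/
theorem isFibGrpd_quot : FibCat.IsFibGrpd (AlgSt.QuotSt K G aX).p where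
  exists_lift := fun {x} {V} f => by
    let P' := pullback x.π f
    let p₁ : P' ⟶ x.P := pullback.fst _ _
    let π' : P' ⟶ V := pullback.snd _ _
    have hP : IsPullback p₁ π' x.π f := IsPullback.of_hasPullback _ _
    let a : G ⊗ P' ⟶ P' := hP.lift ((G ◁ p₁) ≫ x.act.act) (snd G P' ≫ π') (by
      rw [Category.assoc, x.cart.w, whiskerLeft_snd_assoc, Category.assoc, hP.w])
    have ha₁ : a ≫ p₁ = (G ◁ p₁) ≫ x.act.act := hP.lift_fst _ _ _
    have ha₂ : a ≫ π' = snd G P' ≫ π' := hP.lift_snd _ _ _
    let act : AlgGrp.Action G P' :=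
      { act := a
        one_act := hP.hom_ext (by
            rw [Category.assoc, ha₁, ← Category.assoc, ← whisker_exchange, Category.assoc, x.act.one_act,
              leftUnitor_hom, leftUnitor_hom, whiskerLeft_snd])
          (by rw [Category.assoc, ha₂, whiskerRight_snd_assoc, leftUnitor_hom])
        mul_act := hP.hom_ext (by
            rw [Category.assoc, ha₁, ← Category.assoc, ← whisker_exchange, Category.assoc, x.act.mul_act,
              Category.assoc, Category.assoc, ha₁, ← MonoidalCategory.whiskerLeft_comp_assoc, ha₁,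
              MonoidalCategory.whiskerLeft_comp_assoc, ← associator_naturality_right_assoc])
          (by rw [Category.assoc, ha₂, whiskerRight_snd_assoc, Category.assoc, Category.assoc, ha₂,
                whiskerLeft_snd_assoc, ha₂, associator_hom_snd_snd_assoc]) }
    have hc : IsPullback act.act (snd G P') π' π' := by
      refine IsPullback.of_right ?_ ha₂ hP
      rw [ha₁, ← hP.w]
      exact ((AlgSt.isPullback_whiskerLeft p₁).paste_horiz x.cart)
    let y : AlgSt.QuotObj K G aX :=
      { base := V
        P := P'
        act := act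
        π := π'
        cart := hc
        loc := loc_baseChange f hP x.loc
        φ := p₁ ≫ x.φ
        eqv := by
          change a ≫ _ = _
          rw [← Category.assoc, ha₁, Category.assoc, x.eqv, MonoidalCategory.whiskerLeft_comp_assoc] }
    let ψ : y ⟶ x :=
      { base := f
        top := p₁
        eqv := ha₁
        cart := hP
        wφ := rfl }
    exact ⟨y, ψ, IsHomLift.map (AlgSt.QuotObj.forget K G aX) ψ⟩
  isStronglyCartesian := fun {y x} φ =>
    { universal_property' := fun {a'} g φ' hφ' => by
        have hg : g ≫ φ.base = φ'.base :=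
          IsHomLift.eq_of_isHomLift (AlgSt.QuotObj.forget K G aX)
            (g ≫ (AlgSt.QuotObj.forget K G aX).map φ) φ'
        let t : a'.P ⟶ y.P := φ.cart.lift φ'.top (a'.π ≫ g) (by rw [φ'.cart.w, Category.assoc, hg])
        have ht₁ : t ≫ φ.top = φ'.top := φ.cart.lift_fst _ _ _
        have ht₂ : t ≫ y.π = a'.π ≫ g := φ.cart.lift_snd _ _ _
        let χ : a' ⟶ y :=
          { base := g
            top := t
            eqv := φ.cart.hom_ext
              (by rw [Category.assoc, ht₁, φ'.eqv, Category.assoc, φ.eqv,
                ← MonoidalCategory.whiskerLeft_comp_assoc, ht₁])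
              (by rw [Category.assoc, ht₂, Category.assoc, y.cart.w, whiskerLeft_snd_assoc, ht₂,
                ← Category.assoc, a'.cart.w, Category.assoc])
            cart := IsPullback.of_right (by rw [ht₁, hg]; exact φ'.cart) ht₂ φ.cart
            wφ := by rw [← φ.wφ, reassoc_of% ht₁, φ'.wφ] }
        refine ⟨χ, ⟨IsHomLift.map (AlgSt.QuotObj.forget K G aX) χ, AlgSt.QuotObj.hom_ext hg ht₁⟩, ?_⟩
        rintro χ' ⟨hχ', hc⟩
        have hbase : χ'.base = g :=
          (IsHomLift.eq_of_isHomLift (AlgSt.QuotObj.forget K G aX) g χ').symm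
        refine AlgSt.QuotObj.hom_ext hbase (φ.cart.hom_ext ?_ ?_)
        · change χ'.top ≫ φ.top = t ≫ φ.top
          rw [ht₁]
          exact congrArg (fun m => m.top) hc
        · change χ'.top ≫ y.π = t ≫ y.π
          rw [ht₂, χ'.cart.w, hbase] }

end Groth.Agent.DecSec.QuotSch
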