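import Groth.Agent.RepOne.Desc
import Groth.Agent.RepOne.Gerbe
import Groth.Agent.Boot.FaithfulDesc
import Groth.Prelude.Def_StGerb2

/-! Functors between gerbes. -/

set_option autoImplicit false
set_option backward.isDefEq.respectTransparency false
set_option backward.isDefEq.respectTransparency.types false

universe v u

open CategoryTheory

namespace Groth.Agent.DecSec.GerbeEq

open Groth.Agent.ASt Groth.Agent.RepOne

variable {C : Type u} [Category.{v} C] {J : GrothendieckTopology C} {𝒳 𝒴 : BasedCategory.{v, max u v} C}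
  [FibCat.IsFibGrpd 𝒳.p] [FibCat.IsFibGrpd 𝒴.p]

/-- An automorphism over the identity from a vertical endomorphism. -/
noncomputable def autOfVert {x : 𝒳.obj} (v : x ⟶ x) (hv : 𝒳.p.map v = 𝟙 _) : Gerb.AutO x :=
  haveI : IsIso v := isIso_of_vert v (e := rfl) hv
  haveI hl : 𝒳.p.IsHomLift (𝟙 (𝒳.p.obj x)) v := isHomLift_id_of_map v rfl (e := rfl) hv
  haveI hl' : 𝒳.p.IsHomLift (𝟙 (𝒳.p.obj x)) (inv v) := isHomLift_id_of_map _ rfl (e := rfl) (by
    rw [Functor.map_inv]; simp [hv])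
  { hom := ⟨v, hl⟩
    inv := ⟨inv v, hl'⟩
    hom_inv_id := Subtype.ext (IsIso.hom_inv_id v)
    inv_hom_id := Subtype.ext (IsIso.inv_hom_id v) }

theorem autOfVert_val {x : 𝒳.obj} (v : x ⟶ x) (hv : 𝒳.p.map v = 𝟙 _) : (autOfVert v hv).hom.1 = v := rfl

theorem autO_ext {x : 𝒳.obj} {α β : Gerb.AutO x} (h : α.hom.1 = β.hom.1) : α = β :=
  Iso.ext (Subtype.ext h)

theorem map_autO {x : 𝒳.obj} (α : Gerb.AutO x) : 𝒳.p.map α.hom.1 = 𝟙 _ := by
  haveI := α.hom.2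
  simpa using map_of_isHomLift_id (R := 𝒳.p.obj x) α.hom.1

theorem autMap_val (φ : 𝒳 ⥤ᵇ 𝒴) {x : 𝒳.obj} (α : Gerb.AutO x) :
    (Gerb.autMap φ x α).hom.1 = φ.map α.hom.1 := rfl

variable {φ : 𝒳 ⥤ᵇ 𝒴} {s : 𝒳.obj}

theorem exists_sieve_to (hX : Gerb.IsGerbe J 𝒳) (hs : Limits.IsTerminal (𝒳.p.obj s)) (x : 𝒳.obj) :
    ∃ R ∈ J (𝒳.p.obj x), ∀ ⦃V : C⦄ (f : V ⟶ 𝒳.p.obj x), R f →
      ∃ (x₀ : 𝒳.obj) (m : x₀ ⟶ x) (_ : x₀ ⟶ s), 𝒳.p.IsHomLift f m := by
  let g := hs.from (𝒳.p.obj x)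
  obtain ⟨R, hR, h⟩ := hX.2.2 x (pull s rfl g) (eqToHom (pull_base s rfl g).symm)
    (isHomLift_id_of_map (𝒳 := FibCat.selfOver C) _ rfl (e := (pull_base s rfl g).symm) rfl)
  exact ⟨R, hR, fun V f hf => let ⟨x₀, a, b, ha, _, _⟩ := h f hf; ⟨x₀, a, b ≫ pullHom s rfl g, ha⟩⟩

theorem map_over {x₀ x : 𝒳.obj} {V : C} {f : V ⟶ 𝒳.p.obj x} {m : x₀ ⟶ x} (hm : 𝒳.p.IsHomLift f m) :
    ∃ h : 𝒳.p.obj x₀ = V, 𝒳.p.map m = eqToHom h ≫ f :=
  ⟨IsHomLift.domain_eq 𝒳.p f m, by rw [IsHomLift.fac' 𝒳.p f m]; simp⟩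

theorem faithful_of_locInjective (hX : Gerb.IsGerbe J 𝒳) (hs : Limits.IsTerminal (𝒳.p.obj s))
    (hφ : ∀ (x : 𝒳.obj) (_ : x ⟶ s), Function.Injective (Gerb.autMap φ x)) : φ.toFunctor.Faithful := by
  refine Groth.Agent.Boot.faithful_of_kernel φ fun x v hv hφv => ?_
  obtain ⟨R, hR, h⟩ := exists_sieve_to hX hs x
  refine Groth.Agent.Boot.eq_id_of_local (isPrestack_of_isStack hX.1) v hv R hR fun V f hf => ?_
  obtain ⟨x₀, m, c, hm⟩ := h f hf
  obtain ⟨h₀, hm₀⟩ := map_over hm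
  let v₀ := facMap m (m ≫ v) (𝟙 _) (by rw [Functor.map_comp, hv, Category.comp_id, Category.id_comp])
  have hv₀ : 𝒳.p.map v₀ = 𝟙 _ := map_facMap _ _ _ _
  have hc : v₀ ≫ m = m ≫ v := facMap_comp _ _ _ _
  have h1 : φ.map v₀ = 𝟙 _ := ASt.hom_ext (φ.map m) (by rw [ASt.map_w, hv₀]; simp) (by
    rw [← φ.toFunctor.map_comp, hc, φ.toFunctor.map_comp, hφv, Category.comp_id, Category.id_comp])
  have h2 := hφ x₀ c (a₁ := autOfVert v₀ hv₀) (a₂ := 1) (autO_ext (by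
    rw [autMap_val, autMap_val]
    exact h1.trans (φ.toFunctor.map_id x₀).symm))
  have h3 : v₀ = 𝟙 x₀ := congrArg (fun α : Gerb.AutO x₀ => α.hom.1) h2
  rw [h3, Category.id_comp] at hc
  let i := facMap (pullHom x rfl f) m (eqToHom (h₀.trans (pull_base x rfl f).symm)) (by
    rw [map_pullHom, hm₀]; simp)
  haveI : IsIso i := isIso_of_vert i (map_facMap _ _ _ _)
  have hi : i ≫ pullHom x rfl f = m := facMap_comp _ _ _ _
  rw [← hi, Category.assoc] at hc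
  exact ((cancel_epi i).1 hc).symm

theorem exists_vert_lift (hX : Gerb.IsGerbe J 𝒳) (hY : Stk.IsPrestack J 𝒴) (hs : Limits.IsTerminal (𝒳.p.obj s))
    [φ.toFunctor.Faithful]
    (hφ : ∀ (x : 𝒳.obj) (_ : x ⟶ s), Function.Surjective (Gerb.autMap φ x))
    {x x' : 𝒳.obj} (e : 𝒳.p.obj x' = 𝒳.p.obj x) (b : φ.obj x ⟶ φ.obj x')
    (hb : 𝒴.p.map b = eqToHom ((φ.w_obj x).trans (e.symm.trans (φ.w_obj x').symm))) :
    ∃ a : x ⟶ x', φ.map a = b := by
  let U := 𝒳.p.obj x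
  obtain ⟨R₁, hR₁, h₁⟩ := exists_sieve_to hX hs x
  obtain ⟨R₂, hR₂, h₂⟩ := hX.2.2 x x' (eqToHom e.symm)
    (isHomLift_id_of_map (𝒳 := FibCat.selfOver C) _ rfl (e := e.symm) rfl)
  let R := R₁ ⊓ R₂
  have hR : R ∈ J U := J.intersection_covering hR₁ hR₂
  let A := objFun x (rfl : 𝒳.p.obj x = U)
  let c₀ : SCone ((Stk.resSieve R 𝒳).obj A) :=
    { pt := x
      base := rfl
      ι := fun t => pullHom x rfl t.obj.hom
      map_ι := fun t => by rw [map_pullHom]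
      nat := fun m => (objMap_comp _ _ _).trans rfl }
  have key : ∀ t : (Stk.sieveCat R).obj, ∃ a : (((Stk.resSieve R 𝒳).obj A).obj t) ⟶ x',
      𝒳.p.map a = eqToHom (((Stk.resSieve R 𝒳).obj A).w_obj t) ≫ t.obj.hom ≫ eqToHom e.symm ∧
      φ.map a = φ.map (c₀.ι t) ≫ b := fun t => by
    obtain ⟨x₀, m, c, hm⟩ := h₁ t.obj.hom t.property.1
    obtain ⟨x₁, p₁, p₂, hp₁, hp₂, -⟩ := h₂ t.obj.hom t.property.2
    obtain ⟨e₀, hm₀⟩ := map_over hm
    obtain ⟨e₁, hp₁'⟩ := map_over hp₁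
    have e₂ : 𝒳.p.obj x' = U := e
    have hp₂' : 𝒳.p.map p₂ = eqToHom e₁ ≫ t.obj.hom ≫ eqToHom e.symm := IsHomLift.fac' 𝒳.p t.obj.hom p₂
    let i := facMap p₁ m (eqToHom (e₀.trans e₁.symm)) (by rw [hm₀, hp₁']; simp)
    haveI : IsIso i := isIso_of_vert i (map_facMap _ _ _ _)
    let q := i ≫ p₂
    have hq : 𝒳.p.map q = eqToHom e₀ ≫ t.obj.hom ≫ eqToHom e.symm := by
      rw [Functor.map_comp, map_facMap, hp₂']; simp
    let w := facMap (φ.map q) (φ.map m ≫ b) (𝟙 _) (by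
      rw [Category.id_comp, ASt.map_w, hq, 𝒴.p.map_comp, ASt.map_w, hm₀, hb]; simp)
    obtain ⟨α, hα⟩ := hφ x₀ c (autOfVert w (map_facMap _ _ _ _))
    have hα' : φ.map α.hom.1 = w := congrArg (fun β : Gerb.AutO (φ.obj x₀) => β.hom.1) hα
    let j := facMap m (pullHom x rfl t.obj.hom) (eqToHom ((pull_base x rfl t.obj.hom).trans e₀.symm)) (by
      rw [map_pullHom, hm₀]; simp)
    refine ⟨j ≫ α.hom.1 ≫ q, ?_, ?_⟩
    · rw [Functor.map_comp, Functor.map_comp, map_facMap, map_autO, Category.id_comp, hq]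
      exact (eqToHom_trans_assoc _ _ _).trans rfl
    · rw [φ.toFunctor.map_comp, φ.toFunctor.map_comp, hα', facMap_comp, ← Category.assoc, ← φ.toFunctor.map_comp]
      exact congrArg (fun k => φ.map k ≫ b) (facMap_comp _ _ _ _)
  choose a ha hab using key
  let c₁ : SCone ((Stk.resSieve R 𝒳).obj A) :=
    { pt := x'
      base := e
      ι := a
      map_ι := ha
      nat := fun {t t'} m => φ.toFunctor.map_injective (by
        rw [φ.toFunctor.map_comp, hab, hab, ← Category.assoc, ← φ.toFunctor.map_comp, c₀.nat]) }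
  haveI := hX.1.1
  obtain ⟨h, ⟨hh, hι⟩, -⟩ := (isStack_iff.1 hX.1 R hR).1 _ c₀ c₁
  obtain ⟨k, -, hk⟩ := (isPrestackFor_iff.1 (hY.2 R hR)) _ (c₀.map φ) (c₁.map φ)
  refine ⟨h, (hk _ ⟨(ASt.map_w φ h).trans (by rw [hh]; simp), fun t => ?_⟩).trans
    (hk _ ⟨hb, fun t => ?_⟩).symm⟩
  · exact (φ.toFunctor.map_comp _ _).symm.trans (congrArg (fun k => φ.map k) (hι t))
  · exact (hab t).symm

theorem full_of_gerbe (hX : Gerb.IsGerbe J 𝒳) (hY : Stk.IsPrestack J 𝒴) (hs : Limits.IsTerminal (𝒳.p.obj s))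
    [φ.toFunctor.Faithful]
    (hφ : ∀ (x : 𝒳.obj) (_ : x ⟶ s), Function.Surjective (Gerb.autMap φ x)) : φ.toFunctor.Full := by
  refine ⟨fun {x x'} b => ?_⟩
  let g : 𝒳.p.obj x ⟶ 𝒳.p.obj x' := eqToHom (φ.w_obj x).symm ≫ 𝒴.p.map b ≫ eqToHom (φ.w_obj x')
  let p := pullHom x' rfl g
  let b' := facMap (φ.map p) b
    (eqToHom ((φ.w_obj x).trans ((pull_base x' rfl g).symm.trans (φ.w_obj _).symm)))
    (by simp [p, ASt.map_w, map_pullHom, g])
  obtain ⟨a, ha⟩ := exists_vert_lift hX hY hs hφ (pull_base x' rfl g) b' (map_facMap _ _ _ _)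
  exact ⟨a ≫ p, by rw [φ.toFunctor.map_comp, ha, facMap_comp]⟩

/-- A functor of gerbes bijective on the automorphisms along a global object is an equivalence. -/
theorem isEquivOver_of_gerbe (hX : Gerb.IsGerbe J 𝒳) (hY : Gerb.IsGerbe J 𝒴)
    (hs : Limits.IsTerminal (𝒳.p.obj s))
    (hφ : ∀ (x : 𝒳.obj) (_ : x ⟶ s), Function.Bijective (Gerb.autMap φ x)) : FibCat.IsEquivOver φ := by
  haveI := faithful_of_locInjective hX hs fun x c => (hφ x c).1
  haveI := full_of_gerbe hX (isPrestack_of_isStack hY.1) hs fun x c => (hφ x c).2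
  refine isEquivOver_of_vert φ fun y => ?_
  let U := 𝒴.p.obj y
  let g := hs.from U
  let s₀ := pull s rfl g
  obtain ⟨R, hR, h⟩ := hY.2.2 (φ.obj s₀) y (eqToHom ((φ.w_obj s₀).trans (pull_base s rfl g)))
    (isHomLift_id_of_map (𝒳 := FibCat.selfOver C) _ rfl (e := (φ.w_obj s₀).trans (pull_base s rfl g)) rfl)
  let R' := R.pullback (eqToHom ((φ.w_obj s₀).trans (pull_base s rfl g)).symm)
  have hR' : R' ∈ J U := J.pullback_stable _ hR
  have key : ∀ t : (Stk.sieveCat R').obj, ∃ (x : 𝒳.obj) (hx : 𝒳.p.obj x = t.obj.left) (n : φ.obj x ⟶ y),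
      𝒴.p.map n = eqToHom ((φ.w_obj x).trans hx) ≫ t.obj.hom := fun t => by
    obtain ⟨y₀, p₁, p₂, hp₁, hp₂, -⟩ := h _ t.property
    have e₀ : 𝒴.p.obj y₀ = t.obj.left :=
      IsHomLift.domain_eq 𝒴.p (t.obj.hom ≫ eqToHom ((φ.w_obj s₀).trans (pull_base s rfl g)).symm) p₁
    have h1 := IsHomLift.fac' 𝒴.p (t.obj.hom ≫ eqToHom ((φ.w_obj s₀).trans (pull_base s rfl g)).symm) p₁
    have h2 := IsHomLift.fac' 𝒴.p (t.obj.hom ≫ eqToHom ((φ.w_obj s₀).trans (pull_base s rfl g)).symm) p₂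
    let k : t.obj.left ⟶ 𝒳.p.obj s₀ := t.obj.hom ≫ eqToHom (pull_base s rfl g).symm
    let i := facMap p₁ (φ.map (pullHom s₀ rfl k))
      (eqToHom (((φ.w_obj _).trans (pull_base s₀ rfl k)).trans e₀.symm)) (by
      rw [h1, ASt.map_w, map_pullHom]; simp [k])
    exact ⟨pull s₀ rfl k, pull_base s₀ rfl k, i ≫ p₂, by rw [Functor.map_comp, map_facMap, h2]; simp⟩
  choose x hx n hn using key
  have hmor : ∀ {t t' : (Stk.sieveCat R').obj} (m : t ⟶ t'), ∃ a : x t ⟶ x t',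
      φ.map a ≫ n t' = n t ∧ 𝒳.p.map a = eqToHom (hx t) ≫ m.hom.left ≫ eqToHom (hx t').symm := by
    intro t t' m
    let d := facMap (n t') (n t)
      (eqToHom ((φ.w_obj _).trans (hx t)) ≫ m.hom.left ≫ eqToHom ((φ.w_obj _).trans (hx t')).symm)
      (by
        rw [hn, hn]
        simp)
    refine ⟨φ.toFunctor.preimage d, ?_, ?_⟩
    · rw [Functor.map_preimage]
      exact facMap_comp _ _ _ _
    · rw [map_preimage, show 𝒴.p.map d = _ from map_facMap _ _ _ _]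
      simp
  choose a ha ha' using @hmor
  let D : Stk.sieveCat R' ⥤ᵇ 𝒳 :=
    { toFunctor :=
        { obj := x
          map := fun m => a m
          map_id := fun t => φ.toFunctor.map_injective (ASt.hom_ext (n t)
            (by rw [ASt.map_w, ha', φ.toFunctor.map_id, 𝒴.p.map_id, show (𝟙 t : t ⟶ t).hom.left = 𝟙 t.obj.left from rfl]; simp)
            (by rw [ha, φ.toFunctor.map_id, Category.id_comp]))
          map_comp := fun {t t' t''} m m' => φ.toFunctor.map_injective (ASt.hom_ext (n t'')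
            (by rw [ASt.map_w, ha', φ.toFunctor.map_comp, Functor.map_comp, ASt.map_w, ASt.map_w, ha', ha', show (m ≫ m').hom.left = m.hom.left ≫ m'.hom.left from rfl]; simp)
            (by rw [ha, φ.toFunctor.map_comp, Category.assoc, ha, ha])) }
      w := CategoryTheory.Functor.ext hx fun t t' m => ha' m }
  obtain ⟨c⟩ := (isStack_iff.1 hX.1 R' hR').2 D
  let c' : SCone (BasedFunctor.comp D φ) :=
    { pt := y
      base := rfl
      ι := n
      map_ι := fun t => (hn t).trans (congrArg (eqToHom _ ≫ ·) (Category.comp_id _).symm)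
      nat := fun m => ha m }
  obtain ⟨k, ⟨hk, -⟩, -⟩ := (isPrestackFor_iff.1 ((isPrestack_of_isStack hY.1).2 R' hR')) _ (c.map φ) c'
  haveI := isIso_of_vert k hk
  exact ⟨c.pt, c.base, asIso k, hk⟩

end Groth.Agent.DecSec.GerbeEq
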