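import Groth.Agent.DecSec.QuotSp
import Groth.Agent.SpTorsLib.Stack
import Groth.Agent.SpTorsLib.Hom
import Groth.Agent.ASp.AffMor
import Groth.Agent.S10533
import Groth.Agent.S9941
import Groth.Agent.ASt.Stack

/-! For an affine group the scheme torsors are all the torsors. -/

set_option autoImplicit false
set_option backward.isDefEq.respectTransparency false
set_option backward.isDefEq.respectTransparency.types false

universe u

open CategoryTheory CategoryTheory.Limits MonoidalCategory CartesianMonoidalCategory MonObj GrpObj AlgebraicGeometry Opposite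

namespace Groth.Agent.DecSec.QuotSch

open _root_.AlgSt Groth.Agent.ASp

variable {S : Scheme.{u}}

instance isAffineMor_stable : (AlgSp.IsAffineMor (S := S)).IsStableUnderBaseChange :=
  ⟨fun sq h => isAffineMor_baseChange sq h⟩

theorem isAffineMor_yon_map {U V : Over S} (f : U ⟶ V) [IsAffineHom f.left] :
    AlgSp.IsAffineMor ((AlgSp.yon S).map f) := fun Z hZ g => by
  obtain ⟨g, rfl⟩ := (AlgSp.yon S).map_surjective g
  refine ⟨pullback f g, pullback.snd f g, (AlgSp.yon S).map (pullback.fst f g),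
    (IsPullback.of_hasPullback f g).map (AlgSp.yon S), ?_⟩
  haveI : IsAffineHom (pullback.snd f g).left :=
    MorphismProperty.of_isPullback ((IsPullback.of_hasPullback f g).map (Over.forget S)) ‹IsAffineHom f.left›
  exact isAffine_of_isAffineHom (pullback.snd f g).left

theorem isLocalOnBase_fppf_isAffineMor :
    AlgSp.IsLocalOnBase (AlgSp.IsFppfCover (S := S)) AlgSp.IsAffineMor :=
  fun _ _ Yi g hY hYi hτ => Groth.Agent.S10533.result S Yi g hY hYi
    (isFpqcCover_of_fppf hY hYi (fun i => (hτ.1 i).1) (fun i => (hτ.1 i).2) hτ.2)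

variable {G : Over S} [GrpObj G] {X : Over S} {aX : AlgGrp.Action G X}

theorem isAlgSpace_B₀ : AlgSp.IsAlgSpace (B₀ S) := AlgSp.IsAlgSpace.yon_obj _

theorem exists_scheme [IsAffineHom G.hom]
    (A : AlgSt.SpQuotObj Scheme.fppfPrecoverage (Ψ.obj G) (actΨ aX)) :
    ∃ P : Over S, Nonempty ((AlgSp.yon S).obj P ≅ A.P.left) := by
  haveI : IsAffineHom (toT₀ G).left := ‹IsAffineHom G.hom›
  have hG : AlgSp.IsAlgSpace (Ψ.obj G).left := AlgSp.IsAlgSpace.yon_obj G
  have haff : AlgSp.IsAffineMor A.π.left :=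
    Groth.Agent.SpTorsLib.prop_π (P := AlgSp.IsAffineMor) isLocalOnBase_fppf_isAffineMor isAlgSpace_B₀ hG
      (isAffineMor_yon_map (toT₀ G)) A
  have hr := (Groth.Agent.S9941.result (X := ⟨_, Groth.Agent.SpTorsLib.isAlgSpace_P isAlgSpace_B₀ hG A⟩)
    (Y := ⟨_, AlgSp.IsAlgSpace.yon_obj A.base⟩) (ObjectProperty.homMk A.π.left) haff).1
  have h := hr.isPullback (𝟙 ((AlgSp.yon S).obj A.base))
  haveI := h.isIso_fst_of_isIso
  exact ⟨_, ⟨asIso (hr.fst (𝟙 _))⟩⟩

theorem exists_Ψ_iso [IsAffineHom G.hom]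
    (A : AlgSt.SpQuotObj Scheme.fppfPrecoverage (Ψ.obj G) (actΨ aX)) :
    ∃ P : Over S, Nonempty (Ψ.obj P ≅ A.P) := by
  obtain ⟨P, ⟨e⟩⟩ := exists_scheme A
  exact ⟨P, ⟨Over.isoMk e (eq_toB₀ _ _)⟩⟩

theorem exists_preimage_action {P : Over S} {Q : Over (B₀ S)} (e : Ψ.obj P ≅ Q)
    (b : AlgSp.GAction (Ψ.obj G) Q) :
    ∃ a : AlgGrp.Action G P, (actΨ a).act ≫ e.hom = (Ψ.obj G ◁ e.hom) ≫ b.act := by
  obtain ⟨t, ht⟩ := Ψ.map_surjective (inv (Functor.LaxMonoidal.μ Ψ G P) ≫ (Ψ.obj G ◁ e.hom) ≫ b.act ≫ e.inv)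
  have ht' : Functor.LaxMonoidal.μ Ψ G P ≫ Ψ.map t = (Ψ.obj G ◁ e.hom) ≫ b.act ≫ e.inv := by
    rw [ht, IsIso.hom_inv_id_assoc]
  let c := (Ψ.obj G ◁ e.hom) ≫ b.act ≫ e.inv
  have hc1 : (η[Ψ.obj G] ▷ Ψ.obj P) ≫ c = (λ_ (Ψ.obj P)).hom := by
    rw [← Category.assoc, ← whisker_exchange, Category.assoc, reassoc_of% b.one_act, leftUnitor_naturality_assoc,
      e.hom_inv_id, Category.comp_id]
  have hc2 : (μ[Ψ.obj G] ▷ Ψ.obj P) ≫ c = (α_ _ _ _).hom ≫ (Ψ.obj G ◁ c) ≫ c := by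
    rw [← Category.assoc, ← whisker_exchange, Category.assoc, reassoc_of% b.mul_act,
      associator_naturality_right_assoc]
    simp [c]
  refine ⟨{ act := t, one_act := ?_, mul_act := ?_ }, ?_⟩
  · refine Ψ.map_injective ?_
    rw [← cancel_epi (Functor.LaxMonoidal.μ Ψ (𝟙_ _) P), ← cancel_epi (Functor.LaxMonoidal.ε Ψ ▷ Ψ.obj P),
      Functor.map_comp, ← Functor.LaxMonoidal.μ_natural_left_assoc, ht', ← comp_whiskerRight_assoc]
    exact hc1.trans (Functor.LaxMonoidal.left_unitality Ψ P)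
  · refine Ψ.map_injective ?_
    rw [← cancel_epi (Functor.LaxMonoidal.μ Ψ (G ⊗ G) P), ← cancel_epi (Functor.LaxMonoidal.μ Ψ G G ▷ Ψ.obj P),
      Functor.map_comp, ← Functor.LaxMonoidal.μ_natural_left_assoc, ht', ← comp_whiskerRight_assoc]
    refine hc2.trans ?_
    rw [Functor.map_comp, Functor.map_comp, Functor.LaxMonoidal.associativity_assoc,
      ← Functor.LaxMonoidal.μ_natural_right_assoc, ht',
      ← MonoidalCategory.whiskerLeft_comp_assoc (Ψ.obj G) (Functor.LaxMonoidal.μ Ψ G P) (Ψ.map t), ht']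
  · change (Functor.LaxMonoidal.μ Ψ G P ≫ Ψ.map t) ≫ e.hom = _
    rw [ht', Category.assoc, Category.assoc, e.inv_hom_id, Category.comp_id]

/-- Scheme torsors are all torsors for an affine group. -/
theorem isEquivOver_toSp [IsAffineHom G.hom] :
    FibCat.IsEquivOver (toSp (G := G) (aX := aX) Scheme.fppfPrecoverage) := by
  haveI := Groth.Agent.SpTorsLib.isFibGrpd_spQuot (G := Ψ.obj G) (aX := actΨ aX)
  refine Groth.Agent.ASt.isEquivOver_of_vert _ fun B => ?_
  obtain ⟨P, ⟨e⟩⟩ := exists_Ψ_iso B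
  obtain ⟨a, ha⟩ := exists_preimage_action e B.act
  let eb : Ψ.obj B.base ≅ Over.mk B.b := Over.isoMk (Iso.refl _) (eq_toB₀ _ _)
  obtain ⟨π, hπ⟩ := Ψ.map_surjective (e.hom ≫ B.π ≫ eb.inv)
  obtain ⟨φ, hφ⟩ := Ψ.map_surjective (e.hom ≫ B.φ)
  have ha' : (actΨ a).act ≫ Ψ.map π = (Ψ.obj G ◁ e.hom) ≫ B.act.act ≫ B.π ≫ eb.inv := by
    rw [hπ, reassoc_of% ha]
  have cart : IsPullback a.act (snd G P) π π := by
    refine (cart_iff a π).1 ?_
    refine B.cart.of_iso (MonoidalCategory.whiskerLeftIso _ e).symm e.symm e.symm eb.symm ?_ ?_ ?_ ?_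
    · rw [Iso.symm_hom, Iso.symm_hom, MonoidalCategory.whiskerLeftIso_inv, ← cancel_mono e.hom, Category.assoc,
        e.inv_hom_id, Category.comp_id, Category.assoc, ha, ← MonoidalCategory.whiskerLeft_comp_assoc,
        e.inv_hom_id, MonoidalCategory.whiskerLeft_id, Category.id_comp]
    · rw [Iso.symm_hom, Iso.symm_hom, MonoidalCategory.whiskerLeftIso_inv, whiskerLeft_snd]
    · rw [Iso.symm_hom, Iso.symm_hom, hπ, e.inv_hom_id_assoc]
    · rw [Iso.symm_hom, Iso.symm_hom, hπ, e.inv_hom_id_assoc]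
  have hπl : (AlgSp.yon S).map π ≫ 𝟙 _ = e.hom.left ≫ B.π.left := by
    have := congrArg (fun m => m.left) hπ
    simpa [eb, Ψ] using this
  have loc : NonAbH1.IsLocallyTrivialFor Scheme.fppfPrecoverage (Over.mk π.left : Over B.base.left) := by
    obtain ⟨R, hR, hs⟩ := B.loc
    refine ⟨R, hR, fun T' f hf => ?_⟩
    obtain ⟨s, hs⟩ := hs f hf
    obtain ⟨l, hl⟩ := (AlgSp.yon S).map_surjective (s ≫ e.inv.left)
    refine ⟨l.left, ?_⟩
    have : l ≫ π = Over.homMk f := (AlgSp.yon S).map_injective (by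
      rw [Functor.map_comp, ← Category.comp_id ((AlgSp.yon S).map π), hπl, hl, Category.assoc,
        Over.inv_left_hom_left_assoc, hs])
    exact congrArg (fun m => m.left) this
  let x : AlgSt.QuotObj Scheme.fppfPrecoverage G aX :=
    { base := B.base
      P := P
      act := a
      π := π
      cart := cart
      loc := loc
      φ := φ
      eqv := (eqv_iff a aX φ).1 (by
        rw [hφ, reassoc_of% ha, B.eqv, ← MonoidalCategory.whiskerLeft_comp_assoc]) }
  let n : (toSp Scheme.fppfPrecoverage).obj x ⟶ B :=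
    { base := 𝟙 B.base
      wb := eq_toB₀ _ _
      top := e.hom
      eqv := ha
      cart := by
        haveI : IsIso (AlgSt.bHom (𝟙 B.base) (eq_toB₀ ((AlgSp.yon S).map (𝟙 B.base) ≫ B.b)
            ((AlgSp.yon S).map (toT₀ B.base)))) := by
          have : AlgSt.bHom (𝟙 B.base) (eq_toB₀ ((AlgSp.yon S).map (𝟙 B.base) ≫ B.b)
              ((AlgSp.yon S).map (toT₀ B.base))) = eb.hom := Over.OverMorphism.ext ((AlgSp.yon S).map_id _)
          rw [this]
          infer_instance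
        refine IsPullback.of_horiz_isIso ⟨?_⟩
        change e.hom ≫ B.π = Ψ.map π ≫ _
        rw [hπ]
        refine (Category.comp_id _).symm.trans ?_
        rw [show AlgSt.bHom (𝟙 B.base) _ = eb.hom from Over.OverMorphism.ext ((AlgSp.yon S).map_id _)]
        simp
      wφ := hφ.symm }
  have hn : (AlgSt.SpQuotSt Scheme.fppfPrecoverage (Ψ.obj G) (actΨ aX)).p.map n = eqToHom rfl := rfl
  haveI := Groth.Agent.ASt.isIso_of_vert n hn
  exact ⟨x, rfl, asIso n, hn⟩

/-- For an affine group the quotient category of scheme torsors is a stack. -/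
theorem isStack_quot [IsAffineHom G.hom] :
    Stk.IsStack (AlgSp.J S) (AlgSt.QuotSt Scheme.fppfPrecoverage G aX) := by
  haveI := Groth.Agent.SpTorsLib.isFibGrpd_spQuot (G := Ψ.obj G) (aX := actΨ aX)
  obtain ⟨F, hF, -, -⟩ := Groth.Agent.ASt.isEquivOver_symm (isEquivOver_toSp (G := G) (aX := aX))
  exact Groth.Agent.ASt.isStack_of_isEquivOver hF (Groth.Agent.SpTorsLib.isStack_spQuot _ _)

end Groth.Agent.DecSec.QuotSch
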