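import Groth.Prelude.Def_AlgSt5
import Groth.Agent.ASt.Fib

/-! Morphisms out of trivial torsors in the quotient category of scheme torsors. -/

set_option autoImplicit false
set_option backward.isDefEq.respectTransparency false
set_option backward.isDefEq.respectTransparency.types false

universe u

open CategoryTheory CategoryTheory.Limits MonoidalCategory CartesianMonoidalCategory MonObj GrpObj AlgebraicGeometry

namespace Groth.Agent.DecSec.QuotSch

open _root_.AlgSt

variable {S : Scheme.{u}} {K : Precoverage Scheme.{u}} {G : Over S} [GrpObj G] {X : Over S}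
  {aX : AlgGrp.Action G X}

/-- The unit section of a trivial torsor. -/
noncomputable def unitSec (T : Over S) : T ⟶ G ⊗ T := lift (toUnit T ≫ η[G]) (𝟙 T)

theorem unitSec_snd (T : Over S) : unitSec (G := G) T ≫ snd G T = 𝟙 T := lift_snd _ _

theorem unitSec_natural {T' T : Over S} (f : T' ⟶ T) :
    unitSec T' ≫ (G ◁ f) = f ≫ unitSec (G := G) T := by
  apply CartesianMonoidalCategory.hom_ext
  · simp [unitSec]
  · simp [unitSec]

theorem unitSec_act {P : Over S} (a : AlgGrp.Action G P) : unitSec P ≫ a.act = 𝟙 P := by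
  have h3 : unitSec (G := G) P = (λ_ P).inv ≫ (η[G] ▷ P) := by
    apply CartesianMonoidalCategory.hom_ext
    · simp [unitSec]
    · simp [unitSec]
  rw [h3, Category.assoc, a.one_act, Iso.inv_hom_id]

theorem unitSec_triv {T P : Over S} (a : AlgGrp.Action G P) (l : T ⟶ P) :
    unitSec T ≫ (G ◁ l) ≫ a.act = l := by
  rw [← Category.assoc, unitSec_natural, Category.assoc, unitSec_act, Category.comp_id]

theorem whisker_unitSec_leftMul (T : Over S) :
    (G ◁ unitSec T) ≫ (leftMul G T).act = 𝟙 (G ⊗ T) := by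
  apply CartesianMonoidalCategory.hom_ext
  · simp [leftMul, unitSec, comp_mul, comp_lift, MonObj.one_eq_one]
  · simp [leftMul, unitSec, comp_lift]

theorem homTriv_eqv {T P : Over S} (a : AlgGrp.Action G P) (σ : T ⟶ P) :
    (leftMul G T).act ≫ (G ◁ σ) ≫ a.act = (G ◁ ((G ◁ σ) ≫ a.act)) ≫ a.act := by
  have hm : (G ◁ a.act) ≫ a.act = (α_ G G P).inv ≫ (μ[G] ▷ P) ≫ a.act := by
    rw [a.mul_act, Iso.inv_hom_id_assoc]
  have hμ : fst (G ⊗ G) P ≫ μ[G] = (fst _ _ ≫ fst G G) * (fst _ _ ≫ snd G G) := by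
    rw [Hom.mul_def, ← comp_lift, lift_fst_snd, Category.comp_id]
  have h : (leftMul G T).act ≫ (G ◁ σ) = (G ◁ (G ◁ σ)) ≫ (α_ G G P).inv ≫ (μ[G] ▷ P) := by
    apply CartesianMonoidalCategory.hom_ext
    · simp [leftMul, comp_lift, comp_mul, hμ]
    · simp [leftMul, comp_lift]
  rw [MonoidalCategory.whiskerLeft_comp, Category.assoc, hm, reassoc_of% h]

/-- A point of a torsor trivialises it over its source. -/
theorem isPullback_triv (A : QuotObj K G aX) {T : Over S} (s : T ⟶ A.P) :
    IsPullback ((G ◁ s) ≫ A.act.act) (snd G T) A.π (s ≫ A.π) :=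
  (AlgSt.isPullback_whiskerLeft s).paste_horiz A.cart

theorem whisker_leftMul {T T' : Over S} (l : T ⟶ G ⊗ T') :
    (G ◁ l) ≫ (leftMul G T').act =
      lift (fst G T * (snd G T ≫ l ≫ fst G T')) (snd G T ≫ l ≫ snd G T') := by
  apply CartesianMonoidalCategory.hom_ext
  · simp [leftMul, comp_mul]
  · simp [leftMul]

variable [K.HasIsos]

/-- The image of a point under the quotient map. -/
noncomputable abbrev qObj (K : Precoverage Scheme.{u}) [K.HasIsos] (G : Over S) [GrpObj G] {X : Over S}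
    (aX : AlgGrp.Action G X) {T : Over S} (x : T ⟶ X) : QuotObj K G aX :=
  (quotMap K G aX).obj ((ofOverCat X).obj (Over.mk x))

/-- Morphisms out of the trivial torsor of a point. -/
theorem existsUnique_hom {T : Over S} (x : T ⟶ X) (A : QuotObj K G aX) (f : T ⟶ A.base) (l : T ⟶ A.P)
    (hl : l ≫ A.π = f) (hφ : l ≫ A.φ = x) :
    ∃! m : qObj K G aX x ⟶ A, m.base = f ∧ unitSec T ≫ m.top = l := by
  let m : qObj K G aX x ⟶ A :=
    { base := f
      top := (G ◁ l) ≫ A.act.act
      eqv := homTriv_eqv A.act l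
      cart := by
        have h := isPullback_triv A l
        rw [hl] at h
        exact h
      wφ := by
        change ((G ◁ l) ≫ A.act.act) ≫ A.φ = (G ◁ x) ≫ aX.act
        rw [Category.assoc, A.eqv, ← MonoidalCategory.whiskerLeft_comp_assoc, hφ] }
  refine ⟨m, ⟨rfl, unitSec_triv A.act l⟩, fun m' hm' => QuotObj.hom_ext hm'.1 ?_⟩
  change m'.top = (G ◁ l) ≫ A.act.act
  rw [← hm'.2, MonoidalCategory.whiskerLeft_comp, Category.assoc, ← m'.eqv]
  change m'.top = (G ◁ unitSec T) ≫ (leftMul G T).act ≫ m'.top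
  rw [← Category.assoc, whisker_unitSec_leftMul]
  exact (Category.id_comp _).symm

theorem unit_π {T : Over S} {x : T ⟶ X} {A : QuotObj K G aX} (m : qObj K G aX x ⟶ A) :
    (unitSec T ≫ m.top) ≫ A.π = m.base := by
  rw [Category.assoc, m.cart.w]
  exact (Category.assoc _ _ _).symm.trans ((congrArg (· ≫ _) (unitSec_snd _)).trans (Category.id_comp _))

theorem unit_φ {T : Over S} {x : T ⟶ X} {A : QuotObj K G aX} (m : qObj K G aX x ⟶ A) :
    (unitSec T ≫ m.top) ≫ A.φ = x := by
  rw [Category.assoc, m.wφ]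
  exact unitSec_triv aX x

theorem hom_ext {T : Over S} {x : T ⟶ X} {A : QuotObj K G aX} {m m' : qObj K G aX x ⟶ A}
    (h₁ : m.base = m'.base) (h₂ : unitSec T ≫ m.top = unitSec T ≫ m'.top) : m = m' :=
  (existsUnique_hom x A m'.base (unitSec T ≫ m'.top) (unit_π m') (unit_φ m')).unique ⟨h₁, h₂⟩ ⟨rfl, rfl⟩

theorem hom_top {T : Over S} {x : T ⟶ X} {A : QuotObj K G aX} (m : qObj K G aX x ⟶ A) :
    m.top = (G ◁ (unitSec T ≫ m.top)) ≫ A.act.act := by
  rw [MonoidalCategory.whiskerLeft_comp, Category.assoc, ← m.eqv]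
  change m.top = (G ◁ unitSec T) ≫ (leftMul G T).act ≫ m.top
  rw [← Category.assoc, whisker_unitSec_leftMul]
  exact (Category.id_comp _).symm

/-- The quotient map on morphisms, read on the unit section. -/
theorem comp_top_eval {T T' : Over S} {x : T ⟶ X} {x' : T' ⟶ X}
    (g : (ofOverCat X).obj (Over.mk x) ⟶ (ofOverCat X).obj (Over.mk x'))
    {A : QuotObj K G aX} (m : qObj K G aX x' ⟶ A) :
    unitSec T ≫ ((quotMap K G aX).map g ≫ m).top = g.hom ≫ unitSec T' ≫ m.top := by
  have h := unitSec_natural (G := G) (show T ⟶ T' from g.hom)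
  exact (Category.assoc _ _ _).symm.trans ((congrArg (· ≫ m.top) h).trans (Category.assoc _ _ _))

end Groth.Agent.DecSec.QuotSch
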