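import Groth.Agent.ASp.AlgPoint
import Groth.Agent.ASp.QSComp
import Groth.Agent.ASp.UnitSection

/-! Sections over fields of decent algebraic spaces are closed immersions. -/

set_option autoImplicit false
set_option backward.isDefEq.respectTransparency false
set_option backward.isDefEq.respectTransparency.types false

universe u

open CategoryTheory CategoryTheory.Limits AlgebraicGeometry Opposite

namespace Groth.Agent.DecSec

open _root_.AlgSp Groth.Agent.ASp

variable {S : Scheme.{u}}

/-- Points with values in a field which are sections over that field are closed in decent spaces. -/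
theorem isClosed_ofPt_of_section {X : Sp S} (hX : IsAlgSpace X) (hdec : IsDecent X) {k : Type u} [Field k]
    {str : Spec (CommRingCat.of k) ⟶ S} (p : (yon S).obj (Over.mk str) ⟶ X)
    (π : X ⟶ (yon S).obj (Over.mk str)) (hpπ : p ≫ π = 𝟙 _)
    (t : ↥(Spec (CommRingCat.of k))) : IsClosed ({Points.ofPt p t} : Set (Points X)) := by
  obtain ⟨A, a, hae, has⟩ := hX.atlas
  obtain ⟨E, s, c, sq⟩ : ∃ (E : Over S) (s : E ⟶ Over.mk str) (c : E ⟶ A),
      IsPullback ((yon S).map s) ((yon S).map c) p a := by
    obtain ⟨c, hc⟩ := (yon S).map_surjective (hae.1.fst p)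
    exact ⟨_, hae.1.snd p, c, hc ▸ (hae.1.isPullback p).flip⟩
  obtain ⟨q, hq⟩ := (yon S).map_surjective (a ≫ π)
  have hcq : c ≫ q = s := (yon S).map_injective (by
    rw [Functor.map_comp, hq, ← Category.assoc, ← sq.w, Category.assoc, hpπ, Category.comp_id])
  haveI : Etale s.left := hae.2 _ _ _ sq.flip
  haveI := Groth.Agent.Unibranch.locallyQuasiFinite_of_etale s.left
  haveI : DiscreteTopology ↥E.left := isDiscrete_univ_iff.1
    ((s.left.isDiscrete_preimage_singleton (IsLocalRing.closedPoint k)).mono
      fun x _ => Subsingleton.elim (α := ↥(Spec (CommRingCat.of k))) _ _)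
  let T : Set ↥A.left := Points.ofPt a ⁻¹' {Points.ofPt p t}
  have hcl : ∀ w ∈ T, IsClosed ({w} : Set ↥A.left) := by
    intro w hw
    obtain ⟨z, -, hz⟩ := points_exists_of_isPullback sq (Points.ofScheme (Over.mk str) t) (Points.ofScheme A w)
      (by rw [← Points.ofPt_eq_map_ofScheme, ← Points.ofPt_eq_map_ofScheme]; exact (Set.mem_singleton_iff.1 hw).symm)
    obtain ⟨e, rfl⟩ := (Points.schemeHomeo E).surjective z
    rw [Points.map_yon_map_apply] at hz
    have hz : c.left e = w := (Points.schemeHomeo A).injective hz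
    haveI := isClosed_singleton_iff_isClosedImmersion.mp (isClosed_discrete ({e} : Set ↥E.left))
    haveI : LocallyOfFiniteType (E.left.fromSpecResidueField e ≫ s.left) := inferInstance
    haveI : JacobsonSpace ↥(Over.mk str).left := inferInstanceAs (JacobsonSpace ↥(Spec (CommRingCat.of k)))
    haveI : IsReduced (Over.mk str).left := inferInstanceAs (IsReduced (Spec (CommRingCat.of k)))
    haveI : IsFinite (E.left.fromSpecResidueField e ≫ s.left) :=
      (isFinite_iff_locallyOfFiniteType_of_jacobsonSpace (f := E.left.fromSpecResidueField e ≫ s.left)).mpr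
        inferInstance
    haveI : IsIntegralHom ((E.left.fromSpecResidueField e ≫ c.left) ≫ q.left) := by
      rw [Category.assoc, ← Over.comp_left, hcq]
      infer_instance
    have := isClosed_of_integral_field q.left (E.left.fromSpecResidueField e ≫ c.left)
    have he : (E.left.fromSpecResidueField e ≫ c.left) (IsLocalRing.closedPoint (E.left.residueField e)) = w :=
      (congrArg c.left (Scheme.fromSpecResidueField_apply _ _)).trans hz
    exact he ▸ this
  have hT : IsClosed T := by
    rw [← isOpen_compl_iff, isOpen_iff_forall_mem_open]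
    intro y hy
    obtain ⟨W, hW, hyW, -⟩ := exists_isAffineOpen_mem_and_subset (x := y) (U := (⊤ : A.left.Opens)) (by simp)
    have hfc : IsClosed (T ∩ (W : Set ↥A.left)) := by
      rw [← Set.biUnion_of_singleton (T ∩ (W : Set ↥A.left))]
      exact (finite_fibre_inter hdec hae _ hW.isCompact).isClosed_biUnion fun w hw => hcl w hw.1
    exact ⟨_, fun q hq hq' => hq.2 ⟨hq', hq.1⟩, W.isOpen.inter hfc.isOpen_compl, hyW, fun h => hy h.1⟩
  rw [← isOpen_compl_iff]
  have := isOpenMap_ofPt_of_etale hae _ hT.isOpen_compl
  rwa [← Set.preimage_compl, Set.image_preimage_eq _ (surjective_ofPt has)] at this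

/-- A section over a field of a decent algebraic space is a closed immersion. -/
theorem repWith_closedImmersion_section {X : Sp S} (hX : IsAlgSpace X) (hdec : IsDecent X) {k : Type u} [Field k]
    {str : Spec (CommRingCat.of k) ⟶ S} (p : (yon S).obj (Over.mk str) ⟶ X)
    (π : X ⟶ (yon S).obj (Over.mk str)) (hpπ : p ≫ π = 𝟙 _) : RepWith @IsClosedImmersion p := by
  obtain ⟨p₀, hp₀, hci⟩ := exists_closedImmersion_of_isClosed hX hdec _
    (isClosed_ofPt_of_section hX hdec p π hpπ (IsLocalRing.closedPoint k))
  let q : FieldPt X := ⟨k, str, (J S).uliftYonedaEquiv.{u+1} p⟩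
  have hq : q.toHom = p := by rw [FieldPt.toHom]; exact Equiv.symm_apply_apply _ _
  haveI : Mono p₀.toHom := mono_of_repWith (P := @IsClosedImmersion) (fun _ h => by haveI := h; infer_instance) hci
  obtain ⟨c, hc⟩ := factor_of_mono hX p₀ q (by rw [hp₀, ofPt_yon_mk])
  rw [hq] at hc
  obtain ⟨d, hd⟩ := (yon S).map_surjective (p₀.toHom ≫ π)
  have hcd : c ≫ d = 𝟙 _ := (yon S).map_injective (by
    rw [Functor.map_comp, hd, ← Category.assoc, hc, hpπ, (yon S).map_id])
  rw [← hc]
  refine repWith_comp (P := @IsClosedImmersion) (repWith_yon_map ?_) hci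
  haveI : IsAffine p₀.pt.left := inferInstanceAs (IsAffine (Spec (CommRingCat.of p₀.K)))
  haveI : IsAffine q.pt.left := inferInstanceAs (IsAffine (Spec (CommRingCat.of k)))
  haveI : IsSeparated d.left := by
    haveI : IsSeparated (d.left ≫ terminal.from _) := by rw [terminal.comp_from]; infer_instance
    exact IsSeparated.of_comp d.left (terminal.from _)
  haveI : IsClosedImmersion (c.left ≫ d.left) := by
    rw [← Over.comp_left, hcd]
    exact inferInstanceAs (IsClosedImmersion (𝟙 (Over.mk str).left))
  exact IsClosedImmersion.of_comp c.left d.left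

/-- The scheme of a field is separated over any base. -/
theorem isSeparatedSp_yon_field {k : Type u} [Field k] (str : Spec (CommRingCat.of k) ⟶ S) :
    IsSeparatedSp ((yon S).obj (Over.mk str)) := by
  refine (repWith_diag_yon_iff @IsClosedImmersion _).2 ?_
  haveI : IsSeparated str := by
    haveI : IsSeparated (str ≫ terminal.from S) := by rw [terminal.comp_from]; infer_instance
    exact IsSeparated.of_comp str (terminal.from S)
  haveI : IsSeparated (Over.mk str).hom := this
  exact IsSeparated.isClosedImmersion_diagonal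

/-- A separated morphism to a separated sheaf has separated source. -/
theorem isSeparatedSp_of_mor {X Y : Sp S} {f : X ⟶ Y} (hY : IsSeparatedSp Y) (hf : IsSeparatedMor f) :
    IsSeparatedSp X := by
  obtain ⟨b, hb, e⟩ := exists_isPullback_diag f
  have h : RepWith @IsClosedImmersion (pullback.diagonal f ≫ b) := repWith_comp hf (repWith_of_isPullback hb hY)
  rwa [e] at h

theorem isSeparatedSp_of_iso {X Y : Sp S} (f : X ⟶ Y) [IsIso f] (hY : IsSeparatedSp Y) : IsSeparatedSp X :=
  isSeparatedSp_of_mor hY (show RepWith @IsClosedImmersion (pullback.diagonal f) from repWith_of_isIso _)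

/-- The diagonal of the target map of a groupoid is a base change of the identity section. -/
theorem exists_isPullback_diag_t {B : Sp S} (G : GroupoidSp B) :
    ∃ m : pullback G.t G.t ⟶ G.R, IsPullback G.s (pullback.diagonal G.t) G.e m := by
  let α := pullback.fst G.t G.t
  let β := pullback.snd G.t G.t
  have h : (α ≫ G.i) ≫ G.s = β ≫ G.t := (Gpd.inv_s α).trans pullback.condition
  let m := Gpd.mul G (α ≫ G.i) β h
  have hms : m ≫ G.s = β ≫ G.s := Gpd.mul_s _ _ h
  refine ⟨m, IsPullback.of_isLimit' ⟨?_⟩ (PullbackCone.IsLimit.mk _ (fun c => c.snd ≫ α) (fun c => ?_)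
    (fun c => ?_) fun c l _ h2 => ?_)⟩
  · rw [Gpd.comp_mul, Gpd.mul_congr (show _ = 𝟙 G.R ≫ G.i by rw [pullback.diagonal_fst_assoc, Category.id_comp])
      (pullback.diagonal_snd G.t), Gpd.inv_mul, Category.id_comp]
  all_goals
    have hc := c.condition
    have hcs := congrArg (· ≫ G.s) hc
    simp only [Category.assoc, G.e_s, hms, Category.comp_id] at hcs
    have ht : (c.snd ≫ α) ≫ G.t = (c.snd ≫ β) ≫ G.t := by
      simp only [α, β, Category.assoc, pullback.condition]
    have key : c.snd ≫ α = c.snd ≫ β := by
      rw [Gpd.comp_mul] at hc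
      conv_rhs => rw [← Gpd.mul_inv_cancel_left (c.snd ≫ α) (c.snd ≫ β) ht]
      refine (Gpd.mul_one' _ _ ?_ _).symm
      rw [Gpd.mul_congr (Category.assoc _ _ G.i) rfl, ← hc]
      have ht' : (c.snd ≫ α) ≫ G.s = c.fst := by
        have e1 := congrArg (· ≫ G.t) hc
        simp only [Category.assoc, G.e_t, Category.comp_id] at e1
        rw [Gpd.mul_t] at e1; simp only [Category.assoc, G.i_t] at e1
        rw [e1]; simp only [Category.assoc]
      rw [← ht', Category.assoc, Category.assoc]
  · rw [Category.assoc, show c.snd ≫ α ≫ G.s = (c.snd ≫ α) ≫ G.s by rw [Category.assoc], key, Category.assoc, hcs]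
  · apply pullback.hom_ext
    · rw [Category.assoc, pullback.diagonal_fst, Category.comp_id]
    · rw [Category.assoc, pullback.diagonal_snd, Category.comp_id]; exact key
  · rw [← h2, Category.assoc]; simp [α]

theorem isSeparatedSp_groupoid {B : Sp S} (G : GroupoidSp B) (hR : IsAlgSpace G.R) {k : Type u} [Field k]
    (σ : Spec (CommRingCat.of k) ⟶ S) (eU : G.U ≅ (yon S).obj (Over.mk σ)) (hd : IsDecent G.R) :
    IsSeparatedSp G.R := by
  have he : RepWith @IsClosedImmersion (eU.inv ≫ G.e) :=
    repWith_closedImmersion_section hR hd _ (G.t ≫ eU.hom) (by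
      rw [Category.assoc, ← Category.assoc G.e, G.e_t, Category.id_comp, eU.inv_hom_id])
  have he' : RepWith @IsClosedImmersion G.e := by
    rw [show G.e = eU.hom ≫ eU.inv ≫ G.e by simp]
    exact repWith_comp (repWith_of_isIso _) he
  obtain ⟨m, hm⟩ := exists_isPullback_diag_t G
  have hsep : IsSeparatedMor G.t := repWith_of_isPullback hm he'
  exact isSeparatedSp_of_mor (isSeparatedSp_of_iso eU.hom (isSeparatedSp_yon_field σ)) hsep

end Groth.Agent.DecSec
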