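import Groth.Agent.DecSec.IsoClSpace
import Groth.Agent.ASt.StkAlg
import Mathlib.CategoryTheory.Sites.Sheafification

/-! An algebraic stack is a gerbe exactly when its inertia is flat and finitely presented. -/

set_option autoImplicit false
set_option backward.isDefEq.respectTransparency false
set_option backward.isDefEq.respectTransparency.types false

universe u

open CategoryTheory CategoryTheory.Limits AlgebraicGeometry Opposite

namespace Groth.Agent.DecSec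

open _root_.AlgSp Groth.Agent.ASp Groth.Agent.ASt Groth.Agent.Boot

variable {S : Scheme.{u}} {𝒳 : AlgSt.Cat S} [FibCat.IsFibGrpd 𝒳.p] {F : Sp S} (π : 𝒳 ⥤ᵇ AlgSt.ofSp F)

/-- Absolute automorphisms are relative to any map to a space. -/
noncomputable def inertiaToRel : FibCat.inertia (FibCat.toSelf 𝒳) ⥤ᵇ FibCat.inertia π where
  toFunctor :=
    { obj := fun o => ⟨o.pt, o.aut, by
        have h : 𝒳.p.map o.aut.hom = 𝟙 _ := o.map_aut
        apply Stk.EltObj.hom_ext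
        change (Stk.ofPsh F.obj).p.map (π.map o.aut.hom) = (Stk.ofPsh F.obj).p.map (𝟙 _)
        rw [map_w π, h, CategoryTheory.Functor.map_id]
        simp⟩
      map := fun m => ⟨m.hom, m.comm⟩
      map_id := fun o => rfl
      map_comp := fun m n => rfl }
  w := rfl

theorem isEquivOver_inertiaToRel : FibCat.IsEquivOver (inertiaToRel π) := by
  haveI := isFibGrpd_inertia (FibCat.toSelf 𝒳)
  haveI := isFibGrpd_inertia π
  haveI : (inertiaToRel π).toFunctor.Faithful := ⟨fun {a b} m n h =>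
    FibCat.InertiaObj.hom_ext (by
      have h' := congrArg (fun k : (inertiaToRel π).obj a ⟶ (inertiaToRel π).obj b => FibCat.InertiaObj.Hom.hom k) h
      exact h')⟩
  haveI : (inertiaToRel π).toFunctor.Full := ⟨fun {a b} m => ⟨⟨m.hom, m.comm⟩, rfl⟩⟩
  exact isEquivOver_of_vert _ fun o => ⟨⟨o.pt, o.aut, (map_aut_vert π o).trans rfl⟩, rfl, Iso.refl _,
    ((FibCat.inertia π).p.map_id o).trans (eqToHom_refl _ _).symm⟩

theorem locQ_inertia_of_gerbe (hX : AlgSt.IsAlgStack Scheme.fppfPrecoverage 𝒳) (hF : IsAlgSpace F)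
    (hπ : Gerb.IsGerbeOver (J S) π) :
    AlgSt.LocQ (LocP @Flat) (FibCat.inertiaToBase (FibCat.toSelf 𝒳)) ∧
      AlgSt.LocQ (LocP @LocallyOfFinitePresentation) (FibCat.inertiaToBase (FibCat.toSelf 𝒳)) := by
  haveI : FibCat.IsFibGrpd (AlgSt.ofSp F).p := Groth.Agent.ASt.isFibGrpd_ofSp F
  have hY : AlgSt.IsAlgStack Scheme.fppfPrecoverage (AlgSt.ofSp F) :=
    (isDM_of_repByAlgSp ⟨⟨F, hF⟩, BasedFunctor.id _, isEquivOver_id⟩).1
  haveI := isFibGrpd_inertia (FibCat.toSelf 𝒳)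
  haveI := isFibGrpd_inertia π
  obtain ⟨d₁, d₂, -⟩ := fppf_diag hX hY hπ
  have e : BasedFunctor.comp (inertiaToRel π) (FibCat.inertiaToBase π) = FibCat.inertiaToBase (FibCat.toSelf 𝒳) :=
    Groth.Agent.ASt.basedFunctor_ext rfl
  exact ⟨locQ_of_repByAlgSpWith hX (e ▸ repByAlgSpWith_precomp (isEquivOver_inertiaToRel π)
      (repByAlgSpWith_inertiaToBase π d₁)),
    locQ_of_repByAlgSpWith hX (e ▸ repByAlgSpWith_precomp (isEquivOver_inertiaToRel π)
      (repByAlgSpWith_inertiaToBase π d₂))⟩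

/-- A stack with flat and finitely presented inertia is a gerbe over an algebraic space. -/
theorem isAlgGerbe_of_inertia (hX : AlgSt.IsAlgStack Scheme.fppfPrecoverage 𝒳)
    (h1 : AlgSt.LocQ (LocP @Flat) (FibCat.inertiaToBase (FibCat.toSelf 𝒳)))
    (h2 : AlgSt.LocQ (LocP @LocallyOfFinitePresentation) (FibCat.inertiaToBase (FibCat.toSelf 𝒳))) :
    Gerb.IsAlgGerbe Scheme.fppfPrecoverage 𝒳 := by
  obtain ⟨i1, i2⟩ := repByAlgSpWith_inertia_of_locQ hX h1 h2
  let F : Sp S := (presheafToSheaf (J S) (Type (u + 1))).obj (Gerb.isoClPsh 𝒳)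
  let η : Gerb.isoClPsh 𝒳 ⟶ F.obj := toSheafify (J S) (Gerb.isoClPsh 𝒳)
  haveI : Presheaf.IsLocallySurjective (J S) η :=
    inferInstanceAs (Presheaf.IsLocallySurjective (J S) (toSheafify (J S) (Gerb.isoClPsh 𝒳)))
  haveI : Presheaf.IsLocallyInjective (J S) η :=
    inferInstanceAs (Presheaf.IsLocallyInjective (J S) (toSheafify (J S) (Gerb.isoClPsh 𝒳)))
  let π : 𝒳 ⥤ᵇ AlgSt.ofSp F := GerbeCl.toPsh η
  have hπ : Gerb.IsGerbeOver (J S) π := GerbeCl.isGerbeOver_toPsh η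
  exact ⟨⟨F, isAlgSpace_of_gerbe π hX i1 i2 hπ⟩, π, hπ⟩

theorem isAlgGerbe_iff (hX : AlgSt.IsAlgStack Scheme.fppfPrecoverage 𝒳) :
    Gerb.IsAlgGerbe Scheme.fppfPrecoverage 𝒳 ↔
      AlgSt.LocQ (LocP @Flat) (FibCat.inertiaToBase (FibCat.toSelf 𝒳)) ∧
        AlgSt.LocQ (LocP @LocallyOfFinitePresentation) (FibCat.inertiaToBase (FibCat.toSelf 𝒳)) :=
  ⟨fun ⟨X, π, hπ⟩ => locQ_inertia_of_gerbe π hX X.property hπ, fun h => isAlgGerbe_of_inertia hX h.1 h.2⟩

end Groth.Agent.DecSec
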