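import Groth.Agent.ASt.InertiaDiag
import Groth.Agent.ASt.RepDesc
import Groth.Agent.DecSec.GerbeCrit2

/-! Fibres of the diagonal over the diagonal inherit the properties of the inertia. -/

set_option autoImplicit false
set_option backward.isDefEq.respectTransparency false
set_option backward.isDefEq.respectTransparency.types false

universe u

open CategoryTheory CategoryTheory.Limits AlgebraicGeometry Opposite

namespace Groth.Agent.DecSec

open _root_.AlgSp Groth.Agent.ASp Groth.Agent.ASt Groth.Agent.Boot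

variable {S : Scheme.{u}} {𝒳 𝒴 : AlgSt.Cat S} [FibCat.IsFibGrpd 𝒳.p] [FibCat.IsFibGrpd 𝒴.p]

theorem fibHas_of_fibHas_fpFst {𝒵 : AlgSt.Cat S} [FibCat.IsFibGrpd 𝒵.p] {U : Over S} {g : 𝒵 ⥤ᵇ 𝒴} {f : 𝒳 ⥤ᵇ 𝒴}
    {y : FibCat.overCat U ⥤ᵇ 𝒵} {P : MorphismProperty (Sp S)} [P.RespectsIso]
    (h : FibHas P y (FibCat.fpFst g f)) : FibHas P (BasedFunctor.comp y g) f := by
  obtain ⟨hs, hA, hP⟩ := h
  have i1 : FibCat.IsFibGrpd (FibCat.fp g f).p := isFibGrpd_fp
  have i2 : FibCat.IsFibGrpd (FibCat.fp y (FibCat.fpFst g f)).p := isFibGrpd_fp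
  have : IsIso (clFun (bcF g f y)) := by
    have : ∀ T, IsIso ((clFun (bcF g f y)).app T) := fun T =>
      (isIso_iff_bijective _).2 (bijective_clF_bcF g f y T.unop)
    exact NatIso.isIso_of_isIso_app _
  obtain ⟨hs', hA'⟩ := IsAlgSpaceP.of_iso ⟨hs, hA⟩ (asIso (clFun (bcF g f y)))
  have w : fibπ y (FibCat.fpFst g f) = clFun (bcF g f y) ≫ fibπ (BasedFunctor.comp y g) f := by
    ext T c
    obtain ⟨m, hm, rfl⟩ := cl_exists (𝒳 := FibCat.fp y (FibCat.fpFst g f)) (T := T.unop) c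
    rfl
  obtain ⟨i⟩ := arrowIso_of_hom
    (a := (ObjectProperty.homMk (fibπ y (FibCat.fpFst g f)) : (⟨fib y (FibCat.fpFst g f), hs⟩ : Sp S) ⟶ (yon S).obj U))
    (b := (ObjectProperty.homMk (fibπ (BasedFunctor.comp y g) f) : (⟨_, hs'⟩ : Sp S) ⟶ (yon S).obj U))
    (asIso (clFun (bcF g f y))) w
  exact ⟨hs', hA', (P.arrow_mk_iso_iff i).1 hP⟩

/-- The fibres of the diagonal over points of the diagonal have the properties of the inertia. -/
theorem fibHas_diag_of_inertia {P : MorphismProperty (Sp S)} [P.RespectsIso] {f : 𝒳 ⥤ᵇ 𝒴}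
    (h : AlgSt.RepByAlgSpWith P (FibCat.inertiaToBase f)) {U : Over S} (y : FibCat.overCat U ⥤ᵇ 𝒳) :
    FibHas P (BasedFunctor.comp y (FibCat.diag f)) (FibCat.diag f) := by
  haveI : FibCat.IsFibGrpd (FibCat.fp f f).p := isFibGrpd_fp
  haveI : FibCat.IsFibGrpd (FibCat.fp (FibCat.diag f) (FibCat.diag f)).p := isFibGrpd_fp
  haveI := isFibGrpd_inertia f
  obtain ⟨G, hG, ⟨-⟩, ⟨β⟩⟩ := isEquivOver_symm (isEquivOver_inertiaFp f)
  have h0 : AlgSt.RepByAlgSpWith P (BasedFunctor.comp G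
      (BasedFunctor.comp (inertiaFp f) (FibCat.fpFst (FibCat.diag f) (FibCat.diag f)))) := by
    rw [inertiaFp_fst]
    exact repByAlgSpWith_precomp hG h
  have h' : AlgSt.RepByAlgSpWith P (FibCat.fpFst (FibCat.diag f) (FibCat.diag f)) :=
    repByAlgSpWith_congr (wR β (FibCat.fpFst (FibCat.diag f) (FibCat.diag f))) h0
  exact fibHas_of_fibHas_fpFst ((repByAlgSpWith_iff.1 h').2 U y)

theorem repByAlgSpWith_inertia_of_locQ (hX : AlgSt.IsAlgStack Scheme.fppfPrecoverage 𝒳)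
    (h1 : AlgSt.LocQ (LocP @Flat) (FibCat.inertiaToBase (FibCat.toSelf 𝒳)))
    (h2 : AlgSt.LocQ (LocP @LocallyOfFinitePresentation) (FibCat.inertiaToBase (FibCat.toSelf 𝒳))) :
    AlgSt.RepByAlgSpWith (LocP @Flat) (FibCat.inertiaToBase (FibCat.toSelf 𝒳)) ∧
      AlgSt.RepByAlgSpWith (LocP @LocallyOfFinitePresentation) (FibCat.inertiaToBase (FibCat.toSelf 𝒳)) := by
  haveI := isFibGrpd_inertia (FibCat.toSelf 𝒳)
  have hr : AlgSt.RepByAlgSp1 (FibCat.inertiaToBase (FibCat.toSelf 𝒳)) :=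
    repByAlgSp1_of_with (repByAlgSpWith_inertiaToBase _ (repByAlgSp1_iff_top.1 hX.diag))
  exact ⟨repByAlgSpWith_of_locQ isSmoothLocalST_locP
      (fun _ _ _ _ h₁' h₂' _ h₄' _ _ _ _ sq h => locP_of_isPullback sq.flip h₁' h₂' h₄' h)
      isLocalOnBase_fppf_locP hX hr h1,
    repByAlgSpWith_of_locQ isSmoothLocalST_locP
      (fun _ _ _ _ h₁' h₂' _ h₄' _ _ _ _ sq h => locP_of_isPullback sq.flip h₁' h₂' h₄' h)
      isLocalOnBase_fppf_locP hX hr h2⟩

end Groth.Agent.DecSec
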