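import Groth.Agent.DecSec.GerbeEquiv
import Mathlib.CategoryTheory.Sites.Whiskering
import Mathlib.Algebra.Category.Grp.Limits
import Mathlib.Algebra.Category.Grp.Colimits
import Mathlib.CategoryTheory.Sites.Sheaf

/-! The band of a gerbe with commutative automorphism groups. -/

set_option autoImplicit false
set_option backward.isDefEq.respectTransparency false
set_option backward.isDefEq.respectTransparency.types false

universe v u

open CategoryTheory Opposite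

namespace Groth.Agent.DecSec.GerbeEq

open Groth.Agent.ASt Groth.Agent.RepOne

variable {C : Type u} [Category.{v} C] {J : GrothendieckTopology C} {𝒳 : BasedCategory.{v, max u v} C}
  [FibCat.IsFibGrpd 𝒳.p]

/-- Vertical endomorphisms are glued from a natural local family. -/
theorem existsUnique_glueEnd (hX : Stk.IsStack J 𝒳) (y : 𝒳.obj) (R : Sieve (𝒳.p.obj y)) (hR : R ∈ J _)
    (W : ∀ (y₀ : 𝒳.obj) (m : y₀ ⟶ y), R (𝒳.p.map m) → (y₀ ⟶ y₀))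
    (hW : ∀ y₀ m h, 𝒳.p.map (W y₀ m h) = 𝟙 _)
    (hn : ∀ {y₀ y₁ : 𝒳.obj} (φ : y₀ ⟶ y₁) (m₀ : y₀ ⟶ y) (m₁ : y₁ ⟶ y) (h₀ : R (𝒳.p.map m₀))
      (h₁ : R (𝒳.p.map m₁)), φ ≫ m₁ = m₀ → W y₀ m₀ h₀ ≫ φ = φ ≫ W y₁ m₁ h₁) :
    ∃! β : y ⟶ y, 𝒳.p.map β = 𝟙 _ ∧ ∀ y₀ m h, W y₀ m h ≫ m = m ≫ β := by
  have hp : ∀ t : (Stk.sieveCat R).obj, R (𝒳.p.map (pullHom y rfl t.obj.hom)) := fun t => by
    rw [map_pullHom]
    simpa using R.downward_closed t.property (eqToHom (pull_base y rfl t.obj.hom))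
  let A := objFun y (rfl : 𝒳.p.obj y = _)
  let c₀ : SCone ((Stk.resSieve R 𝒳).obj A) :=
    { pt := y
      base := rfl
      ι := fun t => pullHom y rfl t.obj.hom
      map_ι := fun t => by rw [map_pullHom]
      nat := fun m => (objMap_comp _ _ _).trans rfl }
  let c₁ : SCone ((Stk.resSieve R 𝒳).obj A) :=
    { pt := y
      base := rfl
      ι := fun t => W _ (pullHom y rfl t.obj.hom) (hp t) ≫ pullHom y rfl t.obj.hom
      map_ι := fun t => by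
        rw [Functor.map_comp, hW, map_pullHom]
        exact Category.id_comp _
      nat := fun {t t'} m => by
        rw [← Category.assoc, ← hn (((Stk.resSieve R 𝒳).obj A).map m) (pullHom y rfl t.obj.hom)
          (pullHom y rfl t'.obj.hom) (hp t) (hp t') (c₀.nat m), Category.assoc]
        exact congrArg (W _ _ _ ≫ ·) (c₀.nat m) }
  obtain ⟨β, ⟨hβ, hι⟩, hu⟩ := (isStack_iff.1 hX R hR).1 _ c₀ c₁
  refine ⟨β, ⟨hβ, fun y₀ m h => ?_⟩, fun β' ⟨h1, h2⟩ => hu β' ⟨h1, fun t => (h2 _ _ (hp t)).symm⟩⟩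
  let t : (Stk.sieveCat R).obj := ⟨Over.mk (𝒳.p.map m), h⟩
  let i := facMap (pullHom y rfl t.obj.hom) m (eqToHom (pull_base y rfl (𝒳.p.map m)).symm) (by
    rw [map_pullHom]; simp [t])
  have hi : i ≫ pullHom y rfl t.obj.hom = m := facMap_comp _ _ _ _
  have h3 : pullHom y rfl t.obj.hom ≫ β = W _ (pullHom y rfl t.obj.hom) (hp t) ≫ pullHom y rfl t.obj.hom := hι t
  conv_rhs => rw [← hi]
  rw [Category.assoc, h3, ← Category.assoc, ← hn i m (pullHom y rfl t.obj.hom) h (hp t) hi, Category.assoc, hi]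

/-- Vertical endomorphisms agreeing locally agree. -/
theorem end_ext (hX : Stk.IsStack J 𝒳) {y : 𝒳.obj} (R : Sieve (𝒳.p.obj y)) (hR : R ∈ J _) {β β' : y ⟶ y}
    (hβ : 𝒳.p.map β = 𝟙 _) (hβ' : 𝒳.p.map β' = 𝟙 _)
    (h : ∀ (y₀ : 𝒳.obj) (m : y₀ ⟶ y), R (𝒳.p.map m) → m ≫ β = m ≫ β') : β = β' := by
  let W := fun (y₀ : 𝒳.obj) (m : y₀ ⟶ y) (_ : R (𝒳.p.map m)) =>
    facMap m (m ≫ β) (𝟙 _) (by rw [Functor.map_comp, hβ, Category.comp_id, Category.id_comp])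
  obtain ⟨γ, -, hu⟩ := existsUnique_glueEnd hX y R hR W (fun _ _ _ => map_facMap _ _ _ _)
    fun {y₀ y₁} φ m₀ m₁ h₀ h₁ e => ASt.hom_ext m₁
      (by rw [Functor.map_comp, Functor.map_comp, map_facMap, map_facMap, Category.id_comp, Category.comp_id])
      (by rw [Category.assoc, Category.assoc, e, facMap_comp, facMap_comp, ← Category.assoc, e])
  have hw : ∀ y₀ m (hm : R (𝒳.p.map m)), W y₀ m hm ≫ m = m ≫ β := fun y₀ m hm => facMap_comp _ _ _ _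
  exact (hu β ⟨hβ, hw⟩).trans (hu β' ⟨hβ', fun y₀ m hm => (hw y₀ m hm).trans (h y₀ m hm)⟩).symm

/-- Natural families of automorphisms over an object of the base. -/
def bandSub (𝒳 : BasedCategory.{v, max u v} C) (U : C) :
    Subgroup (∀ y : 𝒳.obj, (𝒳.p.obj y ⟶ U) → Gerb.AutO y) where
  carrier := {σ | ∀ ⦃y' y : 𝒳.obj⦄ (φ : y' ⟶ y) (g : 𝒳.p.obj y ⟶ U),
    (σ y' (𝒳.p.map φ ≫ g)).hom.1 ≫ φ = φ ≫ (σ y g).hom.1}
  one_mem' := fun y' y φ g => (Category.id_comp φ).trans (Category.comp_id φ).symm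
  mul_mem' := fun {σ τ} hσ hτ y' y φ g => by
    change ((τ y' _).hom.1 ≫ (σ y' _).hom.1) ≫ φ = φ ≫ (τ y g).hom.1 ≫ (σ y g).hom.1
    rw [Category.assoc, hσ φ g, ← Category.assoc, hτ φ g, Category.assoc]
  inv_mem' := fun {σ} hσ y' y φ g => by
    have h1 : (σ y g).hom.1 ≫ (σ y g).inv.1 = 𝟙 y := congrArg (fun k : Gerb.fib y ⟶ Gerb.fib y => k.1) (σ y g).hom_inv_id
    have h2 : (σ y' (𝒳.p.map φ ≫ g)).inv.1 ≫ (σ y' (𝒳.p.map φ ≫ g)).hom.1 = 𝟙 y' :=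
      congrArg (fun k : Gerb.fib y' ⟶ Gerb.fib y' => k.1) (σ y' (𝒳.p.map φ ≫ g)).inv_hom_id
    change (σ y' _).inv.1 ≫ φ = φ ≫ (σ y g).inv.1
    calc (σ y' (𝒳.p.map φ ≫ g)).inv.1 ≫ φ
        = (σ y' (𝒳.p.map φ ≫ g)).inv.1 ≫ (φ ≫ (σ y g).hom.1) ≫ (σ y g).inv.1 := by
          rw [Category.assoc, h1, Category.comp_id]
      _ = φ ≫ (σ y g).inv.1 := by
          rw [← hσ φ g, ← Category.assoc, ← Category.assoc, h2, Category.id_comp]

/-- Restriction of natural families. -/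
def bandRes {U V : C} (k : V ⟶ U) : bandSub 𝒳 U →* bandSub 𝒳 V where
  toFun σ := ⟨fun y g => σ.1 y (g ≫ k), fun y' y φ g => by
    simp only [Category.assoc]
    exact σ.2 φ (g ≫ k)⟩
  map_one' := rfl
  map_mul' _ _ := rfl

variable (𝒳) in
/-- The band. -/
def band : Cᵒᵖ ⥤ GrpCat.{max u v} where
  obj U := GrpCat.of (bandSub 𝒳 U.unop)
  map k := GrpCat.ofHom (bandRes k.unop)
  map_id U := by
    refine GrpCat.hom_ext (MonoidHom.ext fun σ => ?_)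
    refine Subtype.ext (funext fun y => funext fun g => ?_)
    change σ.1 y (g ≫ 𝟙 _) = σ.1 y g
    rw [Category.comp_id]
  map_comp k l := by
    refine GrpCat.hom_ext (MonoidHom.ext fun σ => ?_)
    refine Subtype.ext (funext fun y => funext fun g => ?_)
    change σ.1 y (g ≫ l.unop ≫ k.unop) = σ.1 y ((g ≫ l.unop) ≫ k.unop)
    rw [Category.assoc]

theorem band_ext_of_cover (hX : Stk.IsStack J 𝒳) {U : C} (R : Sieve U) (hR : R ∈ J U) (σ τ : bandSub 𝒳 U)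
    (h : ∀ ⦃V : C⦄ (f : V ⟶ U), R f → bandRes f σ = bandRes f τ) : σ = τ := by
  refine Subtype.ext (funext fun y => funext fun g => autO_ext ?_)
  refine end_ext hX (R.pullback g) (J.pullback_stable g hR) (map_autO _) (map_autO _) fun y₀ m hm => ?_
  rw [← σ.2 m g, ← τ.2 m g]
  have e := congrArg (fun ρ : bandSub 𝒳 (𝒳.p.obj y₀) => (ρ.1 y₀ (𝟙 _)).hom.1) (h _ hm)
  simp only [bandRes, MonoidHom.coe_mk, OneHom.coe_mk] at e
  rw [Category.id_comp] at e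
  rw [e]

theorem isSheaf_band (hX : Stk.IsStack J 𝒳) : Presheaf.IsSheaf J (band 𝒳) := by
  rw [Presheaf.isSheaf_iff_isSheaf_forget J (band 𝒳) (forget GrpCat.{max u v}), isSheaf_iff_isSheaf_of_type]
  intro U R hR fam hfam
  have hcomp : ∀ {V W : C} (f : V ⟶ U) (hf : R f) (k : W ⟶ V),
      bandRes k (fam f hf : bandSub 𝒳 V) = fam (k ≫ f) (R.downward_closed hf k) := fun f hf k => by
    have := hfam k (𝟙 _) hf (R.downward_closed hf k) (by simp)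
    exact this.trans (by simp)
  have fc : ∀ {V : C} {f f' : V ⟶ U} (_ : f = f') (hf : R f) (hf' : R f'),
      (fam f hf : bandSub 𝒳 V) = fam f' hf' := by
    intro V f f' e hf hf'
    subst e
    rfl
  have key : ∀ (y : 𝒳.obj) (g : 𝒳.p.obj y ⟶ U), ∃ β : y ⟶ y, 𝒳.p.map β = 𝟙 _ ∧
      ∀ (y₀ : 𝒳.obj) (m : y₀ ⟶ y) (hm : R (𝒳.p.map m ≫ g)),
        ((fam _ hm : bandSub 𝒳 (𝒳.p.obj y₀)).1 y₀ (𝟙 _)).hom.1 ≫ m = m ≫ β := fun y g => by
    refine (existsUnique_glueEnd hX y (R.pullback g) (J.pullback_stable g hR)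
      (fun y₀ m hm => ((fam _ hm : bandSub 𝒳 (𝒳.p.obj y₀)).1 y₀ (𝟙 _)).hom.1) (fun _ _ _ => map_autO _)
      fun {y₀ y₁} φ m₀ m₁ h₀ h₁ e => ?_).exists
    subst e
    have e1 := congrArg (fun ρ : bandSub 𝒳 (𝒳.p.obj y₀) => (ρ.1 y₀ (𝟙 _)).hom.1) (hcomp (𝒳.p.map m₁ ≫ g) h₁ (𝒳.p.map φ))
    simp only [bandRes, MonoidHom.coe_mk, OneHom.coe_mk] at e1
    rw [← (fam _ h₁ : bandSub 𝒳 (𝒳.p.obj y₁)).2 φ (𝟙 _), Category.comp_id]
    rw [Category.id_comp] at e1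
    rw [e1, fc (show 𝒳.p.map (φ ≫ m₁) ≫ g = 𝒳.p.map φ ≫ 𝒳.p.map m₁ ≫ g by simp) h₀]
  choose β hβ hβW using key
  let σ : bandSub 𝒳 U := ⟨fun y g => autOfVert (β y g) (hβ y g), fun y' y φ g => by
    change β y' _ ≫ φ = φ ≫ β y g
    let β'' := facMap φ (φ ≫ β y g) (𝟙 _) (by rw [Functor.map_comp, hβ, Category.comp_id, Category.id_comp])
    have h'' : β'' ≫ φ = φ ≫ β y g := facMap_comp _ _ _ _
    rw [← h'']
    congr 1
    refine end_ext hX (R.pullback (𝒳.p.map φ ≫ g)) (J.pullback_stable _ hR) (hβ _ _) (map_facMap _ _ _ _) fun y₀ m hm => ?_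
    refine ASt.hom_ext φ (by rw [Functor.map_comp, Functor.map_comp, hβ, map_facMap]) ?_
    have hm' : R (𝒳.p.map (m ≫ φ) ≫ g) := by
      rw [Functor.map_comp, Category.assoc]; exact hm
    rw [← hβW y' _ y₀ m hm, Category.assoc (m) β'', h'', ← Category.assoc m, ← hβW y g y₀ (m ≫ φ) hm', Category.assoc]
    rw [fc (show 𝒳.p.map (m ≫ φ) ≫ g = 𝒳.p.map m ≫ 𝒳.p.map φ ≫ g by simp) hm' hm]⟩
  refine ⟨σ, fun V f hf => ?_, fun τ hτ => ?_⟩
  · refine Subtype.ext (funext fun y => funext fun g => autO_ext ?_)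
    change β y (g ≫ f) = _
    refine end_ext hX (R.pullback (g ≫ f)) (J.pullback_stable _ hR) (hβ _ _) (map_autO _) fun y₀ m hm => ?_
    rw [← hβW y (g ≫ f) y₀ m hm, ← (fam f hf : bandSub 𝒳 V).2 m g]
    have e1 := congrArg (fun ρ : bandSub 𝒳 (𝒳.p.obj y₀) => (ρ.1 y₀ (𝟙 _)).hom.1) (hcomp f hf (𝒳.p.map m ≫ g))
    simp only [bandRes, MonoidHom.coe_mk, OneHom.coe_mk] at e1
    rw [Category.id_comp] at e1
    rw [e1]
    rw [fc (show (𝒳.p.map m ≫ g) ≫ f = 𝒳.p.map m ≫ g ≫ f from Category.assoc _ _ _) _ hm]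
  · refine band_ext_of_cover hX R hR τ σ fun V f hf => (hτ f hf).trans ?_
    refine Subtype.ext (funext fun y => funext fun g => autO_ext ?_)
    change _ = β y (g ≫ f)
    refine end_ext hX (R.pullback (g ≫ f)) (J.pullback_stable _ hR) (map_autO _) (hβ _ _) fun y₀ m hm => ?_
    rw [← hβW y (g ≫ f) y₀ m hm, ← (fam f hf : bandSub 𝒳 V).2 m g]
    have e1 := congrArg (fun ρ : bandSub 𝒳 (𝒳.p.obj y₀) => (ρ.1 y₀ (𝟙 _)).hom.1) (hcomp f hf (𝒳.p.map m ≫ g))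
    simp only [bandRes, MonoidHom.coe_mk, OneHom.coe_mk] at e1
    rw [Category.id_comp] at e1
    rw [e1]
    rw [fc (show (𝒳.p.map m ≫ g) ≫ f = 𝒳.p.map m ≫ g ≫ f from Category.assoc _ _ _) _ hm]

theorem band_comm (hcomm : ∀ (x : 𝒳.obj) (α β : Gerb.AutO x), α * β = β * α) (U : C) (σ τ : bandSub 𝒳 U) :
    σ * τ = τ * σ :=
  Subtype.ext (funext fun y => funext fun g => hcomm y _ _)

/-- A natural family is determined by, and is extended from, its value at one object. -/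
theorem bijective_eval (hX : Gerb.IsGerbe J 𝒳) (hcomm : ∀ (x : 𝒳.obj) (α β : Gerb.AutO x), α * β = β * α)
    (x : 𝒳.obj) : Function.Bijective fun σ : bandSub 𝒳 (𝒳.p.obj x) => σ.1 x (𝟙 _) := by
  let Tr : ∀ (_ : Gerb.AutO x) {y₀ : 𝒳.obj} (_ : y₀ ⟶ x), y₀ ⟶ y₀ := fun α y₀ c =>
    facMap c (c ≫ α.hom.1) (𝟙 _) (by rw [Functor.map_comp, map_autO, Category.comp_id, Category.id_comp])
  have hT₁ : ∀ α {y₀} (c : y₀ ⟶ x), 𝒳.p.map (Tr α c) = 𝟙 _ := fun α {y₀} c => map_facMap _ _ _ _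
  have hT₂ : ∀ α {y₀} (c : y₀ ⟶ x), Tr α c ≫ c = c ≫ α.hom.1 := fun α {y₀} c => facMap_comp _ _ _ _
  have hwd : ∀ α {y₀} (c c' : y₀ ⟶ x), 𝒳.p.map c = 𝒳.p.map c' → Tr α c = Tr α c' := fun α {y₀} c c' e => by
    let γ := facMap c c' (𝟙 _) (by rw [Category.id_comp]; exact e)
    have hγ : γ ≫ c = c' := facMap_comp _ _ _ _
    have h1 : γ ≫ Tr α c = Tr α c ≫ γ := congrArg (fun a : Gerb.AutO y₀ => a.hom.1)
      (hcomm y₀ (autOfVert (Tr α c) (hT₁ α c)) (autOfVert γ (map_facMap _ _ _ _)))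
    refine ASt.hom_ext c' (by rw [hT₁, hT₁]) ?_
    rw [hT₂ α c', ← hγ, Category.assoc, ← hT₂ α c, ← Category.assoc, ← Category.assoc, h1]
  have hcover : ∀ (y : 𝒳.obj) (g : 𝒳.p.obj y ⟶ 𝒳.p.obj x), ∃ R ∈ J (𝒳.p.obj y),
      ∀ (y₀ : 𝒳.obj) (m : y₀ ⟶ y), R (𝒳.p.map m) → ∃ c : y₀ ⟶ x, 𝒳.p.map c = 𝒳.p.map m ≫ g := fun y g => by
    obtain ⟨R, hR, h⟩ := hX.2.2 y (pull x rfl g) (eqToHom (pull_base x rfl g).symm)
      (isHomLift_id_of_map (𝒳 := FibCat.selfOver C) _ rfl (e := (pull_base x rfl g).symm) rfl)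
    refine ⟨R, hR, fun y₀ m hm => ?_⟩
    obtain ⟨x₀, p₁, p₂, hp₁, hp₂, -⟩ := h _ hm
    obtain ⟨e₁, hp₁'⟩ := map_over hp₁
    have hp₂' := IsHomLift.fac' 𝒳.p (𝒳.p.map m) p₂
    let i := facMap p₁ m (eqToHom e₁.symm) (by rw [hp₁']; simp)
    exact ⟨i ≫ p₂ ≫ pullHom x rfl g, by
      rw [Functor.map_comp, Functor.map_comp, map_facMap, hp₂', map_pullHom]; simp⟩
  have huniq : ∀ (y : 𝒳.obj) (g : 𝒳.p.obj y ⟶ 𝒳.p.obj x) (α : Gerb.AutO x) (b b' : y ⟶ y),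
      𝒳.p.map b = 𝟙 _ → 𝒳.p.map b' = 𝟙 _ →
      (∀ (y₀ : 𝒳.obj) (m : y₀ ⟶ y) (c : y₀ ⟶ x), 𝒳.p.map c = 𝒳.p.map m ≫ g → Tr α c ≫ m = m ≫ b) →
      (∀ (y₀ : 𝒳.obj) (m : y₀ ⟶ y) (c : y₀ ⟶ x), 𝒳.p.map c = 𝒳.p.map m ≫ g → Tr α c ≫ m = m ≫ b') → b = b' := by
    intro y g α b b' hb hb' h h'
    obtain ⟨R, hR, hc⟩ := hcover y g
    refine end_ext hX.1 R hR hb hb' fun y₀ m hm => ?_
    obtain ⟨c, hcg⟩ := hc y₀ m hm
    exact (h y₀ m c hcg).symm.trans (h' y₀ m c hcg)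
  have hσ : ∀ (σ : bandSub 𝒳 (𝒳.p.obj x)) (y : 𝒳.obj) (g : 𝒳.p.obj y ⟶ 𝒳.p.obj x) (y₀ : 𝒳.obj) (m : y₀ ⟶ y)
      (c : y₀ ⟶ x), 𝒳.p.map c = 𝒳.p.map m ≫ g → Tr (σ.1 x (𝟙 _)) c ≫ m = m ≫ (σ.1 y g).hom.1 := by
    intro σ y g y₀ m c e
    have h1 := σ.2 c (𝟙 _)
    rw [Category.comp_id] at h1
    have h2 : Tr (σ.1 x (𝟙 _)) c = (σ.1 y₀ (𝒳.p.map c)).hom.1 :=
      ASt.hom_ext c (by rw [hT₁, map_autO]) (by rw [hT₂, h1])
    rw [h2, e, σ.2 m g]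
  constructor
  · intro σ τ e
    refine Subtype.ext (funext fun y => funext fun g => autO_ext ?_)
    refine huniq y g (σ.1 x (𝟙 _)) _ _ (map_autO _) (map_autO _) (hσ σ y g) ?_
    rw [show σ.1 x (𝟙 _) = τ.1 x (𝟙 _) from e]
    exact hσ τ y g
  · intro α
    have key : ∀ (y : 𝒳.obj) (g : 𝒳.p.obj y ⟶ 𝒳.p.obj x), ∃ b : y ⟶ y, 𝒳.p.map b = 𝟙 _ ∧
        ∀ (y₀ : 𝒳.obj) (m : y₀ ⟶ y) (c : y₀ ⟶ x), 𝒳.p.map c = 𝒳.p.map m ≫ g → Tr α c ≫ m = m ≫ b := by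
      intro y g
      let R : Sieve (𝒳.p.obj y) :=
        { arrows := fun V t => ∃ c : pull y rfl t ⟶ x, 𝒳.p.map c = eqToHom (pull_base y rfl t) ≫ t ≫ g
          downward_closed := fun {V W t} ⟨c, hc⟩ k => ⟨facMap (pullHom y rfl t) (pullHom y rfl (k ≫ t))
            (eqToHom (pull_base y rfl (k ≫ t)) ≫ k ≫ eqToHom (pull_base y rfl t).symm)
            (by rw [map_pullHom, map_pullHom]; simp) ≫ c, by rw [Functor.map_comp, map_facMap, hc]; simp⟩ }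
      have hmem : ∀ (y₀ : 𝒳.obj) (m : y₀ ⟶ y), R (𝒳.p.map m) → ∃ c : y₀ ⟶ x, 𝒳.p.map c = 𝒳.p.map m ≫ g := by
        rintro y₀ m ⟨c, hc⟩
        exact ⟨facMap (pullHom y rfl (𝒳.p.map m)) m (eqToHom (pull_base y rfl (𝒳.p.map m)).symm)
          (by rw [map_pullHom]; simp) ≫ c, by rw [Functor.map_comp, map_facMap, hc]; simp⟩
      have hR : R ∈ J _ := by
        obtain ⟨R₁, hR₁, h₁⟩ := hcover y g
        refine J.superset_covering (fun V t ht => ?_) hR₁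
        obtain ⟨c, hc⟩ := h₁ _ (pullHom y rfl t) (by
          rw [map_pullHom]; simpa using R₁.downward_closed ht (eqToHom (pull_base y rfl t)))
        exact ⟨c, by rw [hc, map_pullHom]; simp⟩
      choose c hc using hmem
      obtain ⟨b, ⟨hb, hbW⟩, -⟩ := existsUnique_glueEnd hX.1 y R hR (fun y₀ m hm => Tr α (c y₀ m hm))
        (fun _ _ _ => hT₁ α _) fun {y₀ y₁} φ m₀ m₁ h₀ h₁ e => by
        have h2 : Tr α (c y₀ m₀ h₀) = Tr α (φ ≫ c y₁ m₁ h₁) := hwd α _ _ (by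
          rw [Functor.map_comp, hc, hc, ← e, Functor.map_comp, Category.assoc])
        rw [h2]
        refine ASt.hom_ext (c y₁ m₁ h₁) (by rw [Functor.map_comp, Functor.map_comp, hT₁, hT₁]; simp) ?_
        rw [Category.assoc, Category.assoc, hT₂, hT₂, Category.assoc]
      refine ⟨b, hb, fun y₀ m c' hc' => ?_⟩
      let q := facMap (pullHom y rfl (𝒳.p.map m)) m (eqToHom (pull_base y rfl (𝒳.p.map m)).symm)
        (by rw [map_pullHom]; simp)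
      haveI : IsIso q := isIso_of_vert q (map_facMap _ _ _ _)
      have hm : R (𝒳.p.map m) := ⟨inv q ≫ c', by
        simp [show 𝒳.p.map q = _ from map_facMap _ _ _ _, hc']⟩
      rw [← hbW y₀ m hm, hwd α c' (c y₀ m hm) (by rw [hc', hc])]
    choose b hb hbT using key
    refine ⟨⟨fun y g => autOfVert (b y g) (hb y g), fun y' y φ g => ?_⟩, autO_ext ?_⟩
    · change b y' _ ≫ φ = φ ≫ b y g
      let b'' := facMap φ (φ ≫ b y g) (𝟙 _) (by rw [Functor.map_comp, hb, Category.comp_id, Category.id_comp])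
      have h'' : b'' ≫ φ = φ ≫ b y g := facMap_comp _ _ _ _
      rw [← h'']
      congr 1
      refine huniq y' _ α _ _ (hb _ _) (map_facMap _ _ _ _) (hbT y' _) fun y₀ m c e => ?_
      refine ASt.hom_ext φ (by rw [Functor.map_comp, Functor.map_comp, hT₁, map_facMap]; simp) ?_
      rw [Category.assoc, Category.assoc, h'', hbT y g y₀ (m ≫ φ) c (by rw [e, Functor.map_comp, Category.assoc]),
        Category.assoc]
    · change b x (𝟙 _) = α.hom.1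
      refine huniq x (𝟙 _) α _ _ (hb _ _) (map_autO _) (hbT x _) fun y₀ m c e => ?_
      rw [hwd α c m (by rw [e, Category.comp_id]), hT₂]

/-- The banding of a gerbe with commutative automorphism groups by its band. -/
noncomputable def banding (hX : Gerb.IsGerbe J 𝒳) (hcomm : ∀ (x : 𝒳.obj) (α β : Gerb.AutO x), α * β = β * α) :
    Gerb.Banding 𝒳 (band 𝒳) where
  iso x := MulEquiv.ofBijective
    (show bandSub 𝒳 (𝒳.p.obj x) →* Gerb.AutO x from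
      { toFun := fun σ => σ.1 x (𝟙 _)
        map_one' := rfl
        map_mul' := fun _ _ => rfl }) (bijective_eval hX hcomm x)
  natural {x' x} φ a := by
    change ((a : bandSub 𝒳 (𝒳.p.obj x)).1 x' (𝟙 _ ≫ 𝒳.p.map φ)).hom.1 ≫ φ = φ ≫ _
    have h := (a : bandSub 𝒳 (𝒳.p.obj x)).2 φ (𝟙 _)
    rw [Category.comp_id] at h
    rw [Category.id_comp]
    exact h

end Groth.Agent.DecSec.GerbeEq
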