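import Groth.Prelude.Def_AlgSpEt
import Groth.Prelude.Def_AlgSpCov
import Groth.Agent.ASp.LargestOpen
import Groth.Agent.ASp.EtSmLocalST
import Mathlib.CategoryTheory.Sites.Over
import Mathlib.CategoryTheory.Sites.CoverPreserving
import Mathlib.CategoryTheory.Sites.CoverLifting

/-! The small etale site of an algebraic space maps continuously and cocontinuously to a big etale site. -/

set_option autoImplicit false
set_option backward.isDefEq.respectTransparency false
set_option backward.isDefEq.respectTransparency.types false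

universe u

open CategoryTheory CategoryTheory.Limits AlgebraicGeometry Opposite

namespace Groth.Agent.DecSec

open _root_.AlgSp Groth.Agent.ASp

variable {S : Scheme.{u}}

/-- A sieve on a space which contains, over every scheme mapped to it, an etale covering by schemes. -/
def EtLifts {T : Space S} (R : Sieve T) : Prop :=
  ∀ (V : Over S) (g : (ofScheme S).obj V ⟶ T), ∃ (ι : Type (u + 1)) (W : ι → Over S) (p : ∀ i, W i ⟶ V),
    (∀ i, Etale (p i).left) ∧ (∀ v : ↥V.left, ∃ i, v ∈ Set.range (p i).left) ∧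
      ∀ i, R ((ofScheme S).map (p i) ≫ g)

theorem etLifts_of_mem {T : Space S} {R : Sieve T} (hR : R ∈ spacesTop S IsEtaleMor T) : EtLifts R := by
  induction hR with
  | of T R hR =>
    intro V g
    let V₁ := (ofScheme S).obj V
    have hsel : ∀ v : ↥V.left, ∃ (W : Over S) (p : W ⟶ V), Etale p.left ∧ v ∈ Set.range p.left ∧
        Sieve.generate R ((ofScheme S).map p ≫ g) := by
      intro v
      obtain ⟨Y, y, hy, z, hz⟩ := hR.2 (Points.map g.hom (Points.schemeHomeo V v))
      have hye := hR.1 y hy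
      have sq : IsPullback (pullback.fst y.hom g.hom) (pullback.snd y.hom g.hom) y.hom g.hom :=
        IsPullback.of_hasPullback _ _
      have hP : IsAlgSpace (pullback y.hom g.hom) :=
        isAlgSpace_of_isPullback T.property.diag Y.property V₁.property sq
      obtain ⟨q, hq1, hq2⟩ := points_exists_of_isPullback sq z (Points.schemeHomeo V v) hz
      obtain ⟨W, w, hwe, hws⟩ := hP.atlas
      obtain ⟨p, hp⟩ := (yon S).map_surjective (w ≫ pullback.snd y.hom g.hom)
      refine ⟨W, p, ?_, ?_, ⟨Y, ObjectProperty.homMk (w ≫ pullback.fst y.hom g.hom), y, hy,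
        ObjectProperty.hom_ext _ ?_⟩⟩
      · have hs : IsEtaleMor (pullback.snd y.hom g.hom) := (isEtaleMor_iff_locP V₁.property).2
          (locP_of_isPullback sq.flip Y.property T.property V₁.property ((isEtaleMor_iff_locP T.property).1 hye))
        have := hs w hwe
        rw [← hp] at this
        exact (repWith_yon_map_iff _ p).1 this
      · obtain ⟨x, hx⟩ := surjective_ofPt hws q
        refine ⟨x, (Points.schemeHomeo V).injective ?_⟩
        rw [← Points.map_yon_map_apply, hp, Points.map_comp]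
        rw [← hq2, ← hx, Points.ofPt_eq_map_ofScheme]
        rfl
      · change (w ≫ pullback.fst y.hom g.hom) ≫ y.hom = (yon S).map p ≫ g.hom
        rw [hp, Category.assoc, Category.assoc, sq.w]
    choose W p hpe hpr hpR using hsel
    exact ⟨ULift.{u + 1} ↥V.left, fun i => W i.down, fun i => p i.down, fun i => hpe i.down,
      fun v => ⟨⟨v⟩, hpr v⟩, fun i => hpR i.down⟩
  | top T =>
    intro V g
    exact ⟨PUnit, fun _ => V, fun _ => 𝟙 V, fun _ => by rw [Over.id_left]; infer_instance,
      fun v => ⟨PUnit.unit, v, rfl⟩, fun _ => trivial⟩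
  | pullback T R _ T' h ih =>
    intro V g
    obtain ⟨ι, W, p, hpe, hps, hpR⟩ := ih V (g ≫ h)
    exact ⟨ι, W, p, hpe, hps, fun i => by
      have := hpR i
      rwa [← Category.assoc] at this⟩
  | transitive T R R' _ _ h1 h2 =>
    intro V g
    obtain ⟨ι, W, p, hpe, hps, hpR⟩ := h1 V g
    choose κ W' q hqe hqs hqR using fun i => h2 (hpR i) (W i) (𝟙 _)
    refine ⟨Σ i, κ i, fun j => W' j.1 j.2, fun j => q j.1 j.2 ≫ p j.1, fun j => ?_, fun v => ?_, fun j => ?_⟩
    · haveI := hqe j.1 j.2
      haveI := hpe j.1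
      rw [Over.comp_left]; infer_instance
    · obtain ⟨i, w, hw⟩ := hps v
      obtain ⟨j, x, hx⟩ := hqs i w
      exact ⟨⟨i, j⟩, x, by simp [hx, hw]⟩
    · have := hqR j.1 j.2
      simpa [Sieve.pullback_apply] using this

variable {X Y : Space S} (f : Y ⟶ X)

/-- The comparison functor from the small to the big etale site. -/
noncomputable abbrev bigFunctor : EtOver Y.obj ⥤ Over X :=
  EtOver.toEtSpOver Y ⋙ ObjectProperty.ι (fun E : Over Y => IsEtaleMor E.hom.hom) ⋙ Over.map f

theorem isCocontinuous_bigFunctor :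
    (bigFunctor f).IsCocontinuous (etTop Y.obj) (spacesTopOver IsEtaleMor X) := by
  constructor
  intro E R hR
  rw [GrothendieckTopology.mem_over_iff] at hR
  obtain ⟨ι, W, p, hpe, hps, hpR⟩ := etLifts_of_mem hR E.obj.left (𝟙 _)
  let E' : ι → EtOver Y.obj := fun i => EtOver.mk ((yon S).map (p i) ≫ E.obj.hom)
    (repWith_comp (repWith_yon_map (hpe i)) E.property)
  let g : ∀ i, E' i ⟶ E := fun i => EtOver.homMk (p i) rfl
  refine (etTop Y.obj).superset_covering ?_ (ofArrows_mem_etTop E' g hps)
  rw [Sieve.ofArrows, Sieve.generate_le_iff]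
  rintro _ _ ⟨i⟩
  have h := hpR i
  rw [Sieve.overEquiv_iff] at h
  change R ((bigFunctor f).map (g i))
  have hl : ((ofScheme S).map (p i) ≫ 𝟙 _) ≫ ((bigFunctor f).obj E).hom = ((bigFunctor f).obj (E' i)).hom := by
    apply ObjectProperty.hom_ext
    change ((yon S).map (p i) ≫ 𝟙 _) ≫ E.obj.hom ≫ f.hom = ((yon S).map (p i) ≫ E.obj.hom) ≫ f.hom
    simp
  have := R.downward_closed h (Over.homMk (𝟙 _) (by rw [Category.id_comp]; exact hl.symm) :
    (bigFunctor f).obj (E' i) ⟶ Over.mk (((ofScheme S).map (p i) ≫ 𝟙 _) ≫ ((bigFunctor f).obj E).hom))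
  convert this using 1
  apply Over.OverMorphism.ext
  simp [g]
  rfl

theorem compatiblePreserving_bigFunctor :
    CompatiblePreserving.{u + 2} (spacesTopOver IsEtaleMor X) (bigFunctor f) := by
  constructor
  intro ℱ Z T x hx E₁ E₂ W f₁ f₂ g₁ g₂ hg₁ hg₂ hw
  let U₁ := E₁.obj.left
  let U₂ := E₂.obj.left
  let P := pullback g₁.hom.left g₂.hom.left
  haveI := EtOver.etale_left g₁
  haveI := EtOver.etale_left g₂
  have he : Etale (pullback.fst g₁.hom.left g₂.hom.left).left := by
    have sq := (IsPullback.of_hasPullback g₁.hom.left g₂.hom.left).map (Over.forget S)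
    exact MorphismProperty.of_isPullback (P := @Etale) sq.flip (EtOver.etale_left g₂)
  let EP : EtOver Y.obj := EtOver.mk ((yon S).map (pullback.fst g₁.hom.left g₂.hom.left) ≫ E₁.obj.hom)
    (repWith_comp (repWith_yon_map he) E₁.property)
  let π₁ : EP ⟶ E₁ := EtOver.homMk (pullback.fst _ _) rfl
  let π₂ : EP ⟶ E₂ := EtOver.homMk (pullback.snd _ _) (by
    change (yon S).map _ ≫ E₂.obj.hom = (yon S).map _ ≫ E₁.obj.hom
    rw [← EtOver.w g₁, ← EtOver.w g₂, ← Functor.map_comp_assoc, ← Functor.map_comp_assoc, pullback.condition])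
  have hπ : π₁ ≫ g₁ = π₂ ≫ g₂ := EtOver.hom_ext _ _ (by
    change pullback.fst _ _ ≫ g₁.hom.left = pullback.snd _ _ ≫ g₂.hom.left
    exact pullback.condition)
  have sqy := (IsPullback.of_hasPullback g₁.hom.left g₂.hom.left).map (yon S)
  let l₁ : W.left.obj ⟶ (yon S).obj U₁ := f₁.left.hom
  let l₂ : W.left.obj ⟶ (yon S).obj U₂ := f₂.left.hom
  have hl : l₁ ≫ (yon S).map g₁.hom.left = l₂ ≫ (yon S).map g₂.hom.left :=
    congrArg InducedCategory.Hom.hom (congrArg CommaMorphism.left hw)
  let l : W ⟶ (bigFunctor f).obj EP := Over.homMk (ObjectProperty.homMk (sqy.lift l₁ l₂ hl)) (by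
    apply ObjectProperty.hom_ext
    change sqy.lift l₁ l₂ hl ≫ ((yon S).map _ ≫ E₁.obj.hom) ≫ f.hom = W.hom.hom
    rw [← Category.assoc, ← Category.assoc, sqy.lift_fst, Category.assoc]
    exact congrArg (fun k => InducedCategory.Hom.hom k) (Over.w f₁))
  have e₁ : l ≫ (bigFunctor f).map π₁ = f₁ := by
    apply Over.OverMorphism.ext
    apply ObjectProperty.hom_ext
    exact sqy.lift_fst l₁ l₂ hl
  have e₂ : l ≫ (bigFunctor f).map π₂ = f₂ := by
    apply Over.OverMorphism.ext
    apply ObjectProperty.hom_ext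
    exact sqy.lift_snd l₁ l₂ hl
  rw [← e₁, ← e₂, op_comp, op_comp, ℱ.obj.map_comp, ℱ.obj.map_comp]
  exact congrArg (ℱ.obj.map l.op) (hx π₁ π₂ hg₁ hg₂ hπ)

theorem generate_image_mem {E : EtOver Y.obj} {R : Presieve E} (hR : R ∈ etPre Y.obj E) :
    (Sieve.generate R).functorPushforward (bigFunctor f) ∈ spacesTopOver IsEtaleMor X ((bigFunctor f).obj E) := by
  rw [GrothendieckTopology.mem_over_iff]
  let R' : Presieve ((bigFunctor f).obj E).left := fun Z k =>
    ∃ (E' : EtOver Y.obj) (g : E' ⟶ E) (e : Z = ((bigFunctor f).obj E').left),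
      R g ∧ k = eqToHom e ≫ ((bigFunctor f).map g).left
  have hR' : R' ∈ spacesPre S IsEtaleMor ((bigFunctor f).obj E).left := by
    refine ⟨?_, fun x => ?_⟩
    · rintro Z k ⟨E', g, rfl, -, rfl⟩
      haveI := EtOver.etale_left g
      rw [eqToHom_refl, Category.id_comp]
      exact (isEtaleMor_yon_map_iff g.hom.left).2 (EtOver.etale_left g)
    · obtain ⟨t, rfl⟩ := (Points.schemeHomeo E.obj.left).surjective x
      obtain ⟨ι, E', g, rfl⟩ := R.exists_eq_ofArrows
      obtain ⟨i, z, hz⟩ := (ofArrows_mem_etPre_iff E' g).1 hR t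
      exact ⟨_, ((bigFunctor f).map (g i)).left, ⟨E' i, g i, rfl, ⟨i⟩, by simp⟩,
        Points.schemeHomeo (E' i).obj.left z,
        (Points.map_yon_map_apply (g i).hom.left z).trans (congrArg _ hz)⟩
  refine (spacesTop S IsEtaleMor).superset_covering ?_ (Precoverage.generate_mem_toGrothendieck hR')
  rw [Sieve.generate_le_iff]
  rintro Z k ⟨E', g, rfl, hg, rfl⟩
  rw [eqToHom_refl, Category.id_comp, Sieve.overEquiv_iff]
  refine ⟨E', g, Over.homMk (𝟙 _) (by rw [Category.id_comp]; exact (Over.w ((bigFunctor f).map g)).symm),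
    ⟨E', 𝟙 _, g, hg, Category.id_comp g⟩, ?_⟩
  apply Over.OverMorphism.ext
  simp

theorem coverPreserving_bigFunctor :
    CoverPreserving (etTop Y.obj) (spacesTopOver IsEtaleMor X) (bigFunctor f) := by
  refine ⟨fun {U R} hR => ?_⟩
  obtain ⟨T, hT, hle⟩ :=
    (Precoverage.mem_toGrothendieck_iff_of_isStableUnderComposition (J := etPre Y.obj)).1 hR
  exact (spacesTopOver IsEtaleMor X).superset_covering
    (Sieve.functorPushforward_monotone _ _ ((Sieve.generate_le_iff _ _).2 hle)) (generate_image_mem f hT)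

theorem isContinuous_bigFunctor :
    (bigFunctor f).IsContinuous (etTop Y.obj) (spacesTopOver IsEtaleMor X) :=
  Functor.isContinuous_of_coverPreserving (compatiblePreserving_bigFunctor f) (coverPreserving_bigFunctor f)

end Groth.Agent.DecSec
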