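import Groth.Agent.DecSec.InertiaChart
import Groth.Agent.ASt.PtsTop
import Groth.Agent.ASt.StQc
import Groth.Agent.ASt.StkAlg
import Groth.Agent.S0414

/-! Reduced stacks with quasi-compact inertia are generically gerbes. -/

set_option autoImplicit false
set_option backward.isDefEq.respectTransparency false
set_option backward.isDefEq.respectTransparency.types false

universe u

open CategoryTheory CategoryTheory.Limits AlgebraicGeometry Opposite

namespace Groth.Agent.DecSec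

open _root_.AlgSp Groth.Agent.ASp Groth.Agent.ASt Groth.Agent.Boot

variable {S : Scheme.{u}} {𝒳 : AlgSt.Cat S} [FibCat.IsFibGrpd 𝒳.p]

attribute [local instance] Groth.Agent.ASt.isFibGrpd_inertia

theorem exists_flat_nbhd (hX : AlgSt.IsAlgStack Scheme.fppfPrecoverage 𝒳)
    (hI : AlgSt.IsQuasiCompactMor Scheme.fppfPrecoverage (FibCat.inertiaToBase (FibCat.toSelf 𝒳)))
    {U : Over S} (a : FibCat.overCat U ⥤ᵇ 𝒳) [IsReduced U.left] (V : U.left.Opens) (hV : IsAffineOpen V) :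
    ∃ (G : Over S) (l : G ⟶ U), IsOpenImmersion l.left ∧ Set.range l.left ⊆ (V : Set ↥U.left) ∧
      (V : Set ↥U.left) ⊆ closure (Set.range l.left) ∧
      FibHas (LocP @Flat) (BasedFunctor.comp (AlgSt.overMap l) a) (FibCat.inertiaToBase (FibCat.toSelf 𝒳)) ∧
      FibHas (LocP @LocallyOfFinitePresentation) (BasedFunctor.comp (AlgSt.overMap l) a)
        (FibCat.inertiaToBase (FibCat.toSelf 𝒳)) := by
  let i := FibCat.inertiaToBase (FibCat.toSelf 𝒳)
  haveI : FibCat.IsFibGrpd (FibCat.fp (FibCat.toSelf 𝒳) (FibCat.toSelf 𝒳)).p := isFibGrpd_fp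
  have hl : AlgSt.RepByAlgSpWith (LocP @LocallyOfFiniteType) i :=
    repByAlgSpWith_inertiaToBase _ (lft_diag_toSelf hX)
  have hr : AlgSt.RepByAlgSp1 i := repByAlgSp1_of_with hl
  let hS := (isDM_of_repByAlgSp (repByAlgSp_selfOver (S := S))).1
  have hXX := Groth.Agent.ASt.isAlgStack_fp (isPrestack_of_isStack hS.isStack) hS.diag hX hX
    (FibCat.toSelf 𝒳) (FibCat.toSelf 𝒳)
  haveI : FibCat.IsFibGrpd (FibCat.fp (FibCat.diag (FibCat.toSelf 𝒳)) (FibCat.diag (FibCat.toSelf 𝒳))).p :=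
    isFibGrpd_fp
  have hIn : AlgSt.IsAlgStack Scheme.fppfPrecoverage (FibCat.inertia (FibCat.toSelf 𝒳)) := by
    obtain ⟨G', hG', -, -⟩ := isEquivOver_symm (isEquivOver_inertiaFp (FibCat.toSelf 𝒳))
    exact isAlgStack_of_isEquivOver hG'
      (Groth.Agent.ASt.isAlgStack_fp (isPrestack_of_isStack hXX.isStack) hXX.diag hX hX _ _)
  have hq := (repByAlgSpWith_isQuasiCompactMor_iff hIn hX hr).2 hI
  let V' : Over S := Over.mk (V.ι ≫ U.hom)
  let jV : V' ⟶ U := Over.homMk V.ι rfl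
  haveI : IsAffine V'.left := hV
  haveI : IsReduced V'.left := inferInstanceAs (IsReduced (V : Scheme.{u}))
  let yV := BasedFunctor.comp (AlgSt.overMap jV) a
  obtain ⟨hs, hA, hqc⟩ := (repByAlgSpWith_iff.1 hq).2 V' yV
  obtain ⟨_, _, hlt⟩ := (repByAlgSpWith_iff.1 hl).2 V' yV
  haveI : CompactSpace ↥V'.left := inferInstance
  obtain ⟨W, p, hpe, hps, hW⟩ := hqc (IsAlgSpace.yon_obj V') isQuasiCompactSp_yon (𝟙 _)
    (𝟙 (⟨ASt.fib yV i, hs⟩ : Sp S)) (ObjectProperty.homMk (fibπ yV i)) (IsPullback.of_horiz_isIso ⟨by simp⟩)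
  haveI : CompactSpace ↥W.left := hW
  obtain ⟨k, hk⟩ := (yon S).map_surjective (p ≫ ObjectProperty.homMk (fibπ yV i))
  haveI : LocallyOfFiniteType k.left := prop_chart hpe hk.symm hlt
  haveI : QuasiCompact k.left := quasiCompact_of_compactSpace k.left
  obtain ⟨G₁, hd, hfl, hfp⟩ := Groth.Agent.S0414.result k.left
  let G : Over S := Over.mk (G₁.ι ≫ V'.hom)
  let jG : G ⟶ V' := Over.homMk G₁.ι rfl
  haveI : IsOpenImmersion jG.left := inferInstanceAs (IsOpenImmersion G₁.ι)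
  have hmk : ∀ {M : MorphismProperty Scheme.{u}} [IsEtLocal M] [M.RespectsIso], M (k.left ∣_ G₁) →
      FibHas (LocP M) (BasedFunctor.comp (AlgSt.overMap (jG ≫ jV)) a) i := by
    intro M _ _ h
    have e := isPullback_left (IsPullback.of_hasPullback k jG)
    have h' : M (pullback.snd k jG).left := by
      have hc' := e.isoIsPullback_hom_snd _ _ (isPullback_morphismRestrict k.left G₁).flip
      rw [← hc']
      exact (M.cancel_left_of_respectsIso _ _).2 h
    exact fibHas_congr ((eqToIso (Groth.Agent.ASt.basedFunctor_ext rfl)).trans (wR (overMapComp jG jV) a))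
      (fibHas_restr_chart hr hpe hps hk.symm jG h')
  refine ⟨G, jG ≫ jV, ?_, ?_, ?_, hmk hfl, hmk hfp⟩
  · rw [Over.comp_left]
    exact inferInstanceAs (IsOpenImmersion (G₁.ι ≫ V.ι))
  · rintro _ ⟨t, rfl⟩
    exact (G₁.ι t).2
  · intro x hx
    have h0 : (⟨x, hx⟩ : ↥V'.left) ∈ closure (G₁ : Set ↥V'.left) := hd _
    have h1 : V.ι '' (G₁ : Set ↥V'.left) ⊆ Set.range (jG ≫ jV).left := by
      rintro _ ⟨z, hz, rfl⟩
      exact ⟨⟨z, hz⟩, rfl⟩
    exact closure_mono h1 (mem_closure_image (Scheme.Hom.continuous V.ι).continuousAt h0)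

/-- A reduced stack with quasi-compact inertia has a dense open substack which is a gerbe. -/
theorem exists_dense_gerbe (hX : AlgSt.IsAlgStack Scheme.fppfPrecoverage 𝒳)
    (hred : AlgSt.SmoothLocally (fun T => IsReduced T) 𝒳)
    (hI : AlgSt.IsQuasiCompactMor Scheme.fppfPrecoverage (FibCat.inertiaToBase (FibCat.toSelf 𝒳))) :
    ∃ Q : 𝒳.obj → Prop, AlgSt.IsOpenSubstack 𝒳 Q Scheme.fppfPrecoverage ∧
      Dense (Set.range (AlgSt.Points.map (AlgSt.subIncl 𝒳 Q))) ∧
      Gerb.IsAlgGerbe Scheme.fppfPrecoverage (AlgSt.fullSub 𝒳 Q) := by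
  obtain ⟨U, a, ha, has⟩ := hX.atlas
  haveI : IsReduced U.left := hred U a ha
  let i := FibCat.inertiaToBase (FibCat.toSelf 𝒳)
  haveI : FibCat.IsFibGrpd (FibCat.fp (FibCat.toSelf 𝒳) (FibCat.toSelf 𝒳)).p := isFibGrpd_fp
  have hr : AlgSt.RepByAlgSp1 i := repByAlgSp1_of_with (repByAlgSpWith_inertiaToBase _ (lft_diag_toSelf hX))
  choose Gf lf hoi hsub hcl hfl hfp using fun V : U.left.affineOpens => exists_flat_nbhd hX hI a V.1 V.2
  haveI := hoi
  let O : U.left.Opens := ⨆ V, (lf V).left.opensRange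
  let G : Over S := Over.mk (O.ι ≫ U.hom)
  let jO : G ⟶ U := Over.homMk O.ι rfl
  haveI : IsOpenImmersion jO.left := inferInstanceAs (IsOpenImmersion O.ι)
  have hr' : ∀ V, Set.range (lf V).left ⊆ Set.range O.ι := fun V => by
    rw [Scheme.Opens.range_ι]
    exact le_iSup (fun V => (lf V).left.opensRange) V
  let lf' : ∀ V, Gf V ⟶ G := fun V => Over.homMk (IsOpenImmersion.lift O.ι (lf V).left (hr' V)) (by
    change IsOpenImmersion.lift O.ι (lf V).left (hr' V) ≫ O.ι ≫ U.hom = _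
    rw [← Category.assoc, IsOpenImmersion.lift_fac]
    exact Over.w (lf V))
  have hlf' : ∀ V, lf' V ≫ jO = lf V := fun V => Over.OverMorphism.ext (IsOpenImmersion.lift_fac _ _ _)
  haveI : ∀ V, IsOpenImmersion (lf' V).left := fun V => by
    haveI : IsOpenImmersion ((lf' V).left ≫ jO.left) := by rw [← Over.comp_left, hlf']; infer_instance
    exact IsOpenImmersion.of_comp _ jO.left
  have hcov : ⨆ V, (lf' V).left.opensRange = ⊤ := by
    refine eq_top_iff.2 fun z _ => ?_
    obtain ⟨V, t, ht⟩ := TopologicalSpace.Opens.mem_iSup.1 z.2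
    refine TopologicalSpace.Opens.mem_iSup.2 ⟨V, t, jO.left.injective ?_⟩
    rw [← Scheme.Hom.comp_apply, ← Over.comp_left, hlf']
    exact ht
  let w := BasedFunctor.comp (AlgSt.overMap jO) a
  have hγ : ∀ V, Nonempty (BasedFunctor.comp (AlgSt.overMap (lf V)) a ≅ BasedFunctor.comp (AlgSt.overMap (lf' V)) w) :=
    fun V => ⟨(wR ((eqToIso (by rw [hlf' V])).trans (overMapComp (lf' V) jO).symm) a).trans
      (eqToIso (Groth.Agent.ASt.basedFunctor_ext rfl))⟩
  have w1 : FibHas (LocP @Flat) w i :=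
    fibHas_of_openCover hr Gf lf' hcov fun V => fibHas_congr (hγ V).some (hfl V)
  have w2 : FibHas (LocP @LocallyOfFinitePresentation) w i :=
    fibHas_of_openCover hr Gf lf' hcov fun V => fibHas_congr (hγ V).some (hfp V)
  have hw : AlgSt.RepByAlgSpWith (LocP @Smooth) w :=
    repByAlgSpWith_comp compLocal_smooth
      (repByAlgSpWith_overMap_locP (M := @Smooth) (inferInstanceAs (Smooth O.ι))) ha
  let T := Set.range (AlgSt.Points.ofChart w)
  have hT : IsOpen T := by
    rw [show T = AlgSt.Points.ofChart w '' Set.univ from Set.image_univ.symm]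
    exact isOpenMap_ofChart_of_smooth hw _ isOpen_univ
  have hsub' := isOpenSubstack_inOpen T hX hT
  have hA : AlgSt.IsAlgStack Scheme.fppfPrecoverage (AlgSt.fullSub 𝒳 (InOpen T)) := hsub'.2.1
  haveI := hA.isStack.1
  haveI := isFibGrpd_inertia (FibCat.toSelf (AlgSt.fullSub 𝒳 (InOpen T)))
  let c := liftFullSub (InOpen T) w fun z => by
    obtain ⟨X', ⟨⟨⟩⟩, k'⟩ := z
    exact (inOpen_chart_iff T w k').2 fun t => Set.mem_range_self _
  have hc : BasedFunctor.comp c (AlgSt.subIncl 𝒳 (InOpen T)) = w := liftFullSub_comp _ _ _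
  have hcsm : AlgSt.RepByAlgSpWith (LocP @Smooth) c := repByAlgSpWith_lift_of_comp _ (by rw [hc]; exact hw)
  have hcs : AlgSt.RepByAlgSpWith IsSurjectiveMor c := by
    refine repByAlgSpWith_surjective_of_isSurjective (repByAlgSp1_of_with hcsm) fun z => ?_
    obtain ⟨t, ht⟩ : AlgSt.Points.map (AlgSt.subIncl 𝒳 (InOpen T)) z ∈ T :=
      (range_subIncl_inOpen T).subset (Set.mem_range_self z)
    refine ⟨AlgSt.Points.ofChart (BasedFunctor.id (FibCat.overCat G)) t,
      injective_points_subIncl _ (inOpen_pull T) ?_⟩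
    rw [← ht]
    rfl
  refine ⟨InOpen T, hsub', ?_, ?_⟩
  · rw [range_subIncl_inOpen, dense_iff_inter_open]
    intro O' hO' ⟨x, hx⟩
    obtain ⟨t, rfl⟩ := surjective_chart has x
    obtain ⟨V, hV, htV, -⟩ := exists_isAffineOpen_mem_and_subset (x := t) (U := (⊤ : U.left.Opens)) (by simp)
    obtain ⟨z, hz, hz'⟩ := mem_closure_iff.1 (hcl ⟨V, hV⟩ htV) _
      (hO'.preimage (continuous_ofChart_stack hX a)) hx
    obtain ⟨g, hg⟩ := hz'
    refine ⟨_, hz, (lf' ⟨V, hV⟩).left g, ?_⟩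
    rw [← hg]
    refine (ofChart_overMap jO a _).trans (congrArg (AlgSt.Points.ofChart a) ?_)
    rw [← Scheme.Hom.comp_apply, ← Over.comp_left, hlf']
  · exact isAlgGerbe_of_chart hA
      (repByAlgSpWith_mono (fun _ _ _ _ _ h _ _ p q k hp hq e => (haveI : Smooth k.left := h p q k hp hq e; inferInstance)) hcsm)
      hcs
      (repByAlgSpWith_mono (fun _ _ _ _ _ h _ _ p q k hp hq e => (haveI : Smooth k.left := h p q k hp hq e; inferInstance)) hcsm)
      (fibHas_inertia_fullSub (inOpen_pull T) c (hc.symm ▸ w1))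
      (fibHas_inertia_fullSub (inOpen_pull T) c (hc.symm ▸ w2))

end Groth.Agent.DecSec
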