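import Groth.Agent.ASt.LocQOpen
import Groth.Agent.ASt.DiagLft
import Groth.Agent.ASt.FpSp
import Groth.Agent.ASt.StQc
import Groth.Agent.ASt.StkAlg
import Groth.Agent.ASt.Generic

/-! The diagonal of a morphism locally of finite type is locally of finite presentation. -/

set_option autoImplicit false
set_option backward.isDefEq.respectTransparency false
set_option backward.isDefEq.respectTransparency.types false

universe u

open CategoryTheory CategoryTheory.Limits AlgebraicGeometry Opposite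

namespace Groth.Agent.DecSec

open _root_.AlgSp Groth.Agent.ASp Groth.Agent.ASt

variable {S : Scheme.{u}} {𝒳 𝒴 : AlgSt.Cat S} [FibCat.IsFibGrpd 𝒳.p] [FibCat.IsFibGrpd 𝒴.p]

theorem repByAlgSpWith_cancel₂ {𝒲 : AlgSt.Cat S} [FibCat.IsFibGrpd 𝒲.p] {f : 𝒲 ⥤ᵇ 𝒳} {g : 𝒳 ⥤ᵇ 𝒴} {P Q : MorphismProperty (Sp S)} [P.RespectsIso] [Q.RespectsIso]
    (hPb : ∀ ⦃X₁ Y₁ X₂ Y₂ : Sp S⦄, IsAlgSpace X₁ → IsAlgSpace Y₁ → IsAlgSpace X₂ →
      IsAlgSpace Y₂ → ∀ (a : X₁ ⟶ Y₁) (b : Y₂ ⟶ Y₁) (a' : X₂ ⟶ Y₂) (b' : X₂ ⟶ X₁),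
      IsPullback b' a' a b → P a → P a')
    (hcancel : ∀ ⦃X Y Z : Sp S⦄, IsAlgSpace X → IsAlgSpace Y → IsAlgSpace Z →
      ∀ (a : X ⟶ Y) (b : Y ⟶ Z), Q b → P (a ≫ b) → P a)
    (hf : AlgSt.RepByAlgSp1 f) (hg : AlgSt.RepByAlgSpWith Q g)
    (hfg : AlgSt.RepByAlgSpWith P (BasedFunctor.comp f g)) : AlgSt.RepByAlgSpWith P f := by
  rw [repByAlgSpWith_iff] at hg hfg
  obtain ⟨hg1, hg2⟩ := hg
  obtain ⟨hfa, hfs⟩ := repByAlgSp1_iff.1 hf
  refine repByAlgSpWith_iff.2 ⟨hfa, fun U y => ?_⟩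
  let z : FibCat.overCat U ⥤ᵇ 𝒴 := BasedFunctor.comp y g
  let yv := y.obj (ov (𝟙 U))
  let hyv : 𝒳.p.obj yv = U := y.w_obj (ov (𝟙 U))
  refine fibHas_congr (objFunIso y) ?_
  let ψ : z.obj (ov (𝟙 U)) ⟶ g.obj yv := 𝟙 _
  have hψ : 𝒴.p.map ψ = eqToHom (((z.w_obj (ov (𝟙 U))).trans (ov_base (𝟙 U))).trans
      (hyv.symm.trans (g.w_obj yv).symm)) := 𝒴.p.map_id _
  have sq := isPullback_sectionF f g z (𝟙 U) yv hyv ψ hψ
  obtain ⟨hs₁, hA₁, hP₁⟩ := hg2 U z
  obtain ⟨hs₂, hA₂, hP₂⟩ := hfg.2 U z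
  obtain ⟨hs, hA⟩ := hfs U (objFun yv hyv)
  let F₁ : Sp S := ⟨fib z g, hs₁⟩
  let F₂ : Sp S := ⟨fib z (BasedFunctor.comp f g), hs₂⟩
  let q : F₂ ⟶ F₁ := ObjectProperty.homMk (clFun (compF f g z))
  have hq : P q := by
    refine hcancel hA₂ hA₁ (IsAlgSpace.yon_obj U) q (ObjectProperty.homMk (fibπ z g)) hP₁ ?_
    have : (ObjectProperty.homMk (fibπ z (BasedFunctor.comp f g)) : F₂ ⟶ (yon S).obj U) =
        q ≫ ObjectProperty.homMk (fibπ z g) := ObjectProperty.hom_ext _ (clFun_compF_π f g z).symm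
    rwa [← this]
  exact ⟨hs, hA, hPb hA₂ hA₁ hA (IsAlgSpace.yon_obj U) q
    (ObjectProperty.homMk (uliftYonedaEquiv.{u + 1}.symm (fpEl (y := z) (f := g) (𝟙 U) yv hyv ψ hψ)) :
      (yon S).obj U ⟶ F₁)
    _ (ObjectProperty.homMk (clFun (sectionF f g z (𝟙 U) yv hyv ψ hψ)) : (⟨fib (objFun yv hyv) f, hs⟩ : Sp S) ⟶ F₂)
    (IsPullback.of_map_of_faithful (sheafToPresheaf (J S) (Type (u + 1))) sq) hq⟩

/-- The diagonal of a morphism locally of finite type is locally of finite presentation. -/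
theorem locQ_lfp_diag (hX : AlgSt.IsAlgStack Scheme.fppfPrecoverage 𝒳)
    (hY : AlgSt.IsAlgStack Scheme.fppfPrecoverage 𝒴) (f : 𝒳 ⥤ᵇ 𝒴)
    (hf : AlgSt.LocQ (LocP @LocallyOfFiniteType) f) :
    AlgSt.LocQ (LocP @LocallyOfFinitePresentation) (FibCat.diag f) := by
  obtain ⟨U, a, ha, has, haf⟩ := exists_comp_of_locQ compLocal_lft (fun g hg => haveI := hg; inferInstance) hf
  let af := BasedFunctor.comp a f
  haveI : FibCat.IsFibGrpd (FibCat.fp af af).p := isFibGrpd_fp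
  haveI : FibCat.IsFibGrpd (FibCat.fp af f).p := isFibGrpd_fp
  haveI : FibCat.IsFibGrpd (FibCat.fp f af).p := isFibGrpd_fp
  haveI : FibCat.IsFibGrpd (FibCat.fp f f).p := isFibGrpd_fp
  have hid : AlgSt.RepByAlgSpWith (LocP @LocallyOfFinitePresentation) (BasedFunctor.id (FibCat.overCat U)) :=
    repByAlgSpWith_id fun T => by
      rw [← (yon S).map_id]
      exact locP_of_prop_left (inferInstanceAs (LocallyOfFinitePresentation (𝟙 T.left)))
  have hd : AlgSt.RepByAlgSpWith (LocP @LocallyOfFinitePresentation) (FibCat.diag af) := by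
    refine repByAlgSpWith_cancel₂ (Q := LocP @LocallyOfFiniteType)
      (fun _ _ _ _ hX₁ hY₁ _ hY₂ _ _ _ _ sq h => locP_of_isPullback sq.flip hX₁ hY₁ hY₂ h)
      (fun _ _ _ _ _ hZ a b hb h => locP_of_comp (Q := @LocallyOfFiniteType)
        (fun f g h h' => Groth.Agent.ASp.locallyOfFinitePresentation_of_comp f g h h') hZ h hb)
      (repByAlgSp1_of_with (lft_diag (isAlgStack_overCat U) hY af))
      (g := FibCat.fpFst af af) ?_ ?_
    · exact repByAlgSpWith_fpFst af haf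
    · rw [show BasedFunctor.comp (FibCat.diag af) (FibCat.fpFst af af) = BasedFunctor.id _ from
        Groth.Agent.ASt.basedFunctor_ext rfl]
      exact hid
  let N : FibCat.fp af af ⥤ᵇ FibCat.fp f f :=
    BasedFunctor.comp (BasedFunctor.comp (BasedFunctor.comp (pushR af f a) (swapF af f)) (pushR f f a)) (swapF f f)
  have hN : AlgSt.RepByAlgSpWith (LocP @Smooth) N :=
    repByAlgSpWith_postcomp _ (isEquivOver_swapF f f) (repByAlgSpWith_comp compLocal_smooth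
      (repByAlgSpWith_postcomp _ (isEquivOver_swapF af f) (repByAlgSpWith_pushR af f a ha)) (repByAlgSpWith_pushR f f a ha))
  have hN' : AlgSt.RepByAlgSpWith (LocP @LocallyOfFinitePresentation) N :=
    repByAlgSpWith_mono (fun _ _ _ _ _ h U V p q k hp hq e => (haveI : Smooth k.left := h p q k hp hq e; inferInstance)) hN
  have γ : BasedFunctor.comp (FibCat.diag af) N ≅ BasedFunctor.comp a (FibCat.diag f) :=
    fpIsoMk (Iso.refl _) (Iso.refl _) fun x => by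
      change f.map (𝟙 (a.obj x)) ≫ 𝟙 (f.obj (a.obj x)) = 𝟙 (f.obj (a.obj x)) ≫ f.map (𝟙 (a.obj x))
      simp
  have hr : AlgSt.RepByAlgSpWith (LocP @LocallyOfFinitePresentation) (BasedFunctor.comp a (FibCat.diag f)) :=
    repByAlgSpWith_congr γ (repByAlgSpWith_comp compLocal_lfp hd hN')
  have hff := Groth.Agent.ASt.isAlgStack_fp (isPrestack_of_isStack hY.isStack) hY.diag hX hX f f
  obtain ⟨V, z, hz, hzs⟩ := hff.atlas
  obtain ⟨hs, hA, C, p, G, k, hpe, hps, hcomp, ⟨α⟩, -, hG⟩ :=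
    exists_chart_of_fib (repByAlgSp1_of_with hr) z
  haveI : FibCat.IsFibGrpd (FibCat.fp z (BasedFunctor.comp a (FibCat.diag f))).p := isFibGrpd_fp
  obtain ⟨_, _, hq⟩ := (repByAlgSpWith_iff.1 hr).2 V z
  have hk : LocallyOfFinitePresentation k.left := prop_chart hpe hcomp hq
  refine ⟨C, V, BasedFunctor.comp (BasedFunctor.comp G (FibCat.fpSnd z (BasedFunctor.comp a (FibCat.diag f)))) a, z, k,
    (eqToIso (Groth.Agent.ASt.basedFunctor_ext rfl)).trans
      ((wL G (FibCat.fpIso z (BasedFunctor.comp a (FibCat.diag f)))).symm.trans (wR α z)),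
    repByAlgSpWith_comp compLocal_smooth (repByAlgSpWith_comp compLocal_smooth
      (hG (P := LocP @Smooth) hpe fun v hv => locP_of_repWith (repWith_yon_map
        (haveI : Etale v.left := hv; inferInstance))) (repByAlgSpWith_fpSnd _ hz)) ha,
    repByAlgSpWith_comp compLocal_surjective (repByAlgSpWith_comp compLocal_surjective
      (hG (P := IsSurjectiveMor) hps fun v hv => surjective_map_of_repWith (repWith_yon_map hv))
      (repByAlgSpWith_fpSnd _ hzs)) has,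
    hz, locP_of_prop_left hk⟩

end Groth.Agent.DecSec
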