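import Groth.Prelude.Def_AlgSt4
import Mathlib.RingTheory.Spectrum.Prime.Chevalley
import Mathlib.RingTheory.Spectrum.Prime.ConstructibleSet
import Mathlib.FieldTheory.IsAlgClosed.Basic
import Mathlib.RingTheory.Ideal.MinimalPrime.Localization
import Mathlib.RingTheory.Flat.Basic
import Mathlib.AlgebraicGeometry.Morphisms.FiniteType
/-!
The algebra behind lifting geometric points along morphisms with surjective diagonal: an extension `L` of an
algebraically closed field such that a finite type `L`-algebra sees a transcendental pair is trivial.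
-/

universe u

open scoped TensorProduct

namespace Groth.Agent.DecSec.DiagPoint

theorem false_of_transcendental {k L B K' : Type u} [Field k] [IsAlgClosed k] [Field L] [CommRing B] [Field K']
    (ρ : k →+* L) (ρ₁ ρ₂ : L →+* B) (hρ : ρ₁.comp ρ = ρ₂.comp ρ) (hft : ρ₁.FiniteType) (ψ : B →+* K') (t : L)
    (hinj : Function.Injective (Polynomial.eval₂RingHom (ψ.comp ρ₁) (ψ (ρ₂ t)))) : False := by
  classical
  let φ : Polynomial L →+* B := Polynomial.eval₂RingHom ρ₁ (ρ₂ t)
  have hC : φ.comp Polynomial.C = ρ₁ := RingHom.ext fun a => Polynomial.eval₂_C ρ₁ (ρ₂ t)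
  have hφ : φ.FiniteType := RingHom.FiniteType.of_comp_finiteType (f := Polynomial.C) (hC.symm ▸ hft)
  have hco := PrimeSpectrum.isConstructible_range_comap (RingHom.FinitePresentation.of_finiteType.1 hφ)
  obtain ⟨D, hD⟩ := PrimeSpectrum.exists_constructibleSetData_iff.2 hco
  have hker : RingHom.ker (ψ.comp φ) = ⊥ := by
    refine (RingHom.injective_iff_ker_eq_bot _).1 ?_
    have : ψ.comp φ = Polynomial.eval₂RingHom (ψ.comp ρ₁) (ψ (ρ₂ t)) := by
      refine Polynomial.ringHom_ext (fun a => ?_) ?_ <;> simp [φ]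
    rw [this]
    exact hinj
  have hgen : (⟨⊥, Ideal.isPrime_bot⟩ : PrimeSpectrum (Polynomial L)) ∈ D.toSet := by
    rw [hD]
    refine ⟨⟨RingHom.ker ψ, RingHom.ker_isPrime ψ⟩, PrimeSpectrum.ext ?_⟩
    change Ideal.comap φ (RingHom.ker ψ) = ⊥
    rw [RingHom.comap_ker, hker]
  simp only [PrimeSpectrum.ConstructibleSetData.toSet, Set.mem_iUnion] at hgen
  obtain ⟨C, hC', hg, hf⟩ := hgen
  have hg0 : ∀ i, C.g i = 0 := fun i => by
    have := hg (Set.mem_range_self i)
    simpa using this
  have hf0 : C.f ≠ 0 := fun h => hf (by simp [h, PrimeSpectrum.mem_zeroLocus])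
  haveI : Infinite k := inferInstance
  obtain ⟨a, ha⟩ := Infinite.exists_notMem_finset (C.f.roots.toFinset.preimage ρ ρ.injective.injOn)
  have ha' : C.f.eval (ρ a) ≠ 0 := fun h => ha (Finset.mem_preimage.2
    (Multiset.mem_toFinset.2 ((Polynomial.mem_roots hf0).2 h)))
  let P : PrimeSpectrum (Polynomial L) :=
    ⟨RingHom.ker (Polynomial.evalRingHom (ρ a)), RingHom.ker_isPrime _⟩
  have hP : P ∈ D.toSet := by
    simp only [PrimeSpectrum.ConstructibleSetData.toSet, Set.mem_iUnion]
    refine ⟨C, hC', ?_, ?_⟩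
    · rintro x ⟨i, rfl⟩
      rw [hg0 i]
      exact P.asIdeal.zero_mem
    · intro h
      exact ha' (h (Set.mem_singleton C.f))
  rw [hD] at hP
  obtain ⟨Q, hQ⟩ := hP
  have hmem : Polynomial.X - Polynomial.C (ρ a) ∈ (PrimeSpectrum.comap φ Q).asIdeal := by
    rw [hQ]
    simp [P, RingHom.mem_ker]
  have e : φ (Polynomial.X - Polynomial.C (ρ a)) = ρ₂ (t - ρ a) := by
    have h1 : ρ₁ (ρ a) = ρ₂ (ρ a) := RingHom.congr_fun hρ a
    simp [φ, h1]
  rw [PrimeSpectrum.comap_asIdeal, Ideal.mem_comap, e] at hmem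
  by_cases ht : t - ρ a = 0
  · have e0 : (ψ.comp ρ₁) (ρ a) = ψ (ρ₂ t) := by
      rw [RingHom.comp_apply, sub_eq_zero.1 ht]
      exact congrArg ψ (RingHom.congr_fun hρ a)
    have : Polynomial.X - Polynomial.C (ρ a) = (0 : Polynomial L) := hinj (by simp [← e0])
    exact Polynomial.X_sub_C_ne_zero _ this
  · exact Q.isPrime.ne_top (Ideal.eq_top_of_isUnit_mem _ hmem ((Ne.isUnit ht).map ρ₂))

theorem exists_transcendental_pair {k L : Type u} [Field k] [Field L] [Algebra k L] (t : L)
    (ht : Transcendental k t) :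
    ∃ (Ω : Type u) (_ : Field Ω) (_ : IsAlgClosed Ω) (i j : L →+* Ω),
      i.comp (algebraMap k L) = j.comp (algebraMap k L) ∧
      Function.Injective (Polynomial.eval₂RingHom i (j t)) := by
  let T := L ⊗[k] L
  let e : L ⊗[k] Polynomial k →ₐ[k] T := Algebra.TensorProduct.map (AlgHom.id k L) (Polynomial.aeval t)
  have he : Function.Injective e :=
    Module.Flat.lTensor_preserves_injective_linearMap (Polynomial.aeval (R := k) t).toLinearMap
      (transcendental_iff_injective.1 ht)
  let φ : Polynomial L →+* T := e.toRingHom.comp (polyEquivTensor k L).toRingEquiv.toRingHom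
  have hφ : Function.Injective φ := he.comp (polyEquivTensor k L).injective
  obtain ⟨P, hP, hP'⟩ := Ideal.exists_comap_eq_of_mem_minimalPrimes_of_injective hφ (⊥ : Ideal (Polynomial L))
    (by rw [IsDomain.minimalPrimes_eq_singleton_bot]; rfl)
  haveI := hP
  let Ω := AlgebraicClosure (FractionRing (T ⧸ P))
  let q : T →+* Ω := ((algebraMap (FractionRing (T ⧸ P)) Ω).comp (algebraMap (T ⧸ P) _)).comp (Ideal.Quotient.mk P)
  refine ⟨Ω, inferInstance, inferInstance, q.comp Algebra.TensorProduct.includeLeftRingHom,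
    q.comp (Algebra.TensorProduct.includeRight (R := k) (A := L) (B := L)).toRingHom, ?_, ?_⟩
  · refine RingHom.ext fun a => congrArg q ?_
    exact (AlgHom.commutes (Algebra.TensorProduct.includeLeft (R := k) (S := k) (A := L) (B := L)) a).trans
      (AlgHom.commutes (Algebra.TensorProduct.includeRight (R := k) (A := L) (B := L)) a).symm
  · have h1 : Polynomial.eval₂RingHom (q.comp Algebra.TensorProduct.includeLeftRingHom)
        ((q.comp (Algebra.TensorProduct.includeRight (R := k) (A := L) (B := L)).toRingHom) t) = q.comp φ := by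
      refine Polynomial.ringHom_ext (fun a => ?_) ?_
      · simp [φ, e]
        rw [Algebra.TensorProduct.map_tmul]; simp; rfl
      · simp [φ, e]
        rw [Algebra.TensorProduct.map_tmul]; simp
    rw [h1, RingHom.injective_iff_ker_eq_bot, ← RingHom.comap_ker]
    have h2 : RingHom.ker q = P := by
      refine (RingHom.ker_comp_of_injective _ ?_).trans (Ideal.mk_ker)
      exact (algebraMap (FractionRing (T ⧸ P)) Ω).injective.comp
        (IsFractionRing.injective (T ⧸ P) (FractionRing (T ⧸ P)))
    rw [h2]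
    exact hP'

end Groth.Agent.DecSec.DiagPoint
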