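import Groth.Agent.S12832
import Groth.Agent.ASt.FpEtale
import Groth.Agent.DecSec.DiagPoint
import Mathlib.AlgebraicGeometry.Morphisms.ClosedImmersion
/-!
Lifting a geometric point along a morphism with surjective diagonal.
-/

set_option backward.isDefEq.respectTransparency false
set_option backward.isDefEq.respectTransparency.types false
set_option linter.unusedSectionVars false

universe u

open CategoryTheory CategoryTheory.Limits AlgebraicGeometry Opposite Topology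

namespace Groth.Agent.DecSec.DiagPoint

open _root_.AlgSp Groth.Agent.ASp Groth.Agent.ASt

variable {S : Scheme.{u}}

theorem exists_closed_residue_point (W : Scheme.{u}) (w : W) :
    ∃ (L : CommRingCat.{u}) (_ : IsField L) (ι : Spec L ⟶ W), LocallyOfFiniteType ι := by
  obtain ⟨B, hB, hw, -⟩ := exists_isAffineOpen_mem_and_subset (x := w) (U := (⊤ : W.Opens)) trivial
  haveI : IsAffine B.toScheme := hB
  obtain ⟨v, -, hv⟩ := IsClosed.exists_closed_singleton (X := B.toScheme) isClosed_univ ⟨⟨w, hw⟩, trivial⟩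
  haveI : IsClosedImmersion (B.toScheme.fromSpecResidueField v) :=
    IsClosedImmersion.of_isPreimmersion _ (by rw [Scheme.range_fromSpecResidueField]; exact hv)
  exact ⟨B.toScheme.residueField v, Field.toIsField _, B.toScheme.fromSpecResidueField v ≫ B.ι, inferInstance⟩

theorem false_of_lft_witness {k K' : Type u} [Field k] [IsAlgClosed k] [Field K'] {L : CommRingCat.{u}} (hL : IsField L)
    {C : Scheme.{u}} (h₁ h₂ : C ⟶ Spec L) [LocallyOfFiniteType h₁] (r : CommRingCat.of k ⟶ L)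
    (hr : h₁ ≫ Spec.map r = h₂ ≫ Spec.map r) (x : Spec (CommRingCat.of K') ⟶ C)
    (i j : L ⟶ CommRingCat.of K') (hi : x ≫ h₁ = Spec.map i) (hj : x ≫ h₂ = Spec.map j) (t : L)
    (hinj : Function.Injective (Polynomial.eval₂RingHom i.hom (j t))) : False := by
  letI := hL.toField
  obtain ⟨B, hB, hx, -⟩ := exists_isAffineOpen_mem_and_subset
    (x := x (default : ↥(Spec (CommRingCat.of K')))) (U := (⊤ : C.Opens)) trivial
  have hr' : Set.range x ⊆ Set.range B.ι := by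
    rintro _ ⟨q, rfl⟩
    rw [Scheme.Opens.range_ι, Subsingleton.elim q default]
    exact hx
  let y : Spec (CommRingCat.of K') ⟶ Spec Γ(C, B) := IsOpenImmersion.lift B.ι x hr' ≫ hB.isoSpec.hom
  let g₁ : Spec Γ(C, B) ⟶ Spec L := hB.fromSpec ≫ h₁
  let g₂ : Spec Γ(C, B) ⟶ Spec L := hB.fromSpec ≫ h₂
  have hy : y ≫ hB.fromSpec = x := by
    rw [← hB.isoSpec_inv_ι]
    simp only [y, Category.assoc, Iso.hom_inv_id_assoc, IsOpenImmersion.lift_fac]
  obtain ⟨a₁, ha₁⟩ : ∃ a, Spec.map a = g₁ := ⟨Spec.preimage g₁, Spec.map_preimage g₁⟩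
  obtain ⟨a₂, ha₂⟩ : ∃ a, Spec.map a = g₂ := ⟨Spec.preimage g₂, Spec.map_preimage g₂⟩
  obtain ⟨ψ, hψ⟩ : ∃ a, Spec.map a = y := ⟨Spec.preimage y, Spec.map_preimage y⟩
  have e1 : a₁ ≫ ψ = i := Spec.map_injective (by
    rw [Spec.map_comp, hψ, ha₁, ← Category.assoc, hy, hi])
  have e2 : a₂ ≫ ψ = j := Spec.map_injective (by
    rw [Spec.map_comp, hψ, ha₂, ← Category.assoc, hy, hj])
  have e3 : r ≫ a₁ = r ≫ a₂ := Spec.map_injective (by
    rw [Spec.map_comp, Spec.map_comp, ha₁, ha₂, Category.assoc, Category.assoc, hr])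
  haveI : LocallyOfFiniteType (Spec.map a₁) := by rw [ha₁]; infer_instance
  refine false_of_transcendental (K' := K') r.hom a₁.hom a₂.hom (congrArg CommRingCat.Hom.hom e3)
    (HasRingHomProperty.Spec_iff.1 ‹LocallyOfFiniteType (Spec.map a₁)›) ψ.hom t ?_
  subst e1 e2
  exact hinj

theorem hom_overCat {W U : Over S} (G : FibCat.overCat W ⥤ᵇ FibCat.overCat U) (o : (FibCat.overCat W).obj) :
    (G.obj o).hom = eqToHom (G.w_obj o) ≫ o.hom ≫ eqToHom (G.w_obj (ov (𝟙 W))).symm ≫ (G.obj (ov (𝟙 W))).hom := by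
  have e := Over.w (G.map (toTop o))
  have e' : (G.map (toTop o)).left = eqToHom (G.w_obj o) ≫ o.hom ≫ eqToHom (G.w_obj (ov (𝟙 W))).symm :=
    map_toTop G o
  rw [← e, e']
  simp

theorem hom_iso_overCat {U : Over S} {𝒵 : AlgSt.Cat S} [FibCat.IsFibGrpd 𝒵.p]
    (π : 𝒵 ⥤ᵇ FibCat.overCat U) {m n : 𝒵.obj} (φ : m ⟶ n) {e : 𝒵.p.obj m = 𝒵.p.obj n}
    (hφ : 𝒵.p.map φ = eqToHom e) :
    eqToHom (π.w_obj m).symm ≫ (π.obj m).hom = eqToHom (e.trans (π.w_obj n).symm) ≫ (π.obj n).hom := by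
  have hm := Over.w (π.map φ)
  have h' : (π.map φ).left = eqToHom (π.w_obj m) ≫ 𝒵.p.map φ ≫ eqToHom (π.w_obj n).symm := map_w π φ
  rw [← hm, h', hφ]
  simp

variable {𝒳 𝒴 : AlgSt.Cat S}

theorem exists_lift (h𝒳 : AlgSt.IsAlgStack Scheme.fppfPrecoverage 𝒳)
    (h𝒴 : AlgSt.IsAlgStack Scheme.fppfPrecoverage 𝒴) (f : 𝒳 ⥤ᵇ 𝒴) (hΔ : AlgSt.IsSurjective (FibCat.diag f))
    (k : Type u) [Field k] [IsAlgClosed k] (s : Spec (CommRingCat.of k) ⟶ S) (y : 𝒴.obj)
    (hy : 𝒴.p.obj y = Over.mk s)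
    (h : AlgSt.Points.mk ⟨k, s, y, hy⟩ ∈ Set.range (AlgSt.Points.map f)) :
    ∃ (x : 𝒳.obj) (φ : f.obj x ⟶ y), 𝒳.p.obj x = Over.mk s ∧ 𝒴.p.IsHomLift (𝟙 (Over.mk s)) φ := by
  haveI := h𝒳.isStack.1
  haveI := h𝒴.isStack.1
  let Y : FibCat.overCat (Over.mk s) ⥤ᵇ 𝒴 := objFun y hy
  haveI : FibCat.IsFibGrpd (FibCat.fp Y f).p := isFibGrpd_fp
  have hT := isAlgStack_fp_any (isAlgStack_overCat (Over.mk s)) h𝒳 h𝒴 Y f
  obtain ⟨W, a, ha, has⟩ := hT.atlas
  obtain ⟨x, hx⟩ := h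
  let p₀ : AlgSt.FPt (FibCat.overCat (Over.mk s)) := ⟨k, s, ov (𝟙 (Over.mk s)), ov_base _⟩
  obtain ⟨q, -, -⟩ := points_surjective_fp Y f (AlgSt.Points.mk p₀) x
    ((AlgSt.Points.sound (p := p₀.map Y) (q := ⟨k, s, y, hy⟩) ⟨p₀.map Y, 𝟙 _, pullHom y hy (𝟙 _), trivial⟩).trans hx.symm)
  obtain ⟨w, -⟩ := surjective_chart has q
  obtain ⟨L, hL, ι, hι⟩ := exists_closed_residue_point W.left w
  letI := hL.toField
  let P : Over S := Over.mk (ι ≫ W.hom)
  let iP : P ⟶ W := Over.homMk ι rfl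
  let π : FibCat.fp Y f ⥤ᵇ FibCat.overCat (Over.mk s) := FibCat.fpFst Y f
  let g₀ : W ⟶ Over.mk s := eqToHom ((BasedFunctor.comp a π).w_obj (ov (𝟙 W))).symm ≫
    ((BasedFunctor.comp a π).obj (ov (𝟙 W))).hom
  have hom_a : ∀ {B : Over S} (l : B ⟶ W),
      ((BasedFunctor.comp a π).obj (ov l)).hom = eqToHom ((BasedFunctor.comp a π).w_obj (ov l)) ≫ l ≫ g₀ :=
    fun l => hom_overCat (BasedFunctor.comp a π) (ov l)
  obtain ⟨r, hr⟩ : ∃ r : CommRingCat.of k ⟶ L, Spec.map r = (iP ≫ g₀).left :=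
    ⟨Spec.preimage (iP ≫ g₀).left, Spec.map_preimage _⟩
  have hbij : Function.Bijective r.hom := by
    letI : Algebra k L := r.hom.toAlgebra
    suffices Algebra.IsIntegral k L from IsAlgClosed.algebraMap_bijective_of_isIntegral (k := k) (K := L)
    refine ⟨fun t => isAlgebraic_iff_isIntegral.1 (not_not.1 fun ht => ?_)⟩
    obtain ⟨Ω, _, _, i, j, hij, hinj⟩ := exists_transcendental_pair (k := k) t ht
    have hP : P.hom = (iP ≫ g₀).left ≫ s := (Over.w (iP ≫ g₀)).symm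
    let O : Over S := Over.mk (Spec.map (CommRingCat.ofHom i) ≫ P.hom)
    have hij' : Spec.map (CommRingCat.ofHom i) ≫ Spec.map r = Spec.map (CommRingCat.ofHom j) ≫ Spec.map r := by
      rw [← Spec.map_comp, ← Spec.map_comp]
      exact congrArg _ (CommRingCat.hom_ext hij)
    let I : O ⟶ P := Over.homMk (Spec.map (CommRingCat.ofHom i)) rfl
    let J : O ⟶ P := Over.homMk (Spec.map (CommRingCat.ofHom j)) (by
      change _ = Spec.map (CommRingCat.ofHom i) ≫ P.hom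
      rw [hP, ← hr, ← Category.assoc, ← Category.assoc, hij'])
    have hIJ : I ≫ iP ≫ g₀ = J ≫ iP ≫ g₀ := Over.OverMorphism.ext (by
      change Spec.map (CommRingCat.ofHom i) ≫ (iP ≫ g₀).left = Spec.map (CommRingCat.ofHom j) ≫ (iP ≫ g₀).left
      rw [← hr]
      exact hij')
    let b₁ : (FibCat.fp Y f).obj := a.obj (ov (I ≫ iP))
    let b₂ : (FibCat.fp Y f).obj := a.obj (ov (J ≫ iP))
    have hb₁ : (FibCat.fp Y f).p.obj b₁ = O := (a.w_obj _).trans (ov_base _)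
    have hb₂ : (FibCat.fp Y f).p.obj b₂ = O := (a.w_obj _).trans (ov_base _)
    let c : b₁.obj.fst ⟶ b₂.obj.fst := Over.homMk (eqToHom (hb₁.trans hb₂.symm)) (by
      have e₁ : b₁.obj.fst.hom = _ := hom_a (I ≫ iP)
      have e₂ : b₂.obj.fst.hom = _ := hom_a (J ≫ iP)
      rw [e₁, e₂]
      simp only [Category.assoc, hIJ]
      exact eqToHom_trans_assoc _ _ _)
    let β := b₁.obj.iso.inv ≫ Y.map c ≫ b₂.obj.iso.hom
    have hs₁ : 𝒳.p.obj b₁.obj.snd = O := (fp_snd_base b₁).trans hb₁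
    have hs₂ : 𝒳.p.obj b₂.obj.snd = O := (fp_snd_base b₂).trans hb₂
    have hc : (FibCat.overCat (Over.mk s)).p.map c = eqToHom (hb₁.trans hb₂.symm) := rfl
    have e0 : 𝒴.p.map b₁.obj.iso.inv =
        eqToHom ((f.w_obj _).trans ((fp_snd_base b₁).trans (Y.w_obj b₁.obj.fst).symm)) := by
      rw [← IsIso.Iso.inv_hom, Functor.map_inv]
      rw [IsIso.inv_eq_of_hom_inv_id]
      exact (congrArg (fun t => t ≫ _) (fp_iso_map b₁)).trans ((eqToHom_trans _ _).trans rfl)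
    have hβ : 𝒴.p.map β = eqToHom ((f.w_obj _).trans ((hs₁.trans hs₂.symm).trans (f.w_obj _).symm)) := by
      simp only [β, Functor.map_comp, e0, fp_iso_map, map_w, hc]
      simp
    obtain ⟨α, hα, hαβ⟩ := (Groth.Agent.S12832.result h𝒳 h𝒴 f).1 hΔ Ω O.hom b₁.obj.snd b₂.obj.snd hs₁ hs₂ β
      (IsHomLift.of_fac' 𝒴.p _ _ ((f.w_obj _).trans hs₁) ((f.w_obj _).trans hs₂) (by rw [hβ]; simp))
    let ψ : b₁ ⟶ b₂ := fpHomMk c α (by rw [hαβ]; simp [β])
    have hψ : (FibCat.fp Y f).p.map ψ = eqToHom (hb₁.trans hb₂.symm) := rfl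
    haveI := isIso_of_vert ψ hψ
    let v : FibCat.overCat P ⥤ᵇ FibCat.fp Y f := BasedFunctor.comp (AlgSt.overMap iP) a
    haveI : FibCat.IsFibGrpd (FibCat.fp v a).p := isFibGrpd_fp
    obtain ⟨hsh, hA, C, p, E, hC, hpe, hps, hcomp, ⟨η⟩, -, hE⟩ := exists_chart_of_fib (repByAlgSp1_of_with ha) v
    haveI : Smooth hC.left := prop_chart hpe hcomp ((repByAlgSpWith_iff.1 ha).2 _ v).2.2
    let n : (FibCat.fp v a).obj := fpMk (ov I) (ov (J ≫ iP)) rfl (asIso ψ : v.obj (ov I) ≅ a.obj (ov (J ≫ iP))) hψ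
    obtain ⟨c₀, hc₀⟩ := surjective_chart (hE (P := IsSurjectiveMor) hps
      fun v hv => Groth.Agent.ASp.surjective_map_of_repWith (Groth.Agent.ASp.repWith_yon_map hv))
      (AlgSt.Points.mk ⟨Ω, O.hom, n, rfl⟩)
    obtain ⟨R, φ₁, φ₂, -⟩ := mk_eq_mk_iff.1 hc₀
    let G₁ : FibCat.overCat C ⥤ᵇ FibCat.overCat P := BasedFunctor.comp E (FibCat.fpFst v a)
    let G₂ : FibCat.overCat C ⥤ᵇ FibCat.overCat W := BasedFunctor.comp E (FibCat.fpSnd v a)
    let gC : C ⟶ W := eqToHom (G₂.w_obj (ov (𝟙 C))).symm ≫ (G₂.obj (ov (𝟙 C))).hom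
    have hhC : hC = eqToHom (G₁.w_obj (ov (𝟙 C))).symm ≫ (G₁.obj (ov (𝟙 C))).hom := by
      have e := Over.w (η.hom.toNatTrans.app (ov (𝟙 C)))
      have e' : (η.hom.toNatTrans.app (ov (𝟙 C))).left = _ := map_app _ _ η.hom (ov (𝟙 C))
      rw [← e, e']
      simp
      exact (Category.id_comp hC).symm
    have hcompat : hC ≫ iP ≫ g₀ = gC ≫ g₀ := by
      let N := E.obj (ov (𝟙 C))
      have e := hom_iso_overCat π N.obj.iso.hom (fp_iso_map N)
      have e₁ : (π.obj (v.obj N.obj.fst)).hom = _ := hom_a (N.obj.fst.hom ≫ iP)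
      have e₂ : (π.obj (a.obj N.obj.snd)).hom = _ := hom_a N.obj.snd.hom
      rw [hhC]
      erw [e₁, e₂] at e
      simp only [Category.assoc, eqToHom_trans_assoc, eqToHom_refl, Category.id_comp] at e
      have hd : C = (FibCat.fp Y f).p.obj (v.obj N.obj.fst) :=
        (G₁.w_obj (ov (𝟙 C))).symm.trans (v.w_obj N.obj.fst).symm
      have e' := congrArg (fun t : (FibCat.fp Y f).p.obj (v.obj N.obj.fst) ⟶ Over.mk s => eqToHom hd ≫ t) e
      simp only [eqToHom_trans_assoc, eqToHom_refl, Category.id_comp] at e'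
      simp only [gC, Category.assoc]
      exact e'
    have hR₁ : R.obj.obj.fst.left = Over.mk R.str := R.lies
    have hR₂ : R.obj.obj.snd.left = Over.mk R.str := (fp_snd_base R.obj).trans R.lies
    let m : Over.mk R.str ⟶ C := eqToHom hR₁.symm ≫ φ₁.hom.fst.left ≫
      eqToHom (G₁.w_obj (ov (rHom C c₀))) ≫ rHom C c₀
    let l : Over.mk R.str ⟶ O := eqToHom hR₁.symm ≫ φ₂.hom.fst.left
    have hs₁' : φ₁.hom.snd.left = _ := fp_map_snd φ₁
    have hs₂' : φ₂.hom.snd.left = _ := fp_map_snd φ₂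
    have k₁ : m ≫ hC = l ≫ I := by
      have e₁ := Over.w φ₁.hom.fst
      have e₂ : φ₂.hom.fst.left ≫ I = R.obj.obj.fst.hom := Over.w φ₂.hom.fst
      have e₃ : (G₁.obj (ov (rHom C c₀))).hom = _ := hom_overCat G₁ (ov (rHom C c₀))
      erw [e₃, ← hhC] at e₁
      simp only [m, l, Category.assoc, e₂]
      rw [← e₁]
      simp
    have k₂ : m ≫ gC = l ≫ J ≫ iP := by
      have e₁ := Over.w φ₁.hom.snd
      have e₂ : φ₂.hom.snd.left ≫ J ≫ iP = R.obj.obj.snd.hom := Over.w φ₂.hom.snd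
      have e₃ : (G₂.obj (ov (rHom C c₀))).hom = _ := hom_overCat G₂ (ov (rHom C c₀))
      rw [hs₁'] at e₁
      rw [hs₂'] at e₂
      erw [e₃] at e₁
      have e₄ := congrArg (fun t => eqToHom hR₂.symm ≫ t) (e₁.trans e₂.symm)
      simp [m, l, gC, FibCat.fp] at e₄ ⊢
      exact e₄
    let σ : Spec (CommRingCat.of R.K) ⟶ Spec (CommRingCat.of Ω) := l.left
    obtain ⟨e, he⟩ : ∃ e, Spec.map e = σ := ⟨Spec.preimage σ, Spec.map_preimage σ⟩
    haveI := hι
    let h₁ : pullback gC.left ι ⟶ Spec L := pullback.fst _ _ ≫ hC.left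
    let xC : Spec (CommRingCat.of R.K) ⟶ pullback gC.left ι := pullback.lift m.left (σ ≫ J.left)
      ((congrArg CommaMorphism.left k₂).trans (Category.assoc _ _ _).symm)
    refine false_of_lft_witness hL h₁ (pullback.snd _ _) r ?_ xC (CommRingCat.ofHom i ≫ e) (CommRingCat.ofHom j ≫ e)
      ?_ ?_ t ?_
    · rw [hr]
      have e1 := congrArg (fun t => pullback.fst gC.left ι ≫ CommaMorphism.left t) hcompat
      simp only [Over.comp_left, ← Category.assoc] at e1 ⊢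
      rw [e1, pullback.condition]
      rfl
    · rw [Spec.map_comp, he]
      exact (pullback.lift_fst_assoc _ _ _ _).trans (congrArg CommaMorphism.left k₁)
    · rw [Spec.map_comp, he]
      exact pullback.lift_snd _ _ _
    · have : Polynomial.eval₂RingHom (CommRingCat.ofHom i ≫ e).hom ((CommRingCat.ofHom j ≫ e) t) =
          e.hom.comp (Polynomial.eval₂RingHom i (j t)) := by
        refine Polynomial.ringHom_ext (fun a => ?_) ?_ <;> simp
      rw [this]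
      exact e.hom.injective.comp hinj
  haveI : IsIso r := (ConcreteCategory.isIso_iff_bijective r).2 hbij
  haveI : IsIso (iP ≫ g₀).left := by rw [← hr]; infer_instance
  haveI : IsIso ((Over.forget S).map (iP ≫ g₀)) := ‹IsIso (iP ≫ g₀).left›
  haveI : IsIso (iP ≫ g₀) := isIso_of_reflects_iso (iP ≫ g₀) (Over.forget S)
  let σ : Over.mk s ⟶ W := inv (iP ≫ g₀) ≫ iP
  have hσ : σ ≫ g₀ = 𝟙 _ := by simp [σ]
  let z : (FibCat.fp Y f).obj := a.obj (ov σ)
  have hz : (FibCat.fp Y f).p.obj z = Over.mk s := (a.w_obj _).trans (ov_base σ)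
  have ez : z.obj.fst.hom = eqToHom hz := by
    have : z.obj.fst.hom = _ := hom_a σ
    rw [this, hσ]
    exact Category.comp_id _
  let φ : f.obj z.obj.snd ⟶ y := z.obj.iso.inv ≫ pullHom y hy z.obj.fst.hom
  have hzs : 𝒳.p.obj z.obj.snd = Over.mk s := (fp_snd_base z).trans hz
  refine ⟨z.obj.snd, φ, hzs, IsHomLift.of_fac' 𝒴.p _ _ ((f.w_obj _).trans hzs) hy ?_⟩
  have e0 : 𝒴.p.map z.obj.iso.inv =
      eqToHom ((f.w_obj _).trans ((fp_snd_base z).trans (Y.w_obj z.obj.fst).symm)) := by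
    rw [← IsIso.Iso.inv_hom, Functor.map_inv]
    rw [IsIso.inv_eq_of_hom_inv_id]
    exact (congrArg (fun t => t ≫ _) (fp_iso_map z)).trans ((eqToHom_trans _ _).trans rfl)
  simp only [φ, Functor.map_comp, e0]
  erw [map_pullHom y hy z.obj.fst.hom]
  simp [ez]

end Groth.Agent.DecSec.DiagPoint
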