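import Groth.Agent.DecSec.DvrLift
import Groth.Agent.ASp.ValDenseUniv
import Groth.Agent.ASp.NoethFibre

/-! Lifts over arbitrary valuation rings from lifts over discrete valuation rings, over a Noetherian base. -/

set_option autoImplicit false
set_option backward.isDefEq.respectTransparency false
set_option backward.isDefEq.respectTransparency.types false

universe u

open CategoryTheory CategoryTheory.Limits AlgebraicGeometry Opposite IsLocalRing

namespace Groth.Agent.DecSec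

open _root_.AlgSp Groth.Agent.ASp

variable {S : Scheme.{u}}

theorem hasLiftExt_of_dvr {U X Y : Sp S} (hU : IsAlgSpace U) (hX : IsAlgSpace X) (hY : IsAlgSpace Y)
    (hYN : IsLocNoethSp Y) (f : X ⟶ Y) (hft : IsFiniteTypeMor f) (hqs : IsQuasiSeparatedMor f) (h : U ⟶ X)
    (hh : IsFiniteTypeMor h)
    (hv : ∀ sq : ValSq f, IsDiscreteValuationRing sq.A → (∃ t : (yon S).obj sq.ptK ⟶ U, t ≫ h = sq.top) → sq.HasLiftExt)
    (sq : ValSq f) (t : (yon S).obj sq.ptK ⟶ U) (ht : t ≫ h = sq.top) : sq.HasLiftExt := by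
  obtain ⟨V₀, p₀, hp₀, hp₀s⟩ := hY.atlas
  obtain ⟨Z, z, v, hze, hzs, hzv, -⟩ := exists_etale_cover hp₀ hp₀s sq.bot
  haveI := hze
  haveI := hzs
  obtain ⟨q, hq⟩ := z.left.surjective (closedPoint sq.A)
  obtain ⟨B, hB, hqB, -⟩ := exists_isAffineOpen_mem_and_subset (x := v.left q) (U := (⊤ : V₀.left.Opens)) (by simp)
  let T : Over S := Over.mk (B.ι ≫ V₀.hom)
  haveI : IsAffine T.left := hB
  let iB : T ⟶ V₀ := Over.homMk B.ι rfl
  let gT : (yon S).obj T ⟶ Y := (yon S).map iB ≫ p₀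
  have hgT : RepWith @Etale gT :=
    repWith_comp (ASp.repWith_yon_map (P := @Etale) (g := iB) (inferInstanceAs (Etale B.ι))) hp₀
  haveI : IsLocallyNoetherian T.left := isLocallyNoetherian_of_chart hYN hgT
  haveI : IsNoetherianRing Γ(T.left, ⊤) := IsLocallyNoetherian.component_noetherian ⟨⊤, isAffineOpen_top _⟩
  let Zo : Over S := Over.mk ((v.left ⁻¹ᵁ B).ι ≫ Z.hom)
  let iZ : Zo ⟶ Z := Over.homMk (v.left ⁻¹ᵁ B).ι rfl
  have hvr : Set.range (iZ.left ≫ v.left) ⊆ Set.range B.ι := by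
    rintro _ ⟨y, rfl⟩
    rw [Scheme.Opens.range_ι]
    exact y.2
  let vT : Zo ⟶ T := Over.homMk (IsOpenImmersion.lift B.ι (iZ.left ≫ v.left) hvr) (by
    change _ ≫ B.ι ≫ V₀.hom = (v.left ⁻¹ᵁ B).ι ≫ Z.hom
    rw [IsOpenImmersion.lift_fac_assoc, Category.assoc, Over.w v]; rfl)
  have hvT : vT ≫ iB = iZ ≫ v := Over.OverMorphism.ext (IsOpenImmersion.lift_fac _ _ _)
  let za : Zo ⟶ sq.ptA := iZ ≫ z
  have hzT : (yon S).map vT ≫ gT = (yon S).map za ≫ sq.bot := by
    rw [show gT = (yon S).map iB ≫ p₀ from rfl, ← Functor.map_comp_assoc, hvT, Functor.map_comp_assoc, hzv,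
      ← Functor.map_comp_assoc]
  let q' : ↥Zo.left := ⟨q, hqB⟩
  haveI : Flat za.left := inferInstanceAs (Flat ((v.left ⁻¹ᵁ B).ι ≫ z.left))
  let η : ↥sq.ptA.left := Spec.map (CommRingCat.ofHom (algebraMap sq.A sq.K)) (closedPoint sq.K)
  obtain ⟨p, hpq, hpη⟩ := Flat.generalizingMap za.left
    (show η ⤳ za.left q' from (show za.left q' = closedPoint sq.A from hq) ▸ specializes_closedPoint _)
  -- the generic point as a point of `U` over `T`
  let Ω₁ : Type u := Zo.left.residueField p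
  let m₁ := Zo.left.fromSpecResidueField p
  obtain ⟨g₁, hg₁⟩ := Spec.map_surjective (R := CommRingCat.of sq.A) (S := CommRingCat.of Ω₁) (m₁ ≫ za.left)
  have hinj : Function.Injective g₁.hom := by
    rw [RingHom.injective_iff_ker_eq_bot]
    have h1 : Spec.map g₁ (closedPoint Ω₁) = η := by
      rw [hg₁, Scheme.Hom.comp_apply]
      exact (congrArg za.left (Scheme.fromSpecResidueField_apply p _)).trans hpη
    have h2 := congrArg PrimeSpectrum.asIdeal h1
    change Ideal.comap g₁.hom (maximalIdeal Ω₁) = Ideal.comap _ (maximalIdeal sq.K) at h2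
    rw [IsLocalRing.maximalIdeal_eq_bot, IsLocalRing.maximalIdeal_eq_bot, ← RingHom.ker_eq_comap_bot,
      ← RingHom.ker_eq_comap_bot] at h2
    rw [h2]
    exact (RingHom.injective_iff_ker_eq_bot _).1 (IsFractionRing.injective sq.A sq.K)
  obtain ⟨ψ₁, hψ₁⟩ := exists_lift_frac (K := sq.K) g₁.hom hinj
  let P₁ : Over S := Over.mk (m₁ ≫ Zo.hom)
  let mP : P₁ ⟶ Zo := Over.homMk m₁ rfl
  have hmK : m₁ ≫ za.left = Spec.map (CommRingCat.ofHom ψ₁) ≫ sq.j.left := by
    rw [← hg₁]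
    change _ = Spec.map _ ≫ Spec.map _
    rw [← Spec.map_comp]
    exact congrArg Spec.map (CommRingCat.hom_ext hψ₁.symm)
  let iK : P₁ ⟶ sq.ptK := Over.homMk (Spec.map (CommRingCat.ofHom ψ₁)) (by
    change _ = m₁ ≫ Zo.hom
    rw [← Over.w za, reassoc_of% hmK, Over.w sq.j])
  have hmK' : mP ≫ za = iK ≫ sq.j := Over.OverMorphism.ext hmK
  let fT := pullback.snd f gT
  have sqX : IsPullback (pullback.fst f gT) fT f gT := IsPullback.of_hasPullback f gT
  have hXT : IsAlgSpace (pullback f gT) := isAlgSpace_pullback hY.diag hX (IsAlgSpace.yon_obj T) f gT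
  haveI := compactSpace_of_isQuasiCompactSp (hft.2 (IsAlgSpace.yon_obj T) isQuasiCompactSp_yon _ _ _ sqX)
  have hfT : LocP @LocallyOfFiniteType fT := locP_of_isPullback sqX.flip hX hY (IsAlgSpace.yon_obj T) hft.1
  have hqsT : IsQuasiSeparatedMor fT := by
    obtain ⟨s, hs, -⟩ := isPullback_diagonal_baseChange sqX
    exact repWith_of_isPullback hs hqs
  have sqU := IsPullback.of_hasPullback h (pullback.fst f gT)
  let hT := pullback.snd h (pullback.fst f gT)
  have hUT : IsAlgSpace (pullback h (pullback.fst f gT)) := isAlgSpace_pullback hX.diag hU hXT _ _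
  haveI := compactSpace_of_isQuasiCompactSp
    (hh.2 hXT (isQuasiCompactSp_of_compactSpace hXT) _ _ _ sqU)
  obtain ⟨U₀, pU, hU₀, hpUe, hpUs⟩ := exists_affine_chart hUT
  haveI : IsAffine U₀.left := hU₀
  let h₀ := pU ≫ hT
  obtain ⟨c, hc⟩ := (yon S).map_surjective (h₀ ≫ fT)
  haveI : LocallyOfFiniteType c.left :=
    locP_comp hXT (locP_of_isPullback sqU.flip hU hX hXT hh.1) hfT pU (𝟙 _) c hpUe (repWith_id _ _)
      (by rw [hc, Category.comp_id]; simp only [h₀, hT, Category.assoc])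
  obtain ⟨xT, hxT1, hxT2⟩ : ∃ x : (yon S).obj P₁ ⟶ pullback f gT,
      x ≫ pullback.fst f gT = ((yon S).map iK ≫ t) ≫ h ∧ x ≫ fT = (yon S).map (mP ≫ vT) :=
    ⟨pullback.lift _ _ (by
      rw [Category.assoc, Category.assoc, ← Category.assoc t, ht, sq.comm, ← Functor.map_comp_assoc, ← hmK',
        Functor.map_comp_assoc, ← hzT, ← Functor.map_comp_assoc]), pullback.lift_fst _ _ _, pullback.lift_snd _ _ _⟩
  obtain ⟨Z₀, zu, zp, pbZ⟩ := exists_isPullback_yon (hUT.representable_from_yon pU)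
    (pullback.lift ((yon S).map iK ≫ t) xT hxT1.symm)
  haveI : Surjective zp.left := hpUs.2 _ _ _ pbZ
  obtain ⟨ζ, -⟩ := zp.left.surjective (closedPoint Ω₁)
  let Ω : Type u := AlgebraicClosure (Z₀.left.residueField ζ)
  let i₀ := Spec.map (CommRingCat.ofHom (algebraMap (Z₀.left.residueField ζ) Ω)) ≫ Z₀.left.fromSpecResidueField ζ
  obtain ⟨ψ₂, hψ₂⟩ := Spec.map_surjective (R := CommRingCat.of Ω₁) (S := CommRingCat.of Ω) (i₀ ≫ zp.left)
  let mΩ := Spec.map ψ₂ ≫ m₁
  have hmΩ : mΩ (closedPoint Ω) = p := Scheme.fromSpecResidueField_apply p _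
  obtain ⟨V, lV, hlV, hlVq⟩ := exists_valuation_lift (L := Ω) mΩ (x := q') (hmΩ.symm ▸ hpq)
  obtain ⟨φ, hφ⟩ := Spec.map_surjective (lV ≫ za.left)
  let ψ : sq.K →+* Ω := ψ₂.hom.comp ψ₁
  have hcomm : φ ≫ CommRingCat.ofHom (algebraMap V Ω) = CommRingCat.ofHom (algebraMap sq.A sq.K) ≫ CommRingCat.ofHom ψ := by
    apply Spec.map_injective
    rw [Spec.map_comp, Spec.map_comp, hφ, ← Category.assoc, hlV]
    change (Spec.map ψ₂ ≫ m₁) ≫ za.left = Spec.map (CommRingCat.ofHom ψ₁ ≫ ψ₂) ≫ sq.j.left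
    rw [Spec.map_comp, Category.assoc, Category.assoc, hmK]
  have hloc : IsLocalHom φ.hom := by
    have e1 : Spec.map φ (closedPoint V) = closedPoint sq.A := by
      rw [hφ, Scheme.Hom.comp_apply, hlVq]; exact hq
    exact ((IsLocalRing.local_hom_TFAE φ.hom).out 0 4).2 (congrArg PrimeSpectrum.asIdeal e1)
  let e : sq.DomExt := ⟨V, Ω, φ.hom, ψ, congrArg CommRingCat.Hom.hom hcomm, hloc⟩
  let PΩ : Over S := Over.mk (Spec.map (CommRingCat.ofHom (algebraMap V Ω)) ≫ lV ≫ Zo.hom)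
  let iΩ : PΩ ⟶ P₁ := Over.homMk (Spec.map ψ₂) (by
    change Spec.map ψ₂ ≫ m₁ ≫ Zo.hom = _ ≫ lV ≫ Zo.hom
    rw [reassoc_of% hlV]
    exact (Category.assoc _ _ _).symm)
  let zΩ : PΩ ⟶ Z₀ := Over.homMk i₀ (by
    rw [← Over.w zp, ← reassoc_of% hψ₂]
    exact Over.w iΩ)
  have hzΩ : zΩ ≫ zp = iΩ := Over.OverMorphism.ext hψ₂.symm
  let lo : Over.mk (lV ≫ Zo.hom) ⟶ Zo := Over.homMk lV rfl
  let jΩ : PΩ ⟶ Over.mk (lV ≫ Zo.hom) := Over.homMk (Spec.map (CommRingCat.ofHom (algebraMap V Ω))) rfl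
  have hjlo : jΩ ≫ lo = iΩ ≫ mP := Over.OverMorphism.ext hlV
  let sqT : ValSq fT :=
    { A := V
      K := Ω
      str := lV ≫ Zo.hom
      top := (yon S).map (zΩ ≫ zu) ≫ h₀
      bot := (yon S).map (lo ≫ vT)
      comm := by
        change _ = (yon S).map jΩ ≫ _
        have e1 : (yon S).map zu ≫ h₀ ≫ fT = (yon S).map zp ≫ (yon S).map (mP ≫ vT) := by
          rw [show h₀ = pU ≫ hT from rfl, Category.assoc, reassoc_of% pbZ.w, pullback.lift_snd_assoc, hxT2]
        rw [Category.assoc, Functor.map_comp, Category.assoc, e1, ← Functor.map_comp, ← Functor.map_comp,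
          ← Functor.map_comp]
        exact congrArg (fun k => (yon S).map k) ((Category.assoc _ _ _).symm.trans
          ((congrArg (· ≫ mP ≫ vT) hzΩ).trans ((Category.assoc _ _ _).symm.trans
            ((congrArg (· ≫ vT) hjlo.symm).trans (Category.assoc _ _ _))))) }
  haveI : IsAlgClosed sqT.K := inferInstanceAs (IsAlgClosed (AlgebraicClosure _))
  obtain ⟨l, hl1, hl2⟩ := hasLift_of_dvr_affine hXT fT hfT hqsT c h₀ hc
    (fun s hs ⟨t', ht'⟩ => hasLiftExt_of_isPullback sqX s fun cc => hv _ hs ⟨t' ≫ pU ≫ pullback.fst _ _, by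
      change _ = s.top ≫ pullback.fst f gT
      refine Eq.trans ?_ (congrArg (· ≫ pullback.fst f gT) ht')
      simp only [h₀, hT, Category.assoc, sqU.w]⟩)
    sqT ((yon S).map (zΩ ≫ zu)) rfl
  let iA : e.ptA' ⟶ sqT.ptA := Over.homMk (𝟙 _) (by
    change 𝟙 _ ≫ lV ≫ Zo.hom = Spec.map φ ≫ sq.str
    rw [Category.id_comp, hφ, Category.assoc]
    exact congrArg (lV ≫ ·) (Over.w za).symm)
  let iL : e.ptK' ⟶ PΩ := Over.homMk (𝟙 _) (by
    change 𝟙 _ ≫ Spec.map _ ≫ lV ≫ Zo.hom = Spec.map _ ≫ Spec.map φ ≫ sq.str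
    rw [Category.id_comp]
    exact congrArg (Spec.map _ ≫ ·) ((Category.id_comp _).symm.trans (Over.w iA)))
  refine ⟨e, (yon S).map iA ≫ l ≫ pullback.fst f gT, ?_, ?_⟩
  · rw [← Functor.map_comp_assoc,
      show (Over.homMk (Spec.map (CommRingCat.ofHom (algebraMap e.A' e.K'))) rfl : e.ptK' ⟶ e.ptA') ≫ iA = iL ≫ sqT.j from
        Over.OverMorphism.ext ((Category.comp_id _).trans (Category.id_comp _).symm),
      Functor.map_comp_assoc, reassoc_of% hl1,
      show sqT.top = (yon S).map (zΩ ≫ zu) ≫ h₀ from rfl, Functor.map_comp, Category.assoc, Category.assoc,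
      show h₀ = pU ≫ hT from rfl, Category.assoc, reassoc_of% pbZ.w, pullback.lift_snd_assoc, hxT1,
      Category.assoc, ht, ← Functor.map_comp_assoc, ← Functor.map_comp_assoc, ← Functor.map_comp_assoc]
    refine congrArg (fun k => (yon S).map k ≫ sq.top) (Over.OverMorphism.ext ?_)
    change (𝟙 _ ≫ i₀ ≫ zp.left) ≫ Spec.map _ = Spec.map _
    rw [Category.id_comp, ← hψ₂, ← Spec.map_comp]
    rfl
  · rw [Category.assoc, Category.assoc, sqX.w, reassoc_of% hl2,
      show sqT.bot = (yon S).map (lo ≫ vT) from rfl, Functor.map_comp_assoc, hzT,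
      ← Functor.map_comp_assoc, ← Functor.map_comp_assoc]
    refine congrArg (fun k => (yon S).map k ≫ sq.bot) (Over.OverMorphism.ext ?_)
    change (𝟙 _ ≫ lV) ≫ za.left = Spec.map φ
    rw [Category.id_comp, hφ]

end Groth.Agent.DecSec
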