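import Groth.Agent.DecSec.DvrCrit

/-! Separated and universally closed morphisms from discrete valuation rings. -/

set_option autoImplicit false
set_option backward.isDefEq.respectTransparency false
set_option backward.isDefEq.respectTransparency.types false

universe u

open CategoryTheory CategoryTheory.Limits AlgebraicGeometry Opposite IsLocalRing

namespace Groth.Agent.DecSec

open _root_.AlgSp Groth.Agent.ASp

variable {S : Scheme.{u}}

theorem hasLiftExt_of_hasLift {F G : Sp S} {f : F ⟶ G} (sq : ValSq f) (h : sq.HasLift) : sq.HasLiftExt := by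
  obtain ⟨l, h1, h2⟩ := h
  have hid : Spec.map (CommRingCat.ofHom (RingHom.id sq.A)) = 𝟙 _ := by rw [CommRingCat.ofHom_id]; exact Spec.map_id _
  let i : (trivExt sq).ptA' ⟶ sq.ptA := Over.homMk (Spec.map (CommRingCat.ofHom (RingHom.id sq.A))) rfl
  refine ⟨trivExt sq, (yon S).map i ≫ l, ?_, ?_⟩
  · rw [← h1, ← Category.assoc, ← Category.assoc, ← Functor.map_comp, ← Functor.map_comp]
    congr 2
    apply Over.OverMorphism.ext
    change Spec.map _ ≫ Spec.map _ = Spec.map _ ≫ Spec.map _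
    rw [← Spec.map_comp, ← Spec.map_comp]
    rfl
  · rw [Category.assoc, h2]
    rfl

theorem isQuasiSeparatedMor_of_mono {F G : Sp S} (f : F ⟶ G) [Mono f] : IsQuasiSeparatedMor f :=
  repWith_of_isIso (pullback.diagonal f)

theorem isFiniteTypeMor_id {F : Sp S} : IsFiniteTypeMor (𝟙 F) :=
  ⟨locP_of_repWith (repWith_of_isIso (𝟙 F)), isQuasiCompactMor_of_repWith (repWith_of_isIso (𝟙 F))⟩

theorem isSeparatedMor_of_dvr {U X Y : Sp S} (hU : IsAlgSpace U) (hX : IsAlgSpace X) (hY : IsAlgSpace Y)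
    (hYN : IsLocNoethSp Y) (f : X ⟶ Y) (hlft : LocP @LocallyOfFiniteType f) (hqs : IsQuasiSeparatedMor f) (h : U ⟶ X)
    (hh : IsFiniteTypeMor h) (hd : DenseRange (Points.map h))
    (hv : ∀ sq : ValSq f, IsDiscreteValuationRing sq.A → (∃ t : (yon S).obj sq.ptK ⟶ U, t ≫ h = sq.top) → sq.HasUniq) :
    IsSeparatedMor f := by
  have hP : IsAlgSpace (pullback f f) := isAlgSpace_pullback hY.diag hX hX f f
  have hfst := locP_of_isPullback (IsPullback.of_hasPullback f f) hX hY hX hlft
  have hPN : IsLocNoethSp (pullback f f) := isLocNoethSp_of_lft hP (locP_comp hX hfst hlft) hYN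
  have hΔ : IsFiniteTypeMor (pullback.diagonal f) :=
    ⟨locP_of_repWith (repWith_diagonal_locallyOfFiniteType hX f), isQuasiCompactMor_of_repWith hqs⟩
  refine isSeparatedMor_of_univClosed_diag hX f
    (isUnivClosedMor_of_dense_vc hU hX hP (pullback.diagonal f) h hΔ.2 hh.2 hd fun sq ⟨t, ht⟩ => ?_)
  refine ⟨fun l l' _ h2 _ h4 => (cancel_mono (pullback.diagonal f)).1 (h2.trans h4.symm), ?_⟩
  refine hasLiftExt_of_dvr hU hX hP hPN _ hΔ (isQuasiSeparatedMor_of_mono _) h hh (fun sq hA ht => ?_) sq t ht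
  let a₁ : (yon S).obj sq.ptA ⟶ X := sq.bot ≫ pullback.fst f f
  let a₂ : (yon S).obj sq.ptA ⟶ X := sq.bot ≫ pullback.snd f f
  have e1 : (yon S).map sq.j ≫ a₁ = sq.top := by
    have := congrArg (· ≫ pullback.fst f f) sq.comm
    simp only [Category.assoc, pullback.diagonal_fst, Category.comp_id] at this
    exact this.symm
  have e2 : (yon S).map sq.j ≫ a₂ = sq.top := by
    have := congrArg (· ≫ pullback.snd f f) sq.comm
    simp only [Category.assoc, pullback.diagonal_snd, Category.comp_id] at this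
    exact this.symm
  let sq' : ValSq f := transferSq sq f sq.top (a₁ ≫ f) (by rw [← Category.assoc, e1])
  have e : a₁ = a₂ := hv sq' hA ht a₁ a₂ e1 rfl e2 (by
    change a₂ ≫ f = a₁ ≫ f
    simp only [a₁, a₂, Category.assoc, pullback.condition])
  refine hasLiftExt_of_hasLift sq ⟨a₁, e1, ?_⟩
  apply pullback.hom_ext
  · rw [Category.assoc, pullback.diagonal_fst, Category.comp_id]
  · rw [Category.assoc, pullback.diagonal_snd, Category.comp_id]; exact e

theorem isProperMor_of_dvr {U X Y : Sp S} (hU : IsAlgSpace U) (hX : IsAlgSpace X) (hY : IsAlgSpace Y)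
    (hYN : IsLocNoethSp Y) (f : X ⟶ Y) (hft : IsFiniteTypeMor f) (hsep : IsSeparatedMor f) (h : U ⟶ X)
    (hh : IsFiniteTypeMor h) (hd : DenseRange (Points.map h))
    (hv : ∀ sq : ValSq f, IsDiscreteValuationRing sq.A → (∃ t : (yon S).obj sq.ptK ⟶ U, t ≫ h = sq.top) → sq.HasLiftExt) :
    IsProperMor f := by
  have hqs : IsQuasiSeparatedMor f :=
    repWith_mono (fun _ _ g (hg : IsClosedImmersion g) => inferInstanceAs (QuasiCompact g)) hsep
  exact ⟨hsep, hft, isUnivClosedMor_of_dense_vc hU hX hY f h hft.2 hh.2 hd fun sq ⟨t, ht⟩ =>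
    ⟨uniqVC_of_separated hsep sq, hasLiftExt_of_dvr hU hX hY hYN f hft hqs h hh hv sq t ht⟩⟩

/-- A point in the closure of the image is the closed point of a square over a discrete valuation ring. -/
theorem exists_dvr_of_mem_closure {X Y : Sp S} (hX : IsAlgSpace X) (hY : IsAlgSpace Y) (f : X ⟶ Y)
    (hft : IsFiniteTypeMor f) (hYN : IsLocNoethSp Y) (y : Points Y) (hy : y ∈ closure (Set.range (Points.map f))) :
    ∃ (A : Type u) (_ : CommRing A) (_ : IsDomain A) (_ : IsDiscreteValuationRing A)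
      (a : Spec (CommRingCat.of A) ⟶ S) (α : (yon S).obj (Over.mk a) ⟶ Y)
      (κ : (yon S).obj (Over.mk (Spec.map (CommRingCat.ofHom (algebraMap A (FractionRing A))) ≫ a)) ⟶ X),
      κ ≫ f = (yon S).map (Over.homMk (Spec.map (CommRingCat.ofHom (algebraMap A (FractionRing A))))) ≫ α ∧
      Points.map α (Points.schemeEquiv (Over.mk a) (IsLocalRing.closedPoint A)) = y := by
  obtain ⟨V₀, p₀, hp₀, hp₀s⟩ := hY.atlas
  obtain ⟨v₀, rfl⟩ := surjective_ofPt hp₀s y
  obtain ⟨B, hB, hvB, -⟩ := exists_isAffineOpen_mem_and_subset (x := v₀) (U := (⊤ : V₀.left.Opens)) (by simp)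
  let T : Over S := Over.mk (B.ι ≫ V₀.hom)
  haveI : IsAffine T.left := hB
  let iB : T ⟶ V₀ := Over.homMk B.ι rfl
  let gT : (yon S).obj T ⟶ Y := (yon S).map iB ≫ p₀
  have hgT : RepWith @Etale gT :=
    repWith_comp (ASp.repWith_yon_map (P := @Etale) (g := iB) (inferInstanceAs (Etale B.ι))) hp₀
  haveI : IsLocallyNoetherian T.left := isLocallyNoetherian_of_chart hYN hgT
  let t₀ : ↥T.left := ⟨v₀, hvB⟩
  have ht₀ : Points.ofPt gT t₀ = Points.ofPt p₀ v₀ := ofPt_yon_map_comp iB p₀ _
  have sqX := IsPullback.of_hasPullback f gT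
  have hXT : IsAlgSpace (pullback f gT) := isAlgSpace_pullback hY.diag hX (IsAlgSpace.yon_obj T) f gT
  haveI := compactSpace_of_isQuasiCompactSp (hft.2 (IsAlgSpace.yon_obj T) isQuasiCompactSp_yon _ _ _ sqX)
  obtain ⟨W, pW, hW, hpe, hps⟩ := exists_affine_chart hXT
  haveI : IsAffine W.left := hW
  obtain ⟨c, hc⟩ := (yon S).map_surjective (pW ≫ pullback.snd f gT)
  haveI : LocallyOfFiniteType c.left :=
    locP_of_isPullback sqX.flip hX hY (IsAlgSpace.yon_obj T) hft.1 pW (𝟙 _) c hpe (repWith_id _ _)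
      (by rw [hc, Category.comp_id])
  have hsub : Points.ofPt gT ⁻¹' Set.range (Points.map f) ⊆ Set.range c.left := by
    rintro t ⟨x, hx⟩
    obtain ⟨z, -, hz⟩ := points_exists_of_isPullback sqX x (Points.schemeHomeo T t)
      (hx.trans (congrFun (ofPt_comp_eq_map gT) t))
    obtain ⟨w, rfl⟩ := surjective_ofPt hps z
    rw [Points.map_ofPt, ← hc, ofPt_yon_eq] at hz
    exact ⟨w, (Points.schemeHomeo T).injective hz⟩
  obtain ⟨w, hw⟩ := exists_specializes_of_mem_closure_range c.left (y := t₀)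
    (closure_mono hsub ((isOpenMap_ofPt_of_etale hgT).preimage_closure_subset_closure_preimage (by
      rw [Set.mem_preimage, ht₀]; exact hy)))
  obtain ⟨A, _, _, _, σ, b, hbσ, hb⟩ : ∃ (A : Type u) (_ : CommRing A) (_ : IsDomain A)
      (_ : IsDiscreteValuationRing A) (σ : Spec (CommRingCat.of (FractionRing A)) ⟶ W.left)
      (b : Spec (CommRingCat.of A) ⟶ T.left),
      σ ≫ c.left = Spec.map (CommRingCat.ofHom (algebraMap A (FractionRing A))) ≫ b ∧ b (closedPoint A) = t₀ := by
    by_cases hne : t₀ = c.left w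
    · let κw : Type u := W.left.residueField w
      let A := PowerSeries κw
      let ρ : κw →+* A := PowerSeries.C
      refine ⟨A, inferInstance, inferInstance, inferInstance,
        Spec.map (CommRingCat.ofHom ((algebraMap A (FractionRing A)).comp ρ)) ≫ W.left.fromSpecResidueField w,
        Spec.map (CommRingCat.ofHom ρ) ≫ W.left.fromSpecResidueField w ≫ c.left, ?_, ?_⟩
      · rw [CommRingCat.ofHom_comp, Spec.map_comp, Category.assoc, Category.assoc]
      · rw [Scheme.Hom.comp_apply, Scheme.Hom.comp_apply, hne]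
        exact congrArg c.left (Scheme.fromSpecResidueField_apply w _)
    · obtain ⟨A, iA, iD, iV, σ, h, hh, e, -⟩ := DVRCrit.exists_dvr_square c.left w t₀ hw hne
      exact ⟨A, iA, iD, iV, σ, h, e, hh⟩
  let Ab : Over S := Over.mk (b ≫ T.hom)
  let bA : Ab ⟶ T := Over.homMk b rfl
  let σW : Over.mk (Spec.map (CommRingCat.ofHom (algebraMap A (FractionRing A))) ≫ Ab.hom) ⟶ W := Over.homMk σ (by
    change σ ≫ W.hom = Spec.map _ ≫ b ≫ T.hom
    rw [← Over.w c, reassoc_of% hbσ])
  let jj : Over.mk (Spec.map (CommRingCat.ofHom (algebraMap A (FractionRing A))) ≫ Ab.hom) ⟶ Ab :=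
    Over.homMk (Spec.map (CommRingCat.ofHom (algebraMap A (FractionRing A)))) rfl
  refine ⟨A, inferInstance, inferInstance, inferInstance, b ≫ T.hom, (yon S).map bA ≫ gT,
    (yon S).map σW ≫ pW ≫ pullback.fst f gT, ?_, ?_⟩
  · change _ = (yon S).map jj ≫ _
    rw [Category.assoc, Category.assoc, sqX.w, ← Category.assoc pW, ← hc, ← Functor.map_comp_assoc,
      show σW ≫ c = jj ≫ bA from Over.OverMorphism.ext hbσ, Functor.map_comp_assoc]
  · refine Eq.trans (congrFun (ofPt_comp_eq_map ((yon S).map bA ≫ gT)) _).symm ?_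
    rw [ofPt_yon_map_comp]
    exact (congrArg (Points.ofPt gT) hb).trans ht₀

end Groth.Agent.DecSec
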