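import Groth.Agent.DecSec.DvrRing
import Groth.Agent.ASp.ValClosed
import Groth.Agent.ASp.DecentQS

/-! Lifts over arbitrary valuation rings from lifts over discrete valuation rings, over a Noetherian affine base. -/

set_option autoImplicit false
set_option backward.isDefEq.respectTransparency false
set_option backward.isDefEq.respectTransparency.types false

universe u

open CategoryTheory CategoryTheory.Limits AlgebraicGeometry Opposite IsLocalRing

namespace Groth.Agent.DecSec

open _root_.AlgSp Groth.Agent.ASp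

variable {S : Scheme.{u}}

theorem hom_ext_toRing {X : Scheme.{u}} [IsAffine X] {R : CommRingCat.{u}} {m m' : Spec R ⟶ X}
    (h : toRing m = toRing m') : m = m' := by rw [← spec_toRing m, h, spec_toRing]

theorem exists_lift_frac {A K Ω : Type*} [CommRing A] [Field K] [Algebra A K] [IsFractionRing A K] [Field Ω]
    (g : A →+* Ω) (hg : Function.Injective g) : ∃ ψ : K →+* Ω, ψ.comp (algebraMap A K) = g :=
  ⟨IsFractionRing.lift hg, RingHom.ext fun x => IsFractionRing.lift_algebraMap hg x⟩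

theorem hasLift_of_dvr_affine {X : Sp S} {T : Over S} [IsAffine T.left] [IsNoetherianRing Γ(T.left, ⊤)]
    (hX : IsAlgSpace X) [CompactSpace (Points X)] (f : X ⟶ (yon S).obj T) (hf : LocP @LocallyOfFiniteType f)
    (hqs : IsQuasiSeparatedMor f) {U₀ : Over S} [IsAffine U₀.left] (c : U₀ ⟶ T) [LocallyOfFiniteType c.left]
    (h₀ : (yon S).obj U₀ ⟶ X) (hc : (yon S).map c = h₀ ≫ f)
    (hv : ∀ sq : ValSq f, IsDiscreteValuationRing sq.A →
      (∃ t : (yon S).obj sq.ptK ⟶ (yon S).obj U₀, t ≫ h₀ = sq.top) → sq.HasLiftExt)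
    (sq : ValSq f) [IsAlgClosed sq.K] (t : (yon S).obj sq.ptK ⟶ (yon S).obj U₀) (ht : t ≫ h₀ = sq.top) :
    sq.HasLift := by
  obtain ⟨W, pW, hW, hpe, hps⟩ := exists_affine_chart hX
  haveI : IsAffine W.left := hW
  obtain ⟨cW, hcW⟩ := (yon S).map_surjective (pW ≫ f)
  haveI : LocallyOfFiniteType cW.left :=
    hf pW (𝟙 _) cW hpe (repWith_id _ _) (by rw [hcW, Category.comp_id])
  obtain ⟨k₀, rfl⟩ := (yon S).map_surjective t
  obtain ⟨bA, hbA⟩ := (yon S).map_surjective sq.bot
  have hk₀ : k₀ ≫ c = sq.j ≫ bA := (yon S).map_injective (by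
    rw [Functor.map_comp, Functor.map_comp, hc, hbA, ← Category.assoc, ht]; exact sq.comm)
  let αA : Γ(T.left, ⊤) ⟶ CommRingCat.of sq.A := toRing bA.left
  let γ : Γ(T.left, ⊤) ⟶ CommRingCat.of sq.K := αA ≫ CommRingCat.ofHom (algebraMap sq.A sq.K)
  have hγ : toRing (sq.j.left ≫ bA.left) = γ := toRing_spec_comp _ _
  obtain ⟨P, pw, pk, pbP⟩ := exists_isPullback_yon (hX.representable_from_yon pW) sq.top
  haveI : Etale pk.left := hpe.2 _ _ _ pbP
  haveI : QuasiCompact pk.left := (repWith_qc_of_qs hqs pW cW hcW.symm).2 _ _ _ pbP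
  obtain ⟨ι, hι, s, hs, hsU⟩ := exists_finite_sections (K := sq.K) pk.left
  have hpwk : pw ≫ cW = pk ≫ sq.j ≫ bA := (yon S).map_injective (by
    rw [Functor.map_comp, hcW, Functor.map_comp, Functor.map_comp, hbA, ← Category.assoc, pbP.w, Category.assoc,
      sq.comm])
  let σ : ι → (Γ(W.left, ⊤) ⟶ CommRingCat.of sq.K) := fun i => toRing (s i ≫ pw.left)
  have hsw : ∀ i, (s i ≫ pw.left) ≫ cW.left = sq.j.left ≫ bA.left := fun i => by
    have := congrArg CommaMorphism.left hpwk
    simp only [Over.comp_left] at this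
    rw [Category.assoc, this, reassoc_of% hs i]
  have hσ : ∀ i, cW.left.appTop ≫ σ i = γ := fun i => by
    rw [← toRing_comp, hsw, hγ]
  let ω : Γ(U₀.left, ⊤) ⟶ CommRingCat.of sq.K := toRing k₀.left
  have hω : c.left.appTop ≫ ω = γ := by
    rw [← toRing_comp, ← hγ]
    exact congrArg toRing (congrArg CommaMorphism.left hk₀)
  obtain ⟨L, _, φ, jL, ωL, σL, hess, hjφ, hjω, hjσ, hωb⟩ :=
    exists_fg_subfield γ.hom c.left.appTop.hom cW.left.appTop.hom
      (HasRingHomProperty.appTop (P := @LocallyOfFiniteType) c.left inferInstance)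
      (HasRingHomProperty.appTop (P := @LocallyOfFiniteType) cW.left inferInstance)
      ω.hom (congrArg CommRingCat.Hom.hom hω) (fun i => (σ i).hom) (fun i => congrArg CommRingCat.Hom.hom (hσ i))
  let VK : ValuationSubring sq.K :=
    { (algebraMap sq.A sq.K).range with
      mem_or_inv_mem' := fun x => by
        rcases ValuationRing.isInteger_or_isInteger sq.A x with ⟨a, ha⟩ | ⟨a, ha⟩
        · exact Or.inl ⟨a, ha⟩
        · exact Or.inr ⟨a, ha⟩ }
  by_cases hcase : ∃ i, ∀ x, σ i x ∈ VK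
  · obtain ⟨i, hi⟩ := hcase
    let e := RingEquiv.ofBijective (algebraMap sq.A sq.K).rangeRestrict
      ⟨fun a b h => IsFractionRing.injective sq.A sq.K (congrArg Subtype.val h),
        (algebraMap sq.A sq.K).rangeRestrict_surjective⟩
    let χ : Γ(W.left, ⊤) ⟶ CommRingCat.of sq.A :=
      CommRingCat.ofHom (e.symm.toRingHom.comp ((σ i).hom.codRestrict (algebraMap sq.A sq.K).range hi))
    have hχ : χ ≫ CommRingCat.ofHom (algebraMap sq.A sq.K) = σ i := by
      ext x
      exact congrArg Subtype.val (e.apply_symm_apply ⟨σ i x, hi x⟩)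
    let l₀ := Spec.map χ ≫ W.left.isoSpec.inv
    have hl₀ : l₀ ≫ cW.left = bA.left := hom_ext_toRing (by
      rw [toRing_comp, toRing_map]
      ext x
      apply IsFractionRing.injective sq.A sq.K
      exact (congrArg (fun g => g.hom (cW.left.appTop.hom x)) hχ).trans (congrArg (fun g => g.hom x) (hσ i)))
    let l : sq.ptA ⟶ W := Over.homMk l₀ (by rw [← Over.w cW, ← Category.assoc, hl₀]; exact Over.w bA)
    let si : sq.ptK ⟶ P := Over.homMk (s i) (by rw [← Over.w pk, ← Category.assoc, hs]; exact Category.id_comp _)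
    have hjl : sq.j ≫ l = si ≫ pw := Over.OverMorphism.ext (hom_ext_toRing (by
      change toRing (Spec.map _ ≫ l₀) = toRing (s i ≫ pw.left)
      rw [toRing_spec_comp, toRing_map]
      exact hχ))
    refine ⟨(yon S).map l ≫ pW, ?_, ?_⟩
    · rw [← Functor.map_comp_assoc, hjl, Functor.map_comp_assoc, pbP.w, ← Functor.map_comp_assoc,
        show si ≫ pk = 𝟙 _ from Over.OverMorphism.ext (hs i), CategoryTheory.Functor.map_id, Category.id_comp]
    · rw [Category.assoc, ← hcW, ← hbA, ← Functor.map_comp]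
      exact congrArg (yon S).map (Over.OverMorphism.ext hl₀)
  push Not at hcase
  choose b hb using hcase
  exfalso
  let WL := VK.comap jL
  obtain ⟨w₀, hw₀⟩ := surjective_ofPt hps (Points.ofPt sq.top (closedPoint sq.K))
  obtain ⟨z₀, -, -⟩ := (ofPt_eq_ofPt_iff pbP w₀ (closedPoint sq.K)).1 hw₀
  obtain ⟨i₀, -⟩ := hsU (P.left.residueField z₀) inferInstance (P.left.fromSpecResidueField z₀)
  classical
  haveI := Fintype.ofFinite ι
  obtain ⟨R, hR, hRC, hRb⟩ := DVRCrit.exists_dvr_not_mem φ hess WL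
    (fun x => by
      change jL (φ x) ∈ VK
      rw [← RingHom.comp_apply, hjφ]
      exact ⟨αA x, rfl⟩)
    (Finset.univ.image fun i => σL i (b i))
    (fun a ha => by
      obtain ⟨i, -, rfl⟩ := Finset.mem_image.1 ha
      change jL _ ∉ VK
      rw [← RingHom.comp_apply, hjσ]
      exact hb i)
    ⟨_, Finset.mem_image.2 ⟨i₀, Finset.mem_univ _, rfl⟩⟩
  -- the square over `R`
  let φR : Γ(T.left, ⊤) ⟶ CommRingCat.of R := CommRingCat.ofHom (φ.codRestrict R.toSubring hRC)
  let bR₀ := Spec.map φR ≫ T.left.isoSpec.inv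
  let jR := Spec.map (CommRingCat.ofHom (algebraMap R L))
  let ptL : Over S := Over.mk (jR ≫ bR₀ ≫ T.hom)
  have hbR : toRing (jR ≫ bR₀) = CommRingCat.ofHom φ := by
    rw [toRing_spec_comp, toRing_map]; rfl
  have hkL : (Spec.map (CommRingCat.ofHom ωL) ≫ U₀.left.isoSpec.inv) ≫ c.left = jR ≫ bR₀ := hom_ext_toRing (by
    rw [toRing_comp, toRing_map, hbR]
    exact CommRingCat.hom_ext hωb)
  let kL : ptL ⟶ U₀ := Over.homMk (Spec.map (CommRingCat.ofHom ωL) ≫ U₀.left.isoSpec.inv) (by
    rw [← Over.w c, ← Category.assoc, hkL]; exact Category.assoc _ _ _)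
  let bR : Over.mk (bR₀ ≫ T.hom) ⟶ T := Over.homMk bR₀ rfl
  let sqR : ValSq f :=
    { A := R
      K := L
      str := bR₀ ≫ T.hom
      top := (yon S).map kL ≫ h₀
      bot := (yon S).map bR
      comm := (Category.assoc _ _ _).trans ((congrArg ((yon S).map kL ≫ ·) hc.symm).trans
        (((yon S).map_comp _ _).symm.trans
          ((congrArg (yon S).map (Over.OverMorphism.ext hkL)).trans ((yon S).map_comp _ _)))) }
  obtain ⟨e, l₁, hl₁, hl₁'⟩ := hv sqR hR ⟨_, rfl⟩
  haveI := e.isLocalHom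
  -- a point of the chart over the lift
  obtain ⟨Q, qw, qa, pbQ⟩ := exists_isPullback_yon (hX.representable_from_yon pW) l₁
  haveI : Etale qa.left := hpe.2 _ _ _ pbQ
  haveI : Surjective qa.left := hps.2 _ _ _ pbQ
  obtain ⟨q, hq⟩ := qa.left.surjective (closedPoint e.A')
  let η : ↥(Spec (CommRingCat.of e.A')) :=
    Spec.map (CommRingCat.ofHom (algebraMap e.A' e.K')) (closedPoint e.K')
  obtain ⟨p, hpq, hpη⟩ := Flat.generalizingMap qa.left (show η ⤳ qa.left q from hq ▸ specializes_closedPoint _)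
  let Ω : Type u := Q.left.residueField p
  let m := Q.left.fromSpecResidueField p
  have hm : m (closedPoint Ω) = p := Scheme.fromSpecResidueField_apply p _
  obtain ⟨V, lV, hlV, hlVq⟩ := exists_valuation_lift (L := Ω) m (x := q) (hm.symm ▸ hpq)
  obtain ⟨φ', hφ'⟩ := Spec.map_surjective (lV ≫ qa.left)
  have hlφ : IsLocalHom φ'.hom := by
    have e1 : Spec.map φ' (closedPoint V) = closedPoint e.A' := by
      rw [hφ', Scheme.Hom.comp_apply, hlVq]; exact hq
    exact ((IsLocalRing.local_hom_TFAE φ'.hom).out 0 4).2 (congrArg PrimeSpectrum.asIdeal e1)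
  let g : e.A' →+* Ω := (algebraMap V Ω).comp φ'.hom
  have hgη : Spec.map (CommRingCat.ofHom g) (closedPoint Ω) = η := by
    change Spec.map (φ' ≫ CommRingCat.ofHom (algebraMap V Ω)) _ = _
    rw [Spec.map_comp, hφ', ← Category.assoc, hlV, Scheme.Hom.comp_apply]
    exact (congrArg qa.left hm).trans hpη
  have hg : Function.Injective g := by
    rw [RingHom.injective_iff_ker_eq_bot]
    have h1 := congrArg PrimeSpectrum.asIdeal hgη
    change Ideal.comap g (maximalIdeal Ω) = Ideal.comap _ (maximalIdeal e.K') at h1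
    rw [IsLocalRing.maximalIdeal_eq_bot, IsLocalRing.maximalIdeal_eq_bot, ← RingHom.ker_eq_comap_bot,
      ← RingHom.ker_eq_comap_bot] at h1
    rw [h1]
    exact (RingHom.injective_iff_ker_eq_bot _).1 (IsFractionRing.injective e.A' e.K')
  obtain ⟨ψK, hψK⟩ := exists_lift_frac (K := e.K') g hg
  obtain ⟨M, _, aM, bM, hab⟩ := exists_common_field jL (ψK.comp e.ψ)
  -- the point of `P` it gives
  let PM : Over S := Over.mk (Spec.map (CommRingCat.ofHom (bM.comp ψK)) ≫ e.ptK'.hom)
  let mK : PM ⟶ e.ptK' := Over.homMk (Spec.map (CommRingCat.ofHom (bM.comp ψK))) rfl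
  let iψ : e.ptK' ⟶ sqR.ptK := Over.homMk (Spec.map (CommRingCat.ofHom e.ψ)) (by
    change Spec.map _ ≫ Spec.map _ ≫ _ = Spec.map _ ≫ Spec.map _ ≫ _
    rw [← Spec.map_comp_assoc, ← Spec.map_comp_assoc, ← CommRingCat.ofHom_comp, ← CommRingCat.ofHom_comp, e.comm])
  let jA : e.ptK' ⟶ e.ptA' := Over.homMk (Spec.map (CommRingCat.ofHom (algebraMap e.A' e.K'))) rfl
  have hkKT : Spec.map (CommRingCat.ofHom jL) ≫ jR ≫ bR₀ = sq.j.left ≫ bA.left := hom_ext_toRing (by
    rw [toRing_spec_comp, hbR, hγ]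
    exact CommRingCat.hom_ext hjφ)
  let kK : sq.ptK ⟶ sqR.ptK := Over.homMk (Spec.map (CommRingCat.ofHom jL)) (by
    change Spec.map (CommRingCat.ofHom jL) ≫ jR ≫ bR₀ ≫ T.hom = sq.ptK.hom
    rw [reassoc_of% hkKT]
    exact Over.w (sq.j ≫ bA))
  have hkK : kK ≫ kL = k₀ := Over.OverMorphism.ext (hom_ext_toRing (by
    change toRing (Spec.map (CommRingCat.ofHom jL) ≫ Spec.map (CommRingCat.ofHom ωL) ≫ _) = ω
    rw [toRing_spec_comp, toRing_map]
    exact CommRingCat.hom_ext hjω))
  have hMK : Spec.map (CommRingCat.ofHom aM) ≫ Spec.map (CommRingCat.ofHom jL) =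
      Spec.map (CommRingCat.ofHom (bM.comp ψK)) ≫ Spec.map (CommRingCat.ofHom e.ψ) := by
    rw [← Spec.map_comp, ← Spec.map_comp, ← CommRingCat.ofHom_comp, ← CommRingCat.ofHom_comp, hab]
    rfl
  let xK : PM ⟶ sq.ptK := Over.homMk (Spec.map (CommRingCat.ofHom aM)) (by
    change _ = Spec.map (CommRingCat.ofHom (bM.comp ψK)) ≫ e.ptK'.hom
    rw [← Over.w kK, ← Over.w iψ]
    exact (Category.assoc _ _ _).symm.trans ((congrArg (· ≫ sqR.ptK.hom) hMK).trans (Category.assoc _ _ _)))
  have hxQ : (Spec.map (CommRingCat.ofHom bM) ≫ m) ≫ qa.left =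
      Spec.map (CommRingCat.ofHom (bM.comp ψK)) ≫ jA.left := by
    rw [Category.assoc, ← hlV, Category.assoc, ← hφ', ← Spec.map_comp, ← Spec.map_comp]
    change _ = Spec.map _ ≫ Spec.map _
    rw [← Spec.map_comp]
    refine congrArg Spec.map (CommRingCat.hom_ext (RingHom.ext fun x => ?_))
    exact congrArg bM (RingHom.congr_fun hψK x).symm
  let xQ : PM ⟶ Q := Over.homMk (Spec.map (CommRingCat.ofHom bM) ≫ m) (by
    rw [← Over.w qa, ← Category.assoc, hxQ]
    exact Category.assoc _ _ _)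
  have hxa : xQ ≫ qa = mK ≫ jA := Over.OverMorphism.ext hxQ
  have hxX : (yon S).map (xQ ≫ qw) ≫ pW = (yon S).map xK ≫ sq.top := by
    rw [Functor.map_comp_assoc, pbQ.w, ← Functor.map_comp_assoc, hxa, Functor.map_comp_assoc,
      show (yon S).map jA ≫ l₁ = (yon S).map iψ ≫ sqR.top from hl₁, ← Functor.map_comp_assoc,
      show mK ≫ iψ = xK ≫ kK from Over.OverMorphism.ext hMK.symm, Functor.map_comp_assoc, ← ht, ← hkK]
    simp only [sqR, Functor.map_comp, Category.assoc]
  obtain ⟨z, hz⟩ := (yon S).map_surjective (pbP.lift _ _ hxX)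
  have hz1 : z ≫ pw = xQ ≫ qw := (yon S).map_injective (by rw [Functor.map_comp, hz, pbP.lift_fst])
  have hz2 : z ≫ pk = xK := (yon S).map_injective (by rw [Functor.map_comp, hz, pbP.lift_snd])
  obtain ⟨i, hi⟩ := hsU M inferInstance z.left
  let ψ : Γ(W.left, ⊤) ⟶ CommRingCat.of Ω := toRing (lV ≫ qw.left) ≫ CommRingCat.ofHom (algebraMap V Ω)
  have hψ : toRing (m ≫ qw.left) = ψ := by
    rw [← hlV, Category.assoc, toRing_spec_comp]
  have hkey : bM (ψ (b i)) = aM (σ i (b i)) := by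
    have h1 : toRing ((Spec.map (CommRingCat.ofHom bM) ≫ m) ≫ qw.left) =
        toRing (Spec.map (CommRingCat.ofHom aM) ≫ s i ≫ pw.left) := by
      refine congrArg toRing ?_
      have h2 := congrArg CommaMorphism.left hz1
      have h3 := congrArg CommaMorphism.left hz2
      simp only [Over.comp_left] at h2 h3
      rw [h3] at hi
      change _ = xQ.left ≫ qw.left at h2
      rw [show (Spec.map (CommRingCat.ofHom bM) ≫ m) = xQ.left from rfl, ← h2, hi, Category.assoc]
      rfl
    rw [Category.assoc, toRing_spec_comp, toRing_spec_comp, hψ] at h1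
    exact congrArg (fun g => g.hom (b i)) h1
  let lam : L := σL i (b i)
  have hlam : ψ (b i) = ψK (e.ψ lam) := by
    apply bM.injective
    rw [hkey, show (σ i) (b i) = jL lam from (RingHom.congr_fun (hjσ i) _).symm]
    exact RingHom.congr_fun hab lam
  refine hRb lam (Finset.mem_image.2 ⟨i, Finset.mem_univ _, rfl⟩) ?_
  by_contra hnR
  have hne : lam ≠ 0 := fun h0 => hnR (h0 ▸ R.zero_mem)
  let r : R := ⟨lam⁻¹, (R.mem_or_inv_mem lam).resolve_left hnR⟩
  have hr : ¬ IsUnit r := by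
    intro hu
    obtain ⟨r', hr'⟩ := hu.exists_right_inv
    refine hnR ?_
    have : lam⁻¹ * r'.1 = 1 := congrArg Subtype.val hr'
    rw [show lam = r'.1 from (mul_left_cancel₀ (inv_ne_zero hne) (this.trans (inv_mul_cancel₀ hne).symm)).symm]
    exact r'.2
  refine hr (e.isLocalHom.map_nonunit r (hlφ.map_nonunit _ ?_))
  refine IsUnit.of_mul_eq_one ((toRing (lV ≫ qw.left)).hom (b i)) (Subtype.val_injective ?_)
  change g (e.φ r) * ψ (b i) = 1
  rw [hlam, ← hψK, RingHom.comp_apply, show algebraMap e.A' e.K' (e.φ r) = e.ψ (lam⁻¹) from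
    RingHom.congr_fun e.comm r, ← map_mul, ← map_mul, inv_mul_cancel₀ hne, map_one, map_one]

end Groth.Agent.DecSec
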