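import Groth.Agent.DVRCrit.Centre
import Groth.Agent.ASt.DiagCancel
import Mathlib.AlgebraicGeometry.AlgClosed.Basic

/-! Ring maps out of affine schemes and finite sets of rational points. -/

set_option autoImplicit false
set_option backward.isDefEq.respectTransparency false
set_option backward.isDefEq.respectTransparency.types false

universe u

open CategoryTheory CategoryTheory.Limits AlgebraicGeometry IsLocalRing

namespace Groth.Agent.DecSec

/-- The ring map of a point of an affine scheme. -/
noncomputable def toRing {X : Scheme.{u}} [IsAffine X] {R : CommRingCat.{u}} (m : Spec R ⟶ X) : Γ(X, ⊤) ⟶ R :=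
  Spec.preimage (m ≫ X.isoSpec.hom)

theorem spec_toRing {X : Scheme.{u}} [IsAffine X] {R : CommRingCat.{u}} (m : Spec R ⟶ X) :
    Spec.map (toRing m) ≫ X.isoSpec.inv = m := by
  rw [toRing, Spec.map_preimage, Category.assoc, Iso.hom_inv_id, Category.comp_id]

theorem toRing_comp {X Y : Scheme.{u}} [IsAffine X] [IsAffine Y] {R : CommRingCat.{u}} (m : Spec R ⟶ X) (g : X ⟶ Y) :
    toRing (m ≫ g) = g.appTop ≫ toRing m := by
  apply Spec.map_injective
  simp only [toRing, Spec.map_comp, Spec.map_preimage, Category.assoc, Scheme.isoSpec_hom_naturality]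

theorem toRing_spec_comp {X : Scheme.{u}} [IsAffine X] {R R' : CommRingCat.{u}} (φ : R ⟶ R') (m : Spec R ⟶ X) :
    toRing (Spec.map φ ≫ m) = toRing m ≫ φ := by
  apply Spec.map_injective
  simp only [toRing, Spec.map_comp, Spec.map_preimage, Category.assoc]

theorem toRing_map {X : Scheme.{u}} [IsAffine X] {R : CommRingCat.{u}} (φ : Γ(X, ⊤) ⟶ R) :
    toRing (Spec.map φ ≫ X.isoSpec.inv) = φ := by
  apply Spec.map_injective
  rw [toRing, Spec.map_preimage, Category.assoc, Iso.inv_hom_id, Category.comp_id]

/-- An etale quasi-compact scheme over an algebraically closed field has finitely many points, all rational. -/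
theorem exists_finite_sections {X : Scheme.{u}} {K : Type u} [Field K] [IsAlgClosed K]
    (f : X ⟶ Spec (.of K)) [Etale f] [QuasiCompact f] :
    ∃ (ι : Type u) (_ : Finite ι) (s : ι → (Spec (.of K) ⟶ X)), (∀ i, s i ≫ f = 𝟙 _) ∧
      ∀ (M : Type u) (_ : Field M) (m : Spec (.of M) ⟶ X), ∃ i, m = (m ≫ f) ≫ s i := by
  haveI : LocallyQuasiFinite f := Groth.Agent.ASt.locallyQuasiFinite_of_unramified f
  have huniv : f ⁻¹' {closedPoint K} = Set.univ := Set.eq_univ_of_forall fun x => Subsingleton.elim _ _
  have hfin : Finite X := by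
    have := f.finite_preimage_singleton (closedPoint K)
    rw [huniv] at this
    exact Set.finite_univ_iff.1 this
  have hd := f.isDiscrete_preimage_singleton (closedPoint K)
  rw [huniv] at hd
  haveI : DiscreteTopology ↥X := by
    rw [← (Homeomorph.Set.univ ↥X).discreteTopology_iff]
    exact isDiscrete_iff_discreteTopology.1 hd
  have hc : ∀ x : ↥X, IsClosed {x} := fun x => isClosed_discrete _
  refine ⟨↥X, hfin, fun x => pointOfClosedPoint f x (hc x), fun x => pointOfClosedPoint_comp f x (hc x),
    fun M _ m => ⟨m (closedPoint M), ?_⟩⟩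
  let x := m (closedPoint M)
  have e : X.fromSpecResidueField x = (X.fromSpecResidueField x ≫ f) ≫ pointOfClosedPoint f x (hc x) := by
    rw [← SpecMap_residueFieldIsoBase_inv f x (hc x), pointOfClosedPoint, ← Spec.map_comp_assoc, Iso.hom_inv_id,
      Spec.map_id, Category.id_comp]
  conv_lhs => rw [← Scheme.descResidueField_stalkClosedPointTo_fromSpecResidueField _ _ m]
  conv_rhs =>
    enter [1, 1]
    rw [← Scheme.descResidueField_stalkClosedPointTo_fromSpecResidueField _ _ m]
  rw [Category.assoc, Category.assoc]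
  conv_lhs => rw [e]
  rw [Category.assoc]

/-- Two extensions of a field embed in a common field. -/
theorem exists_common_field {L A B : Type u} [Field L] [Field A] [Field B] (i : L →+* A) (j : L →+* B) :
    ∃ (M : Type u) (_ : Field M) (a : A →+* M) (b : B →+* M), a.comp i = b.comp j := by
  letI := i.toAlgebra
  letI := j.toAlgebra
  haveI : Nontrivial (TensorProduct L A B) := inferInstance
  obtain ⟨m, hm⟩ := Ideal.exists_maximal (TensorProduct L A B)
  letI := Ideal.Quotient.field m
  refine ⟨_, Ideal.Quotient.field m, (Ideal.Quotient.mk m).comp Algebra.TensorProduct.includeLeftRingHom,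
    (Ideal.Quotient.mk m).comp Algebra.TensorProduct.includeRight.toRingHom, RingHom.ext fun x => ?_⟩
  refine congrArg (Ideal.Quotient.mk m) ?_
  exact ((Algebra.TensorProduct.includeLeft (S := L) (A := A) (B := B)).commutes x).trans
    (Algebra.TensorProduct.includeRight.commutes x).symm

/-- Finitely many generated subrings of a field live in a finitely generated subfield. -/
theorem exists_fg_subfield {C B D : Type u} [CommRing C] [CommRing B] [CommRing D] {K : Type u} [Field K]
    (γ : C →+* K) (b : C →+* B) (d : C →+* D) (hb : b.FiniteType) (hd : d.FiniteType) (ω : B →+* K)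
    (hω : ω.comp b = γ) {ι : Type u} [Finite ι] (σ : ι → (D →+* K)) (hσ : ∀ i, (σ i).comp d = γ) :
    ∃ (L : Type u) (_ : Field L) (φ : C →+* L) (jL : L →+* K) (ωL : B →+* L) (σL : ι → (D →+* L)),
      φ.EssFiniteType ∧ jL.comp φ = γ ∧ jL.comp ωL = ω ∧ (∀ i, jL.comp (σL i) = σ i) ∧ ωL.comp b = φ := by
  classical
  letI := γ.toAlgebra
  letI := b.toAlgebra
  letI := d.toAlgebra
  haveI : Algebra.FiniteType C B := hb
  haveI : Algebra.FiniteType C D := hd
  let ωa : B →ₐ[C] K := { ω with commutes' := fun c => RingHom.congr_fun hω c }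
  let σa : ι → (D →ₐ[C] K) := fun i => { σ i with commutes' := fun c => RingHom.congr_fun (hσ i) c }
  obtain ⟨tB, htB⟩ := (Algebra.FiniteType.out : (⊤ : Subalgebra C B).FG)
  obtain ⟨tD, htD⟩ := (Algebra.FiniteType.out : (⊤ : Subalgebra C D).FG)
  let S : Set K := ωa '' tB ∪ ⋃ i, σa i '' tD
  let E : Subalgebra C K := Algebra.adjoin C S
  haveI : Algebra.FiniteType C E := (Subalgebra.fg_iff_finiteType E).1
    (Subalgebra.fg_def.2 ⟨S, (tB.finite_toSet.image _).union (Set.finite_iUnion fun i => tD.finite_toSet.image _), rfl⟩)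
  have hω' : ∀ x, ω x ∈ E := fun x => by
    have : ωa.range ≤ E := by
      rw [← Algebra.map_top, ← htB, AlgHom.map_adjoin]
      exact Algebra.adjoin_mono Set.subset_union_left
    exact this ⟨x, rfl⟩
  have hσ' : ∀ i x, σ i x ∈ E := fun i x => by
    have : (σa i).range ≤ E := by
      rw [← Algebra.map_top, ← htD, AlgHom.map_adjoin]
      exact Algebra.adjoin_mono (Set.subset_union_of_subset_right (Set.subset_iUnion (fun i => σa i '' (tD : Set D)) i) _)
    exact this ⟨x, rfl⟩
  let L := FractionRing E
  let jL : L →+* K := IsFractionRing.lift (g := E.val.toRingHom) Subtype.val_injective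
  have hj : ∀ x : E, jL (algebraMap E L x) = x := fun x => IsFractionRing.lift_algebraMap _ x
  refine ⟨L, inferInstance, algebraMap C L, jL, (algebraMap E L).comp (ω.codRestrict E hω'),
    fun i => (algebraMap E L).comp ((σ i).codRestrict E (hσ' i)), ?_, RingHom.ext fun c => ?_,
    RingHom.ext fun x => hj _, fun i => RingHom.ext fun x => hj _, RingHom.ext fun c => ?_⟩
  · rw [RingHom.essFiniteType_algebraMap]
    haveI : Algebra.EssFiniteType E L := Algebra.EssFiniteType.of_isLocalization _ (nonZeroDivisors E)
    exact Algebra.EssFiniteType.comp C E L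
  · change jL (algebraMap C L c) = γ c
    rw [IsScalarTower.algebraMap_apply C E L, hj]
    rfl
  · change algebraMap E L _ = algebraMap C L c
    rw [IsScalarTower.algebraMap_apply C E L]
    exact congrArg _ (Subtype.ext (RingHom.congr_fun hω c))

end Groth.Agent.DecSec
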