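import Groth.Agent.Boot.SmoothAtlas
import Groth.Agent.ASp.EtSheafSmooth

/-! An etale stack with a smooth atlas is algebraic. -/

set_option autoImplicit false
set_option backward.isDefEq.respectTransparency false
set_option backward.isDefEq.respectTransparency.types false

universe u

open CategoryTheory CategoryTheory.Limits AlgebraicGeometry Opposite

namespace Groth.Agent.DecSec

open _root_.AlgSp Groth.Agent.ASp Groth.Agent.ASt Groth.Agent.Boot

variable {S : Scheme.{u}} {𝒳 : AlgSt.Cat S}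

theorem isStack_et_of_fppf {𝒴 : AlgSt.Cat S} (h : Stk.IsStack (J S) 𝒴) :
    Stk.IsStack (QuotSh.J Scheme.etalePrecoverage S) 𝒴 :=
  ⟨h.1, fun _ R hR => h.2 R (jet_le _ hR)⟩

/-- An etale stack with a smooth surjective atlas is an algebraic stack. -/
theorem isAlgStack_etale_of_atlas (hX : Stk.IsStack (QuotSh.J Scheme.etalePrecoverage S) 𝒳)
    (hU : AlgSt.HasAtlas (LocP @Smooth) 𝒳) : AlgSt.IsAlgStack Scheme.etalePrecoverage 𝒳 := by
  refine ⟨hX, ?_, hU⟩
  obtain ⟨W, a, hsm, hsurj⟩ := hU
  haveI := hX.1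
  refine repByAlgSp1_diag_iff.2 fun U x => ?_
  haveI : x.toFunctor.Faithful := faithful_of_faithful_source x
  refine repByAlgSp1_iff.2 ⟨inferInstance, fun V y => ?_⟩
  obtain ⟨V', l, v, hl, hls, ⟨α⟩⟩ := exists_overMap_iso hsm hsurj y
  let y' := BasedFunctor.comp (AlgSt.overMap v) a
  have hy' : AlgSt.RepByAlgSp1 y' :=
    repByAlgSp1_comp (repByAlgSp1_of_repByAlgSp (repByAlgSp_overCat V') (repByAlgSp_overCat W) _)
      (repByAlgSp1_of_with hsm)
  haveI : FibCat.IsFibGrpd (FibCat.fp y x).p := isFibGrpd_fp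
  haveI : (FibCat.fpFst y x).toFunctor.Faithful := faithful_fpFst
  haveI : (FibCat.fp y x).p.Faithful := inferInstance
  have hsF : Presheaf.IsSheaf (QuotSh.J Scheme.etalePrecoverage S) (fib y x) :=
    (isSheaf_iff_isSheaf_of_type _ _).2
      (isStack_ofPsh_iff.1 (isStack_of_isEquivOver isEquivOver_toPsh
        (isStack_fp (F := y) (G := x) (isStack_et_of_fppf (isAlgStack_overCat V).isStack)
          (isStack_et_of_fppf (isAlgStack_overCat U).isStack) (isPrestack_of_isStack hX))))
  obtain ⟨hs', hA'⟩ : IsAlgSpaceP (fib (BasedFunctor.comp (AlgSt.overMap l) y) x) :=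
    (isAlgSpaceP_swap x y' ((repByAlgSp1_iff.1 hy').2 U x)).of_iso (changeIso α.symm x)
  let F' : Sp S := ⟨fib (BasedFunctor.comp (AlgSt.overMap l) y) x, hs'⟩
  refine isAlgSpaceP_of_smooth_space (U := F') hsF hA' (clFun (restrF l y x)) fun T ξ P fst snd sq => ?_
  obtain ⟨t, ht⟩ := (pyon S).map_surjective (ξ ≫ fibπ y x)
  have sq2 : IsPullback (fst ≫ fibπ (BasedFunctor.comp (AlgSt.overMap l) y) x) snd ((pyon S).map l)
      ((pyon S).map t) := by
    rw [ht]
    exact (sq.flip.paste_vert (isPullback_restrF l y)).flip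
  have sq3 := (IsPullback.of_hasPullback l t).map (pyon S)
  let e := sq2.isoIsPullback _ _ sq3
  have hP : Presheaf.IsSheaf (J S) P :=
    (Presheaf.isSheaf_of_iso_iff e).2 ((yon S).obj (pullback l t)).property
  have he : (ObjectProperty.homMk snd : (⟨P, hP⟩ : Sp S) ⟶ (yon S).obj T) =
      (ObjectProperty.homMk e.hom : (⟨P, hP⟩ : Sp S) ⟶ (yon S).obj (pullback l t)) ≫
        (yon S).map (pullback.snd l t) :=
    InducedCategory.hom_ext (sq2.isoIsPullback_hom_snd _ _ sq3).symm
  let i : (⟨P, hP⟩ : Sp S) ≅ (yon S).obj (pullback l t) :=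
    ⟨ObjectProperty.homMk e.hom, ObjectProperty.homMk e.inv, InducedCategory.hom_ext e.hom_inv_id,
      InducedCategory.hom_ext e.inv_hom_id⟩
  have hpb := (IsPullback.of_hasPullback l t).map (Over.forget S)
  haveI : Smooth (pullback.snd l t).left := MorphismProperty.of_isPullback hpb hl
  haveI : Surjective (pullback.snd l t).left := MorphismProperty.of_isPullback hpb hls
  refine ⟨hP, (IsAlgSpace.yon_obj _).of_iso i.symm, ?_, ?_⟩
  · rw [he]
    intro z
    obtain ⟨w, hw⟩ := surjective_map_of_repWith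
      (repWith_yon_map (P := @Surjective) (g := pullback.snd l t) inferInstance) z
    refine ⟨Points.map i.inv w, ?_⟩
    rw [← Points.map_comp, show (ObjectProperty.homMk e.hom : (⟨P, hP⟩ : Sp S) ⟶ _) = i.hom from rfl, i.inv_hom_id_assoc, hw]
  · rw [he, show (ObjectProperty.homMk e.hom : (⟨P, hP⟩ : Sp S) ⟶ _) = i.hom from rfl]
    haveI : IsIso i.hom := Iso.isIso_hom i
    exact ((LocP @Smooth).cancel_left_of_respectsIso i.hom _).2
      (locP_of_repWith (repWith_yon_map (P := @Smooth) inferInstance))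

end Groth.Agent.DecSec
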