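import Groth.Agent.S9911
import Groth.Agent.ASp.LocP
import Groth.Agent.ASp.EtLocal
import Groth.Agent.ASp.MorCancel
import Groth.Agent.ASp.GpdAlg
import Groth.Agent.ASp.AffMor

/-! Morphisms to the spectrum of a field are flat and universally open. -/

set_option autoImplicit false
set_option backward.isDefEq.respectTransparency false
set_option backward.isDefEq.respectTransparency.types false

universe u

open CategoryTheory CategoryTheory.Limits AlgebraicGeometry Opposite MonoidalCategory MonObj

namespace Groth.Agent.DecSec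

open _root_.AlgSp Groth.Agent.ASp

variable {S : Scheme.{u}}

theorem flat_to_field {k : Type u} [Field k] {T : Scheme.{u}} (h : T ⟶ Spec (CommRingCat.of k)) : Flat h := by
  infer_instance

/-- Any morphism to a field is flat. -/
theorem locP_flat_field {X : Sp S} (hX : IsAlgSpace X) {k : Type u} [Field k]
    {str : Spec (CommRingCat.of k) ⟶ S} (p : X ⟶ (yon S).obj (Over.mk str)) : LocP @Flat p := by
  obtain ⟨U, a, hae, has⟩ := hX.atlas
  obtain ⟨s, hs⟩ := (yon S).map_surjective (a ≫ p)
  exact locP_of_chart hae has (repWith_id @Etale _) (by rw [hs, Category.comp_id]) (flat_to_field s.left)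

theorem univOpen_field {X : Sp S} (hX : IsAlgSpace X) {k : Type u} [Field k]
    {str : Spec (CommRingCat.of k) ⟶ S} (p : X ⟶ (yon S).obj (Over.mk str)) : IsUnivOpenMor p :=
  Groth.Agent.S9911.result ⟨X, hX⟩ str (ObjectProperty.homMk p)

/-- A morphism to a space isomorphic to a field is flat and universally open. -/
theorem flat_univOpen_of_iso {X U : Sp S} (hX : IsAlgSpace X) {k : Type u} [Field k]
    {str : Spec (CommRingCat.of k) ⟶ S} (e : U ≅ (yon S).obj (Over.mk str)) (f : X ⟶ U) :
    LocP @Flat f ∧ IsUnivOpenMor f := by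
  have hU : IsAlgSpace U := (IsAlgSpace.yon_obj _).of_iso e.symm
  have sq : IsPullback (𝟙 X) f (f ≫ e.hom) e.hom := IsPullback.of_horiz_isIso ⟨by simp⟩
  exact ⟨locP_of_isPullback sq.flip hX (IsAlgSpace.yon_obj _) hU (locP_flat_field hX _),
    univSp_baseChange sq (univOpen_field hX _)⟩

theorem surjectiveMor_of_section {X U : Sp S} {f : X ⟶ U} {e : U ⟶ X} (h : e ≫ f = 𝟙 U) :
    IsSurjectiveMor f := fun x => ⟨Points.map e x, by rw [← Points.map_comp, h, Points.map_id]⟩

/-- Composition of a groupoid over a field is flat and universally open. -/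
theorem flat_univOpen_c {B : Sp S} (G : GroupoidSp B) (hR : IsAlgSpace G.R) {k : Type u} [Field k]
    {str : Spec (CommRingCat.of k) ⟶ S} (e : G.U ≅ (yon S).obj (Over.mk str)) :
    LocP @Flat G.c ∧ IsUnivOpenMor G.c := by
  have hU : IsAlgSpace G.U := (IsAlgSpace.yon_obj _).of_iso e.symm
  obtain ⟨hf, ho⟩ := flat_univOpen_of_iso hR e G.s
  have sq := Groth.Agent.ASp.Gpd.isPullback_c (G := G)
  exact ⟨locP_of_isPullback sq hR hU hR hf, univSp_baseChange sq.flip ho⟩

/-- Multiplication of a group over a field is flat and universally open. -/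
theorem flat_univOpen_mul {k : Type u} [Field k]
    (G : Over ((yon (Spec (CommRingCat.of k))).obj (Over.mk (𝟙 _)))) [GrpObj G] (hG : IsAlgSpace G.left) :
    LocP @Flat (μ[G]).left ∧ IsUnivOpenMor (μ[G]).left := by
  let p₁ : G ⊗ G ⟶ G := CartesianMonoidalCategory.fst G G
  let p₂ : G ⊗ G ⟶ G := CartesianMonoidalCategory.snd G G
  have hμ : μ[G] = p₁ * p₂ := by simp [p₁, p₂, Hom.mul_def]
  let φ : G ⊗ G ≅ G ⊗ G :=
    { hom := CartesianMonoidalCategory.lift (p₁ * p₂) p₂
      inv := CartesianMonoidalCategory.lift (p₁ * p₂⁻¹) p₂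
      hom_inv_id := by
        apply CartesianMonoidalCategory.hom_ext <;>
          simp [p₁, p₂, MonObj.comp_mul, GrpObj.comp_inv]
      inv_hom_id := by
        apply CartesianMonoidalCategory.hom_ext <;>
          simp [p₁, p₂, MonObj.comp_mul, GrpObj.comp_inv] }
  have hpb : IsPullback (pullback.fst G.hom G.hom) (pullback.snd G.hom G.hom) G.hom G.hom :=
    IsPullback.of_hasPullback _ _
  have h0 : IsPullback p₁.left p₂.left G.hom G.hom := hpb
  have h1 : IsPullback (μ[G]).left p₂.left G.hom G.hom :=
    h0.of_iso ((Over.forget _).mapIso φ).symm (Iso.refl _) (Iso.refl _) (Iso.refl _)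
      (by
        have : φ.inv ≫ μ[G] = p₁ := by
          simp [hμ, φ, p₁, p₂, MonObj.comp_mul, GrpObj.comp_inv]
        simpa using (congrArg CommaMorphism.left this).symm)
      (by
        have : φ.inv ≫ p₂ = p₂ := by simp [φ, p₂]
        simpa using (congrArg CommaMorphism.left this).symm) (by simp) (by simp)
  exact ⟨locP_of_isPullback h1 hG (IsAlgSpace.yon_obj _) hG (locP_flat_field hG _),
    univSp_baseChange h1.flip (univOpen_field hG _)⟩

/-- The map on fibre products induced by a map on both factors has every stable property of that map. -/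
theorem repWith_pullbackMap {P : MorphismProperty Scheme.{u}} [P.IsStableUnderBaseChange] [P.IsStableUnderComposition]
    {X Y B : Sp S} (f : X ⟶ Y) (q : Y ⟶ B) (q' : X ⟶ B) (hq : f ≫ q = q') (hf : RepWith P f)
    (w : q' ≫ 𝟙 B = f ≫ q) : RepWith P (pullback.map q' q' q q f f (𝟙 B) w w) := by
  subst hq
  let m₁ : pullback (f ≫ q) (f ≫ q) ⟶ pullback q (f ≫ q) :=
    pullback.lift (pullback.fst _ _ ≫ f) (pullback.snd _ _) (by rw [Category.assoc, pullback.condition])
  let m₂ : pullback q (f ≫ q) ⟶ pullback q q :=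
    pullback.lift (pullback.fst _ _) (pullback.snd _ _ ≫ f) (by rw [Category.assoc, pullback.condition])
  have h1 : IsPullback (pullback.fst (f ≫ q) (f ≫ q)) m₁ f (pullback.fst q (f ≫ q)) := by
    refine IsPullback.of_bot ?_ (pullback.lift_fst _ _ _).symm (IsPullback.of_hasPullback q (f ≫ q))
    rw [show m₁ ≫ pullback.snd q (f ≫ q) = pullback.snd _ _ from pullback.lift_snd _ _ _]
    exact IsPullback.of_hasPullback _ _
  have h2 : IsPullback (pullback.snd q (f ≫ q)) m₂ f (pullback.snd q q) := by
    refine IsPullback.of_bot ?_ (pullback.lift_snd _ _ _).symm (IsPullback.of_hasPullback q q).flip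
    rw [show m₂ ≫ pullback.fst q q = pullback.fst _ _ from pullback.lift_fst _ _ _]
    exact (IsPullback.of_hasPullback _ _).flip
  have : pullback.map (f ≫ q) (f ≫ q) q q f f (𝟙 B) w w = m₁ ≫ m₂ := by
    apply pullback.hom_ext <;> simp [m₁, m₂]
  rw [this]
  exact repWith_comp (repWith_of_isPullback h1 hf) (repWith_of_isPullback h2 hf)

/-- A representable morphism with a property stable under base change and composition, after restriction. -/
theorem repWith_restriction_fR {P : MorphismProperty Scheme.{u}} [P.IsStableUnderBaseChange]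
    [P.IsStableUnderComposition] {B : Sp S} {G G' : GroupoidSp B} (φ : GroupoidSp.Hom G' G)
    (hφ : φ.IsRestriction) (hf : RepWith P φ.fU) : RepWith P φ.fR :=
  repWith_of_isPullback hφ.flip (repWith_pullbackMap φ.fU G.pU G'.pU φ.fU_over hf (by rw [φ.fU_over, Category.comp_id]))

end Groth.Agent.DecSec
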