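import Groth.Agent.ASt.LocQCalc
import Groth.Agent.ASt.PtsMor
import Groth.Agent.ASt.StQc
import Groth.Agent.HTopV.Basic
import Mathlib.AlgebraicGeometry.Morphisms.UniversallyOpen
import Mathlib.AlgebraicGeometry.PullbackCarrier

/-! Lifting valuation rings along flat morphisms of stacks. -/

set_option autoImplicit false
set_option backward.isDefEq.respectTransparency false
set_option backward.isDefEq.respectTransparency.types false

universe u

open CategoryTheory CategoryTheory.Limits AlgebraicGeometry Opposite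

namespace Groth.Agent.DecSec

open _root_.AlgSp Groth.Agent.ASp Groth.Agent.ASt

variable {S : Scheme.{u}} {𝒳 𝒴 : AlgSt.Cat S}

/-- Valuation rings lift along flat morphisms with the closed point in the image. -/
theorem exists_valuationRing_lift (h𝒳 : AlgSt.IsAlgStack Scheme.fppfPrecoverage 𝒳)
    (h𝒴 : AlgSt.IsAlgStack Scheme.fppfPrecoverage 𝒴) (f : 𝒳 ⥤ᵇ 𝒴) (hf : AlgSt.LocQ (LocP @Flat) f)
    (A : Type u) [CommRing A] [IsDomain A] [ValuationRing A] (sA : Spec (CommRingCat.of A) ⟶ S)
    (a : FibCat.overCat (Over.mk sA) ⥤ᵇ 𝒴)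
    (ha : AlgSt.Points.ofChart a (IsLocalRing.closedPoint A) ∈ Set.range (AlgSt.Points.map f)) :
    ∃ (A' : Type u) (_ : CommRing A') (_ : IsDomain A') (_ : ValuationRing A') (φ : A →+* A'),
      Function.Injective φ ∧ IsLocalHom φ ∧
      ∃ x : FibCat.overCat (Over.mk (Spec.map (CommRingCat.ofHom φ) ≫ sA)) ⥤ᵇ 𝒳,
        Nonempty (BasedFunctor.comp x f ≅
          BasedFunctor.comp (AlgSt.overMap (Over.homMk (Spec.map (CommRingCat.ofHom φ)) rfl :
            Over.mk (Spec.map (CommRingCat.ofHom φ) ≫ sA) ⟶ Over.mk sA)) a) := by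
  haveI := h𝒳.isStack.1
  haveI := h𝒴.isStack.1
  let T : Over S := Over.mk sA
  obtain ⟨U, V, x₀, y₀, h, α₀, hx₀, hx₀s, hy₀, hh⟩ := hf
  obtain ⟨p, hp⟩ := ha
  obtain ⟨t, rfl⟩ := surjective_chart hx₀s p
  haveI : Flat h.left := prop_left_of_locP hh
  obtain ⟨D⟩ := nonempty_chartOf h𝒴.diag (isAlgStack_overCat T).atlas a y₀
  haveI : FibCat.IsFibGrpd (FibCat.fp y₀ a).p := isFibGrpd_fp
  obtain ⟨l, ⟨δ⟩⟩ := exists_overMap D.x
  haveI : Smooth l.left := prop_of_repByAlgSpWith_overMap (repByAlgSpWith_congr δ (D.x_smooth hy₀))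
  haveI : Flat l.left := inferInstance
  have e₀ : AlgSt.Points.map y₀ (schemePts V (h.left t)) = AlgSt.Points.map a (schemePts T (IsLocalRing.closedPoint A)) := by
    rw [map_schemePts, map_schemePts, ← hp, ← ofChart_comp, ofChart_congr α₀, ofChart_overMap]
  obtain ⟨w, hw1, hw2⟩ := points_surjective_fp y₀ a _ _ e₀
  obtain ⟨c', rfl⟩ := isSurjective_of_repByAlgSpWith D.surj w
  obtain ⟨c, rfl⟩ := (schemePts D.C).surjective c'
  have hk : D.k.left c = h.left t := by
    rw [map_map, map_congr D.α, map_schemePts,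
      ← show AlgSt.Points.ofChart (BasedFunctor.id (FibCat.overCat V)) (D.k.left c) =
        AlgSt.Points.ofChart (AlgSt.overMap D.k) c from (ofChart_overMap D.k _ c).symm, schemePts_apply] at hw1
    exact injective_ofChart_id V hw1
  have hl : l.left c = IsLocalRing.closedPoint A := by
    have e1 : AlgSt.Points.map D.x (schemePts D.C c) = schemePts T (IsLocalRing.closedPoint A) :=
      (map_map _ _ _).symm.trans hw2
    rw [map_congr δ, map_schemePts,
      ← show AlgSt.Points.ofChart (BasedFunctor.id (FibCat.overCat T)) (l.left c) =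
        AlgSt.Points.ofChart (AlgSt.overMap l) c from (ofChart_overMap l _ c).symm, schemePts_apply] at e1
    exact injective_ofChart_id T e1
  have sq := isPullback_left (IsPullback.of_hasPullback h D.k)
  obtain ⟨z₀, hz1, hz2⟩ := Scheme.Pullback.exists_preimage_pullback (f := h.left) (g := D.k.left) t c hk.symm
  let w' : ↥(pullback h D.k).left := sq.isoPullback.inv z₀
  have hw'2 : (pullback.snd h D.k).left w' = c := by
    rw [← Scheme.Hom.comp_apply, sq.isoPullback_inv_snd]
    exact hz2
  haveI : Flat (pullback.snd h D.k).left := MorphismProperty.of_isPullback sq inferInstance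
  let g : (pullback h D.k).left ⟶ Spec (CommRingCat.of A) := (pullback.snd h D.k).left ≫ l.left
  haveI : Flat g := inferInstanceAs (Flat (_ ≫ _))
  have hg : g w' = IsLocalRing.closedPoint A := by
    rw [Scheme.Hom.comp_apply, hw'2]
    exact hl
  obtain ⟨z', hspec, hz'⟩ := Flat.generalizingMap (f := g)
    (a := w') (b := Groth.Agent.HTopV.genPt (CommRingCat.of A))
    (hg ▸ Groth.Agent.HTopV.genPt_specializes (CommRingCat.of A) _)
  obtain ⟨W, hd, hv, φ, hφ, m, hm, -, -⟩ :=
    Groth.Agent.HTopV.exists_extVal_of_specializes (V := CommRingCat.of A) g hspec hg hz'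
  let T' : Over S := Over.mk (Spec.map (CommRingCat.ofHom φ.hom) ≫ sA)
  let M : T' ⟶ pullback h D.k := Over.homMk m (by
    have e1 : g ≫ sA = (pullback h D.k).hom := by
      rw [Category.assoc]
      erw [Over.w l, Over.w (pullback.snd h D.k)]
    rw [← e1, ← Category.assoc, hm]
    rfl)
  let jT : T' ⟶ T := Over.homMk (Spec.map (CommRingCat.ofHom φ.hom)) rfl
  have eT : M ≫ pullback.snd h D.k ≫ l = jT := Over.OverMorphism.ext hm
  refine ⟨W, inferInstance, hd, hv, φ.hom, hφ.1, hφ.2,
    BasedFunctor.comp (AlgSt.overMap (M ≫ pullback.fst h D.k)) x₀, ⟨?_⟩⟩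
  change BasedFunctor.comp (BasedFunctor.comp (AlgSt.overMap (M ≫ pullback.fst h D.k)) x₀) f ≅
    BasedFunctor.comp (AlgSt.overMap jT) a
  exact (eqToIso (Groth.Agent.ASt.basedFunctor_ext rfl)).trans <|
    (wL (AlgSt.overMap (M ≫ pullback.fst h D.k)) α₀).trans <|
    (eqToIso (Groth.Agent.ASt.basedFunctor_ext rfl)).trans <|
    (wR ((overMapComp (M ≫ pullback.fst h D.k) h).trans
      ((eqToIso (by rw [Category.assoc, pullback.condition, ← Category.assoc])).trans
        (overMapComp (M ≫ pullback.snd h D.k) D.k).symm)) y₀).trans <|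
    (eqToIso (Groth.Agent.ASt.basedFunctor_ext rfl)).trans <|
    (wL (AlgSt.overMap (M ≫ pullback.snd h D.k)) (D.sq.symm.trans (wR δ a))).trans <|
    (eqToIso (Groth.Agent.ASt.basedFunctor_ext rfl)).trans <|
    wR ((overMapComp (M ≫ pullback.snd h D.k) l).trans (eqToIso (by rw [Category.assoc, eT]))) a

end Groth.Agent.DecSec
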