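import Groth.Agent.DecSec.GerbeFppf
import Groth.Prelude.Def_StGerb2

/-! The automorphism group of a section of a gerbe is flat and locally finitely presented. -/

set_option autoImplicit false
set_option backward.isDefEq.respectTransparency false
set_option backward.isDefEq.respectTransparency.types false

universe u

open CategoryTheory CategoryTheory.Limits AlgebraicGeometry Opposite

namespace Groth.Agent.DecSec

open _root_.AlgSp Groth.Agent.ASp Groth.Agent.ASt Groth.Agent.Boot

variable {S : Scheme.{u}} {U : Over S} {𝒳 : AlgSt.Cat S} [FibCat.IsFibGrpd 𝒳.p]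

/-- The fibre of a section over itself is the automorphism group. -/
theorem prop_of_autRep {P : MorphismProperty (Sp S)} [P.RespectsIso] {π : 𝒳 ⥤ᵇ FibCat.overCat U}
    {x : FibCat.overCat U ⥤ᵇ 𝒳} (e : BasedFunctor.comp x π ≅ BasedFunctor.id (FibCat.overCat U))
    (G : Over U.left) [GrpObj G] (r : Gerb.AutRep x (Gerb.ptsGrp U G)) (h : ASt.FibHas P x x) :
    P ((yon S).map (Over.homMk G.hom rfl : Over.mk (G.hom ≫ U.hom) ⟶ U)) := by
  let GU : Over S := Over.mk (G.hom ≫ U.hom)
  let k : GU ⟶ U := Over.homMk G.hom rfl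
  let pt {T : Over S} (g : T ⟶ GU) : (Gerb.ptsGrp U G).obj (op (ov (g ≫ k))) :=
    Over.homMk g.left (by simp [k, GU]; rfl)
  let a₀ : (Gerb.ptsGrp U G).obj (op (ov k)) := Over.homMk (𝟙 G.left) (Category.id_comp _)
  let act {T : Over S} (q : T ⟶ U) (a : (Gerb.ptsGrp U G).obj (op (ov q))) : x.obj (ov q) ⟶ x.obj (ov q) :=
    (r.iso (ov q) a).hom.1
  have hact {T : Over S} (q : T ⟶ U) (a : (Gerb.ptsGrp U G).obj (op (ov q))) :
      𝒳.p.map (act q a) = eqToHom (((x.w_obj (ov q)).trans (ov_base q)).trans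
        ((ov_base q).symm.trans (x.w_obj (ov q)).symm)) := by
    haveI := (r.iso (ov q) a).hom.2
    exact map_of_isHomLift_id (R := 𝒳.p.obj (x.obj (ov q))) (act q a)
  let E₀ : ClType (FibCat.fp x x) GU := fpEl k (ov k) (ov_base k) (act k a₀) (hact k a₀)
  have hE {T : Over S} (g : T ⟶ GU) :
      clMap g E₀ = fpEl (g ≫ k) (ov (g ≫ k)) (ov_base _) (act _ (pt g)) (hact _ _) := by
    refine clMap_fpEl g rfl (ovHom g rfl) ?_
    have ha : pt g = (Gerb.ptsGrp U G).map (ovHom g rfl : ov (g ≫ k) ⟶ ov k).op a₀ := by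
      apply Over.OverMorphism.ext
      exact (Category.comp_id g.left).symm
    rw [ha]
    exact (r.natural (ovHom g rfl : ov (g ≫ k) ⟶ ov k) a₀).symm
  let Φ : (pyon S).obj GU ⟶ ASt.fib x x :=
    { app := fun T => ↾(fun c => clMap (ULift.down c) E₀)
      naturality := fun A B m => by
        ext c
        exact ConcreteCategory.congr_hom ((Cl (FibCat.fp x x)).map_comp (ULift.down c).op m) E₀ }
  have hbij : ∀ T : Over S, Function.Bijective (fun g : T ⟶ GU => clMap g E₀) := by
    intro T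
    refine ⟨fun g g' hgg => ?_, fun c => ?_⟩
    · simp only [hE] at hgg
      have hk : g ≫ k = g' ≫ k := (fpHom_fpEl _ _ _ _ _).symm.trans ((congrArg fpHom hgg).trans (fpHom_fpEl _ _ _ _ _))
      have key : ∀ (q : T ⟶ U) (a a' : (Gerb.ptsGrp U G).obj (op (ov q))),
          fpEl q (ov q) (ov_base q) (act q a) (hact q a) = fpEl (y := x) (f := x) q (ov q) (ov_base q) (act q a') (hact q a') →
            a = a' := by
        intro q a a' h'
        obtain ⟨m, hm, hm'⟩ := fpEl_eq_iff.1 h'
        obtain rfl : m = 𝟙 (ov q) := Over.OverMorphism.ext (hm.trans (eqToHom_refl _ _))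
        rw [x.toFunctor.map_id, Category.comp_id] at hm'
        exact (r.iso (ov q)).injective (Aut.ext (Functor.Fiber.hom_ext hm'))
      have key' : ∀ (q q' : T ⟶ U) (a : (Gerb.ptsGrp U G).obj (op (ov q))) (a' : (Gerb.ptsGrp U G).obj (op (ov q'))),
          q = q' → fpEl (y := x) (f := x) q (ov q) (ov_base q) (act q a) (hact q a) =
            fpEl q' (ov q') (ov_base q') (act q' a') (hact q' a') → a.left = a'.left := by
        intro q q' a a' hq
        subst hq
        exact fun h' => congrArg (fun b => b.left) (key q a a' h')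
      exact Over.OverMorphism.ext (key' _ _ (pt g) (pt g') hk hgg)
    · obtain ⟨q, x₁, hx₁, φ, hφ, rfl⟩ := fpEl_exists c
      obtain ⟨X, ⟨⟨⟩⟩, q'⟩ := x₁
      obtain rfl : X = T := hx₁
      let m : ov q ⟶ ov q' :=
        e.inv.toNatTrans.app (ov q) ≫ π.map φ ≫ e.hom.toNatTrans.app (ov q')
      have hm : m.left = 𝟙 _ := by
        have h1 : (FibCat.overCat U).p.map m = eqToHom rfl := by
          dsimp only [m]
          rw [Functor.map_comp, Functor.map_comp, map_app _ _ e.inv, map_app _ _ e.hom, ASt.map_w, hφ]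
          simp
        exact h1.trans (eqToHom_refl _ _)
      have hqq : q' = q := by
        have := Over.w m
        rw [hm] at this
        exact ((Category.id_comp _).symm.trans this)
      subst hqq
      have hl : 𝒳.p.IsHomLift (𝟙 (𝒳.p.obj (x.obj (ov q')))) φ := isHomLift_id_of_map φ rfl hφ
      haveI : IsIso φ := isIso_of_vert φ hφ
      haveI := hl
      let α : Gerb.AutO (x.obj (ov q')) :=
        ⟨⟨φ, hl⟩, ⟨inv φ, inferInstance⟩, Functor.Fiber.hom_ext (IsIso.hom_inv_id φ),
          Functor.Fiber.hom_ext (IsIso.inv_hom_id φ)⟩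
      let a := (r.iso (ov q')).symm α
      have hq : a.left ≫ G.hom = q'.left := Over.w a
      let g : _ ⟶ GU := Over.homMk a.left (by
        change a.left ≫ G.hom ≫ U.hom = _
        rw [← Category.assoc, hq]
        exact Over.w q')
      have hgk : g ≫ k = q' := Over.OverMorphism.ext hq
      refine ⟨g, (hE g).trans ?_⟩
      have key : ∀ (p : _ ⟶ U) (b : (Gerb.ptsGrp U G).obj (op (ov p))), p = q' → b.left = a.left →
          fpEl (y := x) (f := x) p (ov p) (ov_base p) (act p b) (hact p b) =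
            fpEl q' (ov q') (ov_base q') φ hφ := by
        intro p b hp hb
        subst hp
        obtain rfl : b = a := Over.OverMorphism.ext hb
        congr 1
        exact congrArg (fun β : Gerb.AutO _ => β.hom.1) ((r.iso (ov p)).apply_symm_apply α)
      exact key _ (pt g) hgk rfl
  have : ∀ T, IsIso (Φ.app T) := fun T => (isIso_iff_bijective _).2
    ((hbij T.unop).comp ⟨fun a b h => ULift.ext _ _ h, fun a => ⟨⟨a⟩, rfl⟩⟩)
  haveI : IsIso Φ := NatIso.isIso_of_isIso_app _
  obtain ⟨hs, -, hP⟩ := h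
  obtain ⟨i⟩ := ASt.arrowIso_of_hom (a := (yon S).map k)
    (b := (ObjectProperty.homMk (fibπ x x) : (⟨ASt.fib x x, hs⟩ : Sp S) ⟶ (yon S).obj U)) (asIso Φ) (by
      ext T c
      refine congrArg ULift.up ?_
      change ULift.down c ≫ k = fpHom (clMap (ULift.down c) E₀)
      rw [fpHom_clMap, fpHom_fpEl])
  exact (P.arrow_mk_iso_iff i).2 hP

theorem flat_autRep (h𝒳 : AlgSt.IsAlgStack Scheme.fppfPrecoverage 𝒳) {π : 𝒳 ⥤ᵇ FibCat.overCat U}
    (hπ : Gerb.LocSurjHom (J S) π) {x : FibCat.overCat U ⥤ᵇ 𝒳}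
    (e : BasedFunctor.comp x π ≅ BasedFunctor.id (FibCat.overCat U)) (G : Over U.left) [GrpObj G]
    (r : Gerb.AutRep x (Gerb.ptsGrp U G)) : Flat G.hom ∧ LocallyOfFinitePresentation G.hom := by
  obtain ⟨h₁, h₂, -⟩ := fppf_section h𝒳 hπ e
  exact ⟨prop_left_of_locP (prop_of_autRep e G r ((ASt.repByAlgSpWith_iff.1 h₁).2 U x)),
    prop_left_of_locP (prop_of_autRep e G r ((ASt.repByAlgSpWith_iff.1 h₂).2 U x))⟩

end Groth.Agent.DecSec
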