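import Groth.Agent.DecSec.ResGerbe
import Groth.Agent.ASp.ResidualExist
import Groth.Agent.ASt.FpSp
import Groth.Agent.ASt.SpChart

/-! Residual gerbes of gerbes over spaces. -/

set_option autoImplicit false
set_option backward.isDefEq.respectTransparency false
set_option backward.isDefEq.respectTransparency.types false

universe u

open CategoryTheory CategoryTheory.Limits AlgebraicGeometry Opposite

namespace Groth.Agent.DecSec

open _root_.AlgSp Groth.Agent.ASp Groth.Agent.ASt Groth.Agent.Boot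

variable {S : Scheme.{u}}

/-- A covering sieve contains an arrow through every point. -/
theorem exists_arrow_through {U : Over S} {R : Sieve U} (hR : R ∈ J S U) (t : ↥U.left) :
    ∃ (V : Over S) (f : V ⟶ U), R f ∧ t ∈ Set.range f.left := by
  have : (min (α := MorphismProperty Scheme.{u}) @Flat @LocallyOfFinitePresentation).ContainsIdentities :=
    ⟨fun X => ⟨(inferInstance : Flat (𝟙 X)), (inferInstance : LocallyOfFinitePresentation (𝟙 X))⟩⟩
  have : Scheme.fppfPrecoverage.{u}.HasIsos := inferInstanceAs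
    ((Scheme.precoverage (min (α := MorphismProperty Scheme.{u}) @Flat @LocallyOfFinitePresentation)).HasIsos)
  have : Scheme.fppfPrecoverage.{u}.HasPullbacks := inferInstanceAs
    ((Scheme.precoverage (min (α := MorphismProperty Scheme.{u}) @Flat @LocallyOfFinitePresentation)).HasPullbacks)
  rw [GrothendieckTopology.mem_over_iff, Precoverage.mem_toGrothendieck_iff_of_isStableUnderComposition] at hR
  obtain ⟨R₀, hR₀, hle⟩ := hR
  obtain ⟨Y, k, ⟨hk⟩, y, hy⟩ := hR₀.1 t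
  obtain ⟨Z, a, b, ha, hb⟩ := hle _ _ hk
  exact ⟨Z, a, ha, b y, (Scheme.Hom.comp_apply b a.left y).symm.trans ((congrArg (fun m => m y) hb.symm).trans hy)⟩

variable {𝒳 𝒴 : AlgSt.Cat S} [FibCat.IsFibGrpd 𝒳.p] [FibCat.IsFibGrpd 𝒴.p]

/-- Morphisms between images lift after a field extension for gerbes. -/
theorem liftsIso_of_locSurjHom {π : 𝒳 ⥤ᵇ 𝒴} (h : Gerb.LocSurjHom (J S) π) : LiftsIso π := by
  intro p q e γ hγ
  haveI hl : 𝒴.p.IsHomLift (𝟙 (𝒳.p.obj p.obj)) γ := isHomLift_id_of_map γ (π.w_obj p.obj) hγ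
  obtain ⟨R, hR, hR'⟩ := h p.obj q.obj γ hl
  let t : ↥(𝒳.p.obj p.obj).left :=
    (eqToHom p.lies.symm : Over.mk p.str ⟶ 𝒳.p.obj p.obj).left (IsLocalRing.closedPoint p.K)
  obtain ⟨V, f, hf, v, hv⟩ := exists_arrow_through hR t
  obtain ⟨x₀, φ, ψ, hφ, hψ, hc⟩ := hR' f hf
  haveI := hφ
  haveI := hψ
  have hV : 𝒳.p.obj x₀ = V := IsHomLift.domain_eq 𝒳.p f φ
  let k := rHom V v
  refine ⟨{ K := ↥(V.left.residueField v), str := V.left.fromSpecResidueField v ≫ V.hom,
            obj := pull x₀ hV k, lies := pull_base x₀ hV k },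
    pullHom x₀ hV k ≫ φ, pullHom x₀ hV k ≫ ψ, ?_, ?_⟩
  · rw [Functor.map_comp, Functor.map_comp, IsHomLift.fac' 𝒳.p f φ, IsHomLift.fac' 𝒳.p f ψ]
    simp
  · rw [π.map_comp, π.map_comp, Category.assoc, hc]

omit [FibCat.IsFibGrpd 𝒳.p] [FibCat.IsFibGrpd 𝒴.p] in
theorem mk_eq_of_sp_mk_eq {F : Sp S} (p q : AlgSt.FPt (AlgSt.ofSp F)) (a : F.obj.obj (op (Over.mk p.str)))
    (b : F.obj.obj (op (Over.mk q.str))) (ha : a = F.obj.map (eqToHom (p.lies : p.obj.base = _).symm).op p.obj.sec)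
    (hb : b = F.obj.map (eqToHom (q.lies : q.obj.base = _).symm).op q.obj.sec)
    (h : AlgSp.Points.mk (⟨p.K, p.str, a⟩ : AlgSp.FieldPt F) = AlgSp.Points.mk ⟨q.K, q.str, b⟩) :
    AlgSt.Points.mk p = AlgSt.Points.mk q := by
  obtain ⟨Ω, _, w, i, j, e⟩ := AlgSp.Points.mk_eq_mk_iff.1 h
  subst ha hb
  refine AlgSt.Points.sound ⟨{ K := Ω, str := w, obj := ⟨Over.mk w, F.obj.map i.op
      (F.obj.map (eqToHom (p.lies : p.obj.base = _).symm).op p.obj.sec)⟩, lies := rfl },
    ⟨i ≫ eqToHom (p.lies : p.obj.base = _).symm, ?_⟩, ⟨j ≫ eqToHom (q.lies : q.obj.base = _).symm, ?_⟩, trivial⟩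
  · rw [op_comp, Functor.map_comp_apply]; rfl
  · rw [op_comp, Functor.map_comp_apply]
    exact e.symm

theorem resGerbeExists_of_gerbe (h𝒳 : AlgSt.IsAlgStack Scheme.fppfPrecoverage 𝒳) (X : AlgSp.Space S)
    (π : 𝒳 ⥤ᵇ AlgSt.ofSp X.obj) (hπ : Gerb.IsGerbeOver (J S) π) (x : AlgSt.Points 𝒳) :
    Gerb.ResGerbeExists Scheme.fppfPrecoverage 𝒳 x := by
  obtain ⟨p, rfl⟩ := AlgSt.Points.mk_surjective x
  let pX : AlgSp.FieldPt X.obj := ⟨p.K, p.str,
    X.obj.obj.map (eqToHom ((p.map π).lies : (π.obj p.obj).base = _).symm).op (π.obj p.obj).sec⟩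
  obtain ⟨Z, hZ, f, k, hk, str, z, -, hzs, hmono, hfz⟩ := exists_mono_quot_point X.property (AlgSp.Points.mk pX)
  let F := AlgSt.ofSpMap f
  have hF : AlgSt.RepByAlgSpWith (MorphismProperty.monomorphisms (Sp S)) F :=
    repByAlgSpWith_ofSpMap (P := MorphismProperty.monomorphisms (Sp S))
      (fun _ _ _ _ _ _ _ _ a b a' b' sq h => MorphismProperty.of_isPullback (P := MorphismProperty.monomorphisms (Sp S)) sq h)
      hZ X.property (a := f) hmono
  haveI : FibCat.IsFibGrpd (FibCat.fp F π).p := isFibGrpd_fp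
  have hi : AlgSt.IsMono (FibCat.fpSnd F π) := repByAlgSpWith_fpSnd π hF
  have hW := isAlgStack_of_repByAlgSp1 h𝒳 (f := FibCat.fpSnd F π) (repByAlgSp1_of_with hi)
  haveI : Subsingleton (AlgSt.Points (AlgSt.ofSp Z)) := by
    haveI : Subsingleton ↥(Over.mk str).left := inferInstanceAs (Subsingleton ↥(Spec (CommRingCat.of k)))
    exact (surjective_ofChart_spChart hzs).subsingleton
  haveI : Subsingleton (AlgSt.Points (FibCat.fp F π)) :=
    (injective_fpFst_of_liftsIso (liftsIso_of_locSurjHom hπ.2) F).subsingleton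
  have heq : AlgSt.Points.map F (AlgSt.Points.ofChart (spChart z) (IsLocalRing.closedPoint k)) =
      AlgSt.Points.map π (AlgSt.Points.mk p) := by
    refine mk_eq_of_sp_mk_eq _ (p.map π)
      (AlgSp.FieldPt.ofPt (z ≫ f) (IsLocalRing.closedPoint k : ↥(Over.mk str).left)).val pX.val ?_ rfl hfz
    exact (Functor.map_id_apply X.obj.obj _ _).symm
  obtain ⟨w, -, hw⟩ := points_surjective_fp F π _ _ heq
  exact ⟨_, FibCat.fpSnd F π, hW, hi, ⟨w⟩, inferInstance, fun w' => by rw [Subsingleton.elim w' w]; exact hw⟩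

end Groth.Agent.DecSec
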