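import Groth.Prelude.Def_StCoarse
import Groth.Agent.DecSec.GerbeRes
import Mathlib.AlgebraicGeometry.AlgClosed.Basic

/-! Coarse moduli spaces and gerbes. -/

set_option autoImplicit false
set_option backward.isDefEq.respectTransparency false
set_option backward.isDefEq.respectTransparency.types false

universe u

open CategoryTheory CategoryTheory.Limits AlgebraicGeometry Opposite

namespace Groth.Agent.DecSec

open _root_.AlgSp Groth.Agent.ASp Groth.Agent.ASt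

variable {S : Scheme.{u}}

/-- Covering sieves of the spectrum of an algebraically closed field are maximal. -/
theorem sieve_id_of_algClosed {Ω : Type u} [Field Ω] [IsAlgClosed Ω] (t : Spec (CommRingCat.of Ω) ⟶ S)
    {R : Sieve (Over.mk t)} (hR : R ∈ J S (Over.mk t)) : R (𝟙 _) := by
  have : (min (α := MorphismProperty Scheme.{u}) @Flat @LocallyOfFinitePresentation).ContainsIdentities :=
    ⟨fun X => ⟨(inferInstance : Flat (𝟙 X)), (inferInstance : LocallyOfFinitePresentation (𝟙 X))⟩⟩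
  have : Scheme.fppfPrecoverage.{u}.HasIsos := inferInstanceAs
    ((Scheme.precoverage (min (α := MorphismProperty Scheme.{u}) @Flat @LocallyOfFinitePresentation)).HasIsos)
  have : Scheme.fppfPrecoverage.{u}.HasPullbacks := inferInstanceAs
    ((Scheme.precoverage (min (α := MorphismProperty Scheme.{u}) @Flat @LocallyOfFinitePresentation)).HasPullbacks)
  rw [GrothendieckTopology.mem_over_iff, Precoverage.mem_toGrothendieck_iff_of_isStableUnderComposition] at hR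
  obtain ⟨R₀, hR₀, hle⟩ := hR
  obtain ⟨Y, k, ⟨hk⟩, y, hy⟩ := hR₀.1 (IsLocalRing.closedPoint Ω)
  rename_i Y k
  obtain ⟨-, hkl⟩ : Flat k ∧ LocallyOfFinitePresentation k := hR₀.2 hk
  haveI := hkl
  haveI : JacobsonSpace ↥(Over.mk t).left :=
    inferInstanceAs (JacobsonSpace ↥(Spec (CommRingCat.of Ω)))
  haveI : JacobsonSpace ↥Y := LocallyOfFiniteType.jacobsonSpace k
  obtain ⟨z, -, hz⟩ := nonempty_inter_closedPoints (Z := (Set.univ : Set ↥Y)) ⟨y, trivial⟩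
    isOpen_univ.isLocallyClosed
  obtain ⟨Z, a, b, ha, hb⟩ := hle _ _ hk
  let s := pointOfClosedPoint (K := Ω) k z hz
  have hs : s ≫ k = 𝟙 _ := pointOfClosedPoint_comp (K := Ω) k z hz
  let s' : Over.mk t ⟶ Z := Over.homMk (s ≫ b) (by
    have hb' : b ≫ a.left = k := hb.symm
    change (s ≫ b) ≫ Z.hom = t
    rw [← Over.w a, Category.assoc, ← Category.assoc b, hb', ← Category.assoc, hs]
    exact Category.id_comp t)
  have : s' ≫ a = 𝟙 _ := Over.OverMorphism.ext (by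
    have hb' : b ≫ a.left = k := hb.symm
    change (s ≫ b) ≫ a.left = 𝟙 _
    rw [Category.assoc, hb', hs])
  rw [← this]
  exact R.downward_closed ha s'

variable {𝒳 𝒴 : AlgSt.Cat S} [FibCat.IsFibGrpd 𝒳.p] [FibCat.IsFibGrpd 𝒴.p] {M : Sp S}

theorem map_eqToHom_map {A B C : Over S} (p : A = B) (q : B = C) (z : M.obj.obj (op C)) :
    M.obj.map (eqToHom p).op (M.obj.map (eqToHom q).op z) = M.obj.map (eqToHom (p.trans q)).op z := by
  subst p; subst q; simp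

theorem fibSec_eq_of_hom (π : 𝒴 ⥤ᵇ AlgSt.ofSp M) {T : Over S} (x y : 𝒴.p.Fiber T) (m : x.1 ⟶ y.1)
    (hm : 𝒴.p.map m = eqToHom (x.2.trans y.2.symm)) : AlgSt.fibSec π x = AlgSt.fibSec π y := by
  have h := (π.map m).map_sec
  have e : (π.map m).hom = eqToHom ((π.w_obj x.1).trans ((x.2.trans y.2.symm).trans (π.w_obj y.1).symm)) := by
    refine (map_w π m).trans ?_
    rw [hm, eqToHom_trans, eqToHom_trans]
  unfold AlgSt.fibSec
  rw [← h, e]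
  exact map_eqToHom_map _ _ _

theorem fibSec_congr {π π' : 𝒳 ⥤ᵇ AlgSt.ofSp M} (α : π ≅ π') {T : Over S} (x : 𝒳.p.Fiber T) :
    AlgSt.fibSec π x = AlgSt.fibSec π' x := by
  have h := (α.hom.toNatTrans.app x.1).map_sec
  have e : (α.hom.toNatTrans.app x.1).hom = eqToHom ((π.w_obj x.1).trans (π'.w_obj x.1).symm) :=
    map_app _ _ α.hom x.1
  unfold AlgSt.fibSec
  rw [← h, e]
  exact map_eqToHom_map _ _ _

/-- The image in a fibre. -/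
def fibMap (F : 𝒳 ⥤ᵇ 𝒴) {T : Over S} (x : 𝒳.p.Fiber T) : 𝒴.p.Fiber T := ⟨F.obj x.1, (F.w_obj x.1).trans x.2⟩

theorem fibSec_comp (F : 𝒳 ⥤ᵇ 𝒴) (π : 𝒴 ⥤ᵇ AlgSt.ofSp M) {T : Over S} (x : 𝒳.p.Fiber T) :
    AlgSt.fibSec (BasedFunctor.comp F π) x = AlgSt.fibSec π (fibMap F x) := rfl

variable {F : 𝒳 ⥤ᵇ 𝒴}

theorem exists_fib_lift (hF : Gerb.LocSurjObj (J S) F) {Ω : Type u} [Field Ω] [IsAlgClosed Ω]
    (t : Spec (CommRingCat.of Ω) ⟶ S) (y : 𝒴.p.Fiber (Over.mk t)) :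
    ∃ (x : 𝒳.p.Fiber (Over.mk t)) (g : (fibMap F x).1 ⟶ y.1),
      𝒴.p.map g = eqToHom ((fibMap F x).2.trans y.2.symm) := by
  obtain ⟨y, hy⟩ := y
  obtain ⟨R, hR, h⟩ := hF y
  have hid : R (𝟙 _) := by
    obtain ⟨R', hR', rfl⟩ : ∃ R' : Sieve (Over.mk t), R' ∈ J S (Over.mk t) ∧
        R = R'.pullback (eqToHom hy) := by
      refine ⟨R.pullback (eqToHom hy.symm), (J S).pullback_stable _ hR, ?_⟩
      rw [← Sieve.pullback_comp, eqToHom_trans, eqToHom_refl, Sieve.pullback_id]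
    have := sieve_id_of_algClosed t hR'
    simpa using R'.downward_closed this (eqToHom hy)
  obtain ⟨x, g, hg⟩ := h (𝟙 _) hid
  have hx : 𝒳.p.obj x = Over.mk t := ((F.w_obj x).symm.trans (IsHomLift.domain_eq 𝒴.p (𝟙 _) g)).trans hy
  refine ⟨⟨x, hx⟩, g, ?_⟩
  have := IsHomLift.fac' 𝒴.p (𝟙 (𝒴.p.obj y)) g
  rw [this]
  simp

/-- Bijectivity on geometric points passes along gerbes. -/
theorem geomPtBij_comp_iff (hF : Gerb.IsGerbeOver (J S) F) (π : 𝒴 ⥤ᵇ AlgSt.ofSp M) :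
    AlgSt.GeomPtBij (BasedFunctor.comp F π) ↔ AlgSt.GeomPtBij π := by
  constructor
  · intro h Ω _ _ t
    obtain ⟨hs, hi⟩ := h Ω t
    refine ⟨fun m => ?_, fun y y' e => ?_⟩
    · obtain ⟨x, hx⟩ := hs m
      exact ⟨fibMap F x, hx⟩
    · obtain ⟨x, g, hg⟩ := exists_fib_lift hF.1 t y
      obtain ⟨x', g', hg'⟩ := exists_fib_lift hF.1 t y'
      obtain ⟨i⟩ := hi x x' (by
        rw [fibSec_comp, fibSec_comp, fibSec_eq_of_hom π _ _ g hg, e, ← fibSec_eq_of_hom π _ _ g' hg'])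
      haveI : IsIso g := isIso_of_vert g hg
      haveI : IsIso g' := isIso_of_vert g' hg'
      have hi' : 𝒳.p.map i.hom.1 = eqToHom (x.2.trans x'.2.symm) := by
        have h2 := i.hom.2
        exact (IsHomLift.fac' 𝒳.p (𝟙 (Over.mk t)) i.hom.1).trans (by simp)
      let m : y.1 ⟶ y'.1 := inv g ≫ F.map i.hom.1 ≫ g'
      have hm : 𝒴.p.map m = eqToHom (y.2.trans y'.2.symm) := by
        simp [m, Functor.map_inv, hg, hg', map_w, hi', fibMap]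
      haveI : IsIso m := isIso_of_vert m hm
      haveI : 𝒴.p.IsHomLift (𝟙 (Over.mk t)) m := IsHomLift.of_fac' 𝒴.p _ _ y.2 y'.2 (by rw [hm]; simp)
      let mm : y ⟶ y' := ⟨m, inferInstance⟩
      haveI : 𝒴.p.IsHomLift (𝟙 (Over.mk t)) (inv m) :=
        IsHomLift.of_fac' 𝒴.p _ _ y'.2 y.2 (by rw [Functor.map_inv]; simp [hm])
      exact ⟨⟨mm, ⟨inv m, inferInstance⟩, Functor.Fiber.hom_ext (IsIso.hom_inv_id m),
        Functor.Fiber.hom_ext (IsIso.inv_hom_id m)⟩⟩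
  · intro h Ω _ _ t
    obtain ⟨hs, hi⟩ := h Ω t
    refine ⟨fun m => ?_, fun x x' e => ?_⟩
    · obtain ⟨y, rfl⟩ := hs m
      obtain ⟨x, g, hg⟩ := exists_fib_lift hF.1 t y
      exact ⟨x, (fibSec_comp F π x).trans (fibSec_eq_of_hom π _ _ g hg)⟩
    · obtain ⟨i⟩ := hi (fibMap F x) (fibMap F x') e
      obtain ⟨x, hx⟩ := x
      obtain ⟨x', hx'⟩ := x'
      have hi' : 𝒴.p.map i.hom.1 = eqToHom (((F.w_obj x).trans hx).trans ((F.w_obj x').trans hx').symm) := by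
        have h2 := i.hom.2
        exact (IsHomLift.fac' 𝒴.p (𝟙 (Over.mk t)) i.hom.1).trans (by simp)
      obtain ⟨R, hR, h'⟩ := hF.2 x x' i.hom.1 (IsHomLift.of_fac' 𝒴.p _ _ (F.w_obj x) ((F.w_obj x').trans (hx'.trans hx.symm))
        (by rw [hi']; simp))
      have hid : R (𝟙 _) := by
        obtain ⟨R', hR', rfl⟩ : ∃ R' : Sieve (Over.mk t), R' ∈ J S (Over.mk t) ∧
            R = R'.pullback (eqToHom hx) := by
          refine ⟨R.pullback (eqToHom hx.symm), (J S).pullback_stable _ hR, ?_⟩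
          rw [← Sieve.pullback_comp, eqToHom_trans, eqToHom_refl, Sieve.pullback_id]
        have := sieve_id_of_algClosed t hR'
        simpa using R'.downward_closed this (eqToHom hx)
      obtain ⟨x₀, φ, ψ, hφ, hψ, -⟩ := h' (𝟙 _) hid
      have hx₀ : 𝒳.p.obj x₀ = 𝒳.p.obj x := IsHomLift.domain_eq 𝒳.p (𝟙 (𝒳.p.obj x)) φ
      have hx₀' : 𝒳.p.obj x₀ = 𝒳.p.obj x' := hx₀.trans (hx.trans hx'.symm)
      have e1 : 𝒳.p.map φ = eqToHom hx₀ := (IsHomLift.fac' 𝒳.p (𝟙 (𝒳.p.obj x)) φ).trans (by simp)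
      have e2 : 𝒳.p.map ψ = eqToHom hx₀' := (IsHomLift.fac' 𝒳.p (𝟙 (𝒳.p.obj x)) ψ).trans (by simp)
      haveI : IsIso φ := isIso_of_vert φ e1
      haveI : IsIso ψ := isIso_of_vert ψ e2
      haveI : 𝒳.p.IsHomLift (𝟙 (Over.mk t)) (inv φ ≫ ψ) := IsHomLift.of_fac' 𝒳.p _ _ hx hx' (by
        rw [Functor.map_comp, Functor.map_inv, e2]; simp [e1])
      haveI : 𝒳.p.IsHomLift (𝟙 (Over.mk t)) (inv ψ ≫ φ) := IsHomLift.of_fac' 𝒳.p _ _ hx' hx (by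
        rw [Functor.map_comp, Functor.map_inv, e1]; simp [e2])
      exact ⟨⟨⟨inv φ ≫ ψ, inferInstance⟩, ⟨inv ψ ≫ φ, inferInstance⟩,
        Functor.Fiber.hom_ext (by change (inv φ ≫ ψ) ≫ inv ψ ≫ φ = 𝟙 x; simp),
        Functor.Fiber.hom_ext (by change (inv ψ ≫ φ) ≫ inv φ ≫ ψ = 𝟙 x'; simp)⟩⟩

/-- Coarse moduli spaces of a gerbe and of its base agree. -/
theorem coarseModuli_gerbe (hF : Gerb.IsGerbeOver (J S) F)
    (huniv : ∀ (N : AlgSp.Sp S), AlgSp.IsAlgSpace N → ∀ φ : 𝒳 ⥤ᵇ AlgSt.ofSp N,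
      ∃ ψ : 𝒴 ⥤ᵇ AlgSt.ofSp N, Nonempty (BasedFunctor.comp F ψ ≅ φ) ∧
        ∀ ψ' : 𝒴 ⥤ᵇ AlgSt.ofSp N, Nonempty (BasedFunctor.comp F ψ' ≅ φ) → Nonempty (ψ' ≅ ψ)) :
    ((∃ (M : AlgSp.Sp S) (π : 𝒴 ⥤ᵇ AlgSt.ofSp M), AlgSt.IsCoarseModuli π) ↔
        ∃ (M : AlgSp.Sp S) (π : 𝒳 ⥤ᵇ AlgSt.ofSp M), AlgSt.IsCoarseModuli π) ∧
      ∀ (M : AlgSp.Sp S) (π : 𝒴 ⥤ᵇ AlgSt.ofSp M), AlgSt.IsCoarseModuli π →
        AlgSt.IsCoarseModuli (BasedFunctor.comp F π) := by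
  have key : ∀ (M : AlgSp.Sp S) (π : 𝒴 ⥤ᵇ AlgSt.ofSp M), AlgSt.IsCoarseModuli π →
      AlgSt.IsCoarseModuli (BasedFunctor.comp F π) := by
    rintro M π ⟨⟨hM, hu⟩, hg⟩
    refine ⟨⟨hM, fun N hN φ => ?_⟩, (geomPtBij_comp_iff hF π).2 hg⟩
    obtain ⟨ψ, ⟨e⟩, hψ⟩ := huniv N hN φ
    obtain ⟨g, ⟨e'⟩, hg'⟩ := hu N hN ψ
    refine ⟨g, ⟨(eqToIso (Groth.Agent.ASt.basedFunctor_ext rfl)).trans ((wL F e').trans e)⟩, fun g' ⟨e''⟩ => ?_⟩
    exact hg' g' (hψ _ ⟨(eqToIso (Groth.Agent.ASt.basedFunctor_ext rfl)).trans e''⟩)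
  refine ⟨⟨fun ⟨M, π, h⟩ => ⟨M, _, key M π h⟩, ?_⟩, key⟩
  rintro ⟨M, π, ⟨hM, hu⟩, hg⟩
  obtain ⟨ψ, ⟨e⟩, -⟩ := huniv M hM π
  refine ⟨M, ψ, ⟨hM, fun N hN φ => ?_⟩, (geomPtBij_comp_iff hF ψ).1 ?_⟩
  · obtain ⟨g, ⟨e'⟩, hg'⟩ := hu N hN (BasedFunctor.comp F φ)
    obtain ⟨χ, -, hχ⟩ := huniv N hN (BasedFunctor.comp F φ)
    obtain ⟨a⟩ := hχ φ ⟨Iso.refl _⟩
    obtain ⟨b⟩ := hχ (BasedFunctor.comp ψ (AlgSt.ofSpMap g))
      ⟨(eqToIso (Groth.Agent.ASt.basedFunctor_ext rfl)).trans ((wR e (AlgSt.ofSpMap g)).trans e')⟩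
    refine ⟨g, ⟨b.trans a.symm⟩, fun g' ⟨e''⟩ => hg' g' ⟨?_⟩⟩
    exact (wR e.symm (AlgSt.ofSpMap g')).trans ((eqToIso (Groth.Agent.ASt.basedFunctor_ext rfl)).trans (wL F e''))
  · intro Ω _ _ t
    obtain ⟨hs, hi⟩ := hg Ω t
    exact ⟨fun m => (hs m).imp fun x hx => (fibSec_congr e x).trans hx,
      fun x y h => hi x y ((fibSec_congr e x).symm.trans (h.trans (fibSec_congr e y)))⟩

end Groth.Agent.DecSec
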