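import Groth.Agent.DecSec.GerbeEquiv

/-! Endofunctors of gerbes with inner action on the automorphisms of a global object. -/

set_option autoImplicit false
set_option backward.isDefEq.respectTransparency false
set_option backward.isDefEq.respectTransparency.types false

universe v u

open CategoryTheory

namespace Groth.Agent.DecSec.GerbeEq

open Groth.Agent.ASt Groth.Agent.RepOne

variable {C : Type u} [Category.{v} C] {J : GrothendieckTopology C} {𝒳 𝒴 : BasedCategory.{v, max u v} C}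
  [FibCat.IsFibGrpd 𝒳.p] [FibCat.IsFibGrpd 𝒴.p] {φ : 𝒳 ⥤ᵇ 𝒳} {x : 𝒳.obj}

/-- Conjugation by `g` after `φ` fixes the automorphisms of pullbacks of `x`. -/
def ConjId (φ : 𝒳 ⥤ᵇ 𝒳) {x : 𝒳.obj} (g : φ.obj x ⟶ x) : Prop :=
  ∀ (x' : 𝒳.obj) (c : x' ⟶ x) (g' : φ.obj x' ⟶ x'), 𝒳.p.IsHomLift (𝟙 (𝒳.p.obj x')) g' →
    φ.map c ≫ g = g' ≫ c → ∀ v : x' ⟶ x', 𝒳.p.map v = 𝟙 _ → φ.map v ≫ g' = g' ≫ v

theorem exists_fiberwise (hX : Gerb.IsGerbe J 𝒳) (hs : Limits.IsTerminal (𝒳.p.obj x))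
    (g : φ.obj x ⟶ x) (hg : 𝒳.p.map g = eqToHom (φ.w_obj x)) (hc : ConjId φ g) :
    ∃ ρ : ∀ y : 𝒳.obj, φ.obj y ⟶ y,
      (∀ y, IsIso (ρ y) ∧ 𝒳.p.IsHomLift (𝟙 (𝒳.p.obj y)) (ρ y)) ∧
      ∀ (y y' : 𝒳.obj) (f : y ⟶ y'), φ.map f ≫ ρ y' = ρ y ≫ f := by
  let G : ∀ {x₀ : 𝒳.obj} (_ : x₀ ⟶ x), φ.obj x₀ ⟶ x₀ := fun {x₀} c =>
    facMap c (φ.map c ≫ g) (eqToHom (φ.w_obj x₀)) (by rw [Functor.map_comp, ASt.map_w, hg]; simp)
  have hG₁ : ∀ {x₀ : 𝒳.obj} (c : x₀ ⟶ x), 𝒳.p.map (G c) = eqToHom (φ.w_obj x₀) := fun c => map_facMap _ _ _ _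
  have hG₂ : ∀ {x₀ : 𝒳.obj} (c : x₀ ⟶ x), G c ≫ c = φ.map c ≫ g := fun c => facMap_comp _ _ _ _
  have hwd : ∀ {x₀ : 𝒳.obj} (c c' : x₀ ⟶ x), G c = G c' := fun {x₀} c c' => by
    let α := facMap c c' (𝟙 _) (by rw [Category.id_comp]; exact hs.hom_ext _ _)
    have hα : α ≫ c = c' := facMap_comp _ _ _ _
    have h := hc x₀ c (G c) (isHomLift_id_of_map _ (φ.w_obj x₀) (e := φ.w_obj x₀) (hG₁ c)) (hG₂ c).symm α
      (map_facMap _ _ _ _)
    refine ASt.hom_ext c' (by rw [hG₁, hG₁]) ?_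
    rw [hG₂ c', ← hα, φ.toFunctor.map_comp, Category.assoc, ← hG₂ c, ← Category.assoc (φ.map α), h, Category.assoc]
  have hnat : ∀ {x₀ x₁ : 𝒳.obj} (m : x₀ ⟶ x₁) (c₀ : x₀ ⟶ x) (c₁ : x₁ ⟶ x), φ.map m ≫ G c₁ = G c₀ ≫ m :=
    fun {x₀ x₁} m c₀ c₁ => by
    refine ASt.hom_ext c₁ (by rw [Functor.map_comp, Functor.map_comp, hG₁, hG₁, ASt.map_w]; simp) ?_
    rw [Category.assoc, Category.assoc, hG₂, hwd c₀ (m ≫ c₁), hG₂, φ.toFunctor.map_comp, Category.assoc]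
  have key : ∀ y : 𝒳.obj, ∃ r : φ.obj y ⟶ y, 𝒳.p.map r = eqToHom (φ.w_obj y) ∧
      ∃ R ∈ J (𝒳.p.obj y), (∀ ⦃V : C⦄ (t : V ⟶ 𝒳.p.obj y), R t → Nonempty (pull y rfl t ⟶ x)) ∧
      ∀ (x₀ : 𝒳.obj) (m : x₀ ⟶ y) (c : x₀ ⟶ x), φ.map m ≫ r = G c ≫ m := by
    intro y
    let U := 𝒳.p.obj y
    let R : Sieve U :=
      { arrows := fun V t => Nonempty (pull y rfl t ⟶ x)
        downward_closed := fun {V W t} ⟨c⟩ k => ⟨facMap (pullHom y rfl t) (pullHom y rfl (k ≫ t))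
          (eqToHom (pull_base y rfl (k ≫ t)) ≫ k ≫ eqToHom (pull_base y rfl t).symm)
          (by rw [map_pullHom, map_pullHom]; simp) ≫ c⟩ }
    have hR : R ∈ J U := by
      obtain ⟨R₁, hR₁, h₁⟩ := exists_sieve_to hX hs y
      refine J.superset_covering (fun V t ht => ?_) hR₁
      obtain ⟨x₀, m, c, hm⟩ := h₁ t ht
      obtain ⟨e₀, hm₀⟩ := map_over hm
      exact ⟨facMap m (pullHom y rfl t) (eqToHom ((pull_base y rfl t).trans e₀.symm))
        (by rw [map_pullHom, hm₀]; simp) ≫ c⟩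
    let A := objFun y (rfl : 𝒳.p.obj y = U)
    let c₀ : SCone ((Stk.resSieve R 𝒳).obj A) :=
      { pt := y
        base := rfl
        ι := fun t => pullHom y rfl t.obj.hom
        map_ι := fun t => by rw [map_pullHom]
        nat := fun m => (objMap_comp _ _ _).trans rfl }
    let c₁ : SCone (BasedFunctor.comp ((Stk.resSieve R 𝒳).obj A) φ) :=
      { pt := y
        base := rfl
        ι := fun t => G t.property.some ≫ pullHom y rfl t.obj.hom
        map_ι := fun t => by rw [Functor.map_comp, hG₁, map_pullHom]; simp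
        nat := fun {t t'} m => by
          rw [← Category.assoc]
          refine (congrArg (· ≫ pullHom y rfl t'.obj.hom)
            (hnat (((Stk.resSieve R 𝒳).obj A).map m) t.property.some t'.property.some)).trans ?_
          rw [Category.assoc]
          exact congrArg (G t.property.some ≫ ·) (c₀.nat m) }
    obtain ⟨r, ⟨hr, hι⟩, -⟩ := (isStack_iff.1 hX.1 R hR).1 _ (c₀.map φ) c₁
    refine ⟨r, hr.trans rfl, R, hR, fun V t ht => ht, fun x₀ m c => ?_⟩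
    let t : 𝒳.p.obj x₀ ⟶ U := 𝒳.p.map m
    let i := facMap (pullHom y rfl t) m (eqToHom (pull_base y rfl t).symm) (by rw [map_pullHom]; simp [t])
    haveI : IsIso i := isIso_of_vert i (map_facMap _ _ _ _)
    have hi : i ≫ pullHom y rfl t = m := facMap_comp _ _ _ _
    have ht : R t := ⟨inv i ≫ c⟩
    have h2 : φ.map (pullHom y rfl t) ≫ r = G ht.some ≫ pullHom y rfl t := hι (sMk t ht)
    rw [← hi, φ.toFunctor.map_comp, Category.assoc, h2, ← Category.assoc, hnat i c ht.some, Category.assoc]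
  choose ρ hρ R hR hRc hρm using key
  refine ⟨ρ, fun y => ⟨isIso_of_vert (ρ y) (hρ y), isHomLift_id_of_map _ (φ.w_obj y) (e := φ.w_obj y) (hρ y)⟩,
    fun y y' f => ?_⟩
  let A := objFun y (rfl : 𝒳.p.obj y = _)
  let g' : 𝒳.p.obj y ⟶ 𝒳.p.obj y' := 𝒳.p.map f
  let p := pullHom y' rfl g'
  let d : y ⟶ pull y' rfl g' := facMap p f (eqToHom (pull_base y' rfl g').symm) (by simp [p, map_pullHom, g'])
  let c₀ : SCone ((Stk.resSieve (R y) 𝒳).obj A) :=
    { pt := y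
      base := rfl
      ι := fun t => pullHom y rfl t.obj.hom
      map_ι := fun t => by rw [map_pullHom]
      nat := fun m => (objMap_comp _ _ _).trans rfl }
  let c₁ : SCone (BasedFunctor.comp ((Stk.resSieve (R y) 𝒳).obj A) φ) :=
    { pt := pull y' rfl g'
      base := pull_base y' rfl g'
      ι := fun t => φ.map (c₀.ι t) ≫ ρ y ≫ d
      map_ι := fun t => by
        rw [Functor.map_comp, Functor.map_comp, ASt.map_w, hρ, show 𝒳.p.map d = _ from map_facMap _ _ _ _,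
          show 𝒳.p.map (c₀.ι t) = _ from map_pullHom y rfl t.obj.hom]
        simp
      nat := fun {t t'} m => by
        rw [← Category.assoc]
        exact congrArg (· ≫ ρ y ≫ d) ((φ.toFunctor.map_comp _ _).symm.trans (congrArg (fun k => φ.map k) (c₀.nat m))) }
  obtain ⟨h, -, hu⟩ := (isStack_iff.1 hX.1 (R y) (hR y)).1 _ (c₀.map φ) c₁
  have h1 : ρ y ≫ d = h := hu _ ⟨by rw [Functor.map_comp, hρ, show 𝒳.p.map d = _ from map_facMap _ _ _ _]; simp, fun t => rfl⟩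
  let q := facMap p (φ.map f ≫ ρ y') (eqToHom ((φ.w_obj y).trans (pull_base y' rfl g').symm)) (by
    rw [Functor.map_comp, ASt.map_w, hρ, map_pullHom]; simp [g'])
  have hqp : q ≫ p = φ.map f ≫ ρ y' := facMap_comp _ _ _ _
  have hdp : d ≫ p = f := facMap_comp _ _ _ _
  have h2 : q = h := by
    refine hu q ⟨map_facMap _ _ _ _, ?_⟩
    intro t
    obtain ⟨c⟩ := hRc y t.obj.hom t.property
    change φ.map (pullHom y rfl t.obj.hom) ≫ q = φ.map (pullHom y rfl t.obj.hom) ≫ ρ y ≫ d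
    refine ASt.hom_ext p ?_ ?_
    · rw [Functor.map_comp, Functor.map_comp, Functor.map_comp, hρ, show 𝒳.p.map d = _ from map_facMap _ _ _ _,
        show 𝒳.p.map q = _ from map_facMap _ _ _ _]
      simp
    · simp only [Category.assoc]
      rw [hqp, hdp, ← Category.assoc, ← φ.toFunctor.map_comp, hρm _ _ _ c, ← Category.assoc (φ.map _) (ρ y),
        hρm _ _ _ c]
      exact (Category.assoc _ _ _).symm
  rw [← hqp, h2, ← h1, Category.assoc, hdp]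

/-- Conjugation data move along a functor surjective on automorphisms. -/
theorem conjId_comp (φ₁ : 𝒳 ⥤ᵇ 𝒴) (ψ : 𝒴 ⥤ᵇ 𝒳) {x : 𝒳.obj} (g : ψ.obj (φ₁.obj x) ⟶ x)
    (hg : 𝒳.p.map g = eqToHom ((BasedFunctor.comp φ₁ ψ).w_obj x))
    (hφ : ∀ (x' : 𝒳.obj) (_ : x' ⟶ x), Function.Surjective (Gerb.autMap φ₁ x'))
    (hc : ConjId (BasedFunctor.comp φ₁ ψ) g) :
    ConjId (BasedFunctor.comp ψ φ₁) (x := φ₁.obj x) (φ₁.map g) := by
  intro y c g'' hg'' hgc v hv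
  let k : 𝒴.p.obj y ⟶ 𝒳.p.obj x := 𝒴.p.map c ≫ eqToHom (φ₁.w_obj x)
  let x' := pull x rfl k
  let p := pullHom x rfl k
  let i := facMap c (φ₁.map p) (eqToHom ((φ₁.w_obj x').trans (pull_base x rfl k))) (by
    simp [p, ASt.map_w, map_pullHom, k])
  have hi : 𝒴.p.map i = eqToHom ((φ₁.w_obj x').trans (pull_base x rfl k)) := map_facMap _ _ _ _
  haveI : IsIso i := isIso_of_vert i hi
  let w := i ≫ v ≫ inv i
  have hw : 𝒴.p.map w = 𝟙 _ := by simp [w, hi, hv]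
  obtain ⟨α, hα⟩ := hφ x' p (autOfVert w hw)
  have hα' : φ₁.map α.hom.1 = w := congrArg (fun β : Gerb.AutO (φ₁.obj x') => β.hom.1) hα
  let g' := facMap p (ψ.map (φ₁.map p) ≫ g) (eqToHom ((BasedFunctor.comp φ₁ ψ).w_obj x')) (by
    rw [Functor.map_comp, ASt.map_w, ASt.map_w, hg]; simp)
  have hg'p : g' ≫ p = ψ.map (φ₁.map p) ≫ g := facMap_comp _ _ _ _
  have hg'm : 𝒳.p.map g' = eqToHom ((BasedFunctor.comp φ₁ ψ).w_obj x') := map_facMap _ _ _ _
  have h1 := hc x' p g' (isHomLift_id_of_map _ ((BasedFunctor.comp φ₁ ψ).w_obj x')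
    (e := (BasedFunctor.comp φ₁ ψ).w_obj x') hg'm) hg'p.symm α.hom.1 (map_autO α)
  have hg''m : 𝒴.p.map g'' = eqToHom ((BasedFunctor.comp ψ φ₁).w_obj y) := by
    haveI := hg''
    exact (map_of_isHomLift_id (R := 𝒴.p.obj y) g'').trans rfl
  have h2 : φ₁.map g' ≫ i = φ₁.map (ψ.map i) ≫ g'' := by
    refine ASt.hom_ext c ?_ ?_
    · rw [Functor.map_comp, Functor.map_comp, ASt.map_w, ASt.map_w, hg'm, hg''m, ASt.map_w, hi]; simp
    · have hic : i ≫ c = φ₁.map p := facMap_comp _ _ _ _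
      rw [Category.assoc, Category.assoc, ← hgc, hic, ← φ₁.toFunctor.map_comp, hg'p]
      change φ₁.map (ψ.map (φ₁.map p) ≫ g) = φ₁.map (ψ.map i) ≫ φ₁.map (ψ.map c) ≫ φ₁.map g
      rw [← hic, ψ.toFunctor.map_comp, φ₁.toFunctor.map_comp, φ₁.toFunctor.map_comp, Category.assoc]
  have h3 : φ₁.map (ψ.map w) ≫ φ₁.map g' = φ₁.map g' ≫ w := by
    rw [← hα', ← φ₁.toFunctor.map_comp, ← φ₁.toFunctor.map_comp]
    exact congrArg (fun k => φ₁.map k) h1
  change φ₁.map (ψ.map v) ≫ g'' = g'' ≫ v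
  haveI : IsIso (φ₁.map (ψ.map i)) :=
    inferInstanceAs (IsIso (φ₁.toFunctor.map (ψ.toFunctor.map i)))
  rw [← cancel_epi (φ₁.map (ψ.map i))]
  have hwi : w ≫ i = i ≫ v := by simp [w]
  rw [← Category.assoc, ← Category.assoc, ← φ₁.toFunctor.map_comp, ← ψ.toFunctor.map_comp, ← hwi,
    ψ.toFunctor.map_comp, φ₁.toFunctor.map_comp, Category.assoc, ← h2, ← Category.assoc, h3, Category.assoc, hwi]
  exact (Category.assoc _ _ _).symm

end Groth.Agent.DecSec.GerbeEq
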