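import Groth.Agent.DecSec.GerbeMor
import Groth.Agent.DecSec.GerbeRes

/-! Criteria for gerbes. -/

set_option autoImplicit false
set_option backward.isDefEq.respectTransparency false
set_option backward.isDefEq.respectTransparency.types false

universe u

open CategoryTheory CategoryTheory.Limits AlgebraicGeometry Opposite

namespace Groth.Agent.DecSec

open _root_.AlgSp Groth.Agent.ASp Groth.Agent.ASt Groth.Agent.Boot

variable {S : Scheme.{u}} {𝒳 𝒴 : AlgSt.Cat S} [FibCat.IsFibGrpd 𝒳.p] [FibCat.IsFibGrpd 𝒴.p] {f : 𝒳 ⥤ᵇ 𝒴}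

/-- Properties of representable morphisms give properties on chart squares. -/
theorem locQ_of_repByAlgSpWith {M : MorphismProperty Scheme.{u}} [IsEtLocal M]
    (hY : AlgSt.IsAlgStack Scheme.fppfPrecoverage 𝒴) (h : AlgSt.RepByAlgSpWith (LocP M) f) :
    AlgSt.LocQ (LocP M) f := by
  obtain ⟨V, y, hy, hys⟩ := hY.atlas
  exact locQ_of_rep hy hys h fun p π hF hp hπ => locP_comp hF
    (locP_of_repWith (repWith_mono (fun _ _ g hg => IsEtLocal.etale_le (P := M) g hg) hp)) hπ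

/-- A single fppf arrow generates a covering sieve. -/
theorem generate_singleton_mem {U V : Over S} (l : V ⟶ U) [Flat l.left] [LocallyOfFinitePresentation l.left]
    [Surjective l.left] : Sieve.generate (Presieve.singleton l) ∈ J S U := by
  change _ ∈ (J S) _
  rw [GrothendieckTopology.mem_over_iff]
  refine GrothendieckTopology.superset_covering _ ?_
    (Precoverage.generate_mem_toGrothendieck l.left.singleton_mem_fppfPrecoverage)
  rw [Sieve.generate_le_iff]
  rintro _ _ ⟨⟩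
  exact ⟨V, l, 𝟙 _, Sieve.le_generate _ _ _ (Presieve.singleton.mk), (Category.id_comp _).symm⟩

/-- Flat, locally finitely presented, surjective morphisms are locally surjective on objects. -/
theorem locSurjObj_of_fppf (hX : AlgSt.IsAlgStack Scheme.fppfPrecoverage 𝒳)
    (hY : AlgSt.IsAlgStack Scheme.fppfPrecoverage 𝒴) (hs : AlgSt.IsSurjective f)
    (hf : AlgSt.LocQ (LocP @Flat) f) (hp : AlgSt.LocQ (LocP @LocallyOfFinitePresentation) f) :
    Gerb.LocSurjObj (J S) f := by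
  intro o
  obtain ⟨V, v, hv, hvs⟩ := hY.atlas
  obtain ⟨D⟩ := nonempty_chartOf hY.diag hX.atlas f v
  haveI : Flat D.k.left := prop_left_of_locP (D.prop isSmoothLocalST_locP hY.diag hv hf)
  haveI : LocallyOfFinitePresentation D.k.left := prop_left_of_locP (D.prop isSmoothLocalST_locP hY.diag hv hp)
  haveI := D.surjective_k hs
  obtain ⟨W, l, hl, hls, u, φ, hφ⟩ := exists_lift_atlas hv hvs (objFun o (rfl : 𝒴.p.obj o = _))
  haveI := hl; haveI := hls
  have hP := isPullback_left (IsPullback.of_hasPullback u D.k)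
  haveI : Flat (pullback.fst u D.k).left :=
    MorphismProperty.of_isPullback (P := @Flat) hP.flip (inferInstanceAs (Flat D.k.left))
  haveI : LocallyOfFinitePresentation (pullback.fst u D.k).left :=
    MorphismProperty.of_isPullback (P := @LocallyOfFinitePresentation) hP.flip
      (inferInstanceAs (LocallyOfFinitePresentation D.k.left))
  haveI : Surjective (pullback.fst u D.k).left :=
    MorphismProperty.of_isPullback (P := @Surjective) hP.flip (inferInstanceAs (Surjective D.k.left))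
  let c := pullback.fst u D.k ≫ l
  haveI : Flat c.left := by rw [Over.comp_left]; infer_instance
  haveI : LocallyOfFinitePresentation c.left := by rw [Over.comp_left]; infer_instance
  haveI : Surjective c.left := by rw [Over.comp_left]; infer_instance
  haveI : IsIso φ := isIso_of_vert φ hφ
  let t := pullback.snd u D.k
  let x₀ := D.x.obj (ov t)
  let v₁ : f.obj x₀ ⟶ v.obj (ov (t ≫ D.k)) := D.sq.hom.toNatTrans.app (ov t)
  have hv₁ : 𝒴.p.map v₁ = eqToHom _ := map_app _ _ D.sq.hom (ov t)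
  let v₂ : v.obj (ov (t ≫ D.k)) ⟶ v.obj (ov u) := v.map (ovHom (pullback.fst u D.k) pullback.condition)
  let n : f.obj x₀ ⟶ o := v₁ ≫ v₂ ≫ inv φ ≫ pullHom o rfl l
  have hn : 𝒴.p.map n = eqToHom ((f.w_obj x₀).trans ((D.x.w_obj (ov t)).trans (ov_base t))) ≫ c := by
    simp only [n, v₂, Functor.map_comp, Functor.map_inv]
    simp [hv₁, hφ, ASt.map_w, ov_p_map, map_pullHom, c]
  refine ⟨Sieve.generate (Presieve.singleton c), generate_singleton_mem c, ?_⟩
  rintro V' g ⟨_, h, _, ⟨⟩, rfl⟩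
  have hx₀ : 𝒳.p.obj x₀ = pullback u D.k := (D.x.w_obj (ov t)).trans (ov_base t)
  refine ⟨pull x₀ hx₀ h, f.map (pullHom x₀ hx₀ h) ≫ n, isHomLift_of_map _ ((f.w_obj _).trans (pull_base x₀ hx₀ h)) rfl ?_⟩
  rw [Functor.map_comp, ASt.map_w, map_pullHom, hn]
  simp

/-- Flat, locally finitely presented, surjective diagonal gives local lifts of morphisms. -/
theorem locSurjHom_of_diag (hX : AlgSt.IsAlgStack Scheme.fppfPrecoverage 𝒳)
    (hY : AlgSt.IsAlgStack Scheme.fppfPrecoverage 𝒴) (h₁ : AlgSt.RepByAlgSpWith (LocP @Flat) (FibCat.diag f))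
    (h₂ : AlgSt.RepByAlgSpWith (LocP @LocallyOfFinitePresentation) (FibCat.diag f))
    (h₃ : AlgSt.RepByAlgSpWith IsSurjectiveMor (FibCat.diag f)) : Gerb.LocSurjHom (J S) f := by
  haveI : FibCat.IsFibGrpd (FibCat.fp f f).p := isFibGrpd_fp
  intro x x' b hb
  haveI := hb
  have he : 𝒳.p.obj x' = 𝒳.p.obj x :=
    (f.w_obj x').symm.trans (IsHomLift.codomain_eq 𝒴.p (𝟙 (𝒳.p.obj x)) b)
  haveI : IsIso b := isIso_of_vert b (map_of_isHomLift_id (R := 𝒳.p.obj x) b)
  let m₀ : (FibCat.fp f f).obj := fpMk x x' he (asIso b) (map_of_isHomLift_id (R := 𝒳.p.obj x) b)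
  let w := objFun m₀ (rfl : (FibCat.fp f f).p.obj m₀ = _)
  obtain ⟨V, l, hl₁, hl₂, hl₃, ω, hω, φ, hφ⟩ := Boot.exists_fppf_lift h₁ h₂ h₃ w
  haveI := hl₁; haveI := hl₂; haveI := hl₃
  haveI : IsIso φ := isIso_of_vert φ hφ
  let m : (FibCat.diag f).obj ω ⟶ m₀ := inv φ ≫ pullHom m₀ rfl l
  have hm : 𝒳.p.map m.hom.fst = eqToHom hω ≫ l := by
    have hω' : (FibCat.fp f f).p.obj ((FibCat.diag f).obj ω) = V := hω
    have h0 : (FibCat.fp f f).p.map m =
        eqToHom hω' ≫ l ≫ eqToHom (rfl : (FibCat.fp f f).p.obj m₀ = _).symm := by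
      rw [Functor.map_comp (FibCat.fp f f).p, Functor.map_inv, map_pullHom]
      rw [IsIso.inv_comp_eq, hφ]
      simp
    have h1 : (FibCat.fp f f).p.map m = 𝒳.p.map m.hom.fst := rfl
    rw [← h1, h0]
    simp
  have hm' : 𝒳.p.map m.hom.snd = eqToHom hω ≫ l ≫ eqToHom he.symm := by
    rw [fp_map_snd, hm]; simp
  have hc : f.map m.hom.fst ≫ b = f.map m.hom.snd := m.hom.w.trans (Category.id_comp _)
  refine ⟨Sieve.generate (Presieve.singleton l), generate_singleton_mem l, ?_⟩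
  rintro V' g ⟨_, h, _, ⟨⟩, rfl⟩
  refine ⟨pull ω hω h, pullHom ω hω h ≫ m.hom.fst, pullHom ω hω h ≫ m.hom.snd,
    isHomLift_of_map _ (pull_base ω hω h) rfl (by rw [Functor.map_comp, map_pullHom, hm]; simp),
    isHomLift_of_map _ (pull_base ω hω h) he (by rw [Functor.map_comp, map_pullHom, hm']; simp), ?_⟩
  rw [f.map_comp, f.map_comp, Category.assoc, hc]

/-- Being a gerbe descends along flat, locally finitely presented, surjective morphisms. -/
theorem gerbe_descend {𝒵 : AlgSt.Cat S} [FibCat.IsFibGrpd 𝒵.p] {g : 𝒵 ⥤ᵇ 𝒴} (hg : Gerb.LocSurjObj (J S) g)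
    (h : Gerb.IsGerbeOver (J S) (FibCat.fpFst g f)) : Gerb.IsGerbeOver (J S) f := by
  haveI : FibCat.IsFibGrpd (FibCat.fp g f).p := isFibGrpd_fp
  refine ⟨fun y => ?_, fun x x' b hb => ?_⟩
  · obtain ⟨R, hR, hR'⟩ := hg y
    let T : Sieve (𝒴.p.obj y) :=
      { arrows := fun V q => ∃ (x : 𝒳.obj) (n : f.obj x ⟶ y), 𝒴.p.IsHomLift q n
        downward_closed := by
          rintro V W q ⟨x, n, hn⟩ r
          haveI := hn
          have hx : 𝒳.p.obj x = V := (f.w_obj x).symm.trans (IsHomLift.domain_eq 𝒴.p q n)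
          haveI : 𝒴.p.IsHomLift r (f.map (pullHom x hx r)) :=
            isHomLift_of_map _ ((f.w_obj _).trans (pull_base x hx r)) ((f.w_obj x).trans hx)
              (by rw [ASt.map_w, map_pullHom]; simp)
          exact ⟨pull x hx r, f.map (pullHom x hx r) ≫ n, inferInstance⟩ }
    refine ⟨T, (J S).transitive hR _ fun V q hq => ?_, fun V q hq => hq⟩
    obtain ⟨z, m, hm⟩ := hR' q hq
    haveI := hm
    have hz : 𝒵.p.obj z = V := (g.w_obj z).symm.trans (IsHomLift.domain_eq 𝒴.p q m)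
    obtain ⟨R₁, hR₁, hR₁'⟩ := h.1 z
    refine (J S).superset_covering ?_ ((J S).pullback_stable (eqToHom hz.symm) hR₁)
    rintro W r hr
    obtain ⟨o, n, hn⟩ := hR₁' (r ≫ eqToHom hz.symm) hr
    haveI := hn
    let n' : o.obj.fst ⟶ z := n
    have ho : 𝒵.p.obj o.obj.fst = W := IsHomLift.domain_eq 𝒵.p (r ≫ eqToHom hz.symm) n'
    refine ⟨o.obj.snd, o.obj.iso.inv ≫ g.map n' ≫ m,
      isHomLift_of_map _ ((f.w_obj _).trans ((fp_snd_base o).trans ho)) rfl ?_⟩
    have hi : 𝒴.p.map o.obj.iso.inv =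
        eqToHom ((f.w_obj _).trans ((fp_snd_base o).trans (g.w_obj _).symm)) := by
      rw [← cancel_epi (𝒴.p.map o.obj.iso.hom), ← Functor.map_comp]
      simp [fp_iso_map]
    rw [Functor.map_comp, Functor.map_comp, hi, ASt.map_w, IsHomLift.fac' 𝒵.p (r ≫ eqToHom hz.symm) n',
      IsHomLift.fac' 𝒴.p q m]
    simp
  · haveI := hb
    have he : 𝒳.p.obj x' = 𝒳.p.obj x :=
      (f.w_obj x').symm.trans (IsHomLift.codomain_eq 𝒴.p (𝟙 (𝒳.p.obj x)) b)
    obtain ⟨R, hR, hR'⟩ := hg (f.obj x)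
    let T : Sieve (𝒳.p.obj x) :=
      { arrows := fun V q => ∃ (x₀ : 𝒳.obj) (φ : x₀ ⟶ x) (ψ : x₀ ⟶ x'),
          𝒳.p.IsHomLift q φ ∧ 𝒳.p.IsHomLift q ψ ∧ f.map φ ≫ b = f.map ψ
        downward_closed := by
          rintro V W q ⟨x₀, φ, ψ, hφ, hψ, hc⟩ r
          haveI := hφ
          haveI := hψ
          have hx : 𝒳.p.obj x₀ = V := IsHomLift.domain_eq 𝒳.p q φ
          haveI : 𝒳.p.IsHomLift r (pullHom x₀ hx r) := isHomLift_of_map _ (pull_base x₀ hx r) hx (by rw [map_pullHom])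
          exact ⟨pull x₀ hx r, pullHom x₀ hx r ≫ φ, pullHom x₀ hx r ≫ ψ, inferInstance, inferInstance,
            by rw [f.map_comp, f.map_comp, Category.assoc, hc]⟩ }
    refine ⟨T, (J S).transitive ((J S).pullback_stable (eqToHom (f.w_obj x).symm) hR) _ fun V q hq => ?_,
      fun V q hq => hq⟩
    obtain ⟨z, m, hm⟩ := hR' (q ≫ eqToHom (f.w_obj x).symm) hq
    haveI := hm
    have hz : 𝒵.p.obj z = V :=
      (g.w_obj z).symm.trans (IsHomLift.domain_eq 𝒴.p (q ≫ eqToHom (f.w_obj x).symm) m)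
    have hb' : 𝒴.p.map b = eqToHom ((f.w_obj x).trans (he.symm.trans (f.w_obj x').symm)) :=
      map_of_isHomLift_id (R := 𝒳.p.obj x) b
    let q' : V ⟶ 𝒳.p.obj x' := q ≫ eqToHom he.symm
    let x₁ := pull x rfl q
    let x₂ := pull x' rfl q'
    let α := facMap (f.map (pullHom x rfl q)) m
      (eqToHom (((g.w_obj z).trans hz).trans ((f.w_obj x₁).trans (pull_base x rfl q)).symm)) (by
        rw [IsHomLift.fac' 𝒴.p (q ≫ eqToHom (f.w_obj x).symm) m, ASt.map_w, map_pullHom]; simp [x₁])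
    let β := facMap (f.map (pullHom x' rfl q')) (m ≫ b)
      (eqToHom (((g.w_obj z).trans hz).trans ((f.w_obj x₂).trans (pull_base x' rfl q')).symm)) (by
        rw [Functor.map_comp, IsHomLift.fac' 𝒴.p (q ≫ eqToHom (f.w_obj x).symm) m, ASt.map_w, map_pullHom, hb']
        simp [x₂, q'])
    haveI : IsIso α := isIso_of_vert α (map_facMap _ _ _ _)
    haveI : IsIso β := isIso_of_vert β (map_facMap _ _ _ _)
    let o₁ : (FibCat.fp g f).obj := fpMk z x₁ ((pull_base x rfl q).trans hz.symm) (asIso α) (show 𝒴.p.map α = _ from map_facMap _ _ _ _)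
    let o₂ : (FibCat.fp g f).obj := fpMk z x₂ ((pull_base x' rfl q').trans hz.symm) (asIso β) (show 𝒴.p.map β = _ from map_facMap _ _ _ _)
    obtain ⟨R₁, hR₁, hR₁'⟩ := h.2 o₁ o₂ (𝟙 z) (isHomLift_id_of_map _ rfl (e := rfl) (𝒵.p.map_id z))
    refine (J S).superset_covering ?_ ((J S).pullback_stable (eqToHom hz.symm) hR₁)
    rintro W r hr
    obtain ⟨o, Φ, Ψ, hΦ, hΨ, hc⟩ := hR₁' (r ≫ eqToHom hz.symm) hr
    haveI := hΦ
    haveI := hΨ
    have hfst : Φ.hom.fst = Ψ.hom.fst := (Category.comp_id _).symm.trans hc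
    have hΦ' : 𝒵.p.map Φ.hom.fst =
        eqToHom (show 𝒵.p.obj o.obj.fst = W from IsHomLift.domain_eq (FibCat.fp g f).p (r ≫ eqToHom hz.symm) Φ) ≫
          r ≫ eqToHom hz.symm :=
      (IsHomLift.fac' (FibCat.fp g f).p (r ≫ eqToHom hz.symm) Φ).trans (by simp)
    have hΨ' : 𝒵.p.map Ψ.hom.fst = _ := (congrArg 𝒵.p.map hfst.symm).trans hΦ'
    have ho : 𝒳.p.obj o.obj.snd = W :=
      (fp_snd_base o).trans (IsHomLift.domain_eq (FibCat.fp g f).p (r ≫ eqToHom hz.symm) Φ)
    refine ⟨o.obj.snd, Φ.hom.snd ≫ pullHom x rfl q, Ψ.hom.snd ≫ pullHom x' rfl q', ?_, ?_, ?_⟩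
    · refine isHomLift_of_map _ ho rfl ?_
      rw [Functor.map_comp, map_pullHom, fp_map_snd, hΦ']
      simp [o₁, fpMk]
    · refine isHomLift_of_map _ ho he ?_
      rw [Functor.map_comp, map_pullHom, fp_map_snd, hΨ']
      simp [o₂, fpMk, q']
    · have h1 : g.map Φ.hom.fst ≫ α = o.obj.iso.hom ≫ f.map Φ.hom.snd := Φ.hom.w
      have h2 : g.map Ψ.hom.fst ≫ β = o.obj.iso.hom ≫ f.map Ψ.hom.snd := Ψ.hom.w
      rw [← cancel_epi o.obj.iso.hom, f.map_comp, f.map_comp, ← Category.assoc o.obj.iso.hom (f.map Φ.hom.snd ≫ _),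
        ← Category.assoc o.obj.iso.hom (f.map Φ.hom.snd), ← h1, ← Category.assoc o.obj.iso.hom (f.map Ψ.hom.snd),
        ← h2, Category.assoc, Category.assoc, Category.assoc, facMap_comp, ← Category.assoc α, facMap_comp, hfst]

end Groth.Agent.DecSec
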