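import Groth.Agent.DecSec.MonoEquiv
import Groth.Agent.ASt.SrcDesc
import Groth.Agent.ASt.LocQOpen
import Groth.Agent.ASp.FppfSrcLocal
import Groth.Agent.FppfSrc.Retract
import Groth.Agent.S0115
import Groth.Prelude.Def_StGerb

/-! Sections of gerbes are flat and locally of finite presentation. -/

set_option autoImplicit false
set_option backward.isDefEq.respectTransparency false
set_option backward.isDefEq.respectTransparency.types false

universe u

open CategoryTheory CategoryTheory.Limits AlgebraicGeometry Opposite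

namespace Groth.Agent.DecSec

open _root_.AlgSp Groth.Agent.ASp Groth.Agent.ASt Groth.Agent.Boot

variable {S : Scheme.{u}}

theorem locP_desc {P : MorphismProperty Scheme.{u}} [IsEtLocal P] [IsZariskiLocalAtSource P]
    (hdesc : ∀ {X Y Z : Scheme.{u}} (g : X ⟶ Y) (h : Y ⟶ Z), Flat g → LocallyOfFinitePresentation g →
      Surjective g → P (g ≫ h) → P h)
    ⦃X F Y : Sp S⦄ (hX : IsAlgSpace X) (_ : IsAlgSpace F) (_ : IsAlgSpace Y) (q : X ⟶ F) (a : F ⟶ Y)
    (hq : (LocP @Flat ⊓ LocP @LocallyOfFinitePresentation : MorphismProperty (Sp S)) q) (hs : IsSurjectiveMor q)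
    (h : LocP P (q ≫ a)) : LocP P a := by
  refine locP_of_fppfCover hdesc (ι := PUnit) (g := fun _ => q) (fun _ => hX)
    (fun x => ⟨PUnit.unit, ?_⟩) (fun _ => hq.1) (fun _ => hq.2) fun _ => h
  obtain ⟨w, hw⟩ := hs x
  exact ⟨w, hw⟩

variable {𝒳 : AlgSt.Cat S} [FibCat.IsFibGrpd 𝒳.p] {U : Over S}

/-- A section of a gerbe over a scheme is flat, locally of finite presentation and surjective, and the
gerbe is smooth. -/
theorem fppf_section (h𝒳 : AlgSt.IsAlgStack Scheme.fppfPrecoverage 𝒳) {π : 𝒳 ⥤ᵇ FibCat.overCat U}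
    (hπ : Gerb.LocSurjHom (J S) π) {σ : FibCat.overCat U ⥤ᵇ 𝒳}
    (e : BasedFunctor.comp σ π ≅ BasedFunctor.id (FibCat.overCat U)) :
    AlgSt.RepByAlgSpWith (LocP @Flat) σ ∧ AlgSt.RepByAlgSpWith (LocP @LocallyOfFinitePresentation) σ ∧
      AlgSt.RepByAlgSpWith IsSurjectiveMor σ ∧ AlgSt.LocQ (LocP @Smooth) π ∧
      AlgSt.LocQ (LocP @Flat) π ∧ AlgSt.LocQ (LocP @LocallyOfFinitePresentation) π := by
  obtain ⟨W, b, hb, hbs⟩ := h𝒳.atlas
  obtain ⟨k, ⟨α⟩⟩ := exists_overMap (BasedFunctor.comp b π)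
  have hσ : AlgSt.RepByAlgSp1 σ := repByAlgSp1_of_diag h𝒳.diag σ
  obtain ⟨hs, hA, M, p, E, m, hpe, hps, hcomp, ⟨αE⟩, -, hE⟩ := exists_chart_of_fib hσ b
  haveI : FibCat.IsFibGrpd (FibCat.fp b σ).p := isFibGrpd_fp
  obtain ⟨n, ⟨β⟩⟩ := exists_overMap (BasedFunctor.comp E (FibCat.fpSnd b σ))
  have γ : BasedFunctor.comp (AlgSt.overMap m) b ≅ BasedFunctor.comp (AlgSt.overMap n) σ :=
    (wR αE.symm b).trans ((wL E (FibCat.fpIso b σ)).trans (wR β σ))
  have hmk : m ≫ k = n := eq_of_overMap_iso
    ((overMapComp m k).symm.trans ((wL (AlgSt.overMap m) α.symm).trans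
      ((wR γ π).trans (wL (AlgSt.overMap n) e))))
  haveI : Smooth n.left := prop_of_repByAlgSpWith_overMap (repByAlgSpWith_congr β
    (repByAlgSpWith_comp compLocal_smooth
      (hE (P := LocP @Smooth) hpe fun v (hv : Etale v.left) => locP_of_repWith (repWith_yon_map
        (haveI := hv; inferInstance : Smooth v.left)))
      (repByAlgSpWith_fpSnd σ hb)))
  let πb : (⟨fib b σ, hs⟩ : Sp S) ⟶ (yon S).obj W := ObjectProperty.homMk (fibπ b σ)
  haveI hloc : Sheaf.IsLocallySurjective πb := ⟨fun {T} s => by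
    let s' : T ⟶ W := (s : ULift.{u + 1} (T ⟶ W)).down
    let x := b.obj (ov s')
    let x' := σ.obj (ov (s' ≫ k))
    have hx : 𝒳.p.obj x = T := (b.w_obj (ov s')).trans (ov_base s')
    let b' : π.obj x ⟶ π.obj x' := α.hom.toNatTrans.app (ov s') ≫ e.inv.toNatTrans.app (ov (s' ≫ k))
    have hb' : (FibCat.overCat U).p.map b' = eqToHom ((π.w_obj x).trans (hx.trans
        (((π.w_obj x').trans ((σ.w_obj _).trans (ov_base _))).symm))) := by
      simp only [b', Functor.map_comp]
      rw [show (FibCat.overCat U).p.map (α.hom.toNatTrans.app (ov s')) = _ from map_app _ _ α.hom (ov s'),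
        show (FibCat.overCat U).p.map (e.inv.toNatTrans.app (ov (s' ≫ k))) = _ from map_app _ _ e.inv (ov (s' ≫ k))]
      exact eqToHom_trans _ _
    obtain ⟨R, hR, hR'⟩ := hπ x x' b' (isHomLift_id_of_map b' (π.w_obj x) hb')
    refine (J S).superset_covering ?_ ((J S).pullback_stable (eqToHom hx.symm) hR)
    rintro V g hg
    obtain ⟨x₀, φ, ψ, hφ, hψ, -⟩ := hR' (g ≫ eqToHom hx.symm) hg
    haveI := hφ
    let c := facMap φ (b.map (ovHom g rfl : ov (g ≫ s') ⟶ ov s'))
      (eqToHom (((b.w_obj _).trans (ov_base _)).trans (IsHomLift.domain_eq 𝒳.p (g ≫ eqToHom hx.symm) φ).symm)) (by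
        rw [IsHomLift.fac' 𝒳.p (g ≫ eqToHom hx.symm) φ, ASt.map_w, ov_p_map]
        simp)
    obtain ⟨d, hd⟩ := exists_cl_of_hom (f := σ) b (g ≫ s') (ov (s' ≫ k)) (c ≫ ψ)
    exact ⟨d, congrArg ULift.up hd⟩⟩
  haveI : Sheaf.IsLocallySurjective p := isLocallySurjective_of_repWith
    (repWith_mono (fun _ _ g (hg : Etale g) => (haveI := hg; inferInstance : Flat g)) hpe)
    (repWith_mono (fun _ _ g (hg : Etale g) => (haveI := hg; inferInstance : LocallyOfFinitePresentation g)) hpe) hps
  haveI hpl : Sheaf.IsLocallySurjective (p ≫ πb) := inferInstance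
  haveI hml : Sheaf.IsLocallySurjective ((yon S).map m) := hcomp ▸ hpl
  have hn : ∀ {P : MorphismProperty Scheme.{u}} [IsEtLocal P], P n.left →
      LocP P ((yon S).map m ≫ (yon S).map k) := fun h => by
    rw [← Functor.map_comp, hmk]; exact locP_of_prop_left h
  haveI hkf : Flat k.left := prop_left_of_locP (locP_of_locallySurjective (P := @Flat) (g := (yon S).map m)
    (fun t m' s k' _ _ _ _ hst => by
      haveI : Flat t := ‹_›; haveI : Surjective t := ‹_›; haveI : Flat (m' ≫ k') := ‹_›
      exact Groth.Agent.FppfSrc.flat_of_factor_scheme t m' s k' hst)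
    (IsAlgSpace.yon_obj M) (hn (inferInstanceAs (Flat n.left))))
  haveI hkp : LocallyOfFinitePresentation k.left := prop_left_of_locP
    (locP_of_locallySurjective (P := @LocallyOfFinitePresentation) (g := (yon S).map m)
      (fun t m' s k' _ _ _ _ hst => by
        haveI : Flat t := ‹_›; haveI : Surjective t := ‹_›; haveI : LocallyOfFinitePresentation t := ‹_›
        haveI : LocallyOfFinitePresentation (m' ≫ k') := ‹_›
        exact Groth.Agent.FppfSrc.locallyOfFinitePresentation_of_factor t m' s k' hst)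
      (IsAlgSpace.yon_obj M) (hn (inferInstanceAs (LocallyOfFinitePresentation n.left))))
  haveI hks : Surjective k.left := ⟨fun u => by
    obtain ⟨w, hw⟩ := surjective_chart hbs (AlgSt.Points.ofChart σ u)
    refine ⟨w, injective_ofChart_id U ?_⟩
    calc AlgSt.Points.ofChart (BasedFunctor.id (FibCat.overCat U)) (k.left w)
        = AlgSt.Points.ofChart (AlgSt.overMap k) w := (ofChart_overMap k _ w).symm
      _ = AlgSt.Points.ofChart (BasedFunctor.comp b π) w := (ofChart_congr α w).symm
      _ = AlgSt.Points.map π (AlgSt.Points.ofChart b w) := ofChart_comp b π w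
      _ = AlgSt.Points.map π (AlgSt.Points.ofChart σ u) := congrArg _ hw
      _ = AlgSt.Points.ofChart (BasedFunctor.id (FibCat.overCat U)) u :=
        (ofChart_comp σ π u).symm.trans (ofChart_congr e u)⟩
  obtain ⟨W', c, l, hc₁, hc₂, hc₃, hl⟩ := Groth.Agent.ASp.exists_fppf_lift (p ≫ πb) (𝟙 ((yon S).obj W))
  haveI := hc₁; haveI := hc₂; haveI := hc₃
  have hlm : l ≫ m = c := (yon S).map_injective (by rw [Functor.map_comp, ← hcomp, hl, Category.comp_id])
  have hln : l ≫ n = c ≫ k := by rw [← hmk, ← Category.assoc, hlm]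
  haveI : Flat (l ≫ n).left := by rw [hln, Over.comp_left]; infer_instance
  haveI : LocallyOfFinitePresentation (l ≫ n).left := by rw [hln, Over.comp_left]; infer_instance
  haveI : Surjective (l ≫ n).left := by rw [hln, Over.comp_left]; infer_instance
  let δ : BasedFunctor.comp (AlgSt.overMap (l ≫ n)) σ ≅ BasedFunctor.comp (AlgSt.overMap c) b :=
    ((wR (overMapComp l n).symm σ).trans (wL (AlgSt.overMap l) γ.symm)).trans
      ((wR (overMapComp l m) b).trans (wR (eqToIso (congrArg AlgSt.overMap hlm)) b))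
  have hQ : AlgSt.RepByAlgSpWith (LocP @Flat ⊓ LocP @LocallyOfFinitePresentation : MorphismProperty (Sp S))
      (AlgSt.overMap (l ≫ n)) :=
    repByAlgSpWith_inf (repByAlgSpWith_overMap_locP (M := @Flat) inferInstance)
      (repByAlgSpWith_overMap_locP (M := @LocallyOfFinitePresentation) inferInstance)
  have hQs : ∀ {A B : Over S} (q : A ⟶ B), Surjective q.left →
      AlgSt.RepByAlgSpWith IsSurjectiveMor (AlgSt.overMap q) := fun q hq =>
    repByAlgSpWith_overMap fun _ _ _ sq => surjective_map_of_repWith (repWith_yon_map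
      (MorphismProperty.of_isPullback (P := @Surjective) (sq.map (Over.forget S)) hq))
  have hσf : AlgSt.RepByAlgSpWith (LocP @Flat) σ :=
    repByAlgSpWith_of_source (compLocal_inf compLocal_flat compLocal_lfp)
      (locP_desc fun g h _ _ _ hgh => by
        haveI : Flat g := ‹_›; haveI : Surjective g := ‹_›; haveI : Flat (g ≫ h) := hgh
        exact Groth.Agent.FlatDescStalk.flat_of_comp g h)
      hσ hQ (hQs _ inferInstance)
      (repByAlgSpWith_congr δ.symm (repByAlgSpWith_comp compLocal_flat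
        (repByAlgSpWith_overMap_locP (M := @Flat) inferInstance)
        (smooth_le (fun f (_ : Smooth f) => inferInstanceAs (Flat f)) hb)))
  have hσp : AlgSt.RepByAlgSpWith (LocP @LocallyOfFinitePresentation) σ :=
    repByAlgSpWith_of_source (compLocal_inf compLocal_flat compLocal_lfp)
      (locP_desc fun g h _ _ _ hgh => by
        haveI : Flat g := ‹_›; haveI : Surjective g := ‹_›; haveI : LocallyOfFinitePresentation g := ‹_›
        haveI : LocallyOfFinitePresentation (g ≫ h) := hgh
        exact Groth.Agent.FppfSrc.locallyOfFinitePresentation_of_precomp_fppf g h)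
      hσ hQ (hQs _ inferInstance)
      (repByAlgSpWith_congr δ.symm (repByAlgSpWith_comp compLocal_lfp
        (repByAlgSpWith_overMap_locP (M := @LocallyOfFinitePresentation) inferInstance)
        (smooth_le (fun f (_ : Smooth f) => inferInstanceAs (LocallyOfFinitePresentation f)) hb)))
  have hσs : AlgSt.RepByAlgSpWith IsSurjectiveMor σ :=
    repByAlgSpWith_of_source (compLocal_inf compLocal_flat compLocal_lfp)
      (fun X F Y _ _ _ q a _ _ h z => by
        obtain ⟨t, ht⟩ := h z
        exact ⟨AlgSp.Points.map q t, by rw [← AlgSp.Points.map_comp, ht]⟩)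
      hσ hQ (hQs _ inferInstance)
      (repByAlgSpWith_congr δ.symm (repByAlgSpWith_comp compLocal_surjective (hQs _ inferInstance) hbs))
  obtain ⟨_, _, q1⟩ := (repByAlgSpWith_iff.1 hσf).2 W b
  obtain ⟨_, _, q2⟩ := (repByAlgSpWith_iff.1 hσp).2 W b
  obtain ⟨_, _, q3⟩ := (repByAlgSpWith_iff.1 hσs).2 W b
  haveI : Flat m.left := prop_chart hpe hcomp q1
  haveI : LocallyOfFinitePresentation m.left := prop_chart hpe hcomp q2
  haveI : Surjective m.left := surjective_left_of_map (by
    rw [← hcomp, show AlgSp.Points.map (p ≫ _) = AlgSp.Points.map _ ∘ AlgSp.Points.map p from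
      funext (AlgSp.Points.map_comp p _)]
    exact q3.comp (surjective_map_of_repWith hps))
  haveI : Smooth (m.left ≫ k.left) := by rw [← Over.comp_left, hmk]; infer_instance
  haveI hksm : Smooth k.left := Groth.Agent.S0115.result m.left k.left
  have hid : AlgSt.RepByAlgSpWith (LocP @Smooth) (BasedFunctor.id (FibCat.overCat U)) :=
    repByAlgSpWith_id fun U => by
      rw [← (yon S).map_id]
      exact locP_of_repWith (repWith_yon_map (inferInstanceAs (Smooth (𝟙 U.left))))
  exact ⟨hσf, hσp, hσs, ⟨W, U, b, BasedFunctor.id _, k, α, hb, hbs, hid, locP_of_prop_left hksm⟩,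
    ⟨W, U, b, BasedFunctor.id _, k, α, hb, hbs, hid, locP_of_prop_left hkf⟩,
    ⟨W, U, b, BasedFunctor.id _, k, α, hb, hbs, hid, locP_of_prop_left hkp⟩⟩

end Groth.Agent.DecSec
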