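import Groth.Agent.DecSec.MonoEquiv
import Groth.Agent.ASp.Bootstrap
import Groth.Agent.ASp.Sheaf
import Groth.Agent.ASp.EqvQuot
import Groth.Agent.S12795
import Groth.Agent.ASp.Univ
import Groth.Agent.ASp.Fpqc
import Mathlib.AlgebraicGeometry.Morphisms.LocalFlatDescent

/-! The image of a field-valued point as a full substack. -/

set_option autoImplicit false
set_option backward.isDefEq.respectTransparency false
set_option backward.isDefEq.respectTransparency.types false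

universe u

open CategoryTheory CategoryTheory.Limits AlgebraicGeometry Opposite

namespace Groth.Agent.DecSec

open _root_.AlgSp Groth.Agent.ASp Groth.Agent.ASt Groth.Agent.Boot

variable {S : Scheme.{u}} {𝒵 : AlgSt.Cat S} [FibCat.IsFibGrpd 𝒵.p] {U₀ : Over S}
  (z : FibCat.overCat U₀ ⥤ᵇ 𝒵)

/-- The arrows to the base of an object over which it comes from the chart. -/
noncomputable def imgSieve (o : 𝒵.obj) : Sieve (𝒵.p.obj o) where
  arrows V f := ∃ (ω : (FibCat.overCat U₀).obj) (ψ : z.obj ω ⟶ o), 𝒵.p.IsHomLift f ψ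
  downward_closed := by
    rintro V W f ⟨ω, ψ, hψ⟩ g
    have hV : (z.obj ω |> 𝒵.p.obj) = V := IsHomLift.domain_eq 𝒵.p f ψ
    let g' : W ⟶ ω.left := g ≫ eqToHom (hV.symm.trans (z.w_obj ω))
    let m : z.obj (ov (g' ≫ ω.hom)) ⟶ z.obj ω := z.map (ovHom g' rfl : ov (g' ≫ ω.hom) ⟶ ω)
    refine ⟨ov (g' ≫ ω.hom), m ≫ ψ, ?_⟩
    haveI := hψ
    haveI : 𝒵.p.IsHomLift g m := by
      refine isHomLift_of_map m ((z.w_obj _).trans (ov_base _)) hV ?_
      rw [ASt.map_w, ov_p_map]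
      simp [g']
    infer_instance

/-- Objects coming locally from the chart. -/
def InImg (o : 𝒵.obj) : Prop := imgSieve z o ∈ J S (𝒵.p.obj o)

theorem inImg_pull {x' x : 𝒵.obj} (m : x' ⟶ x) (h : InImg z x) : InImg z x' := by
  refine (J S).superset_covering ?_ ((J S).pullback_stable (𝒵.p.map m) h)
  rintro V f ⟨ω, ψ, hψ⟩
  haveI := hψ
  have hV : 𝒵.p.obj (z.obj ω) = V := IsHomLift.domain_eq 𝒵.p (f ≫ 𝒵.p.map m) ψ
  refine ⟨ω, facMap m ψ (eqToHom hV ≫ f) ?_, ?_⟩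
  · simpa [Category.assoc] using (IsHomLift.fac' 𝒵.p (f ≫ 𝒵.p.map m) ψ).symm
  · exact isHomLift_of_map _ hV rfl (by rw [map_facMap]; simp)

theorem isClosedUnderIsomorphisms_inImg : ObjectProperty.IsClosedUnderIsomorphisms (InImg z) :=
  ⟨fun e h => inImg_pull z e.inv h⟩

theorem inImg_obj (ω : (FibCat.overCat U₀).obj) : InImg z (z.obj ω) := by
  have h : imgSieve z (z.obj ω) = ⊤ := (Sieve.id_mem_iff_eq_top).1
    ⟨ω, 𝟙 _, isHomLift_id_of_map _ rfl (e := rfl) (𝒵.p.map_id _)⟩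
  change _ ∈ _
  rw [h]
  exact (J S).top_mem _

theorem isStack_inImg (hZ : Stk.IsStack (J S) 𝒵) : Stk.IsStack (J S) (AlgSt.fullSub 𝒵 (InImg z)) := by
  refine Groth.Agent.S12795.result (J S) hZ (InImg z)
    (fun y x φ hx => ⟨y, Iso.refl y, inImg_pull z φ hx, isHomLift_id_of_map _ rfl (e := rfl) (𝒵.p.map_id y)⟩)
    fun T R hR x hx h => ⟨x, Iso.refl x, ?_, isHomLift_id_of_map _ hx (e := rfl) (𝒵.p.map_id x)⟩
  subst hx
  refine (J S).transitive hR _ fun V f hf => ?_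
  obtain ⟨y', e, hy', -⟩ := h f hf (pull x rfl f) (pullHom x rfl f) (isHomLift_pullHom x rfl f)
  have hy := (isClosedUnderIsomorphisms_inImg z).of_iso e.symm hy'
  have hb : 𝒵.p.obj (pull x rfl f) = V := pull_base x rfl f
  refine (J S).superset_covering ?_ ((J S).pullback_stable (eqToHom hb.symm) hy)
  rintro W g ⟨ω, ψ, hψ⟩
  haveI := hψ
  refine ⟨ω, ψ ≫ pullHom x rfl f, ?_⟩
  refine isHomLift_of_map _ (IsHomLift.domain_eq 𝒵.p (g ≫ eqToHom hb.symm) ψ) rfl ?_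
  rw [Functor.map_comp, IsHomLift.fac' 𝒵.p (g ≫ eqToHom hb.symm) ψ, map_pullHom]
  simp

/-- A morphism from an image of the chart gives a class of the fibre. -/
theorem exists_cl_of_img {U V : Over S} (y : FibCat.overCat U ⥤ᵇ 𝒵) (k : V ⟶ U)
    (ω : (FibCat.overCat U₀).obj) (m : z.obj ω ⟶ y.obj (ov (𝟙 U))) (hV : 𝒵.p.obj (z.obj ω) = V)
    (hm : 𝒵.p.map m = eqToHom hV ≫ k ≫ eqToHom (y.w_obj (ov (𝟙 U))).symm) :
    ∃ c : ClType (FibCat.fp y z) V, fpHom c = k := by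
  let e := facMap (y.map (toTop (ov k))) m (eqToHom (hV.trans ((y.w_obj (ov k)).trans (ov_base k)).symm)) (by
    rw [map_toTop, hm]; simp)
  haveI : IsIso e := isIso_of_vert e (map_facMap _ _ _ _)
  refine ⟨fpEl (f := z) k ω ((z.w_obj ω).symm.trans hV) (inv e) ?_, fpHom_fpEl _ _ _ _ _⟩
  rw [Functor.map_inv]
  simp [e]

theorem inImg_cover {U : Over S} (y : FibCat.overCat U ⥤ᵇ 𝒵) (h : InImg z (y.obj (ov (𝟙 U))))
    (hz : AlgSt.RepByAlgSp1 z) : ∃ (W : Over S) (c : W ⟶ U), Flat c.left ∧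
      LocallyOfFinitePresentation c.left ∧ Surjective c.left ∧ ∃ d : ClType (FibCat.fp y z) W, fpHom d = c := by
  obtain ⟨hs, hA⟩ := (repByAlgSp1_iff.1 hz).2 U y
  let π : (⟨fib y z, hs⟩ : Sp S) ⟶ (yon S).obj U := ObjectProperty.homMk (fibπ y z)
  have hb : 𝒵.p.obj (y.obj (ov (𝟙 U))) = U := (y.w_obj _).trans (ov_base _)
  haveI : Sheaf.IsLocallySurjective π := ⟨fun {T} s => by
    let s' : T ⟶ U := (s : ULift.{u + 1} (T ⟶ U)).down
    refine (J S).superset_covering ?_ ((J S).pullback_stable (s' ≫ eqToHom hb.symm) h)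
    rintro V g ⟨ω, ψ, hψ⟩
    haveI := hψ
    obtain ⟨c, hc⟩ := exists_cl_of_img z y (g ≫ s') ω ψ
      (IsHomLift.domain_eq 𝒵.p (g ≫ s' ≫ eqToHom hb.symm) ψ) (by
        rw [IsHomLift.fac' 𝒵.p (g ≫ s' ≫ eqToHom hb.symm) ψ]; simp)
    exact ⟨c, congrArg ULift.up hc⟩⟩
  obtain ⟨T, p, hpe, hps⟩ := hA.atlas
  haveI : Sheaf.IsLocallySurjective p := isLocallySurjective_of_repWith
    (repWith_mono (fun _ _ g (hg : Etale g) => (haveI := hg; inferInstance : Flat g)) hpe)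
    (repWith_mono (fun _ _ g (hg : Etale g) => (haveI := hg; inferInstance : LocallyOfFinitePresentation g)) hpe) hps
  haveI : Sheaf.IsLocallySurjective (p ≫ π) := inferInstance
  obtain ⟨W, c, l, hc₁, hc₂, hc₃, hl⟩ := Groth.Agent.ASp.exists_fppf_lift (p ≫ π) (𝟙 ((yon S).obj U))
  refine ⟨W, c, hc₁, hc₂, hc₃, ((yon S).map l ≫ p).hom.app (op W) ⟨𝟙 W⟩, ?_⟩
  rw [Category.comp_id, ← Category.assoc] at hl
  have := ConcreteCategory.congr_hom (NatTrans.congr_app (congrArg InducedCategory.Hom.hom hl) (op W)) ⟨𝟙 W⟩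
  exact (congrArg ULift.down this).trans (Category.id_comp c)

/-- The point factors through its image. -/
noncomputable abbrev toImg : FibCat.overCat U₀ ⥤ᵇ AlgSt.fullSub 𝒵 (InImg z) :=
  liftFullSub (InImg z) z (inImg_obj z)

variable {k : Type u} [Field k] {a : Spec (CommRingCat.of k) ⟶ S} {z₁ : FibCat.overCat (Over.mk a) ⥤ᵇ 𝒵}

theorem toImg_rep (hZ : Stk.IsStack (J S) 𝒵)
    (hzl : AlgSt.RepByAlgSpWith (LocP @LocallyOfFiniteType) z₁)
    (hzs : AlgSt.RepByAlgSpWith IsSurjectiveMor z₁) (hzf : AlgSt.RepByAlgSpWith (LocP @Flat) z₁) :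
    AlgSt.RepByAlgSpWith (LocP @LocallyOfFinitePresentation) (toImg z₁) ∧
      AlgSt.RepByAlgSpWith IsSurjectiveMor (toImg z₁) ∧ AlgSt.RepByAlgSpWith (LocP @Flat) (toImg z₁) := by
  haveI := (isStack_inImg z₁ hZ).1
  have hl : AlgSt.RepByAlgSpWith (LocP @LocallyOfFiniteType) (toImg z₁) :=
    repByAlgSpWith_lift_of_comp _ (by rw [liftFullSub_comp]; exact hzl)
  refine ⟨repByAlgSpWith_iff.2 ⟨faithful_of_repByAlgSp1 (repByAlgSp1_of_with hl), fun U y => ?_⟩,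
    repByAlgSpWith_lift_of_comp _ (by rw [liftFullSub_comp]; exact hzs),
    repByAlgSpWith_lift_of_comp _ (by rw [liftFullSub_comp]; exact hzf)⟩
  obtain ⟨W, c, hc₁, hc₂, hc₃, d, hd⟩ := inImg_cover z₁ (BasedFunctor.comp y (AlgSt.subIncl 𝒵 (InImg z₁)))
    (y.obj (ov (𝟙 U))).2 (repByAlgSp1_of_with hzl)
  haveI := hc₁
  haveI := hc₂
  haveI := hc₃
  obtain ⟨c', ω, hω, φ, hφ, rfl⟩ := fpEl_exists d
  obtain rfl : c' = c := (fpHom_fpEl _ _ _ _ _).symm.trans hd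
  obtain rfl : ω.left = W := hω
  let φ' : y.obj (ov c') ⟶ (toImg z₁).obj ω := ObjectProperty.homMk φ
  let y₁ := BasedFunctor.comp (AlgSt.overMap c') y
  let y₂ := BasedFunctor.comp (AlgSt.overMap ω.hom) (toImg z₁)
  let α : y₁ ≅ y₂ := funIso (y := y₁) (y' := y₂)
    (y.map (ovHom (𝟙 _) rfl : ov (𝟙 _ ≫ c') ⟶ ov c') ≫ φ' ≫
      (toImg z₁).map (ovHom (𝟙 _) (by simp) : ω ⟶ ov (𝟙 _ ≫ ω.hom))) (by
    have hφ' : (AlgSt.fullSub 𝒵 (InImg z₁)).p.map φ' = eqToHom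
        (((y.w_obj (ov c')).trans (ov_base c')).trans ((toImg z₁).w_obj ω).symm) := hφ
    have hy : ∀ {g g' : (FibCat.overCat U).obj} (m : g ⟶ g'), 𝒵.p.map (y.map m).hom =
        eqToHom (y.w_obj g) ≫ m.left ≫ eqToHom (y.w_obj g').symm := fun m => ASt.map_w y m
    have hz : ∀ {g g' : (FibCat.overCat (Over.mk a)).obj} (m : g ⟶ g'), 𝒵.p.map ((toImg z₁).map m).hom =
        eqToHom ((toImg z₁).w_obj g) ≫ m.left ≫ eqToHom ((toImg z₁).w_obj g').symm := fun m => ASt.map_w (toImg z₁) m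
    have hφ'' : 𝒵.p.map φ'.hom = eqToHom _ := hφ'
    simp [y₁, y₂, hy, hz, hφ'', ovHom]
    erw [Category.id_comp, Category.id_comp]
    exact eqToHom_trans _ _)
  have hP₂ : IsLocalOnBase IsFppfCover (LocP @LocallyOfFinitePresentation : MorphismProperty (Sp S)) :=
    fun _ _ Yi g hY hYi hτ => isLocalOnBase_locP Yi g hY hYi
      (isFpqcCover_of_fppf hY hYi (fun i => (hτ.1 i).1) (fun i => (hτ.1 i).2) hτ.2)
  refine fibHas_of_cover hP₂ (repByAlgSp1_of_with hl) c' y (fibHas_congr α.symm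
    (fibHas_restr (fun _ _ _ _ hX₁ hY₁ hX₂ hY₂ _ _ _ _ sq h => locP_of_isPullback sq.flip hX₁ hY₁ hY₂ h)
      (repByAlgSp1_of_with hl) ω.hom (toImg z₁) ?_))
  obtain ⟨hs', hA', T, p, E, l, hpe, hps, hcomp, -, -, -⟩ :=
    exists_chart_of_fib (repByAlgSp1_of_with hl) (toImg z₁)
  obtain ⟨_, _, q1⟩ := (repByAlgSpWith_iff.1 hl).2 _ (toImg z₁)
  let l' : T.left ⟶ Spec (CommRingCat.of k) := l.left
  haveI : LocallyOfFiniteType l' := prop_chart hpe hcomp q1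
  exact ⟨hs', hA', locP_of_chart hpe hps (AlgSp.repWith_id _ _) (by rw [Category.comp_id, hcomp])
    (locallyOfFinitePresentation_of_noetherian l')⟩

/-- The image of a locally of finite type flat surjective point is an algebraic substack. -/
theorem isAlgStack_inImg (hZ : AlgSt.IsAlgStack Scheme.fppfPrecoverage 𝒵)
    (hzl : AlgSt.RepByAlgSpWith (LocP @LocallyOfFiniteType) z₁)
    (hzs : AlgSt.RepByAlgSpWith IsSurjectiveMor z₁) (hzf : AlgSt.RepByAlgSpWith (LocP @Flat) z₁) :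
    AlgSt.IsAlgStack Scheme.fppfPrecoverage (AlgSt.fullSub 𝒵 (InImg z₁)) := by
  have hst := isStack_inImg z₁ hZ.isStack
  haveI := hst.1
  obtain ⟨hp, hsu, hf⟩ := toImg_rep hZ.isStack hzl hzs hzf
  let i := AlgSt.subIncl 𝒵 (InImg z₁)
  haveI : i.toFunctor.Faithful := inferInstanceAs (ObjectProperty.ι _).Faithful
  refine isAlgStack_of_repByAlgSp1 hZ (f := i) (repByAlgSp1_iff.2 ⟨inferInstance, fun U y => ?_⟩)
  have hs : Presheaf.IsSheaf (J S) (fib y i) := isSheaf_fib_of_stack hZ.isStack hst y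
  have hz : AlgSt.RepByAlgSp1 (BasedFunctor.comp (toImg z₁) i) := by
    rw [liftFullSub_comp]; exact repByAlgSp1_of_with hzs
  obtain ⟨hs', hA'⟩ := (repByAlgSp1_iff.1 hz).2 U y
  haveI : FibCat.IsFibGrpd (FibCat.fp y i).p := isFibGrpd_fp
  haveI : FibCat.IsFibGrpd (FibCat.fp y (BasedFunctor.comp (toImg z₁) i)).p := isFibGrpd_fp
  let q : (⟨fib y (BasedFunctor.comp (toImg z₁) i), hs'⟩ : Sp S) ⟶ (⟨fib y i, hs⟩ : Sp S) :=
    ObjectProperty.homMk (clFun (compF (toImg z₁) i y))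
  refine ⟨hs, isAlgSpace_of_fppfChart hA' (p := q) fun T g P fst snd sq => ?_⟩
  obtain ⟨y', b, sq'⟩ := exists_isPullback_compF (f := toImg z₁) y g.hom
  obtain ⟨h1, hA1, hP1⟩ := (repByAlgSpWith_iff.1 hp).2 T y'
  obtain ⟨_, _, hP2⟩ := (repByAlgSpWith_iff.1 hsu).2 T y'
  obtain ⟨_, _, hP3⟩ := (repByAlgSpWith_iff.1 hf).2 T y'
  have sq'' : IsPullback (ObjectProperty.homMk b : (⟨fib y' (toImg z₁), h1⟩ : Sp S) ⟶ _)
      (ObjectProperty.homMk (fibπ y' (toImg z₁))) q g :=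
    IsPullback.of_map_of_faithful (sheafToPresheaf (J S) (Type (u + 1))) sq'
  let e := sq''.isoIsPullback _ _ sq
  have he : e.hom ≫ snd = ObjectProperty.homMk (fibπ y' (toImg z₁)) := sq''.isoIsPullback_hom_snd _ _ sq
  obtain ⟨j⟩ := arrowIso_of_hom (a := (ObjectProperty.homMk (fibπ y' (toImg z₁)) :
      (⟨fib y' (toImg z₁), h1⟩ : Sp S) ⟶ (yon S).obj T)) (b := snd)
    ((sheafToPresheaf _ _).mapIso e) (congrArg InducedCategory.Hom.hom he).symm
  refine ⟨hA1.of_iso e, ((LocP @Flat).arrow_mk_iso_iff j).1 hP3,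
    ((LocP @LocallyOfFinitePresentation).arrow_mk_iso_iff j).1 hP1, ?_⟩
  intro t
  obtain ⟨w, hw⟩ := hP2 t
  exact ⟨AlgSp.Points.map e.hom w, by rw [← AlgSp.Points.map_comp, he, hw]⟩

end Groth.Agent.DecSec
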