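import Groth.Agent.DecSec.GerbeFppf
import Groth.Agent.DecSec.PointImage
import Groth.Agent.Boot.Setoid
import Groth.Agent.ASt.InertiaDiag
import Groth.Agent.ASt.LocQDesc
import Groth.Agent.ASt.LocQBase
import Groth.Agent.S16864

/-! Morphisms which are gerbes. -/

set_option autoImplicit false
set_option backward.isDefEq.respectTransparency false
set_option backward.isDefEq.respectTransparency.types false

universe u

open CategoryTheory CategoryTheory.Limits AlgebraicGeometry Opposite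

namespace Groth.Agent.DecSec

open _root_.AlgSp Groth.Agent.ASp Groth.Agent.ASt Groth.Agent.Boot

variable {S : Scheme.{u}} {𝒳 𝒴 : AlgSt.Cat S} [FibCat.IsFibGrpd 𝒳.p] [FibCat.IsFibGrpd 𝒴.p] {f : 𝒳 ⥤ᵇ 𝒴}

/-- A locally surjective fibre has classes over an fppf cover. -/
theorem exists_cover_of_locSurj {U : Over S} {y : FibCat.overCat U ⥤ᵇ 𝒴}
    {hs : Presheaf.IsSheaf (J S) (fib y f)} (hA : IsAlgSpace (⟨fib y f, hs⟩ : Sp S))
    [Sheaf.IsLocallySurjective (ObjectProperty.homMk (fibπ y f) : (⟨fib y f, hs⟩ : Sp S) ⟶ (yon S).obj U)] :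
    ∃ (W : Over S) (c : W ⟶ U), Flat c.left ∧ LocallyOfFinitePresentation c.left ∧ Surjective c.left ∧
      ∃ d : ClType (FibCat.fp y f) W, fpHom d = c := by
  let π : (⟨fib y f, hs⟩ : Sp S) ⟶ (yon S).obj U := ObjectProperty.homMk (fibπ y f)
  obtain ⟨T, p, hpe, hps⟩ := hA.atlas
  haveI : Sheaf.IsLocallySurjective p := isLocallySurjective_of_repWith
    (repWith_mono (fun _ _ g (hg : Etale g) => (haveI := hg; inferInstance : Flat g)) hpe)
    (repWith_mono (fun _ _ g (hg : Etale g) => (haveI := hg; inferInstance : LocallyOfFinitePresentation g)) hpe) hps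
  haveI : Sheaf.IsLocallySurjective (p ≫ π) := inferInstance
  obtain ⟨W, c, l, hc₁, hc₂, hc₃, hl⟩ := Groth.Agent.ASp.exists_fppf_lift (p ≫ π) (𝟙 ((yon S).obj U))
  refine ⟨W, c, hc₁, hc₂, hc₃, ((yon S).map l ≫ p).hom.app (op W) ⟨𝟙 W⟩, ?_⟩
  rw [Category.comp_id, ← Category.assoc] at hl
  have := ConcreteCategory.congr_hom (NatTrans.congr_app (congrArg InducedCategory.Hom.hom hl) (op W)) ⟨𝟙 W⟩
  exact (congrArg ULift.down this).trans (Category.id_comp c)

/-- Fibres of the diagonal at diagonal points are fibres of graphs. -/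
theorem fibHas_diag_of_graph {P : MorphismProperty (Sp S)} [P.RespectsIso] {W : Over S}
    (x : FibCat.overCat W ⥤ᵇ 𝒳) [FibCat.IsFibGrpd (FibCat.fp f f).p]
    [FibCat.IsFibGrpd (FibCat.fp f (BasedFunctor.comp x f)).p]
    (h : FibHas P (graph x f) (graph x f)) : FibHas P (BasedFunctor.comp x (FibCat.diag f)) (FibCat.diag f) := by
  rw [← graph_graphTo]
  obtain ⟨hs, hA, hP⟩ := h
  have hi : IsIso (clFun (graphF x f (graph x f))) := by
    have : ∀ T, IsIso ((clFun (graphF x f (graph x f))).app T) := fun T =>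
      (isIso_iff_bijective _).2 (bijective_graphF x f (graph x f) T.unop)
    exact NatIso.isIso_of_isIso_app _
  obtain ⟨hs', hA'⟩ := IsAlgSpaceP.of_iso ⟨hs, hA⟩ (asIso (clFun (graphF x f (graph x f))))
  obtain ⟨i⟩ := arrowIso_of_hom
    (a := (ObjectProperty.homMk (fibπ (graph x f) (graph x f)) : (⟨_, hs⟩ : Sp S) ⟶ (yon S).obj W))
    (b := (ObjectProperty.homMk (fibπ (BasedFunctor.comp (graph x f) (graphTo x f)) (FibCat.diag f)) :
      (⟨_, hs'⟩ : Sp S) ⟶ (yon S).obj W))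
    (asIso (clFun (graphF x f (graph x f)))) (by
      ext T c
      exact (congrArg ULift.up (fpHom_graphF x f (graph x f) T.unop c)).symm)
  exact ⟨hs', hA', (P.arrow_mk_iso_iff i).1 hP⟩

variable (hX : AlgSt.IsAlgStack Scheme.fppfPrecoverage 𝒳) (hY : AlgSt.IsAlgStack Scheme.fppfPrecoverage 𝒴)
  (hf : Gerb.IsGerbeOver (J S) f)

include hX hY hf

/-- The graph of a point of a gerbe is flat, locally of finite presentation and surjective. -/
theorem fppf_graph {W : Over S} (x : FibCat.overCat W ⥤ᵇ 𝒳) :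
    AlgSt.RepByAlgSpWith (LocP @Flat) (graph x f) ∧
      AlgSt.RepByAlgSpWith (LocP @LocallyOfFinitePresentation) (graph x f) ∧
      AlgSt.RepByAlgSpWith IsSurjectiveMor (graph x f) := by
  let u := BasedFunctor.comp x f
  have hW := isAlgStack_fp (isPrestack_of_isStack hY.isStack) hY.diag (isAlgStack_overCat W) hX u f
  haveI := hW.isStack.1
  haveI : FibCat.IsFibGrpd (FibCat.fp f u).p := isFibGrpd_fp
  have hg := Groth.Agent.S16864.result S 𝒳 𝒴 (FibCat.overCat W) hX hY (isAlgStack_overCat W) f u hf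
  let σ := BasedFunctor.comp (graph x f) (swapF f u)
  have e : BasedFunctor.comp σ (FibCat.fpFst u f) = BasedFunctor.id (FibCat.overCat W) :=
    Groth.Agent.ASt.basedFunctor_ext rfl
  obtain ⟨h₁, h₂, h₃, -⟩ := fppf_section hW (π := FibCat.fpFst u f) hg.2 (σ := σ) (eqToIso e)
  have e' : BasedFunctor.comp σ (swapF u f) = graph x f := Groth.Agent.ASt.basedFunctor_ext rfl
  exact ⟨e' ▸ repByAlgSpWith_postcomp _ (isEquivOver_swapF u f) h₁,
    e' ▸ repByAlgSpWith_postcomp _ (isEquivOver_swapF u f) h₂,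
    e' ▸ repByAlgSpWith_postcomp _ (isEquivOver_swapF u f) h₃⟩

/-- The diagonal of a gerbe is flat, locally of finite presentation and surjective. -/
theorem fppf_diag :
    AlgSt.RepByAlgSpWith (LocP @Flat) (FibCat.diag f) ∧
      AlgSt.RepByAlgSpWith (LocP @LocallyOfFinitePresentation) (FibCat.diag f) ∧
      AlgSt.RepByAlgSpWith IsSurjectiveMor (FibCat.diag f) := by
  have hXX := isAlgStack_fp (isPrestack_of_isStack hY.isStack) hY.diag hX hX f f
  haveI := hXX.isStack.1
  have hΔ : AlgSt.RepByAlgSp1 (FibCat.diag f) := repByAlgSp1_of_faithful hX hXX _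
  have key : ∀ {P : MorphismProperty (Sp S)} [P.RespectsIso], IsLocalOnBase IsFppfCover P →
      (∀ {W : Over S} (x : FibCat.overCat W ⥤ᵇ 𝒳), FibHas P (graph x f) (graph x f)) →
      AlgSt.RepByAlgSpWith P (FibCat.diag f) := by
    intro P _ hP₂ hgr
    refine repByAlgSpWith_iff.2 ⟨inferInstance, fun U w => ?_⟩
    obtain ⟨hs, hA⟩ := (repByAlgSp1_iff.1 hΔ).2 U w
    haveI : Sheaf.IsLocallySurjective (ObjectProperty.homMk (fibπ w (FibCat.diag f)) :
        (⟨fib w (FibCat.diag f), hs⟩ : Sp S) ⟶ (yon S).obj U) := ⟨fun {T} s => by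
      let s' : T ⟶ U := (s : ULift.{u + 1} (T ⟶ U)).down
      let m := w.obj (ov s')
      have hm : (FibCat.fp f f).p.obj m = T := (w.w_obj (ov s')).trans (ov_base s')
      obtain ⟨R, hR, hR'⟩ := hf.2 m.obj.fst m.obj.snd m.obj.iso.hom
        (isHomLift_id_of_map _ (f.w_obj _) (fp_iso_map m))
      refine (J S).superset_covering ?_ ((J S).pullback_stable (eqToHom hm.symm) hR)
      rintro V g hg
      obtain ⟨x₀, φ, ψ, hφ, hψ, hc⟩ := hR' (g ≫ eqToHom hm.symm) hg
      haveI := hφ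
      let n : (FibCat.diag f).obj x₀ ⟶ m := fpHomMk φ ψ (hc.trans (Category.id_comp _).symm)
      let c := facMap n (w.map (ovHom g rfl : ov (g ≫ s') ⟶ ov s'))
        (eqToHom (((w.w_obj _).trans (ov_base _)).trans (IsHomLift.domain_eq 𝒳.p (g ≫ eqToHom hm.symm) φ).symm)) (by
          change _ ≫ 𝒳.p.map φ = _
          rw [IsHomLift.fac' 𝒳.p (g ≫ eqToHom hm.symm) φ, ASt.map_w, ov_p_map]
          simp)
      obtain ⟨d, hd⟩ := exists_cl_of_hom (f := FibCat.diag f) w (g ≫ s') x₀ c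
      exact ⟨d, congrArg ULift.up hd⟩⟩
    obtain ⟨W, c, hc₁, hc₂, hc₃, d, hd⟩ := exists_cover_of_locSurj hA
    haveI := hc₁; haveI := hc₂; haveI := hc₃
    obtain ⟨c', x₀, hx, φ, hφ, rfl⟩ := fpEl_exists d
    obtain rfl : c' = c := (fpHom_fpEl _ _ _ _ _).symm.trans hd
    haveI : IsIso (pullHom x₀ hx (𝟙 W)) := by
      have : IsIso (𝒳.p.map (pullHom x₀ hx (𝟙 W))) := by rw [map_pullHom]; infer_instance
      exact isIso_of_isIso_map _
    let α : BasedFunctor.comp (AlgSt.overMap c') w ≅ BasedFunctor.comp (objFun x₀ hx) (FibCat.diag f) :=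
      funIso (y := BasedFunctor.comp (AlgSt.overMap c') w) (y' := BasedFunctor.comp (objFun x₀ hx) (FibCat.diag f))
        (w.map (ovHom (𝟙 _) rfl : ov (𝟙 W ≫ c') ⟶ ov c') ≫ φ ≫
          (FibCat.diag f).map (inv (pullHom x₀ hx (𝟙 W)))) (by
        have hw : ∀ {g g' : (FibCat.overCat U).obj} (m : g ⟶ g'), 𝒳.p.map (w.map m).hom.fst =
            eqToHom (w.w_obj g) ≫ m.left ≫ eqToHom (w.w_obj g').symm := fun m => ASt.map_w w m
        have hφ' : 𝒳.p.map φ.hom.fst = eqToHom _ := hφ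
        have h0 : 𝒳.p.map (inv (pullHom x₀ hx (𝟙 W))) = eqToHom (hx.trans (pull_base x₀ hx (𝟙 W)).symm) := by
          rw [Functor.map_inv]; simp [map_pullHom]
        have h1 : 𝒳.p.map ((FibCat.diag f).map (inv (pullHom x₀ hx (𝟙 W)))).hom.fst = eqToHom _ := h0
        simp [hw, hφ', ovHom, h1, -diag_map_fst, -Functor.map_inv]
        erw [Category.id_comp]
        exact eqToHom_trans _ _)
    exact fibHas_of_cover hP₂ hΔ c' w (fibHas_congr α.symm (fibHas_diag_of_graph (objFun x₀ hx) (hgr _)))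
  refine ⟨key (fun _ _ Yi g hY hYi hτ => isLocalOnBase_locP Yi g hY hYi
        (isFpqcCover_of_fppf hY hYi (fun i => (hτ.1 i).1) (fun i => (hτ.1 i).2) hτ.2))
      fun x => (repByAlgSpWith_iff.1 (fppf_graph hX hY hf x).1).2 _ _,
    key (fun _ _ Yi g hY hYi hτ => isLocalOnBase_locP Yi g hY hYi
        (isFpqcCover_of_fppf hY hYi (fun i => (hτ.1 i).1) (fun i => (hτ.1 i).2) hτ.2))
      fun x => (repByAlgSpWith_iff.1 (fppf_graph hX hY hf x).2.1).2 _ _, ?_⟩
  refine key ?_ fun x => (repByAlgSpWith_iff.1 (fppf_graph hX hY hf x).2.2).2 _ _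
  intro ι Y Yi g hY' hYi hτ Z a hZ Zi p q hZi sq
  refine ⟨fun h i => surjective_map_of_isPullback (sq i) h, fun h z => ?_⟩
  obtain ⟨i, y, hy⟩ := hτ.2 z
  obtain ⟨w, hw⟩ := h i y
  exact ⟨AlgSp.Points.map (q i) w, by rw [← AlgSp.Points.map_comp, (sq i).w, AlgSp.Points.map_comp, hw, hy]⟩

/-- A gerbe is surjective, smooth, flat and locally of finite presentation. -/
theorem smooth_of_gerbe :
    AlgSt.IsSurjective f ∧ AlgSt.LocQ (LocP @Smooth) f ∧ AlgSt.LocQ (LocP @Flat) f ∧
      AlgSt.LocQ (LocP @LocallyOfFinitePresentation) f := by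
  obtain ⟨V, v, hv, hvs⟩ := hY.atlas
  obtain ⟨D⟩ := nonempty_chartOf hY.diag hX.atlas f v
  haveI : FibCat.IsFibGrpd (FibCat.fp v f).p := isFibGrpd_fp
  haveI hkl : Sheaf.IsLocallySurjective ((yon S).map D.k) := ⟨fun {T} s => by
    let s' : T ⟶ V := (s : ULift.{u + 1} (T ⟶ V)).down
    let y := v.obj (ov s')
    have hy : 𝒴.p.obj y = T := (v.w_obj (ov s')).trans (ov_base s')
    obtain ⟨R, hR, hR'⟩ := hf.1 y
    refine (J S).transitive ((J S).pullback_stable (eqToHom hy.symm) hR) _ fun V' g hg => ?_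
    obtain ⟨x, m, hm⟩ := hR' (g ≫ eqToHom hy.symm) hg
    haveI := hm
    have hx : 𝒳.p.obj x = V' := (f.w_obj x).symm.trans (IsHomLift.domain_eq 𝒴.p (g ≫ eqToHom hy.symm) m)
    let φ := facMap (v.map (ovHom g rfl : ov (g ≫ s') ⟶ ov s')) m
      (eqToHom (((f.w_obj x).trans hx).trans ((v.w_obj _).trans (ov_base _)).symm)) (by
        rw [IsHomLift.fac' 𝒴.p (g ≫ eqToHom hy.symm) m, ASt.map_w, ov_p_map]
        simp)
    haveI : IsIso φ := isIso_of_vert φ (map_facMap _ _ _ _)
    let o : (FibCat.fp v f).obj := fpObj (g ≫ s') x hx (inv φ) (by rw [Functor.map_inv]; simp [φ])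
    have ho : (FibCat.fp v f).p.obj o = V' := rfl
    obtain ⟨W, l, hl, hls, n, ψ, hψ⟩ := exists_lift_atlas D.smooth D.surj (objFun o ho)
    haveI := hl; haveI := hls
    have hn : n ≫ D.k = l ≫ g ≫ s' := by
      have e1 : cl (pull o ho l) (pull_base o ho l) =
          cl (D.c.obj (ov n)) ((D.c.w_obj (ov n)).trans (ov_base n)) := cl_eq_iff.2 ⟨ψ, hψ⟩
      have e2 : cl ((FibCat.fpFst v f).obj (D.c.obj (ov n)))
            (((FibCat.fpFst v f).w_obj _).trans ((D.c.w_obj (ov n)).trans (ov_base n))) =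
          cl ((AlgSt.overMap D.k).obj (ov n)) (((AlgSt.overMap D.k).w_obj (ov n)).trans (ov_base n)) :=
        cl_eq_iff.2 ⟨D.α.hom.toNatTrans.app (ov n), map_app _ _ D.α.hom (ov n)⟩
      have e3 := congrArg fpHom e1
      rw [← clMap_cl_pull l, fpHom_clMap] at e3
      have e4 : fpHom (cl o ho) = g ≫ s' := fpHom_fpEl _ _ _ _ _
      have e5 : fpHom (cl (D.c.obj (ov n)) ((D.c.w_obj (ov n)).trans (ov_base n))) = n ≫ D.k :=
        (congrArg overHom e2).trans (overHom_mk (n ≫ D.k))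
      rw [e4, e5] at e3
      exact e3.symm
    refine (J S).superset_covering (S := Sieve.generate (Presieve.singleton l)) ?_ ?_
    · rw [Sieve.generate_le_iff]
      rintro _ _ ⟨⟩
      exact ⟨⟨n⟩, congrArg ULift.up (hn.trans (Category.assoc l g s').symm)⟩
    · change _ ∈ (J S) _
      rw [GrothendieckTopology.mem_over_iff]
      refine GrothendieckTopology.superset_covering _ ?_
        (Precoverage.generate_mem_toGrothendieck l.left.singleton_mem_fppfPrecoverage)
      rw [Sieve.generate_le_iff]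
      rintro _ _ ⟨⟩
      exact ⟨W, l, 𝟙 _, Sieve.le_generate _ _ _ (Presieve.singleton.mk), (Category.id_comp _).symm⟩⟩
  obtain ⟨V', c, l, hc₁, hc₂, hc₃, hl⟩ := Groth.Agent.ASp.exists_fppf_lift ((yon S).map D.k) (𝟙 ((yon S).obj V))
  haveI := hc₁; haveI := hc₂; haveI := hc₃
  rw [Category.comp_id] at hl
  have hlc : l ≫ D.k = c := (yon S).map_injective (by rw [Functor.map_comp, hl])
  let z := BasedFunctor.comp (AlgSt.overMap c) v
  let x := BasedFunctor.comp (AlgSt.overMap l) D.x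
  let i : BasedFunctor.comp x f ≅ z := (wL (AlgSt.overMap l) D.sq).trans
    ((wR (overMapComp l D.k) v).trans (wR (eqToIso (congrArg AlgSt.overMap hlc)) v))
  have hW := isAlgStack_fp (isPrestack_of_isStack hY.isStack) hY.diag (isAlgStack_overCat V') hX z f
  haveI := hW.isStack.1
  have hg := Groth.Agent.S16864.result S 𝒳 𝒴 (FibCat.overCat V') hX hY (isAlgStack_overCat V') f z hf
  let σ : FibCat.overCat V' ⥤ᵇ FibCat.fp z f := FibCat.fpLift (BasedFunctor.id _) x i.symm
  have e : BasedFunctor.comp σ (FibCat.fpFst z f) = BasedFunctor.id (FibCat.overCat V') :=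
    Groth.Agent.ASt.basedFunctor_ext rfl
  obtain ⟨-, -, -, hsm, hfl, hfp⟩ := fppf_section hW (π := FibCat.fpFst z f) hg.2 (σ := σ) (eqToIso e)
  have hzf : AlgSt.RepByAlgSpWith (LocP @Flat) z :=
    repByAlgSpWith_comp compLocal_flat (repByAlgSpWith_overMap_locP (M := @Flat) inferInstance)
      (smooth_le (fun f (_ : Smooth f) => inferInstanceAs (Flat f)) hv)
  have hzp : AlgSt.RepByAlgSpWith (LocP @LocallyOfFinitePresentation) z :=
    repByAlgSpWith_comp compLocal_lfp (repByAlgSpWith_overMap_locP (M := @LocallyOfFinitePresentation) inferInstance)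
      (smooth_le (fun f (_ : Smooth f) => inferInstanceAs (LocallyOfFinitePresentation f)) hv)
  have hzs : AlgSt.IsSurjective z := fun w => by
    obtain ⟨t, rfl⟩ := surjective_chart hvs w
    obtain ⟨t', rfl⟩ := c.left.surjective t
    exact ⟨schemePts V' t', (map_schemePts z t').trans (ofChart_overMap c v t')⟩
  have hid : AlgSt.RepByAlgSpWith (LocP @Smooth) (BasedFunctor.id (FibCat.overCat V')) :=
    repByAlgSpWith_id fun U => by
      rw [← (yon S).map_id]
      exact locP_of_repWith (repWith_yon_map (inferInstanceAs (Smooth (𝟙 U.left))))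
  refine ⟨fun w => ?_, locQ_of_fppf isSmoothLocalST_locP
      (fun _ _ Yi g hY hYi hτ => isLocalOnBase_locP Yi g hY hYi
        (isFpqcCover_of_fppf hY hYi (fun i => (hτ.1 i).1) (fun i => (hτ.1 i).2) hτ.2))
      hX hY (isAlgStack_overCat V') (z := z) hid hzf hzp hzs hsm,
    locQ_of_fppf isSmoothLocalST_locP
      (fun _ _ Yi g hY hYi hτ => isLocalOnBase_locP Yi g hY hYi
        (isFpqcCover_of_fppf hY hYi (fun i => (hτ.1 i).1) (fun i => (hτ.1 i).2) hτ.2))
      hX hY (isAlgStack_overCat V') (z := z) hid hzf hzp hzs hfl,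
    locQ_of_fppf isSmoothLocalST_locP
      (fun _ _ Yi g hY hYi hτ => isLocalOnBase_locP Yi g hY hYi
        (isFpqcCover_of_fppf hY hYi (fun i => (hτ.1 i).1) (fun i => (hτ.1 i).2) hτ.2))
      hX hY (isAlgStack_overCat V') (z := z) hid hzf hzp hzs hfp⟩
  obtain ⟨q, rfl⟩ := hzs w
  exact ⟨AlgSt.Points.map x q, by rw [ASt.map_map, map_congr i]⟩

end Groth.Agent.DecSec
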