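import Groth.Agent.DecSec.IsoClSheafify
import Groth.Prelude.Def_StGerb

/-! A category fibred in groupoids is a gerbe over the sheafified classes of its objects. -/

set_option autoImplicit false
set_option backward.isDefEq.respectTransparency false
set_option backward.isDefEq.respectTransparency.types false

universe w v u

open CategoryTheory Opposite

namespace Groth.Agent.DecSec.GerbeCl

open Groth.Agent.ASt

variable {C : Type u} [Category.{v} C] {J : GrothendieckTopology C} {𝒳 : BasedCategory.{v, max u v} C}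
  [FibCat.IsFibGrpd 𝒳.p] {P : Cᵒᵖ ⥤ Type (max u v)} (η : Gerb.isoClPsh 𝒳 ⟶ P)

/-- The section attached to an object. -/
noncomputable def sec (x : 𝒳.obj) : P.obj (op (𝒳.p.obj x)) := η.app _ (Quot.mk _ (Gerb.fib x) : Gerb.IsoCl 𝒳 _)

theorem sec_map {x y : 𝒳.obj} (m : x ⟶ y) : P.map (𝒳.p.map m).op (sec η y) = sec η x := by
  refine (NatTrans.naturality_apply η (𝒳.p.map m).op
    (Quot.mk _ (Gerb.fib y) : Gerb.IsoCl 𝒳 (𝒳.p.obj y))).symm.trans (congrArg (η.app _) ?_)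
  exact cls_eq (a := Gerb.fib y) (x₀ := x) rfl m (𝒳.p.map m) (by simp)

/-- The functor to the category of a presheaf receiving the classes of objects. -/
noncomputable def toPsh : 𝒳 ⥤ᵇ Stk.ofPsh P where
  toFunctor :=
    { obj := fun x => ⟨𝒳.p.obj x, sec η x⟩
      map := fun m => ⟨𝒳.p.map m, sec_map η m⟩
      map_id := fun x => Stk.EltObj.hom_ext (𝒳.p.map_id x)
      map_comp := fun a b => Stk.EltObj.hom_ext (𝒳.p.map_comp a b) }
  w := rfl

theorem isoRel_of_eq {U : C} {a a' : 𝒳.p.Fiber U}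
    (h : (Quot.mk _ a : Gerb.IsoCl 𝒳 U) = Quot.mk _ a') : Gerb.IsoRel 𝒳 U a a' := by
  have h' := Quot.eqvGen_exact h
  clear h
  induction h' with
  | rel _ _ h => exact h
  | refl a => exact ⟨𝟙 a⟩
  | symm a b _ ih =>
      obtain ⟨φ⟩ := ih
      haveI := φ.2
      haveI : IsIso φ.1 := isIso_of_vert φ.1 (map_of_isHomLift_id (R := U) φ.1)
      exact ⟨⟨inv φ.1, inferInstance⟩⟩
  | trans a b c _ _ ih₁ ih₂ =>
      obtain ⟨φ⟩ := ih₁
      obtain ⟨ψ⟩ := ih₂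
      exact ⟨φ ≫ ψ⟩

theorem isGerbeOver_toPsh [Presheaf.IsLocallySurjective J η] [Presheaf.IsLocallyInjective J η] :
    Gerb.IsGerbeOver J (toPsh η) := by
  refine ⟨fun y => ?_, fun x x' b hb => ?_⟩
  · obtain ⟨U, s⟩ := y
    refine ⟨Presheaf.imageSieve η s, Presheaf.imageSieve_mem J η s, fun V f hf => ?_⟩
    obtain ⟨c, hc⟩ := hf
    obtain ⟨⟨x, (rfl : 𝒳.p.obj x = V)⟩⟩ := c
    exact ⟨x, ⟨f, hc.symm⟩, IsHomLift.map (Stk.EltObj.forget P) (⟨f, hc.symm⟩ : (toPsh η).obj x ⟶ ⟨U, s⟩)⟩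
  · have he : 𝒳.p.obj x' = 𝒳.p.obj x := IsHomLift.codomain_eq (Stk.ofPsh P).p (𝟙 (𝒳.p.obj x)) b
    have hbm : b.hom = eqToHom he.symm := by
      refine (IsHomLift.fac' (Stk.ofPsh P).p (𝟙 (𝒳.p.obj x)) b).trans ?_
      simp
    have e : η.app (op (𝒳.p.obj x)) (Quot.mk _ (Gerb.fib x) : Gerb.IsoCl 𝒳 _) =
        η.app (op (𝒳.p.obj x)) (Quot.mk _ ⟨x', he⟩ : Gerb.IsoCl 𝒳 _) := by
      refine (b.map_sec).symm.trans ?_
      rw [hbm]
      refine (NatTrans.naturality_apply η (eqToHom he.symm).op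
        (Quot.mk _ (Gerb.fib x') : Gerb.IsoCl 𝒳 (𝒳.p.obj x'))).symm.trans (congrArg (η.app _) ?_)
      exact cls_eq (a := Gerb.fib x') (x₀ := x') he (𝟙 x') (eqToHom he.symm) (by simp)
    refine ⟨Presheaf.equalizerSieve _ _, Presheaf.equalizerSieve_mem J η _ _ e, fun V f hf => ?_⟩
    change (Quot.mk _ (Gerb.pullFib 𝒳 f (Gerb.fib x)) : Gerb.IsoCl 𝒳 V) =
      Quot.mk _ (Gerb.pullFib 𝒳 f ⟨x', he⟩) at hf
    obtain ⟨χ⟩ := isoRel_of_eq hf
    haveI := χ.2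
    have hχ := map_of_isHomLift_id (p := 𝒳.p) (R := V) χ.1
    let φ := Gerb.pullHom 𝒳 x (f ≫ eqToHom (Gerb.fib x).2.symm)
    let ψ := χ.1 ≫ Gerb.pullHom 𝒳 x' (f ≫ eqToHom he.symm)
    have hφ : 𝒳.p.map φ = eqToHom (Gerb.pull_over 𝒳 x _) ≫ f := by
      refine (Gerb.pullHom_map 𝒳 x _).trans ?_
      simp
    have hψ : 𝒳.p.map ψ = eqToHom (Gerb.pull_over 𝒳 x _) ≫ f ≫ eqToHom he.symm := by
      rw [Functor.map_comp, hχ, Gerb.pullHom_map]
      exact (Category.assoc _ _ _).symm.trans (congrArg (fun r => r ≫ _) (eqToHom_trans _ _))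
    refine ⟨_, φ, ψ, isHomLift_of_map φ (Gerb.pull_over 𝒳 x _) rfl (by rw [hφ]; simp),
      isHomLift_of_map ψ (Gerb.pull_over 𝒳 x _) he (by rw [hψ]), Stk.EltObj.hom_ext ?_⟩
    change 𝒳.p.map φ ≫ b.hom = 𝒳.p.map ψ
    rw [hφ, hψ, hbm, Category.assoc]

end Groth.Agent.DecSec.GerbeCl
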