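import Groth.Agent.DecSec.GerbeCrit2
import Groth.Agent.ASt.ProdMap
import Groth.Agent.ASt.QcMor
import Groth.Agent.ASt.DiagCancel
import Groth.Agent.ASt.StkAlg

/-! Quasi-compactness of diagonals along gerbes. -/

set_option autoImplicit false
set_option backward.isDefEq.respectTransparency false
set_option backward.isDefEq.respectTransparency.types false

universe u

open CategoryTheory CategoryTheory.Limits AlgebraicGeometry Opposite

namespace Groth.Agent.DecSec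

open _root_.AlgSp Groth.Agent.ASp Groth.Agent.ASt Groth.Agent.Boot

variable {S : Scheme.{u}} {𝒳 𝒴 : AlgSt.Cat S} [FibCat.IsFibGrpd 𝒳.p] [FibCat.IsFibGrpd 𝒴.p]

omit [FibCat.IsFibGrpd 𝒳.p] in
theorem isQuasiCompactMor_of_univHomeo (hX : AlgSt.IsAlgStack Scheme.fppfPrecoverage 𝒳)
    (hY : AlgSt.IsAlgStack Scheme.fppfPrecoverage 𝒴) {f : 𝒳 ⥤ᵇ 𝒴} (hf : AlgSt.IsUnivHomeo Scheme.fppfPrecoverage f) :
    AlgSt.IsQuasiCompactMor Scheme.fppfPrecoverage f := by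
  intro 𝒵 hZ hZc g
  haveI := hX.isStack.1
  haveI := hZ.isStack.1
  have hP := Groth.Agent.ASt.isAlgStack_fp (isPrestack_of_isStack hY.isStack) hY.diag hZ hX g f
  haveI := hP.isStack.1
  haveI := compactSpace_of_isQuasiCompact hZ hZc
  haveI : CompactSpace (AlgSt.Points (FibCat.fp g f)) := (hf 𝒵 hZ g).homeomorph.symm.compactSpace
  exact isQuasiCompact_of_compactSpace hP

theorem isQuasiCompactMor_prodMap (hX : AlgSt.IsAlgStack Scheme.fppfPrecoverage 𝒳)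
    (hY : AlgSt.IsAlgStack Scheme.fppfPrecoverage 𝒴) {f : 𝒳 ⥤ᵇ 𝒴}
    (hf : AlgSt.IsQuasiCompactMor Scheme.fppfPrecoverage f) (e) :
    AlgSt.IsQuasiCompactMor Scheme.fppfPrecoverage (prodMap f f e) := by
  intro 𝒵 hZ hZc g
  haveI := hZ.isStack.1
  let hS := (isDM_of_repByAlgSp (repByAlgSp_selfOver (S := S))).1
  have hXX : AlgSt.IsAlgStack Scheme.fppfPrecoverage (FibCat.fp (FibCat.toSelf 𝒳) (FibCat.toSelf 𝒳)) :=
    Groth.Agent.ASt.isAlgStack_fp (isPrestack_of_isStack hS.isStack) hS.diag hX hX _ _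
  have hYY : AlgSt.IsAlgStack Scheme.fppfPrecoverage (FibCat.fp (FibCat.toSelf 𝒴) (FibCat.toSelf 𝒴)) :=
    Groth.Agent.ASt.isAlgStack_fp (isPrestack_of_isStack hS.isStack) hS.diag hY hY _ _
  haveI := hXX.isStack.1
  haveI := hYY.isStack.1
  let h₁ := BasedFunctor.comp g (FibCat.fpFst (FibCat.toSelf 𝒴) (FibCat.toSelf 𝒴))
  have hA := Groth.Agent.ASt.isAlgStack_fp (isPrestack_of_isStack hY.isStack) hY.diag hZ hX h₁ f
  haveI := hA.isStack.1
  let h₂ := BasedFunctor.comp (FibCat.fpFst h₁ f)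
    (BasedFunctor.comp g (FibCat.fpSnd (FibCat.toSelf 𝒴) (FibCat.toSelf 𝒴)))
  have hT := Groth.Agent.ASt.isAlgStack_fp (isPrestack_of_isStack hY.isStack) hY.diag hA hX h₂ f
  haveI := hT.isStack.1
  have hP := Groth.Agent.ASt.isAlgStack_fp (isPrestack_of_isStack hYY.isStack) hYY.diag hZ hXX g (prodMap f f e)
  haveI := hP.isStack.1
  haveI := compactSpace_of_isQuasiCompact hT (hf _ hA (hf 𝒵 hZ hZc h₁) h₂)
  let x₁ := BasedFunctor.comp (FibCat.fpFst h₂ f) (FibCat.fpSnd h₁ f)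
  let x₂ := FibCat.fpSnd h₂ f
  let a := BasedFunctor.comp (FibCat.fpFst h₂ f) (FibCat.fpFst h₁ f)
  let b := FibCat.fpLift x₁ x₂ (eqToIso ((comp_toSelf x₁).trans (comp_toSelf x₂).symm))
  let ε : BasedFunctor.comp a g ≅ BasedFunctor.comp b (prodMap f f e) :=
    fpIsoMk (wL (FibCat.fpFst h₂ f) (FibCat.fpIso h₁ f)) (FibCat.fpIso h₂ f) fun t => by
      have i1 := fp_iso_map ((BasedFunctor.comp b (prodMap f f e)).obj t)
      have i2 := fp_iso_map ((BasedFunctor.comp a g).obj t)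
      have i3 := map_app _ _ (wL (FibCat.fpFst h₂ f) (FibCat.fpIso h₁ f)).hom t
      have i4 := map_app _ _ (FibCat.fpIso h₂ f).hom t
      change ((BasedFunctor.comp b (prodMap f f e)).obj t).obj.iso.hom = _ at i1
      change ((BasedFunctor.comp a g).obj t).obj.iso.hom = _ at i2
      change 𝒴.p.map _ ≫ _ = _ ≫ 𝒴.p.map _
      rw [i3, i4, i1, i2]
      exact (eqToHom_trans _ _).trans (eqToHom_trans _ _).symm
  refine isQuasiCompact_of_surjective hP (F := FibCat.fpLift a b ε) (surjective_map_of_vert fun w => ?_)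
  let z := w.obj.fst
  let m := w.obj.snd
  let φ := w.obj.iso.hom
  have hφ := fp_iso_map w
  let o₁ : (FibCat.fp h₁ f).obj := fpMk z m.obj.fst (fp_snd_base w)
    (((FibCat.fpFst (FibCat.toSelf 𝒴) (FibCat.toSelf 𝒴)).toFunctor).mapIso w.obj.iso) hφ
  have hs : 𝒴.p.map φ.hom.snd = eqToHom (((BasedFunctor.comp g (FibCat.fpSnd (FibCat.toSelf 𝒴) (FibCat.toSelf 𝒴))).w_obj z).trans
      (((fp_snd_base m).trans (fp_snd_base w)).symm.trans (f.w_obj m.obj.snd).symm)) := by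
    have h0 : 𝒴.p.map φ.hom.fst = eqToHom _ := hφ
    rw [fp_map_snd, h0]
    exact (congrArg (fun r => _ ≫ r) (eqToHom_trans _ _)).trans (eqToHom_trans _ _)
  let o : (FibCat.fp h₂ f).obj := fpMk o₁ m.obj.snd ((fp_snd_base m).trans (fp_snd_base w))
    (((FibCat.fpSnd (FibCat.toSelf 𝒴) (FibCat.toSelf 𝒴)).toFunctor).mapIso w.obj.iso) hs
  refine ⟨o, rfl, ⟨fpHomMk (𝟙 z) (fpHomMk (m := b.obj o) (n := m) (𝟙 m.obj.fst) (𝟙 m.obj.snd) ?_) ?_⟩⟩
  · change 𝒳.p.map (𝟙 m.obj.fst) ≫ m.obj.iso.hom = (b.obj o).obj.iso.hom ≫ 𝒳.p.map (𝟙 m.obj.snd)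
    have i1 := fp_iso_map (b.obj o)
    have i2 := fp_iso_map m
    change (b.obj o).obj.iso.hom = _ at i1
    change m.obj.iso.hom = _ at i2
    rw [i1, i2]
    simp
    erw [𝒳.p.map_id, Category.comp_id]
  · apply fp_hom_ext
    · change (g.map (𝟙 z)).hom.fst ≫ φ.hom.fst = φ.hom.fst ≫ f.map (𝟙 _)
      simp
      exact (Category.comp_id _).symm
    · change (g.map (𝟙 z)).hom.snd ≫ φ.hom.snd = φ.hom.snd ≫ f.map (𝟙 _)
      simp
      exact (Category.comp_id _).symm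

theorem isQuasiCompactMor_diag_of_gerbe (hX : AlgSt.IsAlgStack Scheme.fppfPrecoverage 𝒳)
    (hY : AlgSt.IsAlgStack Scheme.fppfPrecoverage 𝒴) {f : 𝒳 ⥤ᵇ 𝒴} (hf : Gerb.IsGerbeOver (J S) f)
    (hΔ : AlgSt.IsQuasiCompactMor Scheme.fppfPrecoverage (FibCat.diag (FibCat.toSelf 𝒳))) :
    AlgSt.IsQuasiCompactMor Scheme.fppfPrecoverage (FibCat.diag (FibCat.toSelf 𝒴)) := by
  let hS := (isDM_of_repByAlgSp (repByAlgSp_selfOver (S := S))).1
  have hXX : AlgSt.IsAlgStack Scheme.fppfPrecoverage (FibCat.fp (FibCat.toSelf 𝒳) (FibCat.toSelf 𝒳)) :=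
    Groth.Agent.ASt.isAlgStack_fp (isPrestack_of_isStack hS.isStack) hS.diag hX hX _ _
  have hYY : AlgSt.IsAlgStack Scheme.fppfPrecoverage (FibCat.fp (FibCat.toSelf 𝒴) (FibCat.toSelf 𝒴)) :=
    Groth.Agent.ASt.isAlgStack_fp (isPrestack_of_isStack hS.isStack) hS.diag hY hY _ _
  haveI := hXX.isStack.1
  haveI := hYY.isStack.1
  let x₁ := BasedFunctor.comp (FibCat.fpFst (FibCat.toSelf 𝒳) (FibCat.toSelf 𝒳)) f
  let x₂ := BasedFunctor.comp (FibCat.fpSnd (FibCat.toSelf 𝒳) (FibCat.toSelf 𝒳)) f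
  let e := eqToIso ((comp_toSelf x₁).trans (comp_toSelf x₂).symm)
  have hm := isQuasiCompactMor_prodMap hX hY
    (isQuasiCompactMor_of_univHomeo hX hY (isUnivHomeo_of_gerbe hX hY hf)) e
  have h := isQuasiCompactMor_compSt hX hXX hYY hΔ hm
  let ε : BasedFunctor.comp (FibCat.diag (FibCat.toSelf 𝒳)) (prodMap f f e) ≅
      BasedFunctor.comp f (FibCat.diag (FibCat.toSelf 𝒴)) :=
    fpIsoMk (Iso.refl f) (Iso.refl f) fun t => by
      have i1 := fp_iso_map ((BasedFunctor.comp (FibCat.diag (FibCat.toSelf 𝒳)) (prodMap f f e)).obj t)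
      have i2 := fp_iso_map ((BasedFunctor.comp f (FibCat.diag (FibCat.toSelf 𝒴))).obj t)
      change ((BasedFunctor.comp (FibCat.diag (FibCat.toSelf 𝒳)) (prodMap f f e)).obj t).obj.iso.hom = _ at i1
      change ((BasedFunctor.comp f (FibCat.diag (FibCat.toSelf 𝒴))).obj t).obj.iso.hom = _ at i2
      change 𝒴.p.map (𝟙 _) ≫ _ = _ ≫ 𝒴.p.map (𝟙 _)
      rw [i1, i2, 𝒴.p.map_id, 𝒴.p.map_id]
      exact (Category.id_comp _).trans (Category.comp_id _).symm
  exact isQuasiCompactMor_of_isSurjective hX hY hYY (smooth_of_gerbe hX hY hf).1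
    (isQuasiCompactMor_congr hX hYY ε h)

end Groth.Agent.DecSec
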