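import Groth.Agent.DecSec.ResPoint
import Groth.Agent.DecSec.AutFib
import Groth.Agent.ASt.Inv

/-! Gerbe substacks of closed subsets: pieces of stratifications. -/

set_option autoImplicit false
set_option backward.isDefEq.respectTransparency false
set_option backward.isDefEq.respectTransparency.types false

universe u

open CategoryTheory CategoryTheory.Limits AlgebraicGeometry Opposite

namespace Groth.Agent.DecSec

open _root_.AlgSp Groth.Agent.ASp Groth.Agent.ASt Groth.Agent.Boot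

variable {S : Scheme.{u}} {𝒳 : AlgSt.Cat S} [FibCat.IsFibGrpd 𝒳.p]

attribute [local instance] Groth.Agent.ASt.isFibGrpd_inertia

theorem fibHas_inertia_subIncl {Q : 𝒳.obj → Prop} (hQ : ∀ {x' x : 𝒳.obj} (_ : x' ⟶ x), Q x → Q x')
    [FibCat.IsFibGrpd (AlgSt.fullSub 𝒳 Q).p] [FibCat.IsFibGrpd (FibCat.inertia (FibCat.toSelf (AlgSt.fullSub 𝒳 Q))).p] {G : Over S} (c : FibCat.overCat G ⥤ᵇ AlgSt.fullSub 𝒳 Q)
    {P : MorphismProperty (Sp S)} [P.RespectsIso]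
    (h : FibHas P c (FibCat.inertiaToBase (FibCat.toSelf (AlgSt.fullSub 𝒳 Q)))) :
    FibHas P (BasedFunctor.comp c (AlgSt.subIncl 𝒳 Q)) (FibCat.inertiaToBase (FibCat.toSelf 𝒳)) := by
  let i' := FibCat.inertiaToBase (FibCat.toSelf (AlgSt.fullSub 𝒳 Q))
  let i := FibCat.inertiaToBase (FibCat.toSelf 𝒳)
  haveI := isFibGrpd_inertia (FibCat.toSelf 𝒳)
  haveI : FibCat.IsFibGrpd (FibCat.fp c i').p := isFibGrpd_fp
  haveI : FibCat.IsFibGrpd (FibCat.fp (BasedFunctor.comp c (AlgSt.subIncl 𝒳 Q)) i).p := isFibGrpd_fp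
  let Φ : FibCat.fp c i' ⥤ᵇ FibCat.fp (BasedFunctor.comp c (AlgSt.subIncl 𝒳 Q)) i :=
    FibCat.fpLift (FibCat.fpFst c i') (BasedFunctor.comp (FibCat.fpSnd c i') (inertiaIncl Q))
      (wR (FibCat.fpIso c i') (AlgSt.subIncl 𝒳 Q))
  have hΦ : ∀ {T : Over S} (k : T ⟶ G) (o) (ho) (φ : c.obj (ov k) ⟶ i'.obj o) (hφ),
      clF Φ T (fpEl k o ho φ hφ) =
        fpEl (y := BasedFunctor.comp c (AlgSt.subIncl 𝒳 Q)) (f := i) k ((inertiaIncl Q).obj o) ho φ.hom hφ := by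
    intro T k o ho φ hφ
    refine cl_eq_iff.2 ⟨fpHomMk (𝟙 _) (𝟙 _) ?_, ((FibCat.overCat G).p.map_id _).trans rfl⟩
    change (c.map (𝟙 (ov k))).hom ≫ φ.hom = φ.hom ≫ 𝟙 _
    rw [c.toFunctor.map_id]
    exact (Category.id_comp _).trans (Category.comp_id _).symm
  refine (fibHas_iff_of_bijective Φ (fun T d => ?_) fun T => ⟨fun d d' e => ?_, fun d => ?_⟩).1 h
  · obtain ⟨k, o, ho, φ, hφ, rfl⟩ := fpEl_exists d
    rw [hΦ k o ho φ hφ, fpHom_fpEl, fpHom_fpEl]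
  · obtain ⟨k, o, ho, φ, hφ, rfl⟩ := fpEl_exists d
    obtain ⟨k', o', ho', φ', hφ', rfl⟩ := fpEl_exists d'
    rw [hΦ k o ho φ hφ, hΦ k' o' ho' φ' hφ'] at e
    obtain rfl : k = k' := (fpHom_fpEl _ _ _ _ _).symm.trans ((congrArg fpHom e).trans (fpHom_fpEl _ _ _ _ _))
    obtain ⟨m, hm, hm'⟩ := fpEl_eq_iff.1 e
    exact fpEl_eq_iff.2 ⟨⟨ObjectProperty.homMk m.hom, ObjectProperty.hom_ext _ m.comm⟩, hm,
      ObjectProperty.hom_ext _ hm'⟩
  · obtain ⟨k, o, ho, φ, hφ, rfl⟩ := fpEl_exists d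
    haveI : IsIso φ := isIso_of_vert φ hφ
    let x : (AlgSt.fullSub 𝒳 Q).obj := ⟨o.pt, hQ (inv φ) (c.obj (ov k)).2⟩
    let o' : (FibCat.inertia (FibCat.toSelf (AlgSt.fullSub 𝒳 Q))).obj :=
      ⟨x, ObjectProperty.isoMk Q o.aut, o.map_aut⟩
    refine ⟨fpEl (y := c) (f := i') k o' ho (ObjectProperty.homMk φ) hφ, (hΦ k o' ho (ObjectProperty.homMk φ) hφ).trans ?_⟩
    exact fpEl_eq_iff.2 ⟨⟨𝟙 o.pt, (Category.comp_id _).trans (Category.id_comp _).symm⟩,
      (𝒳.p.map_id _).trans (eqToHom_refl _ _).symm, Category.comp_id φ⟩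

section Nested

variable (Q : 𝒳.obj → Prop) (R : (AlgSt.fullSub 𝒳 Q).obj → Prop)

/-- The predicate cutting out a substack of a substack. -/
def NestP (x : 𝒳.obj) : Prop := ∃ h : Q x, R ⟨x, h⟩

/-- Substack of a substack, to the substack. -/
noncomputable def unnest : AlgSt.fullSub (AlgSt.fullSub 𝒳 Q) R ⥤ᵇ AlgSt.fullSub 𝒳 (NestP Q R) where
  toFunctor :=
    { obj := fun x => ⟨x.obj.obj, x.obj.property, x.property⟩
      map := fun m => ObjectProperty.homMk m.hom.hom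
      map_id := fun _ => rfl
      map_comp := fun _ _ => rfl }
  w := rfl

/-- The substack, as a substack of a substack. -/
noncomputable def nest : AlgSt.fullSub 𝒳 (NestP Q R) ⥤ᵇ AlgSt.fullSub (AlgSt.fullSub 𝒳 Q) R where
  toFunctor :=
    { obj := fun x => ⟨⟨x.obj, x.property.fst⟩, x.property.snd⟩
      map := fun m => ObjectProperty.homMk (ObjectProperty.homMk m.hom)
      map_id := fun _ => rfl
      map_comp := fun _ _ => rfl }
  w := rfl

theorem nest_incl : BasedFunctor.comp (nest Q R)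
    (BasedFunctor.comp (AlgSt.subIncl (AlgSt.fullSub 𝒳 Q) R) (AlgSt.subIncl 𝒳 Q)) =
      AlgSt.subIncl 𝒳 (NestP Q R) :=
  Groth.Agent.ASt.basedFunctor_ext rfl

theorem unnest_incl : BasedFunctor.comp (unnest Q R) (AlgSt.subIncl 𝒳 (NestP Q R)) =
    BasedFunctor.comp (AlgSt.subIncl (AlgSt.fullSub 𝒳 Q) R) (AlgSt.subIncl 𝒳 Q) :=
  Groth.Agent.ASt.basedFunctor_ext rfl

theorem isEquivOver_nest : FibCat.IsEquivOver (nest Q R) :=
  ⟨unnest Q R, ⟨eqToIso (Groth.Agent.ASt.basedFunctor_ext rfl)⟩, ⟨eqToIso (Groth.Agent.ASt.basedFunctor_ext rfl)⟩⟩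

theorem isEquivOver_unnest : FibCat.IsEquivOver (unnest Q R) :=
  ⟨nest Q R, ⟨eqToIso (Groth.Agent.ASt.basedFunctor_ext rfl)⟩, ⟨eqToIso (Groth.Agent.ASt.basedFunctor_ext rfl)⟩⟩

theorem range_nest [FibCat.IsFibGrpd (AlgSt.fullSub 𝒳 Q).p] [FibCat.IsFibGrpd (AlgSt.fullSub 𝒳 (NestP Q R)).p]
    [FibCat.IsFibGrpd (AlgSt.fullSub (AlgSt.fullSub 𝒳 Q) R).p] : Set.range (AlgSt.Points.map (AlgSt.subIncl 𝒳 (NestP Q R))) =
    AlgSt.Points.map (AlgSt.subIncl 𝒳 Q) '' Set.range (AlgSt.Points.map (AlgSt.subIncl (AlgSt.fullSub 𝒳 Q) R)) := by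
  refine Set.Subset.antisymm ?_ ?_
  · rintro _ ⟨z, rfl⟩
    refine ⟨_, ⟨AlgSt.Points.map (nest Q R) z, rfl⟩, ?_⟩
    rw [map_map, map_map, nest_incl]
  · rintro _ ⟨_, ⟨z, rfl⟩, rfl⟩
    refine ⟨AlgSt.Points.map (unnest Q R) z, ?_⟩
    rw [map_map, map_map, unnest_incl]

end Nested

/-- Reducedness passes to open substacks. -/
theorem smoothLocally_openSubstack {P : Scheme.{u} → Prop} {Q : 𝒳.obj → Prop}
    (hQ : AlgSt.IsOpenSubstack 𝒳 Q Scheme.fppfPrecoverage) (h : AlgSt.SmoothLocally P 𝒳) :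
    AlgSt.SmoothLocally P (AlgSt.fullSub 𝒳 Q) := fun U x hx => by
  haveI := hQ.2.1.isStack.1
  refine h U (BasedFunctor.comp x (AlgSt.subIncl 𝒳 Q)) (repByAlgSpWith_comp compLocal_smooth hx ?_)
  exact repByAlgSpWith_mono (fun _ _ _ _ _ h => locP_of_repWith (repWith_mono
    (fun _ _ g (hg : IsOpenImmersion g) => inferInstanceAs (Smooth g)) h)) hQ.2.2

/-- An open substack inside a gerbe open substack of a substack is a gerbe. -/
theorem isAlgGerbe_nest {Q : 𝒳.obj → Prop} [FibCat.IsFibGrpd (AlgSt.fullSub 𝒳 Q).p]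
    {R R' : (AlgSt.fullSub 𝒳 Q).obj → Prop} (hR : AlgSt.IsOpenSubstack (AlgSt.fullSub 𝒳 Q) R Scheme.fppfPrecoverage)
    (hG : Gerb.IsAlgGerbe Scheme.fppfPrecoverage (AlgSt.fullSub (AlgSt.fullSub 𝒳 Q) R))
    (hQ : ∀ {x' x : 𝒳.obj} (_ : x' ⟶ x), Q x → Q x') (hP : ∀ {x' x : 𝒳.obj} (_ : x' ⟶ x), NestP Q R' x → NestP Q R' x')
    (hle : ∀ z, R' z → R z) (hA : AlgSt.IsAlgStack Scheme.fppfPrecoverage (AlgSt.fullSub 𝒳 (NestP Q R'))) :
    Gerb.IsAlgGerbe Scheme.fppfPrecoverage (AlgSt.fullSub 𝒳 (NestP Q R')) := by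
  haveI := hA.isStack.1
  haveI := hR.2.1.isStack.1
  haveI := isFibGrpd_inertia (FibCat.toSelf (AlgSt.fullSub 𝒳 Q))
  haveI := isFibGrpd_inertia (FibCat.toSelf (AlgSt.fullSub (AlgSt.fullSub 𝒳 Q) R))
  haveI := isFibGrpd_inertia (FibCat.toSelf (AlgSt.fullSub 𝒳 (NestP Q R')))
  obtain ⟨g1, g2⟩ := (isAlgGerbe_iff hR.2.1).1 hG
  obtain ⟨i1, i2⟩ := repByAlgSpWith_inertia_of_locQ hR.2.1 g1 g2
  have key : ∀ {M : MorphismProperty (Sp S)} [M.RespectsIso],
      AlgSt.RepByAlgSpWith M (FibCat.inertiaToBase (FibCat.toSelf (AlgSt.fullSub (AlgSt.fullSub 𝒳 Q) R))) →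
      AlgSt.RepByAlgSpWith M (FibCat.inertiaToBase (FibCat.toSelf (AlgSt.fullSub 𝒳 (NestP Q R')))) := by
    intro M _ h
    refine repByAlgSpWith_iff.2 ⟨faithful_of_repByAlgSp1
      (repByAlgSp1_of_with (repByAlgSpWith_inertiaToBase _ (lft_diag_toSelf hA))), fun U y => ?_⟩
    let y₁ : FibCat.overCat U ⥤ᵇ AlgSt.fullSub 𝒳 Q :=
      liftFullSub Q (BasedFunctor.comp y (AlgSt.subIncl 𝒳 (NestP Q R'))) fun z => (y.obj z).2.fst
    let y₂ : FibCat.overCat U ⥤ᵇ AlgSt.fullSub (AlgSt.fullSub 𝒳 Q) R :=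
      liftFullSub R y₁ fun z => hle _ (y.obj z).2.snd
    have e : BasedFunctor.comp (BasedFunctor.comp y₂ (AlgSt.subIncl (AlgSt.fullSub 𝒳 Q) R)) (AlgSt.subIncl 𝒳 Q) =
        BasedFunctor.comp y (AlgSt.subIncl 𝒳 (NestP Q R')) := Groth.Agent.ASt.basedFunctor_ext rfl
    refine fibHas_inertia_fullSub hP y ?_
    rw [← e]
    exact fibHas_inertia_subIncl hQ _
      (fibHas_inertia_subIncl (fun m h => pull_closed hR.1 hR.2.1.isStack.1 m h) y₂ ((repByAlgSpWith_iff.1 h).2 U y₂))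
  exact isAlgGerbe_of_inertia hA (locQ_of_repByAlgSpWith hA (key i1)) (locQ_of_repByAlgSpWith hA (key i2))

/-- The substack of a closed substack on an open inside its gerbe part. -/
theorem exists_piece (hX : AlgSt.IsAlgStack Scheme.fppfPrecoverage 𝒳) {Q : 𝒳.obj → Prop}
    [FibCat.IsFibGrpd (AlgSt.fullSub 𝒳 Q).p]
    (hQ : AlgSt.IsClosedSubstack 𝒳 Q Scheme.fppfPrecoverage)
    (hred : AlgSt.SmoothLocally (fun X => IsReduced X) (AlgSt.fullSub 𝒳 Q))
    {R : (AlgSt.fullSub 𝒳 Q).obj → Prop} (hR : AlgSt.IsOpenSubstack (AlgSt.fullSub 𝒳 Q) R Scheme.fppfPrecoverage)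
    (hG : Gerb.IsAlgGerbe Scheme.fppfPrecoverage (AlgSt.fullSub (AlgSt.fullSub 𝒳 Q) R))
    (O : Set (AlgSt.Points (AlgSt.fullSub 𝒳 Q))) (hO : IsOpen O)
    (hOR : O ⊆ Set.range (AlgSt.Points.map (AlgSt.subIncl (AlgSt.fullSub 𝒳 Q) R))) :
    AlgSt.IsLocClosedSubstack 𝒳 (NestP Q (InOpen O)) Scheme.fppfPrecoverage ∧
      AlgSt.SmoothLocally (fun X => IsReduced X) (AlgSt.fullSub 𝒳 (NestP Q (InOpen O))) ∧
      Gerb.IsAlgGerbe Scheme.fppfPrecoverage (AlgSt.fullSub 𝒳 (NestP Q (InOpen O))) ∧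
      Set.range (AlgSt.Points.map (AlgSt.subIncl 𝒳 (NestP Q (InOpen O)))) =
        AlgSt.Points.map (AlgSt.subIncl 𝒳 Q) '' O := by
  have hQp : ∀ {x' x : 𝒳.obj} (_ : x' ⟶ x), Q x → Q x' := fun m h => pull_closed hQ.1 hQ.2.1.isStack.1 m h
  have hP : ∀ {x' x : 𝒳.obj} (_ : x' ⟶ x), NestP Q (InOpen O) x → NestP Q (InOpen O) x' :=
    fun m ⟨h, h'⟩ => ⟨hQp m h, inOpen_pull O (ObjectProperty.homMk m : (⟨_, hQp m h⟩ : (AlgSt.fullSub 𝒳 Q).obj) ⟶ ⟨_, h⟩) h'⟩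
  have hO' := isOpenSubstack_inOpen O hQ.2.1 hO
  haveI := hO'.2.1.isStack.1
  have hA := isAlgStack_of_isEquivOver (isEquivOver_unnest Q (InOpen O)) hO'.2.1
  haveI := hA.isStack.1
  have hle : ∀ z, InOpen O z → R z := fun z hz => by
    rw [eq_inOpen_range hR]
    exact fun t => hOR (hz t)
  refine ⟨⟨⟨fun e h => hP e.inv h⟩, hA, ?_⟩, ?_, isAlgGerbe_nest hR hG hQp hP hle hA, ?_⟩
  · rw [AlgSt.IsImm, ← nest_incl]
    refine repByAlgSpWith_precomp (isEquivOver_nest _ _) (repByAlgSpWith_comp compLocal_immersion ?_ ?_)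
    · exact repByAlgSpWith_mono (fun _ _ _ _ _ h => repWith_mono
        (fun _ _ g (hg : IsOpenImmersion g) => inferInstanceAs (IsImmersion g)) h) hO'.2.2
    · exact repByAlgSpWith_mono (fun _ _ _ _ _ h => repWith_mono
        (fun _ _ g (hg : IsClosedImmersion g) => inferInstanceAs (IsImmersion g)) h) hQ.2.2
  · intro U x hx
    exact smoothLocally_openSubstack hO' hred U (BasedFunctor.comp x (nest Q (InOpen O)))
      (repByAlgSpWith_postcomp _ (isEquivOver_nest _ _) hx)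
  · rw [range_nest, range_subIncl_inOpen]

/-- Every nonempty closed set contains a relatively open dense gerbe, and a quasi-compact one. -/
theorem exists_pieces (hX : AlgSt.IsAlgStack Scheme.fppfPrecoverage 𝒳)
    (hI : AlgSt.IsQuasiCompactMor Scheme.fppfPrecoverage (FibCat.inertiaToBase (FibCat.toSelf 𝒳)))
    (T : Set (AlgSt.Points 𝒳)) (hT : IsClosed T) (hne : T.Nonempty) :
    (∃ P : 𝒳.obj → Prop, AlgSt.IsLocClosedSubstack 𝒳 P Scheme.fppfPrecoverage ∧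
      AlgSt.SmoothLocally (fun X => IsReduced X) (AlgSt.fullSub 𝒳 P) ∧
      Gerb.IsAlgGerbe Scheme.fppfPrecoverage (AlgSt.fullSub 𝒳 P) ∧
      (Set.range (AlgSt.Points.map (AlgSt.subIncl 𝒳 P))).Nonempty ∧
      Set.range (AlgSt.Points.map (AlgSt.subIncl 𝒳 P)) ⊆ T ∧
      IsOpen ((Subtype.val : T → AlgSt.Points 𝒳) ⁻¹' Set.range (AlgSt.Points.map (AlgSt.subIncl 𝒳 P))) ∧
      Dense ((Subtype.val : T → AlgSt.Points 𝒳) ⁻¹' Set.range (AlgSt.Points.map (AlgSt.subIncl 𝒳 P)))) ∧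
    ∃ P : 𝒳.obj → Prop, AlgSt.IsLocClosedSubstack 𝒳 P Scheme.fppfPrecoverage ∧
      AlgSt.SmoothLocally (fun X => IsReduced X) (AlgSt.fullSub 𝒳 P) ∧
      AlgSt.IsQuasiCompact (AlgSt.fullSub 𝒳 P) ∧
      Gerb.IsAlgGerbe Scheme.fppfPrecoverage (AlgSt.fullSub 𝒳 P) ∧
      (Set.range (AlgSt.Points.map (AlgSt.subIncl 𝒳 P))).Nonempty ∧
      Set.range (AlgSt.Points.map (AlgSt.subIncl 𝒳 P)) ⊆ T ∧
      IsOpen ((Subtype.val : T → AlgSt.Points 𝒳) ⁻¹' Set.range (AlgSt.Points.map (AlgSt.subIncl 𝒳 P))) := by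
  obtain ⟨Q, hQ, hr, hred, hcl, R, hR, hd, hG⟩ := exists_closed_dense_gerbe hX hI T hT
  haveI := hQ.2.1.isStack.1
  haveI := hR.2.1.isStack.1
  let f := AlgSt.Points.map (AlgSt.subIncl 𝒳 Q)
  have hinj : Function.Injective f := injective_points_subIncl Q (fun m h => pull_closed hQ.1 hQ.2.1.isStack.1 m h)
  have hsub : ∀ O, f '' O ⊆ T := fun O => by
    rw [← hr]
    exact Set.image_subset_range _ _
  have hopen : ∀ O, IsOpen O → IsOpen ((Subtype.val : T → AlgSt.Points 𝒳) ⁻¹' (f '' O)) := by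
    intro O hO
    have : (Subtype.val : T → AlgSt.Points 𝒳) ⁻¹' (f '' O) = Subtype.val ⁻¹' (f '' Oᶜ)ᶜ := by
      ext ⟨x, hx⟩
      obtain ⟨z, rfl⟩ := hr.superset hx
      simp [f, hinj.mem_set_image]
    rw [this]
    exact (hcl _ hO.isClosed_compl).isOpen_compl.preimage continuous_subtype_val
  obtain ⟨x, hx⟩ := hne
  obtain ⟨z, -⟩ := hr.superset hx
  haveI : Nonempty (AlgSt.Points (AlgSt.fullSub 𝒳 Q)) := ⟨z⟩
  let O₁ := Set.range (AlgSt.Points.map (AlgSt.subIncl (AlgSt.fullSub 𝒳 Q) R))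
  have hO₁ : IsOpen O₁ := isOpen_range_subIncl hR
  obtain ⟨a, b, c, d⟩ := exists_piece hX hQ hred hR hG O₁ hO₁ le_rfl
  refine ⟨⟨_, a, b, c, d ▸ hd.nonempty.image _, d ▸ hsub _, d ▸ hopen _ hO₁, ?_⟩, ?_⟩
  · rw [d, dense_iff_inter_open]
    rintro V hV ⟨⟨y, hy⟩, hyV⟩
    obtain ⟨W, hW, rfl⟩ := isOpen_induced_iff.1 hV
    obtain ⟨w, rfl⟩ := hr.superset hy
    obtain ⟨v, hv, hv'⟩ := dense_iff_inter_open.1 hd _ (hW.preimage (continuous_map_stack hX _)) ⟨w, hyV⟩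
    exact ⟨⟨f v, hr.subset (Set.mem_range_self v)⟩, hv, v, hv', rfl⟩
  · obtain ⟨U, w, hw, hws⟩ := hR.2.1.atlas
    obtain ⟨r⟩ : Nonempty (AlgSt.Points (AlgSt.fullSub (AlgSt.fullSub 𝒳 Q) R)) :=
      let ⟨_, r, _⟩ := hd.nonempty; ⟨r⟩
    obtain ⟨t, -⟩ := surjective_chart hws r
    obtain ⟨V, hV, htV, -⟩ := exists_isAffineOpen_mem_and_subset (x := t) (U := (⊤ : U.left.Opens)) (by simp)
    let V' : Over S := Over.mk (V.ι ≫ U.hom)
    let jV : V' ⟶ U := Over.homMk V.ι rfl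
    let w' := BasedFunctor.comp (BasedFunctor.comp (AlgSt.overMap jV) w) (AlgSt.subIncl (AlgSt.fullSub 𝒳 Q) R)
    have hw' : AlgSt.RepByAlgSpWith (LocP @Smooth) w' :=
      repByAlgSpWith_comp compLocal_smooth (repByAlgSpWith_comp compLocal_smooth
        (repByAlgSpWith_overMap_locP (M := @Smooth) (inferInstanceAs (Smooth V.ι))) hw)
        (repByAlgSpWith_mono (fun _ _ _ _ _ h => locP_of_repWith (repWith_mono
          (fun _ _ g (hg : IsOpenImmersion g) => inferInstanceAs (Smooth g)) h)) hR.2.2)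
    let O₂ := Set.range (AlgSt.Points.ofChart w')
    have hO₂ : IsOpen O₂ := by
      rw [show O₂ = AlgSt.Points.ofChart w' '' Set.univ from Set.image_univ.symm]
      exact isOpenMap_ofChart_of_smooth hw' _ isOpen_univ
    have hle : O₂ ⊆ O₁ := by
      rintro _ ⟨s, rfl⟩
      rw [ofChart_comp]
      exact Set.mem_range_self _
    obtain ⟨a, b, c, d⟩ := exists_piece hX hQ hred hR hG O₂ hO₂ hle
    refine ⟨_, a, b, ?_, c, d ▸ (Set.Nonempty.image _ ⟨_, ⟨t, htV⟩, rfl⟩), d ▸ hsub _, d ▸ hopen _ hO₂⟩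
    haveI := isFibGrpd_fullSub_of_pull (Q := InOpen O₂) (inOpen_pull O₂)
    let c₂ := liftFullSub (InOpen O₂) w' fun z => by
      obtain ⟨X', ⟨⟨⟩⟩, k'⟩ := z
      exact (inOpen_chart_iff O₂ w' k').2 fun t => Set.mem_range_self _
    have hc : BasedFunctor.comp c₂ (AlgSt.subIncl _ (InOpen O₂)) = w' := liftFullSub_comp _ _ _
    have hcsm : AlgSt.RepByAlgSpWith (LocP @Smooth) c₂ := repByAlgSpWith_lift_of_comp _ (by rw [hc]; exact hw')
    have hcs : AlgSt.RepByAlgSpWith IsSurjectiveMor c₂ := by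
      refine repByAlgSpWith_surjective_of_isSurjective (repByAlgSp1_of_with hcsm) fun z => ?_
      obtain ⟨s, hs⟩ : AlgSt.Points.map (AlgSt.subIncl _ (InOpen O₂)) z ∈ O₂ :=
        (range_subIncl_inOpen O₂).subset (Set.mem_range_self z)
      refine ⟨AlgSt.Points.ofChart (BasedFunctor.id (FibCat.overCat V')) s,
        injective_points_subIncl _ (inOpen_pull O₂) ?_⟩
      rw [← hs]
      rfl
    haveI : IsAffine V'.left := hV
    haveI := (isAlgStack_of_isEquivOver (isEquivOver_unnest Q (InOpen O₂))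
      (isOpenSubstack_inOpen O₂ hQ.2.1 hO₂).2.1).isStack.1
    exact ⟨V', BasedFunctor.comp c₂ (unnest Q (InOpen O₂)), inferInstance,
      repByAlgSpWith_postcomp _ (isEquivOver_unnest _ _) hcsm, repByAlgSpWith_postcomp _ (isEquivOver_unnest _ _) hcs⟩

/-- Well-ordered decompositions from a choice of relatively open pieces of closed sets. -/
theorem exists_stratification {X : Type (u + 1)} [TopologicalSpace X] {α : Type (u + 1)} (rg : α → Set X)
    (Good : Set X → α → Prop)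
    (h : ∀ T : Set X, IsClosed T → T.Nonempty → ∃ P, (rg P).Nonempty ∧ rg P ⊆ T ∧
      IsOpen ((Subtype.val : T → X) ⁻¹' rg P) ∧ Good T P) :
    ∃ (I : Type (u + 1)) (_ : LinearOrder I) (_ : WellFoundedLT I) (Q : I → α) (T : I → Set X),
      (∀ i, T i = {p | ∀ i', i' < i → p ∉ rg (Q i')}) ∧ (∀ p, ∃ i, p ∈ rg (Q i)) ∧ (∀ i, IsClosed (T i)) ∧
      (∀ i, rg (Q i) ⊆ T i) ∧ (∀ i, IsOpen ((Subtype.val : T i → X) ⁻¹' rg (Q i))) ∧ ∀ i, Good (T i) (Q i) := by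
  classical
  rcases isEmpty_or_nonempty X with hX | hX
  · refine ⟨(0 : Ordinal.{u + 1}).ToType, inferInstance, inferInstance, fun i => isEmptyElim i, fun i => isEmptyElim i,
      fun i => isEmptyElim i, fun p => isEmptyElim p, fun i => isEmptyElim i, fun i => isEmptyElim i,
      fun i => isEmptyElim i, fun i => isEmptyElim i⟩
  obtain ⟨P₀, -⟩ := h Set.univ isClosed_univ Set.univ_nonempty
  haveI : Nonempty α := ⟨P₀⟩
  let J := (Order.succ (Cardinal.mk X)).ord.ToType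
  let pick : Set X → α := fun T => Classical.epsilon fun P => (rg P).Nonempty ∧ rg P ⊆ T ∧
      IsOpen ((Subtype.val : T → X) ⁻¹' rg P) ∧ Good T P
  let F : J → Set X := WellFoundedLT.fix fun i IH => {p | ∀ i' (hi : i' < i), p ∉ rg (pick (IH i' hi))}
  have hF : ∀ i, F i = {p | ∀ i', i' < i → p ∉ rg (pick (F i'))} := fun i => WellFoundedLT.fix_eq _ i
  have hpick : ∀ T, IsClosed T → T.Nonempty → (rg (pick T)).Nonempty ∧ rg (pick T) ⊆ T ∧
      IsOpen ((Subtype.val : T → X) ⁻¹' rg (pick T)) ∧ Good T (pick T) :=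
    fun T h1 h2 => Classical.epsilon_spec (h T h1 h2)
  have hmono : ∀ i i', i ≤ i' → F i' ⊆ F i := fun i i' hii p hp => by
    rw [hF] at hp ⊢
    exact fun j hj => hp j (hj.trans_le hii)
  have hcl : ∀ i, IsClosed (F i) := fun i => by
    induction i using WellFoundedLT.induction with
    | _ i IH =>
      rw [hF]
      by_cases hi : ∀ i', i' < i → (F i').Nonempty
      · have : {p | ∀ i', i' < i → p ∉ rg (pick (F i'))} = ⋂ (i') (_ : i' < i), F i' \ rg (pick (F i')) := by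
          ext p
          simp only [Set.mem_iInter, Set.mem_sdiff, Set.mem_setOf_eq]
          refine ⟨fun hp i' hi' => ⟨?_, hp i' hi'⟩, fun hp i' hi' => (hp i' hi').2⟩
          rw [hF]
          exact fun j hj => hp j (hj.trans hi')
        rw [this]
        refine isClosed_biInter fun i' hi' => ?_
        obtain ⟨-, -, ho, -⟩ := hpick _ (IH i' hi') (hi i' hi')
        obtain ⟨W, hW, e⟩ := isOpen_induced_iff.1 ho
        have : F i' \ rg (pick (F i')) = F i' ∩ Wᶜ := by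
          ext p
          exact ⟨fun ⟨h1, h2⟩ => ⟨h1, fun hp => h2 ((Set.ext_iff.1 e ⟨p, h1⟩).1 hp)⟩,
            fun ⟨h1, h2⟩ => ⟨h1, fun hp => h2 ((Set.ext_iff.1 e ⟨p, h1⟩).2 hp)⟩⟩
        rw [this]
        exact (IH i' hi').inter hW.isClosed_compl
      · push Not at hi
        obtain ⟨i', hi', he⟩ := hi
        have : {p | ∀ j, j < i → p ∉ rg (pick (F j))} = ∅ := by
          rw [← hF, ← Set.subset_empty_iff, ← he]
          exact hmono _ _ hi'.le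
        rw [this]
        exact isClosed_empty
  let I := {i : J // (F i).Nonempty}
  have hex : ∀ p, ∃ i : I, p ∈ rg (pick (F i.1)) := by
    intro p
    by_contra hn
    push Not at hn
    have hp : ∀ j, p ∈ F j := fun j => by
      induction j using WellFoundedLT.induction with
      | _ j IH =>
        rw [hF]
        exact fun i' hi' => hn ⟨i', p, IH i' hi'⟩
    choose g hg using fun j => (hpick (F j) (hcl j) ⟨p, hp j⟩).1
    have hginj : Function.Injective g := fun i j e => by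
      by_contra hne
      rcases lt_or_gt_of_ne hne with hl | hl
      · exact (hF j ▸ (hpick _ (hcl j) ⟨p, hp j⟩).2.1 (hg j)) i hl (e ▸ hg i)
      · exact (hF i ▸ (hpick _ (hcl i) ⟨p, hp i⟩).2.1 (hg i)) j hl (e.symm ▸ hg j)
    have hle : Cardinal.mk J ≤ Cardinal.mk X := ⟨⟨g, hginj⟩⟩
    rw [Cardinal.mk_toType, Cardinal.card_ord] at hle
    exact absurd hle (Order.lt_succ _).not_ge
  refine ⟨I, inferInstance, inferInstance, fun i => pick (F i.1), fun i => F i.1, fun i => ?_, hex,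
    fun i => hcl _, fun i => (hpick _ (hcl _) i.2).2.1, fun i => (hpick _ (hcl _) i.2).2.2.1,
    fun i => (hpick _ (hcl _) i.2).2.2.2⟩
  dsimp only
  rw [hF]
  ext p
  refine ⟨fun hp i' hi' => hp i'.1 hi', fun hp j hj => ?_⟩
  exact hp ⟨j, i.2.mono (hmono _ _ hj.le)⟩ hj

end Groth.Agent.DecSec
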