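import Groth.Agent.ASp.LargestOpen
import Groth.Agent.ASp.Smooth
import Groth.Agent.ASp.EtSmLocalST
import Groth.Agent.ASp.InvOpen
import Groth.Agent.ASp.GpdAlg

/-! The largest open over which a morphism to the objects of a groupoid has a local property is invariant. -/

set_option autoImplicit false
set_option backward.isDefEq.respectTransparency false
set_option backward.isDefEq.respectTransparency.types false

universe u

open CategoryTheory CategoryTheory.Limits AlgebraicGeometry Opposite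

namespace Groth.Agent.DecSec

open _root_.AlgSp Groth.Agent.ASp

variable {S : Scheme.{u}}

theorem exists_covClass (τ : CovNotion S) (hτ : τ = IsFppfCover ∨ τ = IsEtCover ∨ τ = IsSmCover) :
    ∃ Q : MorphismProperty (Sp S), CovClass τ Q ∧
      ∀ ⦃A B : Sp S⦄ (g : A ⟶ B), τ (fun _ : PUnit.{u + 1} => A) (fun _ => g) → Q g := by
  rcases hτ with rfl | rfl | rfl
  · refine ⟨fun _ _ g => LocP @Flat g ∧ LocP @LocallyOfFinitePresentation g,
      ⟨fun ι Y Yi g h1 h2 => ⟨h1, h2⟩, fun A B hB j hj => ⟨?_, ?_⟩,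
        fun A B B' A' hA hB hB' g b a g' sq hg =>
          ⟨locP_of_isPullback sq hA hB hB' hg.1, locP_of_isPullback sq hA hB hB' hg.2⟩,
        fun A B C hB a b ha hb => ⟨locP_comp hB ha.1 hb.1, locP_comp hB ha.2 hb.2⟩,
        fun A B hB hA g hg => isOpenMap_map_of_fppf hB hA g hg.1 hg.2⟩, fun A B g h => h.1 PUnit.unit⟩
    · exact locP_of_repWith (repWith_mono
        (fun _ _ k hk => by have : IsOpenImmersion k := hk; exact (inferInstance : Flat k)) hj)
    · exact locP_of_repWith (repWith_mono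
        (fun _ _ k hk => by have : IsOpenImmersion k := hk; exact (inferInstance : LocallyOfFinitePresentation k)) hj)
  · refine ⟨IsEtaleMor, ⟨fun ι Y Yi g h1 h2 => ⟨h1, h2⟩, fun A B hB j hj U φ hφ => ?_, ?_,
      fun A B C hB a b ha hb U φ hφ => ?_, ?_⟩, fun A B g h => h.1 PUnit.unit⟩
    · exact repWith_comp hφ (repWith_mono
        (fun _ _ k hk => by have : IsOpenImmersion k := hk; exact (inferInstance : Etale k)) hj)
    · intro A B B' A' hA hB hB' g b a g' sq hg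
      exact (isEtaleMor_iff_locP hB').2 (locP_of_isPullback sq hA hB hB' ((isEtaleMor_iff_locP hB).1 hg))
    · rw [← Category.assoc]; exact hb _ (ha φ hφ)
    · intro A B hB hA g hg
      have h := (isEtaleMor_iff_locP hB).1 hg
      exact isOpenMap_map_of_fppf hB hA g
        (locP_mono (fun _ _ k hk => by have : Etale k := hk; exact (inferInstance : Flat k)) h)
        (locP_mono (fun _ _ k hk => by have : Etale k := hk; exact (inferInstance : LocallyOfFinitePresentation k)) h)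
  · refine ⟨LocP @Smooth, ⟨fun ι Y Yi g h1 h2 => ⟨h1, h2⟩, fun A B hB j hj => ?_,
      fun A B B' A' hA hB hB' g b a g' sq hg => locP_of_isPullback sq hA hB hB' hg,
      fun A B C hB a b ha hb => locP_comp hB ha hb, fun A B hB hA g hg => ?_⟩, fun A B g h => h.1 PUnit.unit⟩
    · exact locP_of_repWith (repWith_mono
        (fun _ _ k hk => by have : IsOpenImmersion k := hk; exact (inferInstance : Smooth k)) hj)
    · exact isOpenMap_map_of_fppf hB hA g
        (locP_mono (fun _ _ k hk => by have : Smooth k := hk; exact (inferInstance : Flat k)) hg)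
        (locP_mono (fun _ _ k hk => by have : Smooth k := hk; exact (inferInstance : LocallyOfFinitePresentation k)) hg)

variable {τ : CovNotion S} {P : MorphismProperty (Sp S)} {B : Sp S}

/-- If the base changes of `f` along `s` and `t` agree, the largest good open for `f` is invariant. -/
theorem isInvariant_largest (G : GroupoidSp B) (hU : IsAlgSpace G.U) (hR : IsAlgSpace G.R)
    (hτ : τ = IsFppfCover ∨ τ = IsEtCover ∨ τ = IsSmCover) (hP : IsLocalOnBase τ P)
    (hs : τ (fun _ : PUnit.{u + 1} => G.R) (fun _ => G.s)) (ht : τ (fun _ : PUnit.{u + 1} => G.R) (fun _ => G.t))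
    {X : Sp S} (hX : IsAlgSpace X) (f : X ⟶ G.U)
    (hsym : ∃ (X' : Sp S) (g₁ g₂ : X' ⟶ X) (f' : X' ⟶ G.R), IsPullback g₁ f' f G.s ∧ IsPullback g₂ f' f G.t)
    {W : Sp S} (hWsp : IsAlgSpace W) (w : W ⟶ G.U) (hw : RepWith @IsOpenImmersion w)
    (hmax : ∀ (W' : Sp S) (w' : W' ⟶ G.U), IsAlgSpace W' → RepWith @IsOpenImmersion w' →
      (P (pullback.snd f w') ↔ ∃ k : W' ⟶ W, k ≫ w = w')) :
    G.IsInvariant w := by
  obtain ⟨Q, hC, hQ⟩ := exists_covClass τ hτ
  obtain ⟨X', g₁, g₂, f', sq₁, sq₂⟩ := hsym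
  let XS : Space S := ⟨X, hX⟩
  let US : Space S := ⟨G.U, hU⟩
  let fS : XS ⟶ US := ObjectProperty.homMk f
  have hX' : IsAlgSpace X' := isAlgSpace_of_isPullback hU.diag hX hR sq₁
  obtain ⟨W₀, hW₀, hW₀max, h3, h4⟩ := exists_largest_open hC hP fS
  have hr : Set.range (Points.map w) = (W₀ : Set (Points G.U)) := by
    refine subset_antisymm ?_ ?_
    · exact h3 ⟨W, hWsp⟩ ⟨pullback f w, isAlgSpace_pullback hU.diag hX hWsp _ _⟩ (ObjectProperty.homMk w)
        (ObjectProperty.homMk (pullback.fst f w)) (ObjectProperty.homMk (pullback.snd f w))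
        (hC.open_imm hU w hw) (IsPullback.of_hasPullback f w)
        ((hmax W w hWsp hw).2 ⟨𝟙 W, Category.id_comp w⟩)
    · obtain ⟨k, hk⟩ := (hmax _ (subι G.U (W₀ : Set (Points G.U))) (isAlgSpace_subSp hU W₀.2)
        (repWith_subι _ _ W₀.2)).1 ((overOpen_iff hC hP fS W₀).1 hW₀)
      intro x hx
      obtain ⟨y, rfl⟩ : x ∈ Set.range (Points.map (subι G.U (W₀ : Set (Points G.U)))) := by
        rwa [range_map_subι]
      exact ⟨Points.map k y, by rw [← Points.map_comp, hk]⟩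
  let RS : Space S := ⟨G.R, hR⟩
  let f'S : (⟨X', hX'⟩ : Space S) ⟶ RS := ObjectProperty.homMk f'
  obtain ⟨W₁, hW₁, hW₁max, -, -⟩ := exists_largest_open hC hP f'S
  have es := h4 RS ⟨X', hX'⟩ (ObjectProperty.homMk G.s) (ObjectProperty.homMk g₁) f'S (hQ G.s hs) sq₁ W₁ hW₁ hW₁max
  have et := h4 RS ⟨X', hX'⟩ (ObjectProperty.homMk G.t) (ObjectProperty.homMk g₂) f'S (hQ G.t ht) sq₂ W₁ hW₁ hW₁max
  refine isInvariant_of_points G hw fun z => ?_
  rw [hr]
  exact (Set.ext_iff.1 (et.symm.trans es) z)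

theorem sym_source (G : GroupoidSp B) :
    ∃ (X' : Sp S) (g₁ g₂ : X' ⟶ G.R) (f' : X' ⟶ G.R), IsPullback g₁ f' G.s G.s ∧ IsPullback g₂ f' G.s G.t :=
  ⟨_, G.c, pullback.fst G.s G.t, pullback.snd G.s G.t, Gpd.isPullback_c, IsPullback.of_hasPullback _ _⟩

theorem stabilizer_s (G : GroupoidSp B) : G.stabilizerι ≫ G.s = G.stabilizerToU := by
  have hw : G.stabilizerι ≫ G.j = G.stabilizerToU ≫ G.diag := pullback.condition
  have hd : G.diag ≫ pullback.snd G.pU G.pU = 𝟙 G.U := pullback.lift_snd _ _ _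
  calc G.stabilizerι ≫ G.s = (G.stabilizerι ≫ G.j) ≫ pullback.snd G.pU G.pU := by
        rw [Category.assoc, G.j_snd]
    _ = G.stabilizerToU := by rw [hw, Category.assoc, hd, Category.comp_id]

theorem stabilizer_t (G : GroupoidSp B) : G.stabilizerι ≫ G.t = G.stabilizerToU := by
  have hw : G.stabilizerι ≫ G.j = G.stabilizerToU ≫ G.diag := pullback.condition
  have hd : G.diag ≫ pullback.fst G.pU G.pU = 𝟙 G.U := pullback.lift_fst _ _ _
  calc G.stabilizerι ≫ G.t = (G.stabilizerι ≫ G.j) ≫ pullback.fst G.pU G.pU := by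
        rw [Category.assoc, G.j_fst]
    _ = G.stabilizerToU := by rw [hw, Category.assoc, hd, Category.comp_id]

theorem exists_stab (G : GroupoidSp B) {T : Sp S} (a : T ⟶ G.R) (v : T ⟶ G.U) (hs : a ≫ G.s = v) (ht : a ≫ G.t = v) :
    ∃ g : T ⟶ G.stabilizer, g ≫ G.stabilizerι = a ∧ g ≫ G.stabilizerToU = v := by
  refine ⟨pullback.lift a v ?_, pullback.lift_fst _ _ _, pullback.lift_snd _ _ _⟩
  apply pullback.hom_ext
  · rw [Category.assoc, G.j_fst, Category.assoc, GroupoidSp.diag, pullback.lift_fst, Category.comp_id, ht]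
  · rw [Category.assoc, G.j_snd, Category.assoc, GroupoidSp.diag, pullback.lift_snd, Category.comp_id, hs]

theorem stab_ext (G : GroupoidSp B) {T : Sp S} {g h : T ⟶ G.stabilizer}
    (e : g ≫ G.stabilizerι = h ≫ G.stabilizerι) : g = h := by
  apply pullback.hom_ext
  · exact e
  · change g ≫ G.stabilizerToU = h ≫ G.stabilizerToU
    rw [← stabilizer_s, ← Category.assoc, e, Category.assoc]

theorem conj_inj {G : GroupoidSp B} {T : Sp S} (r : T ⟶ G.R) {a a' : T ⟶ G.R} (hw : r ≫ G.s = a ≫ G.t)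
    (hw' : r ≫ G.s = a' ≫ G.t) (hc : a ≫ G.s = r ≫ G.s) (hc' : a' ≫ G.s = r ≫ G.s)
    (h : Gpd.mul G r a hw ≫ G.s = (r ≫ G.i) ≫ G.t) (h' : Gpd.mul G r a' hw' ≫ G.s = (r ≫ G.i) ≫ G.t)
    (e : Gpd.mul G (Gpd.mul G r a hw) (r ≫ G.i) h = Gpd.mul G (Gpd.mul G r a' hw') (r ≫ G.i) h') : a = a' := by
  have k1 := Gpd.inv_mul_cancel_right (Gpd.mul G r a hw) r ((Gpd.mul_s _ _ _).trans hc)
  have k2 := Gpd.inv_mul_cancel_right (Gpd.mul G r a' hw') r ((Gpd.mul_s _ _ _).trans hc')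
  have k3 : Gpd.mul G r a hw = Gpd.mul G r a' hw' := k1.symm.trans ((Gpd.mul_congr e rfl _).trans k2)
  exact (Gpd.inv_mul_cancel_left r a hw).symm.trans
    ((Gpd.mul_congr rfl k3 _).trans (Gpd.inv_mul_cancel_left r a' hw'))

/-- Conjugation identifies the base changes of the stabilizer along `s` and `t`. -/
theorem sym_stabilizer (G : GroupoidSp B) :
    ∃ (X' : Sp S) (g₁ g₂ : X' ⟶ G.stabilizer) (f' : X' ⟶ G.R),
      IsPullback g₁ f' G.stabilizerToU G.s ∧ IsPullback g₂ f' G.stabilizerToU G.t := by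
  let a := pullback.fst G.stabilizerToU G.s ≫ G.stabilizerι
  let r := pullback.snd G.stabilizerToU G.s
  have has : a ≫ G.s = r ≫ G.s := by
    simp only [a, r, Category.assoc, stabilizer_s, pullback.condition]
  have hat : a ≫ G.t = r ≫ G.s := by
    simp only [a, r, Category.assoc, stabilizer_t, pullback.condition]
  have h2 : Gpd.mul G r a hat.symm ≫ G.s = (r ≫ G.i) ≫ G.t := by rw [Gpd.mul_s, has, Gpd.inv_t]
  obtain ⟨g₂, hg₂, hg₂'⟩ := exists_stab G (Gpd.mul G (Gpd.mul G r a hat.symm) (r ≫ G.i) h2) (r ≫ G.t)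
    (by rw [Gpd.mul_s, Gpd.inv_s]) (by rw [Gpd.mul_t, Gpd.mul_t])
  refine ⟨_, pullback.fst _ _, g₂, r, IsPullback.of_hasPullback _ _, IsPullback.mk' hg₂' ?_ ?_⟩
  · intro T φ ψ h1 h2'
    have e1 : (φ ≫ g₂) ≫ G.stabilizerι = (ψ ≫ g₂) ≫ G.stabilizerι := by rw [h1]
    simp only [Category.assoc, hg₂, Gpd.comp_mul] at e1
    apply pullback.hom_ext
    · apply stab_ext G
      have hw : ∀ χ : T ⟶ pullback G.stabilizerToU G.s, (χ ≫ r) ≫ G.s = (χ ≫ a) ≫ G.t := fun χ => by
        simp only [Category.assoc]; exact congrArg (χ ≫ ·) hat.symm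
      have c : ∀ χ : T ⟶ pullback G.stabilizerToU G.s, (χ ≫ a) ≫ G.s = (χ ≫ r) ≫ G.s := fun χ => by
        simp only [Category.assoc]; exact congrArg (χ ≫ ·) has
      rw [Category.assoc, Category.assoc]
      change φ ≫ a = ψ ≫ a
      refine conj_inj (φ ≫ r) (hw φ) (by rw [h2']; exact hw ψ) (c φ) (by rw [h2']; exact c ψ)
        (by rw [Gpd.mul_s, c φ, Gpd.inv_t]) (by rw [Gpd.mul_s, c ψ, Gpd.inv_t, h2']) ?_
      exact ((Gpd.mul_congr rfl (Category.assoc φ r G.i).symm _).symm.trans (e1.trans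
        (Gpd.mul_congr (Gpd.mul_congr h2'.symm rfl _) (by rw [← Category.assoc, h2']) _)))
    · exact h2'
  · intro T h q hq
    have hbs : (h ≫ G.stabilizerι) ≫ G.s = q ≫ G.t := by rw [Category.assoc, stabilizer_s, hq]
    have hbt : (q ≫ G.i) ≫ G.s = (h ≫ G.stabilizerι) ≫ G.t := by
      rw [Gpd.inv_s, Category.assoc h, stabilizer_t, hq]
    have hh : Gpd.mul G (q ≫ G.i) (h ≫ G.stabilizerι) hbt ≫ G.s = q ≫ G.t := by rw [Gpd.mul_s, hbs]
    obtain ⟨g, hg, hg'⟩ := exists_stab G (Gpd.mul G (Gpd.mul G (q ≫ G.i) (h ≫ G.stabilizerι) hbt) q hh) (q ≫ G.s)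
      (Gpd.mul_s _ _ _) (by rw [Gpd.mul_t, Gpd.mul_t, Gpd.inv_t])
    obtain ⟨l, hl1, hl2⟩ : ∃ l : T ⟶ pullback G.stabilizerToU G.s,
        l ≫ pullback.fst _ _ = g ∧ l ≫ pullback.snd _ _ = q :=
      ⟨pullback.lift g q hg', pullback.lift_fst _ _ _, pullback.lift_snd _ _ _⟩
    refine ⟨l, stab_ext G ?_, hl2⟩
    rw [Category.assoc, hg₂, Gpd.comp_mul, Gpd.mul_congr (Gpd.comp_mul _ _ _ _) (show _ = q ≫ G.i by
      rw [← Category.assoc, hl2])]
    have ha : l ≫ a = Gpd.mul G (Gpd.mul G (q ≫ G.i) (h ≫ G.stabilizerι) hbt) q hh := by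
      simp only [a, ← Category.assoc, hl1, hg]
    rw [Gpd.mul_congr (Gpd.mul_congr hl2 ha _) rfl, Gpd.mul_congr (Gpd.mul_assoc' _ _ _ _ _).symm rfl]
    rw [Gpd.mul_congr (Gpd.mul_congr (Gpd.mul_inv_cancel_left q (h ≫ G.stabilizerι) (by
      rw [Category.assoc h, stabilizer_t, hq])) rfl _) rfl]
    · exact Gpd.mul_inv_cancel_right _ _ hbs
    · rw [Gpd.mul_t, Gpd.inv_t]

end Groth.Agent.DecSec
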