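import Groth.Agent.DecSec.GpdUnibranch
import Groth.Agent.DecSec.InvLargest
import Groth.Agent.GrpdDimLib.Main
import Groth.Agent.FibreDimEt.Sp
import Groth.Agent.ASp.RelDimLocus
import Groth.Agent.ASp.EtDim
import Groth.Agent.ASp.IntegralDim
import Groth.Agent.DimFormulaLib.Scheme
import Groth.Agent.LocDimBC.Comp

/-! Dimension of groupoids in algebraic spaces over a field, locally of finite type. -/

set_option autoImplicit false
set_option backward.isDefEq.respectTransparency false
set_option backward.isDefEq.respectTransparency.types false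

universe u

open CategoryTheory CategoryTheory.Limits AlgebraicGeometry Opposite

namespace Groth.Agent.DecSec

open _root_.AlgSp Groth.Agent.ASp

variable {S : Scheme.{u}}

variable {B : Sp S} (G : GroupoidSp B) {k : Type u} [Field k] {σ₀ : Spec (CommRingCat.of k) ⟶ S}
  (eU : G.U ≅ (yon S).obj (Over.mk σ₀))

include eU in
theorem subsingleton_points : Subsingleton (Points G.U) := by
  refine ⟨fun x y => ?_⟩
  have h : ∀ x : Points G.U, x = Points.map eU.inv (Points.map eU.hom x) := fun x => by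
    rw [← Points.map_comp, eU.hom_inv_id, Points.map_id]
  rw [h x, h y]
  congr 1
  obtain ⟨a, ha⟩ := (Points.schemeHomeo (Over.mk σ₀)).surjective (Points.map eU.hom x)
  obtain ⟨b, hb⟩ := (Points.schemeHomeo (Over.mk σ₀)).surjective (Points.map eU.hom y)
  rw [← ha, ← hb]
  exact congrArg _ (Subsingleton.elim (α := PrimeSpectrum k) a b)

theorem fibreDimAt_eq_localDim_field {U : Scheme.{u}} (h : U ⟶ Spec (CommRingCat.of k)) (u : ↥U) :
    FlatMor.localDim ↥U u = FlatMor.fibreDimAt h u :=
  haveI : Subsingleton ↥(Spec (CommRingCat.of k)) := inferInstanceAs (Subsingleton (PrimeSpectrum k))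
  DimFormulaLib.localDim_eq_fibreDimAt_of_subsingleton h u

include eU in
/-- In every etale chart the local dimension is the same at all points. -/
theorem localDim_chart_eq (hR : IsAlgSpace G.R) (hs : LocP @LocallyOfFiniteType G.s)
    {U₀ : Over S} {a₀ : (yon S).obj U₀ ⟶ G.R} (ha₀ : RepWith @Etale a₀) {u₀ : ↥U₀.left} {x₀ : Points G.U}
    (hu₀ : Points.ofPt a₀ u₀ = Points.map G.e x₀)
    {U : Over S} {a : (yon S).obj U ⟶ G.R} (hae : RepWith @Etale a) (u : ↥U.left) :
    FlatMor.localDim ↥U.left u = FlatMor.localDim ↥U₀.left u₀ := by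
  let Ω := AlgebraicClosure (U.left.residueField u)
  obtain ⟨str, uΩ, huΩ⟩ : ∃ (str : Spec (CommRingCat.of Ω) ⟶ S) (uΩ : Over.mk str ⟶ U),
      uΩ.left (IsLocalRing.closedPoint Ω) = u := by
    let ι₀ : Spec (CommRingCat.of Ω) ⟶ U.left :=
      Spec.map (CommRingCat.ofHom (algebraMap (U.left.residueField u) Ω)) ≫ U.left.fromSpecResidueField u
    refine ⟨ι₀ ≫ U.hom, Over.homMk ι₀ rfl, ?_⟩
    change ι₀ (IsLocalRing.closedPoint Ω) = u
    rw [Scheme.Hom.comp_apply]
    exact Scheme.fromSpecResidueField_apply _ _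
  let pt := (yon S).obj (Over.mk str)
  have hpt : IsAlgSpace pt := IsAlgSpace.yon_obj _
  have hU : IsAlgSpace G.U := (IsAlgSpace.yon_obj _).of_iso eU.symm
  have hk : IsAlgSpace ((yon S).obj (Over.mk σ₀)) := IsAlgSpace.yon_obj _
  obtain ⟨α, hα⟩ : ∃ α : pt ⟶ G.R, α = (yon S).map uΩ ≫ a := ⟨_, rfl⟩
  let f := G.s ≫ eU.hom
  have hf : LocP @LocallyOfFiniteType f :=
    locP_comp hU hs (locP_of_repWith (repWith_of_isIso (P := @LocallyOfFiniteType) eU.hom))
  have sq : ∀ φ : pt ⟶ G.U, IsPullback (pullback.fst G.s φ) (pullback.snd G.s φ) f (φ ≫ eU.hom) := fun φ =>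
    (IsPullback.of_hasPullback G.s φ).of_iso (Iso.refl _) (Iso.refl _) (Iso.refl _) eU
      (by simp) (by simp) (by simp [f]) (by simp)
  obtain ⟨m, hmiso, hm, hmsnd⟩ := exists_shear G α
  obtain ⟨e₁, he₁a, he₁b⟩ : ∃ e₁ : pt ⟶ pullback G.s (α ≫ G.t),
      e₁ ≫ pullback.fst _ _ = (α ≫ G.t) ≫ G.e ∧ e₁ ≫ pullback.snd _ _ = 𝟙 pt :=
    ⟨pullback.lift ((α ≫ G.t) ≫ G.e) (𝟙 _) (by rw [Category.assoc, G.e_s, Category.comp_id, Category.id_comp]),
      pullback.lift_fst _ _ _, pullback.lift_snd _ _ _⟩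
  let q := Points.ofPt e₁ (IsLocalRing.closedPoint Ω)
  have hm1 : Points.map (pullback.fst G.s (α ≫ G.s)) (Points.map m q) = Points.ofPt a u := by
    rw [← Points.map_comp, Points.map_ofPt]
    have : e₁ ≫ m ≫ pullback.fst _ _ = α := by
      rw [hm, Gpd.comp_mul, Gpd.mul_congr he₁a (show _ = α by
        rw [← Category.assoc, he₁b, Category.id_comp])]
      exact Gpd.one_mul' _ _ (Category.assoc _ _ _) _
    rw [this, hα, Points.ofPt_eq_map_ofScheme, Points.ofPt_eq_map_ofScheme, Points.map_comp]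
    change Points.map a (Points.map ((yon S).map uΩ) (Points.schemeHomeo _ _)) = _
    rw [Points.map_yon_map_apply, huΩ]
    rfl
  have hq0 : Points.map (pullback.fst G.s (α ≫ G.t)) q = Points.ofPt a₀ u₀ := by
    rw [hu₀, Points.map_ofPt, he₁a, ← Points.map_ofPt]
    exact congrArg _ ((subsingleton_points G eU).elim _ _)
  have mkChart : ∀ {W : Over S} (c : (yon S).obj W ⟶ G.R) (_ : RepWith @Etale c) (w : ↥W.left),
      HasAtMor (fun _ _ h z => FlatMor.fibreDimAt h z = FlatMor.localDim ↥W.left w) f (Points.ofPt c w) := by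
    intro W c hc w
    obtain ⟨h, hh⟩ := (yon S).map_surjective (c ≫ f)
    exact ⟨W, Over.mk σ₀, c, 𝟙 _, h, w, hc, repWith_id _ _, by rw [hh, Category.comp_id], rfl,
      (fibreDimAt_eq_localDim_field h.left w).symm⟩
  have hFt : IsAlgSpace (pullback G.s (α ≫ G.t)) := isAlgSpace_pullback hU.diag hR hpt _ _
  have hFs : IsAlgSpace (pullback G.s (α ≫ G.s)) := isAlgSpace_pullback hU.diag hR hpt _ _
  obtain ⟨U₁, V₁, c₁, b₁, h₁, z₁, hc₁, hb₁, w₁, hz₁, hd₁⟩ :=
    relDim_baseChange hR hk hpt (sq (α ≫ G.t)) hf q _ (hq0.symm ▸ mkChart a₀ ha₀ u₀)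
  obtain ⟨U₂, V₂, c₂, b₂, h₂, z₂, hc₂, hb₂, w₂, hz₂, hd₂⟩ :=
    relDim_baseChange hR hk hpt (sq (α ≫ G.s)) hf (Points.map m q) _ (hm1.symm ▸ mkChart a hae u)
  have key := FibreDimEt.fibreDimAt_eq_of_charts (f := pullback.snd G.s (α ≫ G.s))
    (repWith_comp hc₁ (repWith_of_isIso m)) hb₁ (by rw [Category.assoc, hmsnd, w₁]) hc₂ hb₂ w₂
    (u := z₁) (u₁ := z₂) (by rw [hz₂, ← Points.map_ofPt, hz₁])
  rw [← hd₁, ← hd₂]
  exact key.symm

include eU in
theorem exists_chart_identity (hR : IsAlgSpace G.R) :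
    ∃ (U₀ : Over S) (a₀ : (yon S).obj U₀ ⟶ G.R) (u₀ : ↥U₀.left) (x₀ : Points G.U),
      RepWith @Etale a₀ ∧ RepWith @Surjective a₀ ∧ Points.ofPt a₀ u₀ = Points.map G.e x₀ := by
  obtain ⟨U₀, a₀, he, hs⟩ := hR.atlas
  let x₀ := Points.map eU.inv (Points.schemeHomeo (Over.mk σ₀) (IsLocalRing.closedPoint k))
  obtain ⟨u₀, hu₀⟩ := surjective_ofPt hs (Points.map G.e x₀)
  exact ⟨U₀, a₀, u₀, x₀, he, hs, hu₀⟩

include eU in
/-- Every local dimension equals the dimension. -/
theorem localDim_eq_dim (hR : IsAlgSpace G.R) (hs : LocP @LocallyOfFiniteType G.s)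
    {U : Over S} {a : (yon S).obj U ⟶ G.R} (hae : RepWith @Etale a) (u : ↥U.left) :
    FlatMor.localDim ↥U.left u = AlgSp.dim G.R := by
  obtain ⟨U₀, a₀, u₀, x₀, ha₀, -, hu₀⟩ := exists_chart_identity G eU hR
  refine le_antisymm (le_iSup_of_le U (le_iSup₂_of_le a hae ?_)) (iSup_le fun V => iSup_le fun b => iSup_le fun hb => ?_)
  · exact (iInf_le_of_le ⟨⊤, trivial⟩ (topologicalKrullDim_subspace_le _ _))
  · rw [DimFormulaLib.topologicalKrullDim_eq_iSup_localDim]
    refine iSup_le fun v => le_of_eq ?_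
    rw [localDim_chart_eq G eU hR hs ha₀ hu₀ hb v, localDim_chart_eq G eU hR hs ha₀ hu₀ hae u]

include eU in
theorem dim_eq_dim_stabilizer (hB : IsAlgSpace B) (hR : IsAlgSpace G.R) (hs : LocP @LocallyOfFiniteType G.s)
    (ht : LocP @LocallyOfFiniteType G.t) : AlgSp.dim G.R = AlgSp.dim G.stabilizer := by
  have hU : IsAlgSpace G.U := (IsAlgSpace.yon_obj _).of_iso eU.symm
  let p := eU.inv ≫ G.pU
  obtain ⟨Z, za, zb, hZ⟩ := exists_isPullback_yon (hB.representable_from_yon p) p
  obtain ⟨d, hd⟩ := (yon S).map_surjective (hZ.lift (𝟙 _) (𝟙 _) rfl)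
  have hda : d ≫ za = 𝟙 _ := (yon S).map_injective (by rw [Functor.map_comp, hd, hZ.lift_fst, (yon S).map_id])
  have hdb : d ≫ zb = 𝟙 _ := (yon S).map_injective (by rw [Functor.map_comp, hd, hZ.lift_snd, (yon S).map_id])
  haveI : IsSeparated zb.left := by
    let l : Z.left ⟶ pullback σ₀ σ₀ := pullback.lift za.left zb.left ((Over.w za).trans (Over.w zb).symm)
    haveI : Mono l := ⟨fun {T} g g' hg => by
      have h1 : g ≫ za.left = g' ≫ za.left := by simpa [l] using congrArg (· ≫ pullback.fst σ₀ σ₀) hg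
      have h2 : g ≫ zb.left = g' ≫ zb.left := by simpa [l] using congrArg (· ≫ pullback.snd σ₀ σ₀) hg
      have hw : g ≫ Z.hom = g' ≫ Z.hom := by rw [← Over.w za, reassoc_of% h1]
      let x : Over.mk (g ≫ Z.hom) ⟶ Z := Over.homMk g rfl
      let y : Over.mk (g ≫ Z.hom) ⟶ Z := Over.homMk g' hw.symm
      have hxy : x = y := (yon S).map_injective (hZ.hom_ext
        (by rw [← Functor.map_comp, ← Functor.map_comp]; exact congrArg _ (Over.OverMorphism.ext h1))
        (by rw [← Functor.map_comp, ← Functor.map_comp]; exact congrArg _ (Over.OverMorphism.ext h2)))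
      exact congrArg CommaMorphism.left hxy⟩
    haveI : IsSeparated σ₀ := by
      haveI : IsSeparated (σ₀ ≫ terminal.from S) := by rw [terminal.comp_from]; infer_instance
      exact IsSeparated.of_comp σ₀ (terminal.from S)
    haveI : IsSeparated l := ⟨by
      haveI : IsIso (pullback.diagonal l) := inferInstance
      infer_instance⟩
    haveI : IsSeparated (Over.mk σ₀).hom := ‹IsSeparated σ₀›
    rw [← pullback.lift_snd za.left zb.left ((Over.w za).trans (Over.w zb).symm)]
    exact MorphismProperty.comp_mem @IsSeparated l _ ‹IsSeparated l›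
      (MorphismProperty.pullback_snd _ _ ‹IsSeparated (Over.mk σ₀).hom›)
  haveI : IsClosedImmersion d.left := by
    haveI : IsClosedImmersion (d.left ≫ zb.left) := by
      rw [← Over.comp_left, hdb]
      exact inferInstanceAs (IsClosedImmersion (𝟙 (Over.mk σ₀).left))
    exact IsClosedImmersion.of_comp d.left zb.left
  obtain ⟨U₀, a, v₀, x₀, ha, has, hv₀⟩ := exists_chart_identity G eU hR
  obtain ⟨f, hf⟩ := (yon S).map_surjective (a ≫ G.s ≫ eU.hom)
  obtain ⟨h, hh⟩ := (yon S).map_surjective (a ≫ G.t ≫ eU.hom)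
  have hcond : (a ≫ G.t ≫ eU.hom) ≫ p = (a ≫ G.s ≫ eU.hom) ≫ p := by
    simp only [p, Category.assoc, Iso.hom_inv_id_assoc, G.t_over, G.s_over]
  obtain ⟨j, hj⟩ := (yon S).map_surjective (hZ.lift _ _ hcond)
  have hja : j ≫ za = h := (yon S).map_injective (by rw [Functor.map_comp, hj, hZ.lift_fst, hh])
  have hjb : j ≫ zb = f := (yon S).map_injective (by rw [Functor.map_comp, hj, hZ.lift_snd, hf])
  haveI : LocallyOfFiniteType f.left := hs a eU.inv f ha (repWith_of_isIso _) (by
    rw [hf, Category.assoc, Category.assoc, eU.hom_inv_id, Category.comp_id])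
  haveI : LocallyOfFiniteType h.left := ht a eU.inv h ha (repWith_of_isIso _) (by
    rw [hh, Category.assoc, Category.assoc, eU.hom_inv_id, Category.comp_id])
  obtain ⟨ξ, hξ, hξmax⟩ := DimFormulaLib.exists_generic_of_mem_irreducibleComponents
    (irreducibleComponent_mem_irreducibleComponents v₀)
  have hξe : ξ ⤳ v₀ := specializes_iff_mem_closure.2 (hξ ▸ mem_irreducibleComponent)
  let f' : U₀.left ⟶ Spec (CommRingCat.of k) := f.left
  let h' : U₀.left ⟶ Spec (CommRingCat.of k) := h.left
  haveI : LocallyOfFiniteType f' := ‹LocallyOfFiniteType f.left›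
  letI := (Spec.preimage (U₀.left.fromSpecResidueField ξ ≫ f')).hom.toAlgebra
  have halg : ∀ x : k, IsAlgebraic k ((Spec.preimage (U₀.left.fromSpecResidueField ξ ≫ h')).hom x) :=
    fun x => GrpdDimLib.isAlgebraic_residueField f' h' ξ x
  let L := algebraicClosure k (U₀.left.residueField ξ)
  let τ : k →+* L := RingHom.codRestrict (Spec.preimage (U₀.left.fromSpecResidueField ξ ≫ h')).hom L.toSubalgebra
    fun x => mem_algebraicClosure_iff.2 (halg x)
  let q : Spec (U₀.left.residueField ξ) ⟶ Spec (CommRingCat.of L) := Spec.map (CommRingCat.ofHom L.val.toRingHom)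
  have hft : q ≫ Spec.map (CommRingCat.ofHom τ) = U₀.left.fromSpecResidueField ξ ≫ h' := by
    rw [← Spec.map_comp, ← Spec.map_preimage (U₀.left.fromSpecResidueField ξ ≫ h')]
    rfl
  have hfs : q ≫ Spec.map (CommRingCat.ofHom (algebraMap k L)) = U₀.left.fromSpecResidueField ξ ≫ f' := by
    rw [← Spec.map_comp, ← Spec.map_preimage (U₀.left.fromSpecResidueField ξ ≫ f')]
    rfl
  haveI : Surjective q := ⟨fun y => ⟨IsLocalRing.closedPoint _, Subsingleton.elim (α := PrimeSpectrum L) _ _⟩⟩
  have hclosed : IsClosed ({j.left ξ} : Set ↥Z.left) := by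
    obtain ⟨w, hwb, hwq⟩ : ∃ w : Spec (CommRingCat.of L) ⟶ Z.left,
        w ≫ zb.left = Spec.map (CommRingCat.ofHom (algebraMap k L)) ∧
          q ≫ w = U₀.left.fromSpecResidueField ξ ≫ j.left := by
      haveI : IsDominant q := inferInstance
      haveI : Flat q := by
        rw [HasRingHomProperty.Spec_iff (P := @Flat)]
        letI := L.val.toRingHom.toAlgebra
        exact (RingHom.flat_algebraMap_iff (R := L) (S := U₀.left.residueField ξ)).2 inferInstance
      let c₁ : Spec (CommRingCat.of L) ⟶ Spec (CommRingCat.of k) := Spec.map (CommRingCat.ofHom (algebraMap k L))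
      let c₂ : Spec (CommRingCat.of L) ⟶ Spec (CommRingCat.of k) := Spec.map (CommRingCat.ofHom τ)
      have hc : c₂ ≫ σ₀ = c₁ ≫ σ₀ := by
        rw [← cancel_epi q, reassoc_of% hft, reassoc_of% hfs]
        exact congrArg (U₀.left.fromSpecResidueField ξ ≫ ·) ((Over.w h).trans (Over.w f).symm)
      let C₁ : Over.mk (c₁ ≫ σ₀) ⟶ Over.mk σ₀ := Over.homMk c₁ rfl
      let C₂ : Over.mk (c₁ ≫ σ₀) ⟶ Over.mk σ₀ := Over.homMk c₂ hc
      let ρ : Over.mk (q ≫ c₁ ≫ σ₀) ⟶ U₀ := Over.homMk (U₀.left.fromSpecResidueField ξ) (by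
        change U₀.left.fromSpecResidueField ξ ≫ U₀.hom = q ≫ c₁ ≫ σ₀
        rw [reassoc_of% hfs]
        exact congrArg (U₀.left.fromSpecResidueField ξ ≫ ·) (Over.w f).symm)
      let Q' : Over.mk (q ≫ c₁ ≫ σ₀) ⟶ Over.mk (c₁ ≫ σ₀) := Over.homMk q rfl
      have eC₂ : Q' ≫ C₂ = ρ ≫ h := Over.OverMorphism.ext hft
      have eC₁ : Q' ≫ C₁ = ρ ≫ f := Over.OverMorphism.ext hfs
      have hdeq : (yon S).map C₂ ≫ p = (yon S).map C₁ ≫ p := by
        refine eq_of_field_ext hB Q' ?_
        · simp only [← Category.assoc, ← Functor.map_comp, eC₂, eC₁]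
          simp only [Functor.map_comp, Category.assoc, hf, hh]
          simp only [p, Iso.hom_inv_id_assoc, G.t_over, G.s_over]
      obtain ⟨w', hw'⟩ := (yon S).map_surjective (hZ.lift _ _ hdeq)
      have hwa : w' ≫ za = C₂ := (yon S).map_injective (by rw [Functor.map_comp, hw', hZ.lift_fst])
      have hwb : w' ≫ zb = C₁ := (yon S).map_injective (by rw [Functor.map_comp, hw', hZ.lift_snd])
      refine ⟨w'.left, congrArg CommaMorphism.left hwb, congrArg CommaMorphism.left
        (show Q' ≫ w' = ρ ≫ j from (yon S).map_injective (hZ.hom_ext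
          (by rw [← Functor.map_comp, ← Functor.map_comp, Category.assoc, Category.assoc, hwa, hja, eC₂])
          (by rw [← Functor.map_comp, ← Functor.map_comp, Category.assoc, Category.assoc, hwb, hjb, eC₁])))⟩
    haveI : IsIntegralHom (Spec.map (CommRingCat.ofHom (algebraMap k L))) := by
      rw [IsIntegralHom.SpecMap_iff]
      exact fun y => Algebra.IsIntegral.isIntegral y
    haveI : IsIntegralHom (w ≫ zb.left) := by rw [hwb]; infer_instance
    haveI : IsIntegralHom w := IsIntegralHom.of_comp w zb.left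
    have : ({j.left ξ} : Set ↥Z.left) = Set.range w := by
      rw [Set.range_eq_singleton_iff.2 fun y => ?_]
      refine (congrArg w (Subsingleton.elim (α := PrimeSpectrum L) y (q (IsLocalRing.closedPoint _)))).trans ?_
      refine (Scheme.Hom.comp_apply q w _).symm.trans ?_
      rw [hwq]
      exact (Scheme.Hom.comp_apply _ _ _).trans (congrArg j.left (Scheme.fromSpecResidueField_apply ξ _))
    rw [this]
    exact w.isClosedMap.isClosed_range
  have hje : j.left v₀ = j.left ξ := (hξe.map j.left.continuous).mem_closed hclosed rfl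
  have hd0 : j.left v₀ = d.left (IsLocalRing.closedPoint k) := by
    let Ω := AlgebraicClosure (U₀.left.residueField v₀)
    let ι₀ : Spec (CommRingCat.of Ω) ⟶ U₀.left :=
      Spec.map (CommRingCat.ofHom (algebraMap (U₀.left.residueField v₀) Ω)) ≫ U₀.left.fromSpecResidueField v₀
    let eI : (yon S).obj (Over.mk σ₀) ⟶ G.R := eU.inv ≫ G.e
    have hx : Points.ofPt eI (IsLocalRing.closedPoint k) = Points.ofPt a v₀ := by
      rw [hv₀, Points.ofPt_eq_map_ofScheme, Points.map_comp]
      exact congrArg _ ((subsingleton_points G eU).elim _ _)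
    obtain ⟨W, w1, w2, hW⟩ := exists_isPullback_yon ha.1 eI
    obtain ⟨z, hz1, -⟩ := points_exists_of_isPullback hW (Points.schemeHomeo U₀ v₀)
      (Points.schemeHomeo (Over.mk σ₀) (IsLocalRing.closedPoint k))
      (by rw [Points.ofPt_eq_map_ofScheme, Points.ofPt_eq_map_ofScheme] at hx; exact hx.symm)
    obtain ⟨y, rfl⟩ := (Points.schemeHomeo W).surjective z
    rw [Points.map_yon_map_apply] at hz1
    have hy : w1.left y = v₀ := (Points.schemeHomeo U₀).injective hz1
    have hwd : w1 ≫ j = w2 ≫ d := (yon S).map_injective (hZ.hom_ext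
      (by
        rw [← Functor.map_comp, ← Functor.map_comp, Category.assoc, Category.assoc, hja, hda, Category.comp_id,
          Functor.map_comp, hh, reassoc_of% hW.w]
        simp only [eI, Category.assoc, reassoc_of% G.e_t, eU.inv_hom_id, Category.comp_id])
      (by
        rw [← Functor.map_comp, ← Functor.map_comp, Category.assoc, Category.assoc, hjb, hdb, Category.comp_id,
          Functor.map_comp, hf, reassoc_of% hW.w]
        simp only [eI, Category.assoc, reassoc_of% G.e_s, eU.inv_hom_id, Category.comp_id]))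
    rw [← hy, ← Scheme.Hom.comp_apply, ← Over.comp_left, hwd, Over.comp_left, Scheme.Hom.comp_apply]
    exact congrArg d.left (Subsingleton.elim (α := PrimeSpectrum k) _ _)
  let q₁ := pullback.fst j d
  let q₂ := pullback.snd j d
  have sqL : IsPullback q₁.left q₂.left j.left d.left := (IsPullback.of_hasPullback j d).map (Over.forget S)
  haveI : IsClosedImmersion q₁.left := MorphismProperty.of_isPullback sqL.flip ‹IsClosedImmersion d.left›
  have hcond2 : ((yon S).map q₁ ≫ a) ≫ G.j = ((yon S).map q₂ ≫ eU.inv) ≫ G.diag := by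
    have ea : (yon S).map q₁ ≫ (yon S).map h = (yon S).map q₂ := by
      rw [← Functor.map_comp, ← hja, reassoc_of% (pullback.condition (f := j) (g := d)), hda, Category.comp_id]
    have eb : (yon S).map q₁ ≫ (yon S).map f = (yon S).map q₂ := by
      rw [← Functor.map_comp, ← hjb, reassoc_of% (pullback.condition (f := j) (g := d)), hdb, Category.comp_id]
    apply pullback.hom_ext
    · simp only [Category.assoc, G.j_fst, GroupoidSp.diag, pullback.lift_fst, Category.comp_id]
      rw [← ea, hh]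
      simp
    · simp only [Category.assoc, G.j_snd, GroupoidSp.diag, pullback.lift_snd, Category.comp_id]
      rw [← eb, hf]
      simp
  obtain ⟨ψ, hψ₁, hψ₂⟩ : ∃ ψ : (yon S).obj (pullback j d) ⟶ G.stabilizer,
      ψ ≫ G.stabilizerι = (yon S).map q₁ ≫ a ∧ ψ ≫ G.stabilizerToU = (yon S).map q₂ ≫ eU.inv :=
    ⟨pullback.lift _ _ hcond2, pullback.lift_fst _ _ _, pullback.lift_snd _ _ _⟩
  have sqy := (IsPullback.of_hasPullback j d).map (yon S)
  have hψ : IsPullback ((yon S).map q₁) ψ a G.stabilizerι := by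
    refine IsPullback.mk' hψ₁.symm (fun T φ φ' e₁ e₂ => sqy.hom_ext e₁ ?_) (fun T x y hxy => ?_)
    · have := congrArg (· ≫ G.stabilizerToU ≫ eU.hom) e₂
      simpa only [Category.assoc, reassoc_of% hψ₂, eU.inv_hom_id, Category.comp_id] using this
    · have hc : x ≫ (yon S).map j = (y ≫ G.stabilizerToU ≫ eU.hom) ≫ (yon S).map d := by
        apply hZ.hom_ext
        · rw [Category.assoc, ← Functor.map_comp, hja, hh, Category.assoc, ← Functor.map_comp, hda, (yon S).map_id,
            Category.comp_id, reassoc_of% hxy, reassoc_of% (stabilizer_t G)]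
        · rw [Category.assoc, ← Functor.map_comp, hjb, hf, Category.assoc, ← Functor.map_comp, hdb, (yon S).map_id,
            Category.comp_id, reassoc_of% hxy, reassoc_of% (stabilizer_s G)]
      refine ⟨sqy.lift x _ hc, sqy.lift_fst _ _ _, ?_⟩
      apply stab_ext G
      rw [Category.assoc, hψ₁, sqy.lift_fst_assoc, hxy]
  have hψe : RepWith @Etale ψ := repWith_of_isPullback hψ ha
  refine le_antisymm ?_ ?_
  · have hclosure : closure ({ξ} : Set U₀.left) ⊆ Set.range q₁.left := fun z hz => by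
      obtain ⟨y, hy, -⟩ := Scheme.exists_preimage_of_isPullback sqL z (IsLocalRing.closedPoint k) (by
        rw [← hd0, hje]
        exact ((specializes_iff_mem_closure.2 hz).map j.left.continuous).mem_closed hclosed rfl)
      exact ⟨y, hy⟩
    rw [← localDim_eq_dim G eU hR hs ha ξ, ← LocDimBC.dim_component f' ξ hξmax]
    refine le_trans ?_ (le_iSup_of_le (pullback j d) (le_iSup₂_of_le ψ hψe le_rfl))
    choose φ hφ using fun z : ↥(closure ({ξ} : Set U₀.left)) => hclosure z.2
    have hi : Topology.IsInducing (q₁.left ∘ φ) := by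
      rw [show (q₁.left : _ → U₀.left) ∘ φ = Subtype.val from funext hφ]
      exact Topology.IsInducing.subtypeVal
    exact ((Topology.IsInducing.of_comp_iff q₁.left.isEmbedding.isInducing).1 hi).topologicalKrullDim_le
  · refine iSup_le fun V => iSup_le fun b => iSup_le fun hb => ?_
    rw [DimFormulaLib.topologicalKrullDim_eq_iSup_localDim]
    refine iSup_le fun v => ?_
    obtain ⟨w, hw⟩ := surjective_ofPt (repWith_of_isPullback hψ has) (Points.ofPt b v)
    obtain ⟨P, t', s', r, ht', hs', -, e₁, e₂⟩ := exists_common_point hb hψe hw.symm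
    haveI := ht'
    haveI := hs'
    rw [← e₁, localDim_eq_of_etale t'.left, ← localDim_eq_of_etale s'.left]
    refine le_trans (localDim_le_topologicalKrullDim _ _) ?_
    exact q₁.left.isEmbedding.isInducing.topologicalKrullDim_le.trans (le_iSup_of_le U₀ (le_iSup₂_of_le a ha le_rfl))

end Groth.Agent.DecSec
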