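import Groth.Agent.DecSec.NormalBranch
import Groth.Agent.DecSec.FieldFlat
import Mathlib.AlgebraicGeometry.AlgClosed.Basic

/-! Groupoids in algebraic spaces over a field are geometrically unibranch: directed generisations. -/

set_option autoImplicit false
set_option backward.isDefEq.respectTransparency false
set_option backward.isDefEq.respectTransparency.types false

universe u

open CategoryTheory CategoryTheory.Limits AlgebraicGeometry Opposite

namespace Groth.Agent.DecSec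

open _root_.AlgSp Groth.Agent.ASp
open Groth.Agent.GrpdIrred (GenDir)

variable {S : Scheme.{u}}

/-- Points with values in an algebraically closed field lift along surjective etale maps from schemes. -/
theorem exists_lift_isAlgClosed {F : Sp S} {U : Over S} {a : (yon S).obj U ⟶ F} (hae : RepWith @Etale a)
    {Ω : Type u} [Field Ω] [IsAlgClosed Ω] {str : Spec (CommRingCat.of Ω) ⟶ S}
    (p : (yon S).obj (Over.mk str) ⟶ F) {u : ↥U.left}
    (hu : Points.ofPt a u = Points.ofPt p (IsLocalRing.closedPoint Ω)) :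
    ∃ l : Over.mk str ⟶ U, (yon S).map l ≫ a = p ∧ l.left (IsLocalRing.closedPoint Ω) = u := by
  obtain ⟨W, w1, w2, hW⟩ := exists_isPullback_yon hae.1 p
  have he : Etale w2.left := hae.2 p _ _ hW
  obtain ⟨q, hq1, -⟩ := points_exists_of_isPullback hW (Points.schemeHomeo U u) (Points.schemeHomeo (Over.mk str) (IsLocalRing.closedPoint Ω))
    (by rw [Points.ofPt_eq_map_ofScheme, Points.ofPt_eq_map_ofScheme] at hu; exact hu)
  obtain ⟨y, rfl⟩ := (Points.schemeHomeo W).surjective q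
  rw [Points.map_yon_map_apply] at hq1
  have hy : w1.left y = u := (Points.schemeHomeo U).injective hq1
  let h : W.left ⟶ Spec (CommRingCat.of Ω) := w2.left
  haveI : Etale h := he
  haveI : JacobsonSpace ↥(Spec (CommRingCat.of Ω)) := inferInstance
  haveI := Groth.Agent.Unibranch.locallyQuasiFinite_of_etale h
  haveI : DiscreteTopology ↥W.left := isDiscrete_univ_iff.1
    ((h.isDiscrete_preimage_singleton (IsLocalRing.closedPoint Ω)).mono
      fun x _ => Subsingleton.elim (α := PrimeSpectrum Ω) _ _)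
  let s := (pointEquivClosedPoint h).symm ⟨y, isClosed_discrete _⟩
  have hs : s.1 (IsLocalRing.closedPoint Ω) = y := by
    have := congrArg Subtype.val ((pointEquivClosedPoint h).apply_symm_apply ⟨y, isClosed_discrete _⟩)
    exact this
  let l₀ : Over.mk str ⟶ W := Over.homMk s.1 (by
    change s.1 ≫ W.hom = str
    rw [← Over.w w2]
    exact (Category.assoc _ _ _).symm.trans ((congrArg (· ≫ str) s.2).trans (Category.id_comp str)))
  refine ⟨l₀ ≫ w1, ?_, ?_⟩
  · rw [Functor.map_comp, Category.assoc, hW.w, ← Category.assoc, ← Functor.map_comp,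
      show l₀ ≫ w2 = 𝟙 _ from Over.OverMorphism.ext s.2, (yon S).map_id, Category.id_comp]
  · change w1.left (s.1 (IsLocalRing.closedPoint Ω)) = u
    rw [hs, hy]

/-- A unital multiplication of an algebraic space over an algebraically closed field. -/
theorem genDir_chart_of_unital {Ω : Type u} [Field Ω] [IsAlgClosed Ω] {str : Spec (CommRingCat.of Ω) ⟶ S}
    {X : Sp S} (σ τ : X ⟶ (yon S).obj (Over.mk str)) (e : (yon S).obj (Over.mk str) ⟶ X)
    (hσ : e ≫ σ = 𝟙 _) (hτ : e ≫ τ = 𝟙 _) (μ : pullback σ τ ⟶ X)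
    (h1 : pullback.lift (𝟙 X) (σ ≫ e) (by rw [Category.assoc, hτ, Category.comp_id, Category.id_comp]) ≫ μ = 𝟙 X)
    (h2 : pullback.lift (τ ≫ e) (𝟙 X) (by rw [Category.assoc, hσ, Category.comp_id, Category.id_comp]) ≫ μ = 𝟙 X)
    {V : Over S} {a : (yon S).obj V ⟶ X} (hae : RepWith @Etale a) (v : Over.mk str ⟶ V)
    (hv : (yon S).map v ≫ a = e) : GenDir (v.left (IsLocalRing.closedPoint Ω)) := by
  intro ξ₁ ξ₂ hξ₁ hξ₂
  obtain ⟨σV, hσV⟩ := (yon S).map_surjective (a ≫ σ)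
  obtain ⟨τV, hτV⟩ := (yon S).map_surjective (a ≫ τ)
  have hvσ : v ≫ σV = 𝟙 _ := (yon S).map_injective (by
    rw [Functor.map_comp, hσV, ← Category.assoc, hv, hσ, (yon S).map_id])
  have hvτ : v ≫ τV = 𝟙 _ := (yon S).map_injective (by
    rw [Functor.map_comp, hτV, ← Category.assoc, hv, hτ, (yon S).map_id])
  obtain ⟨C₁, _, _, _, ρ₁, ν₁, η₁, hν₁, hη₁, hg₁⟩ :=
    exists_normal_branch σV.left v.left (congrArg CommaMorphism.left hvσ) hξ₁
  obtain ⟨C₂, _, _, _, ρ₂, ν₂, η₂, hν₂, hη₂, hg₂⟩ :=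
    exists_normal_branch τV.left v.left (congrArg CommaMorphism.left hvτ) hξ₂
  let N₁ : Over S := Over.mk (ρ₁ ≫ V.hom)
  let N₂ : Over S := Over.mk (ρ₂ ≫ V.hom)
  let R₁ : N₁ ⟶ V := Over.homMk ρ₁ rfl
  let R₂ : N₂ ⟶ V := Over.homMk ρ₂ rfl
  let ν₁' : Over.mk str ⟶ N₁ := Over.homMk ν₁ (by
    change ν₁ ≫ ρ₁ ≫ V.hom = str
    rw [← Category.assoc, hν₁]; exact Over.w v)
  let ν₂' : Over.mk str ⟶ N₂ := Over.homMk ν₂ (by
    change ν₂ ≫ ρ₂ ≫ V.hom = str
    rw [← Category.assoc, hν₂]; exact Over.w v)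
  have hR₁ : ν₁' ≫ R₁ = v := Over.OverMorphism.ext hν₁
  have hR₂ : ν₂' ≫ R₂ = v := Over.OverMorphism.ext hν₂
  let n₁ : N₁ ⟶ Over.mk str := R₁ ≫ σV
  let n₂ : N₂ ⟶ Over.mk str := R₂ ≫ τV
  have hν₁n : ν₁' ≫ n₁ = 𝟙 _ := by simp only [n₁, reassoc_of% hR₁, hvσ]
  have hν₂n : ν₂' ≫ n₂ = 𝟙 _ := by simp only [n₂, reassoc_of% hR₂, hvτ]
  let P : Over S := Over.mk (pullback.fst n₁.left n₂.left ≫ N₁.hom)
  let p₁ : P ⟶ N₁ := Over.homMk (pullback.fst n₁.left n₂.left) rfl
  let p₂ : P ⟶ N₂ := Over.homMk (pullback.snd n₁.left n₂.left) (by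
    change pullback.snd n₁.left n₂.left ≫ N₂.hom = pullback.fst n₁.left n₂.left ≫ N₁.hom
    rw [← Over.w n₁, ← Over.w n₂, pullback.condition_assoc])
  have hp : p₁ ≫ n₁ = p₂ ≫ n₂ := Over.OverMorphism.ext pullback.condition
  have liftP : ∀ {T : Over S} (x : T ⟶ N₁) (y : T ⟶ N₂), x ≫ n₁ = y ≫ n₂ →
      ∃ l : T ⟶ P, l ≫ p₁ = x ∧ l ≫ p₂ = y := fun {T} x y hxy => by
    refine ⟨Over.homMk (pullback.lift x.left y.left (congrArg CommaMorphism.left hxy)) ?_,
      Over.OverMorphism.ext (pullback.lift_fst _ _ _), Over.OverMorphism.ext (pullback.lift_snd _ _ _)⟩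
    change _ ≫ pullback.fst n₁.left n₂.left ≫ N₁.hom = T.hom
    rw [pullback.lift_fst_assoc]; exact Over.w x
  let j : (yon S).obj P ⟶ pullback σ τ := pullback.lift ((yon S).map (p₁ ≫ R₁) ≫ a) ((yon S).map (p₂ ≫ R₂) ≫ a) (by
    rw [Category.assoc, Category.assoc, ← hσV, ← hτV, ← Functor.map_comp, ← Functor.map_comp, Category.assoc,
      Category.assoc]
    exact congrArg _ hp)
  obtain ⟨W, q₁, q₂, hW⟩ := exists_isPullback_yon hae.1 (j ≫ μ)
  haveI : Etale q₂.left := hae.2 (j ≫ μ) _ _ hW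
  obtain ⟨l₀, hl₀a, hl₀b⟩ := liftP ν₁' ν₂' (hν₁n.trans hν₂n.symm)
  obtain ⟨l₁, hl₁a, hl₁b⟩ := liftP (𝟙 N₁) (n₁ ≫ ν₂') (by rw [Category.id_comp, Category.assoc, hν₂n, Category.comp_id])
  obtain ⟨l₂, hl₂a, hl₂b⟩ := liftP (n₂ ≫ ν₁') (𝟙 N₂) (by rw [Category.id_comp, Category.assoc, hν₁n, Category.comp_id])
  have m₁ : (yon S).map R₁ ≫ a = (yon S).map l₁ ≫ j ≫ μ := by
    have : (yon S).map l₁ ≫ j =
        ((yon S).map R₁ ≫ a) ≫ pullback.lift (𝟙 X) (σ ≫ e) (by rw [Category.assoc, hτ, Category.comp_id, Category.id_comp]) := by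
      apply pullback.hom_ext
      · simp only [j, Category.assoc, pullback.lift_fst, Category.comp_id]
        rw [← Functor.map_comp_assoc, ← Category.assoc l₁, hl₁a, Category.id_comp]
      · simp only [j, Category.assoc, pullback.lift_snd]
        rw [← Functor.map_comp_assoc, ← Category.assoc l₁, hl₁b, Category.assoc n₁, hR₂, ← hv]
        simp only [n₁, Functor.map_comp, hσV, Category.assoc]
    rw [← Category.assoc, this, Category.assoc, h1, Category.comp_id]
  have m₂ : (yon S).map R₂ ≫ a = (yon S).map l₂ ≫ j ≫ μ := by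
    have : (yon S).map l₂ ≫ j =
        ((yon S).map R₂ ≫ a) ≫ pullback.lift (τ ≫ e) (𝟙 X) (by rw [Category.assoc, hσ, Category.comp_id, Category.id_comp]) := by
      apply pullback.hom_ext
      · simp only [j, Category.assoc, pullback.lift_fst]
        rw [← Functor.map_comp_assoc, ← Category.assoc l₂, hl₂a, Category.assoc n₂, hR₁, ← hv]
        simp only [n₂, Functor.map_comp, hτV, Category.assoc]
      · simp only [j, Category.assoc, pullback.lift_snd, Category.comp_id]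
        rw [← Functor.map_comp_assoc, ← Category.assoc l₂, hl₂b, Category.id_comp]
    rw [← Category.assoc, this, Category.assoc, h2, Category.comp_id]
  obtain ⟨s₁, hs₁⟩ := (yon S).map_surjective (hW.lift ((yon S).map R₁) ((yon S).map l₁) m₁)
  obtain ⟨s₂, hs₂⟩ := (yon S).map_surjective (hW.lift ((yon S).map R₂) ((yon S).map l₂) m₂)
  have hs₁a : s₁ ≫ q₁ = R₁ := (yon S).map_injective (by rw [Functor.map_comp, hs₁, hW.lift_fst])
  have hs₁b : s₁ ≫ q₂ = l₁ := (yon S).map_injective (by rw [Functor.map_comp, hs₁, hW.lift_snd])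
  have hs₂a : s₂ ≫ q₁ = R₂ := (yon S).map_injective (by rw [Functor.map_comp, hs₂, hW.lift_fst])
  have hs₂b : s₂ ≫ q₂ = l₂ := (yon S).map_injective (by rw [Functor.map_comp, hs₂, hW.lift_snd])
  have hw : ν₁' ≫ s₁ = ν₂' ≫ s₂ := (yon S).map_injective (hW.hom_ext
    (by rw [← Functor.map_comp, ← Functor.map_comp, Category.assoc, Category.assoc, hs₁a, hs₂a, hR₁, hR₂])
    (by
      rw [← Functor.map_comp, ← Functor.map_comp, Category.assoc, Category.assoc, hs₁b, hs₂b]
      congr 1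
      apply Over.OverMorphism.ext
      apply pullback.hom_ext
      · have e₁ := congrArg CommaMorphism.left
          (show (ν₁' ≫ l₁) ≫ p₁ = (ν₂' ≫ l₂) ≫ p₁ by
            rw [Category.assoc, Category.assoc, hl₁a, hl₂a, Category.comp_id, reassoc_of% hν₂n])
        exact e₁
      · have e₂ := congrArg CommaMorphism.left
          (show (ν₁' ≫ l₁) ≫ p₂ = (ν₂' ≫ l₂) ≫ p₂ by
            rw [Category.assoc, Category.assoc, hl₁b, hl₂b, Category.comp_id, reassoc_of% hν₁n])
        exact e₂))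
  let w₀ := (ν₁' ≫ s₁).left (IsLocalRing.closedPoint Ω)
  have hw₁ : s₁.left η₁ ⤳ w₀ := (hg₁ (ν₁ (IsLocalRing.closedPoint Ω))).map s₁.left.continuous
  have hw₂ : s₂.left η₂ ⤳ w₀ := by
    have : w₀ = (ν₂' ≫ s₂).left (IsLocalRing.closedPoint Ω) := by rw [← hw]
    rw [this]
    exact (hg₂ (ν₂ (IsLocalRing.closedPoint Ω))).map s₂.left.continuous
  obtain ⟨ω, hω₁, hω₂⟩ := normal_stalk_product n₁.left n₂.left q₂.left w₀ hw₁ hw₂
  refine ⟨q₁.left ω, ?_, ?_⟩
  · have := hω₁.map q₁.left.continuous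
    rwa [← Scheme.Hom.comp_apply, ← Over.comp_left, hs₁a, show R₁.left η₁ = ξ₁ from hη₁] at this
  · have := hω₂.map q₁.left.continuous
    rwa [← Scheme.Hom.comp_apply, ← Over.comp_left, hs₂a, show R₂.left η₂ = ξ₂ from hη₂] at this

variable {B : Sp S} (G : GroupoidSp B)

/-- Right translation by an arrow identifies two source fibres. -/
theorem exists_shear {T : Sp S} (β : T ⟶ G.R) :
    ∃ m : pullback G.s (β ≫ G.t) ⟶ pullback G.s (β ≫ G.s), IsIso m ∧
      m ≫ pullback.fst _ _ = Gpd.mul G (pullback.fst G.s (β ≫ G.t)) (pullback.snd G.s (β ≫ G.t) ≫ β)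
        (by rw [Category.assoc, pullback.condition]) ∧
      m ≫ pullback.snd _ _ = pullback.snd G.s (β ≫ G.t) := by
  let ft := pullback.fst G.s (β ≫ G.t)
  let zt := pullback.snd G.s (β ≫ G.t)
  let fs := pullback.fst G.s (β ≫ G.s)
  let zs := pullback.snd G.s (β ≫ G.s)
  have hm : ft ≫ G.s = (zt ≫ β) ≫ G.t := by simp only [ft, zt, pullback.condition, Category.assoc]
  have hn : fs ≫ G.s = ((zs ≫ β) ≫ G.i) ≫ G.t := by
    simp only [fs, zs, pullback.condition, Category.assoc, G.i_t]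
  obtain ⟨m, hm1, hm2⟩ : ∃ m : pullback G.s (β ≫ G.t) ⟶ pullback G.s (β ≫ G.s),
      m ≫ fs = Gpd.mul G ft (zt ≫ β) hm ∧ m ≫ zs = zt :=
    ⟨pullback.lift _ zt (by rw [Gpd.mul_s, Category.assoc]), pullback.lift_fst _ _ _, pullback.lift_snd _ _ _⟩
  obtain ⟨n, hn1, hn2⟩ : ∃ n : pullback G.s (β ≫ G.s) ⟶ pullback G.s (β ≫ G.t),
      n ≫ ft = Gpd.mul G fs ((zs ≫ β) ≫ G.i) hn ∧ n ≫ zt = zs :=
    ⟨pullback.lift _ zs (by rw [Gpd.mul_s, Gpd.inv_s, Category.assoc]), pullback.lift_fst _ _ _, pullback.lift_snd _ _ _⟩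
  refine ⟨m, ⟨⟨n, ?_, ?_⟩⟩, hm1, hm2⟩
  · apply pullback.hom_ext
    · rw [Category.assoc, hn1, Category.id_comp, Gpd.comp_mul,
        Gpd.mul_congr hm1 (show _ = (zt ≫ β) ≫ G.i by simp only [← Category.assoc, hm2])]
      exact Gpd.mul_inv_cancel_right _ _ hm
    · rw [Category.assoc, hn2, hm2, Category.id_comp]
  · apply pullback.hom_ext
    · rw [Category.assoc, hm1, Category.id_comp, Gpd.comp_mul,
        Gpd.mul_congr hn1 (show _ = zs ≫ β by simp only [← Category.assoc, hn2])]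
      exact Gpd.inv_mul_cancel_right _ _ (by simp only [fs, zs, pullback.condition, Category.assoc])
    · rw [Category.assoc, hm2, hn2, Category.id_comp]

/-- Generisations of a point of an etale chart of the arrows of a groupoid over a field are directed. -/
theorem genDir_chart (hR : IsAlgSpace G.R) {k : Type u} [Field k] {σ₀ : Spec (CommRingCat.of k) ⟶ S}
    (eU : G.U ≅ (yon S).obj (Over.mk σ₀)) {U : Over S} {a : (yon S).obj U ⟶ G.R} (hae : RepWith @Etale a)
    (u : ↥U.left) : GenDir u := by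
  let Ω := AlgebraicClosure (U.left.residueField u)
  obtain ⟨str, uΩ, huΩ⟩ : ∃ (str : Spec (CommRingCat.of Ω) ⟶ S) (uΩ : Over.mk str ⟶ U),
      uΩ.left (IsLocalRing.closedPoint Ω) = u := by
    let ι₀ : Spec (CommRingCat.of Ω) ⟶ U.left :=
      Spec.map (CommRingCat.ofHom (algebraMap (U.left.residueField u) Ω)) ≫ U.left.fromSpecResidueField u
    refine ⟨ι₀ ≫ U.hom, Over.homMk ι₀ rfl, ?_⟩
    change ι₀ (IsLocalRing.closedPoint Ω) = u
    rw [Scheme.Hom.comp_apply]
    exact Scheme.fromSpecResidueField_apply _ _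
  let pt := (yon S).obj (Over.mk str)
  have hpt : IsAlgSpace pt := IsAlgSpace.yon_obj _
  have hU : IsAlgSpace G.U := (IsAlgSpace.yon_obj _).of_iso eU.symm
  obtain ⟨α, hα⟩ : ∃ α : pt ⟶ G.R, α = (yon S).map uΩ ≫ a := ⟨_, rfl⟩
  let φt := α ≫ G.t
  let φs := α ≫ G.s
  have hFt : IsAlgSpace (pullback G.s φt) := isAlgSpace_pullback hU.diag hR hpt _ _
  have hFs : IsAlgSpace (pullback G.s φs) := isAlgSpace_pullback hU.diag hR hpt _ _
  let P := pullback.fst G.s φt ≫ G.t
  let X := pullback P φt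
  have hX : IsAlgSpace X := isAlgSpace_pullback hU.diag hFt hpt _ _
  let σ : X ⟶ pt := pullback.fst P φt ≫ pullback.snd G.s φt
  let τ : X ⟶ pt := pullback.snd P φt
  obtain ⟨e₁, he₁a, he₁b⟩ : ∃ e₁ : pt ⟶ pullback G.s φt,
      e₁ ≫ pullback.fst _ _ = φt ≫ G.e ∧ e₁ ≫ pullback.snd _ _ = 𝟙 pt :=
    ⟨pullback.lift (φt ≫ G.e) (𝟙 _) (by rw [Category.assoc, G.e_s, Category.comp_id, Category.id_comp]),
      pullback.lift_fst _ _ _, pullback.lift_snd _ _ _⟩
  obtain ⟨e, hea, heb⟩ : ∃ e : pt ⟶ X, e ≫ pullback.fst P φt = e₁ ∧ e ≫ pullback.snd P φt = 𝟙 pt :=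
    ⟨pullback.lift e₁ (𝟙 _) (by rw [← Category.assoc, he₁a, Category.assoc, G.e_t, Category.comp_id, Category.id_comp]),
      pullback.lift_fst _ _ _, pullback.lift_snd _ _ _⟩
  let q : X ⟶ G.R := pullback.fst P φt ≫ pullback.fst G.s φt
  have hqs : q ≫ G.s = σ ≫ φt := by simp only [q, σ, Category.assoc, pullback.condition]
  have hqt : q ≫ G.t = τ ≫ φt := by
    have := pullback.condition (f := P) (g := φt)
    simpa only [q, τ, P, Category.assoc] using this
  have hσ : e ≫ σ = 𝟙 _ := by simp only [σ, reassoc_of% hea, he₁b]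
  have hτ : e ≫ τ = 𝟙 _ := heb
  have heq : e ≫ q = φt ≫ G.e := by simp only [q, reassoc_of% hea, he₁a]
  have hab : (pullback.fst σ τ ≫ q) ≫ G.s = (pullback.snd σ τ ≫ q) ≫ G.t := by
    rw [Category.assoc, hqs, Category.assoc (pullback.snd σ τ) q G.t, hqt, pullback.condition_assoc]
  have hms : Gpd.mul G (pullback.fst σ τ ≫ q) (pullback.snd σ τ ≫ q) hab ≫ G.s = (pullback.snd σ τ ≫ σ) ≫ φt := by
    rw [Gpd.mul_s, Category.assoc (pullback.snd σ τ) q G.s, hqs, Category.assoc (pullback.snd σ τ) σ φt]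
  obtain ⟨μ₁, hμ₁a, hμ₁b⟩ : ∃ μ₁ : pullback σ τ ⟶ pullback G.s φt,
      μ₁ ≫ pullback.fst _ _ = Gpd.mul G (pullback.fst σ τ ≫ q) (pullback.snd σ τ ≫ q) hab ∧
        μ₁ ≫ pullback.snd _ _ = pullback.snd σ τ ≫ σ :=
    ⟨pullback.lift _ _ hms, pullback.lift_fst _ _ _, pullback.lift_snd _ _ _⟩
  obtain ⟨μ, hμa, hμb⟩ : ∃ μ : pullback σ τ ⟶ X,
      μ ≫ pullback.fst P φt = μ₁ ∧ μ ≫ pullback.snd P φt = pullback.fst σ τ ≫ τ :=
    ⟨pullback.lift μ₁ (pullback.fst σ τ ≫ τ) (by
      rw [← Category.assoc, hμ₁a, Gpd.mul_t, Category.assoc, hqt, Category.assoc]),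
      pullback.lift_fst _ _ _, pullback.lift_snd _ _ _⟩
  have hμq : μ ≫ q = Gpd.mul G (pullback.fst σ τ ≫ q) (pullback.snd σ τ ≫ q) hab := by
    simp only [q, reassoc_of% hμa, hμ₁a]
  have hμσ : μ ≫ σ = pullback.snd σ τ ≫ σ := by simp only [σ, reassoc_of% hμa, hμ₁b]
  have hμτ : μ ≫ τ = pullback.fst σ τ ≫ τ := hμb
  have hext : ∀ {T : Sp S} (f g : T ⟶ X), f ≫ q = g ≫ q → f ≫ σ = g ≫ σ → f ≫ τ = g ≫ τ → f = g := by
    intro T f g h1 h2 h3
    apply pullback.hom_ext _ h3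
    apply pullback.hom_ext
    · simpa only [q, Category.assoc] using h1
    · simpa only [σ, Category.assoc] using h2
  have hμ1 : pullback.lift (𝟙 X) (σ ≫ e) (by rw [Category.assoc, hτ, Category.comp_id, Category.id_comp]) ≫ μ = 𝟙 X := by
    apply hext
    · rw [Category.assoc, hμq, Category.id_comp q, Gpd.comp_mul,
        Gpd.mul_congr (show _ = q by rw [pullback.lift_fst_assoc, Category.id_comp])
          (show _ = q ≫ G.s ≫ G.e by rw [pullback.lift_snd_assoc, Category.assoc, heq, reassoc_of% hqs])]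
      exact Gpd.mul_one' _ _ rfl _
    · rw [Category.assoc, hμσ, pullback.lift_snd_assoc, Category.assoc, hσ, Category.comp_id, Category.id_comp]
    · rw [Category.assoc, hμτ, pullback.lift_fst_assoc]
  have hμ2 : pullback.lift (τ ≫ e) (𝟙 X) (by rw [Category.assoc, hσ, Category.comp_id, Category.id_comp]) ≫ μ = 𝟙 X := by
    apply hext
    · rw [Category.assoc, hμq, Category.id_comp q, Gpd.comp_mul,
        Gpd.mul_congr (show _ = q ≫ G.t ≫ G.e by rw [pullback.lift_fst_assoc, Category.assoc, heq, reassoc_of% hqt])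
          (show _ = q by rw [pullback.lift_snd_assoc, Category.id_comp])]
      exact Gpd.one_mul' _ _ rfl _
    · rw [Category.assoc, hμσ, pullback.lift_snd_assoc]
    · rw [Category.assoc, hμτ, pullback.lift_fst_assoc, Category.assoc, hτ, Category.comp_id, Category.id_comp]
  obtain ⟨m, hmiso, hm, -⟩ := exists_shear G α
  let h : X ⟶ G.R := pullback.fst P φt ≫ m ≫ pullback.fst G.s φs
  have hflat : ∀ {Y : Sp S} (hY : IsAlgSpace Y) (f : Y ⟶ G.U), LocP @Flat f := fun hY f =>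
    (flat_univOpen_of_iso hY eU f).1
  have hhf : LocP @Flat h := by
    have f1 : LocP @Flat (pullback.fst P φt) :=
      locP_of_isPullback (IsPullback.of_hasPullback P φt) hpt hU hFt (hflat hpt φt)
    have f2 : LocP @Flat m := locP_of_repWith (repWith_of_isIso (P := @Flat) m)
    have f3 : LocP @Flat (pullback.fst G.s φs) :=
      locP_of_isPullback (IsPullback.of_hasPullback G.s φs) hpt hU hR (hflat hpt φs)
    exact locP_comp hFt f1 (locP_comp hFs f2 f3)
  have heh : e ≫ h = α := by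
    simp only [h, ← Category.assoc, hea]
    rw [Category.assoc, hm, Gpd.comp_mul, Gpd.mul_congr he₁a (show _ = α by
      rw [← Category.assoc, he₁b, Category.id_comp])]
    exact Gpd.one_mul' _ _ (by simp only [φt, Category.assoc]) _
  let Q := pullback a h
  have hQ : IsAlgSpace Q := isAlgSpace_pullback hR.diag (IsAlgSpace.yon_obj U) hX a h
  let w₀ : pt ⟶ Q := pullback.lift ((yon S).map uΩ) e (hα.symm.trans heh.symm)
  obtain ⟨V, b, hbe, hbs⟩ := hQ.atlas
  obtain ⟨v₀, hv₀⟩ := surjective_ofPt hbs (Points.ofPt w₀ (IsLocalRing.closedPoint Ω))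
  obtain ⟨v, hv, -⟩ := exists_lift_isAlgClosed hbe w₀ hv₀
  have hV : RepWith @Etale (b ≫ pullback.snd a h) :=
    repWith_comp hbe (repWith_of_isPullback (IsPullback.of_hasPullback a h) hae)
  have hg := genDir_chart_of_unital σ τ e hσ hτ μ hμ1 hμ2 hV v
    (by rw [← Category.assoc, hv, pullback.lift_snd])
  obtain ⟨r, hr⟩ := (yon S).map_surjective (b ≫ pullback.fst a h)
  haveI : Flat r.left := hhf _ a r hV hae (by rw [hr, Category.assoc, Category.assoc, pullback.condition])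
  have := hg.map r.left
  rwa [← Scheme.Hom.comp_apply, ← Over.comp_left, show v ≫ r = uΩ from (yon S).map_injective (by
    rw [Functor.map_comp, hr, ← Category.assoc, hv, pullback.lift_fst]), huΩ] at this

end Groth.Agent.DecSec
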