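import Groth.Prelude.Def_AlgSpGpd
import Mathlib.CategoryTheory.Monoidal.Cartesian.Grp

/-! A group object over a sheaf as a groupoid. -/

set_option autoImplicit false
set_option backward.isDefEq.respectTransparency false
set_option backward.isDefEq.respectTransparency.types false

universe u

open CategoryTheory CategoryTheory.Limits AlgebraicGeometry MonoidalCategory MonObj CartesianMonoidalCategory

namespace Groth.Agent.DecSec

open _root_.AlgSp

variable {S : Scheme.{u}} {B : Sp S}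

theorem grp_lift_mul (G : Over B) [GrpObj G] {T : Sp S} (α β : T ⟶ G.left) (v : T ⟶ B) (hα : α ≫ G.hom = v)
    (hβ : β ≫ G.hom = v) (h : α ≫ G.hom = β ≫ G.hom) :
    pullback.lift α β h ≫ (μ[G]).left =
      ((Over.homMk α hα : Over.mk v ⟶ G) * (Over.homMk β hβ : Over.mk v ⟶ G)).left := by
  subst hα
  rw [Hom.mul_def]
  rfl

theorem grp_one_left (G : Over B) [GrpObj G] {T : Sp S} (v : T ⟶ B) :
    (1 : Over.mk v ⟶ G).left = v ≫ (η[G]).left := by
  rw [Hom.one_def]
  rfl

theorem grp_inv_left (G : Over B) [GrpObj G] {T : Sp S} (v : T ⟶ B) (a : Over.mk v ⟶ G) :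
    (a⁻¹).left = a.left ≫ (ι[G]).left := by
  rw [Hom.inv_def]
  rfl

/-- The groupoid with one object attached to a group object. -/
noncomputable def groupoidOfGrp (G : Over B) [GrpObj G] : GroupoidSp B where
  U := B
  R := G.left
  pU := 𝟙 B
  pR := G.hom
  s := G.hom
  t := G.hom
  e := (η[G]).left
  i := (ι[G]).left
  c := (μ[G]).left
  s_over := Category.comp_id _
  t_over := Category.comp_id _
  comp_s α β h := by
    rw [grp_lift_mul G α β _ h rfl h, Over.w]; rfl
  comp_t α β h := by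
    rw [grp_lift_mul G α β _ rfl h.symm h, Over.w]; rfl
  assoc α β γ h₁ h₂ := by
    have e₁ := grp_lift_mul G α β (γ ≫ G.hom) (h₁.trans h₂) h₂ h₁
    have e₂ := grp_lift_mul G β γ (γ ≫ G.hom) h₂ rfl h₂
    refine (grp_lift_mul G _ γ (γ ≫ G.hom) ((congrArg (· ≫ G.hom) e₁).trans (Over.w _)) rfl _).trans
      (Eq.trans ?_ (grp_lift_mul G α _ (γ ≫ G.hom) (h₁.trans h₂) ((congrArg (· ≫ G.hom) e₂).trans (Over.w _)) _).symm)
    let a : Over.mk (γ ≫ G.hom) ⟶ G := Over.homMk α (h₁.trans h₂)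
    let b : Over.mk (γ ≫ G.hom) ⟶ G := Over.homMk β h₂
    let c : Over.mk (γ ≫ G.hom) ⟶ G := Over.homMk γ rfl
    have k₁ : ∀ (x : Over.mk (γ ≫ G.hom) ⟶ G), x.left = (a * b).left → (x * c).left = (a * b * c).left :=
      fun x hx => by rw [Over.OverMorphism.ext hx]
    have k₂ : ∀ (x : Over.mk (γ ≫ G.hom) ⟶ G), x.left = (b * c).left → (a * x).left = (a * (b * c)).left :=
      fun x hx => by rw [Over.OverMorphism.ext hx]
    exact (k₁ _ e₁).trans ((congrArg (fun z : Over.mk (γ ≫ G.hom) ⟶ G => z.left) (_root_.mul_assoc a b c)).trans (k₂ _ e₂).symm)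
  e_s := Over.w η[G]
  e_t := Over.w η[G]
  comp_e α := by
    rw [grp_lift_mul G α (α ≫ G.hom ≫ (η[G]).left) (α ≫ G.hom) rfl
      (by rw [Category.assoc, Category.assoc, Over.w η[G]]; exact congrArg (α ≫ ·) (Category.comp_id _)),
      show ∀ hp, (Over.homMk (α ≫ G.hom ≫ (η[G]).left) hp : Over.mk (α ≫ G.hom) ⟶ G) = 1 from
        fun hp => Over.OverMorphism.ext ((Category.assoc _ _ _).symm.trans (grp_one_left G _).symm), _root_.mul_one]
    rfl
  e_comp α := by
    rw [grp_lift_mul G (α ≫ G.hom ≫ (η[G]).left) α (α ≫ G.hom)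
      (by rw [Category.assoc, Category.assoc, Over.w η[G]]; exact congrArg (α ≫ ·) (Category.comp_id _)) rfl,
      show ∀ hp, (Over.homMk (α ≫ G.hom ≫ (η[G]).left) hp : Over.mk (α ≫ G.hom) ⟶ G) = 1 from
        fun hp => Over.OverMorphism.ext ((Category.assoc _ _ _).symm.trans (grp_one_left G _).symm), _root_.one_mul]
    rfl
  i_s := Over.w ι[G]
  i_t := Over.w ι[G]
  comp_i α := by
    have hw : (α ≫ (ι[G]).left) ≫ G.hom = α ≫ G.hom := by rw [Category.assoc, Over.w ι[G]]
    rw [grp_lift_mul G α (α ≫ (ι[G]).left) (α ≫ G.hom) rfl hw hw.symm,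
      show ∀ hp, (Over.homMk (α ≫ (ι[G]).left) hp : Over.mk (α ≫ G.hom) ⟶ G) =
          (Over.homMk α rfl : Over.mk (α ≫ G.hom) ⟶ G)⁻¹ from
        fun hp => Over.OverMorphism.ext (grp_inv_left G _ (Over.homMk α rfl)).symm, mul_inv_cancel, grp_one_left, Category.assoc]
  i_comp α := by
    have hw : (α ≫ (ι[G]).left) ≫ G.hom = α ≫ G.hom := by rw [Category.assoc, Over.w ι[G]]
    rw [grp_lift_mul G (α ≫ (ι[G]).left) α (α ≫ G.hom) hw rfl hw,
      show ∀ hp, (Over.homMk (α ≫ (ι[G]).left) hp : Over.mk (α ≫ G.hom) ⟶ G) =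
          (Over.homMk α rfl : Over.mk (α ≫ G.hom) ⟶ G)⁻¹ from
        fun hp => Over.OverMorphism.ext (grp_inv_left G _ (Over.homMk α rfl)).symm, inv_mul_cancel, grp_one_left, Category.assoc]

end Groth.Agent.DecSec
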