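import Groth.Agent.DecSec.GrpGpd
import Groth.Agent.DecSec.GpdUnibranch
import Groth.Agent.ASp.UnramLocus
import Groth.Agent.ASp.LqfLocus
import Groth.Agent.ASp.Sub
import Groth.Agent.ASp.FppfGlue

/-! Loci on a group space are read on the unit section. -/

set_option autoImplicit false
set_option backward.isDefEq.respectTransparency false
set_option backward.isDefEq.respectTransparency.types false

universe u

open CategoryTheory CategoryTheory.Limits AlgebraicGeometry Opposite MonObj

namespace Groth.Agent.DecSec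

open _root_.AlgSp Groth.Agent.ASp Groth.Agent.Inf

variable {S : Scheme.{u}} {B : Sp S}
  (P : ∀ ⦃X Y : Sp S⦄, (X ⟶ Y) → Points X → Prop)

/-- A property of points stable under base change in both directions. -/
def IsBCPt : Prop :=
  ∀ {X Y X' Y' : Space S} {f : X ⟶ Y}, LocP @LocallyOfFiniteType f.hom → ∀ {g : Y' ⟶ Y} {p : X' ⟶ X}
    {f' : X' ⟶ Y'}, IsPullback p.hom f'.hom f.hom g.hom → ∀ x' : Points X'.obj,
      (P f'.hom x' ↔ P f.hom (Points.map p.hom x'))

theorem grp_at_iff_at_unit {P} (hP : IsBCPt (S := S) P) (hB : IsAlgSpace B) (G : Over B) [GrpObj G]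
    (hG : IsAlgSpace G.left) (hlft : LocP @LocallyOfFiniteType G.hom) (x : Points G.left) :
    P G.hom x ↔ P G.hom (Points.map (η[G]).left (Points.map G.hom x)) := by
  obtain ⟨T, β, τ, rfl⟩ := exists_ofPt_eq x
  let Γ := groupoidOfGrp G
  obtain ⟨m, hm, hm1, hm2⟩ := exists_shear Γ (T := (yon S).obj T) β
  let fst : pullback G.hom (β ≫ G.hom) ⟶ G.left := pullback.fst _ _
  let snd : pullback G.hom (β ≫ G.hom) ⟶ (yon S).obj T := pullback.snd _ _
  change pullback G.hom (β ≫ G.hom) ⟶ pullback G.hom (β ≫ G.hom) at m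
  change m ≫ fst = Gpd.mul Γ fst (snd ≫ β) _ at hm1
  change m ≫ snd = snd at hm2
  have hQ : IsAlgSpace (pullback G.hom (β ≫ G.hom)) :=
    isAlgSpace_pullback hB.diag hG (IsAlgSpace.yon_obj T) _ _
  let Qs : Space S := ⟨_, hQ⟩
  let Ts : Space S := ⟨_, IsAlgSpace.yon_obj T⟩
  let Gs : Space S := ⟨G.left, hG⟩
  let Bs : Space S := ⟨B, hB⟩
  have hsq : IsPullback fst snd G.hom (β ≫ G.hom) := IsPullback.of_hasPullback _ _
  have hlft' : LocP @LocallyOfFiniteType snd := locP_of_isPullback hsq.flip hG hB (IsAlgSpace.yon_obj T) hlft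
  have bc : ∀ q, P snd q ↔ P G.hom (Points.map fst q) := fun q =>
    hP (X := Gs) (Y := Bs) (X' := Qs) (Y' := Ts) (f := ObjectProperty.homMk G.hom)
      hlft (g := ObjectProperty.homMk (β ≫ G.hom)) (p := ObjectProperty.homMk fst) (f' := ObjectProperty.homMk snd)
      hsq q
  haveI : IsIso m := hm
  have bm : ∀ q, P snd q ↔ P snd (Points.map m q) := fun q =>
    hP (X := Qs) (Y := Ts) (X' := Qs) (Y' := Ts) (f := ObjectProperty.homMk snd)
      hlft' (g := ObjectProperty.homMk (𝟙 _)) (p := ObjectProperty.homMk m) (f' := ObjectProperty.homMk snd)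
      (show IsPullback m snd snd (𝟙 _) from IsPullback.of_horiz_isIso ⟨by rw [hm2, Category.comp_id]⟩) q
  obtain ⟨σx, hx1, hx2⟩ : ∃ σ, σ ≫ fst = β ∧ σ ≫ snd = 𝟙 _ :=
    ⟨pullback.lift β (𝟙 _) (by simp), pullback.lift_fst _ _ _, pullback.lift_snd _ _ _⟩
  obtain ⟨σe, he1, he2⟩ : ∃ σ, σ ≫ fst = (β ≫ G.hom) ≫ (η[G]).left ∧ σ ≫ snd = 𝟙 _ :=
    ⟨pullback.lift ((β ≫ G.hom) ≫ (η[G]).left) (𝟙 _) (by
        rw [Category.assoc]
        exact (congrArg ((β ≫ G.hom) ≫ ·) Γ.e_s).trans ((Category.comp_id _).trans (Category.id_comp _).symm)),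
      pullback.lift_fst _ _ _, pullback.lift_snd _ _ _⟩
  have hσ : σe ≫ m = σx := by
    apply pullback.hom_ext
    · change (σe ≫ m) ≫ fst = σx ≫ fst
      rw [Category.assoc, hm1, Gpd.comp_mul,
        Gpd.mul_congr he1 (show σe ≫ snd ≫ β = β by rw [reassoc_of% he2]), hx1]
      exact Gpd.one_mul' _ _ (Category.assoc _ _ _) _
    · change (σe ≫ m) ≫ snd = σx ≫ snd
      rw [Category.assoc, hm2, he2, hx2]
  calc P G.hom (Points.ofPt β τ) ↔ P snd (Points.ofPt σx τ) := by rw [bc, Points.map_ofPt, hx1]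
    _ ↔ P snd (Points.ofPt σe τ) := by rw [bm (Points.ofPt σe τ), Points.map_ofPt, hσ]
    _ ↔ _ := by rw [bc, Points.map_ofPt, he1, Points.map_ofPt, Points.map_ofPt]

theorem forall_iff_forall_unit {P} (hP : IsBCPt (S := S) P) (hB : IsAlgSpace B) (G : Over B) [GrpObj G]
    (hG : IsAlgSpace G.left) (hlft : LocP @LocallyOfFiniteType G.hom) :
    (∀ x, P G.hom x) ↔ ∀ b : Points B, P G.hom (Points.map (η[G]).left b) :=
  ⟨fun h b => h _, fun h x => (grp_at_iff_at_unit hP hB G hG hlft x).2 (h _)⟩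

/-- The largest open of the base over which all points of the group have the property. -/
theorem exists_largest_open {P} (hP : IsBCPt (S := S) P) (Q : MorphismProperty Scheme.{u})
    (hQ : ∀ {X Y : Space S} (f : X ⟶ Y), LocP @LocallyOfFiniteType f.hom → (LocP Q f.hom ↔ ∀ x, P f.hom x))
    (hB : IsAlgSpace B) (G : Over B) [GrpObj G]
    (hG : IsAlgSpace G.left) (hlft : LocP @LocallyOfFiniteType G.hom) (ho : IsOpen {x | P G.hom x}) :
    ∃ (W : Sp S) (w : W ⟶ B), RepWith @IsOpenImmersion w ∧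
      ∀ {V : Sp S}, IsAlgSpace V → ∀ (h : V ⟶ B) {Z : Sp S} {a : Z ⟶ G.left} {f' : Z ⟶ V},
        IsPullback a f' G.hom h → (LocP Q f' ↔ ∃ k : V ⟶ W, k ≫ w = h) := by
  let Ω : Set (Points B) := Points.map (η[G]).left ⁻¹' {x | P G.hom x}
  have hΩ : IsOpen Ω := ho.preimage (Points.continuous_map _)
  refine ⟨subSp B Ω, subι B Ω, repWith_subι B Ω hΩ, fun {V} hV h {Z} a f' sq => ?_⟩
  have hZ : IsAlgSpace Z := by
    have := isAlgSpace_pullback hB.diag hG hV G.hom h
    exact this.of_iso sq.isoPullback.symm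
  let Zs : Space S := ⟨Z, hZ⟩
  let Vs : Space S := ⟨V, hV⟩
  let Gs : Space S := ⟨G.left, hG⟩
  let Bs : Space S := ⟨B, hB⟩
  refine (hQ (X := Zs) (Y := Vs) (ObjectProperty.homMk f') (locP_of_isPullback sq.flip hG hB hV hlft)).trans ?_
  have hz : ∀ z, P f' z ↔ Points.map h (Points.map f' z) ∈ Ω := fun z => by
    refine (hP (X := Gs) (Y := Bs) (X' := Zs) (Y' := Vs) (f := ObjectProperty.homMk G.hom) hlft
      (g := ObjectProperty.homMk h) (p := ObjectProperty.homMk a) (f' := ObjectProperty.homMk f') sq z).trans ?_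
    change P G.hom (Points.map a z) ↔ _
    rw [grp_at_iff_at_unit hP hB G hG hlft, show Points.map G.hom (Points.map a z) = Points.map h (Points.map f' z) by
      rw [← Points.map_comp, sq.w, Points.map_comp]]
    rfl
  constructor
  · intro hall
    haveI : Mono (pullback.snd (subι B Ω) h) := inferInstance
    haveI := isIso_of_mono_of_locallySurjective (pullback.snd (subι B Ω) h)
      (Presheaf.isLocallySurjective_of_surjective _ _ fun T s => by
        obtain ⟨p, rfl⟩ := (J S).uliftYonedaEquiv.{u+1}.surjective s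
        obtain ⟨l, hl⟩ := exists_lift_subι B Ω (p ≫ h) (fun t => by
          rw [← Points.map_ofPt]
          obtain ⟨z, -, hz'⟩ := points_exists_of_isPullback sq
            (Points.map (η[G]).left (Points.map h (Points.ofPt p t))) (Points.ofPt p t)
            ((Points.map_comp _ _ _).symm.trans
              ((congrArg (fun e : B ⟶ B => Points.map e (Points.map h (Points.ofPt p t)))
                (show (η[G]).left ≫ G.hom = 𝟙 B from (groupoidOfGrp G).e_s)).trans (Points.map_id _)))
          have := (hz z).1 (hall z)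
          rwa [hz'] at this)
        refine ⟨(J S).uliftYonedaEquiv.{u+1} (pullback.lift l p hl), ?_⟩
        rw [← GrothendieckTopology.uliftYonedaEquiv_comp, pullback.lift_snd])
    exact ⟨inv (pullback.snd (subι B Ω) h) ≫ pullback.fst _ _, by
      rw [Category.assoc, pullback.condition, IsIso.inv_hom_id_assoc]⟩
  · rintro ⟨k, rfl⟩ z
    rw [ObjectProperty.homMk_hom, hz, Points.map_comp]
    exact (range_map_subι B Ω).le ⟨_, rfl⟩

theorem isAlgSpace_of_openImm {W F : Sp S} {w : W ⟶ F} (hF : IsAlgSpace F) (hw : RepWith @IsOpenImmersion w) :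
    IsAlgSpace W where
  diag := by
    haveI : Mono w := mono_of_repWith (P := @IsOpenImmersion)
      (fun g hg => haveI : IsOpenImmersion g := hg; inferInstance) hw
    exact representable_diag_of_mono w hF.diag
  atlas := by
    obtain ⟨U, p, hpe, hps⟩ := hF.atlas
    exact ⟨hw.1.pullback p, hw.1.fst p, repWith_of_isPullback (hw.1.isPullback p).flip hpe,
      repWith_of_isPullback (hw.1.isPullback p).flip hps⟩

theorem isBCPt_unram : IsBCPt (S := S) (fun _ _ f x => IsUnramNbhd f x) :=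
  fun hf _ _ _ sq x' => isUnramNbhd_baseChange_iff hf sq x'

theorem isBCPt_qf : IsBCPt (S := S) (fun _ _ f x => IsQfNbhd f x) :=
  fun hf _ _ _ sq x' => isQfNbhd_baseChange_iff hf sq x'

theorem locP_unram_iff_forall {X Y : Space S} (f : X ⟶ Y) (hf : LocP @LocallyOfFiniteType f.hom) :
    LocP (@LocallyOfFiniteType ⊓ @FormallyUnramified) f.hom ↔ ∀ x, IsUnramNbhd f.hom x := by
  refine ⟨fun h x => ?_, fun h U V a b k ha hb e => ?_⟩
  · obtain ⟨U, V, a, b, k, ha, has, hb, -, e⟩ := exists_chart (f := f.hom) X.property Y.property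
    obtain ⟨u, rfl⟩ := surjective_ofPt has x
    obtain ⟨h1, h2⟩ := h a b k ha hb e
    haveI : FormallyUnramified k.left := h2
    exact (isUnramNbhd_iff_of_chart hf ha hb e u).2 (FormallyUnramified.stalkMap k.left u)
  · haveI : LocallyOfFiniteType k.left := hf a b k ha hb e
    refine ⟨inferInstance, ?_⟩
    choose W hW hW' using fun u => (FlatLocus.exists_formallyUnramified_nhd_iff k.left u).2
      ((isUnramNbhd_iff_of_chart hf ha hb e u).1 (h _))
    exact IsZariskiLocalAtSource.of_iSup_eq_top (P := @FormallyUnramified) W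
      (top_unique fun u _ => TopologicalSpace.Opens.mem_iSup.2 ⟨u, hW u⟩) fun i => hW' i

theorem locP_qf_iff_forall {X Y : Space S} (f : X ⟶ Y) (hf : LocP @LocallyOfFiniteType f.hom) :
    LocP (@LocallyQuasiFinite ⊓ @LocallyOfFiniteType) f.hom ↔ ∀ x, IsQfNbhd f.hom x := by
  refine ⟨fun h x => ?_, fun h U V a b k ha hb e => ?_⟩
  · obtain ⟨U, V, a, b, k, ha, has, hb, -, e⟩ := exists_chart (f := f.hom) X.property Y.property
    obtain ⟨u, rfl⟩ := surjective_ofPt has x
    obtain ⟨h1, h2⟩ := h a b k ha hb e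
    haveI : LocallyQuasiFinite k.left := h1
    haveI : LocallyOfFiniteType k.left := h2
    exact (isQfNbhd_iff_of_chart hf ha hb e u).2 (k.left.quasiFiniteAt u)
  · haveI : LocallyOfFiniteType k.left := hf a b k ha hb e
    exact ⟨locallyQuasiFinite_of_forall_quasiFiniteAt _ fun u => (isQfNbhd_iff_of_chart hf ha hb e u).1 (h _),
      inferInstance⟩

theorem isOpen_qfLocus {X Y : Space S} (f : X ⟶ Y) (hf : LocP @LocallyOfFiniteType f.hom) :
    IsOpen {x | IsQfNbhd f.hom x} := by
  obtain ⟨U, V, a, b, k, ha, has, hb, -, e⟩ := exists_chart (f := f.hom) X.property Y.property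
  haveI : LocallyOfFiniteType k.left := hf a b k ha hb e
  rw [isOpen_iff_chart ha has]
  convert k.left.isOpen_quasiFiniteAt using 1
  exact Set.ext fun u => isQfNbhd_iff_of_chart hf ha hb e u

end Groth.Agent.DecSec
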