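import Groth.Agent.ASt.OpenSub
import Groth.Agent.ASt.FpSp
import Groth.Agent.ASt.Local
import Groth.Agent.S12821

/-! The open substack which is the image of an open of a smooth chart. -/

set_option autoImplicit false
set_option backward.isDefEq.respectTransparency false
set_option backward.isDefEq.respectTransparency.types false

universe u

open CategoryTheory CategoryTheory.Limits AlgebraicGeometry Opposite

namespace Groth.Agent.DecSec

open _root_.AlgSp Groth.Agent.ASt Groth.Agent.ASp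

variable {S : Scheme.{u}} {𝒳 𝒵 : AlgSt.Cat S} [FibCat.IsFibGrpd 𝒳.p] [FibCat.IsFibGrpd 𝒵.p]

/-- A functor with values in the objects of a predicate. -/
noncomputable def liftFullSub (Q : 𝒳.obj → Prop) (w : 𝒵 ⥤ᵇ 𝒳) (h : ∀ z, Q (w.obj z)) :
    𝒵 ⥤ᵇ AlgSt.fullSub 𝒳 Q where
  toFunctor := ObjectProperty.lift Q w.toFunctor h
  w := w.w

theorem liftFullSub_comp (Q : 𝒳.obj → Prop) (w : 𝒵 ⥤ᵇ 𝒳) (h : ∀ z, Q (w.obj z)) :
    BasedFunctor.comp (liftFullSub Q w h) (AlgSt.subIncl 𝒳 Q) = w :=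
  Groth.Agent.ASt.basedFunctor_ext rfl

theorem inOpen_range_map (w : 𝒵 ⥤ᵇ 𝒳) (z : 𝒵.obj) :
    InOpen (Set.range (AlgSt.Points.map w)) (w.obj z) := by
  refine (inOpen_iff _ ((w.w_obj z).trans rfl)).2 fun t => ?_
  refine ⟨AlgSt.Points.ofChart (objFun z (rfl : 𝒵.p.obj z = _)) t, ?_⟩
  rw [← ofChart_comp]
  exact ofChart_congr (funIso (y := BasedFunctor.comp (objFun z rfl) w) (y' := objFun (w.obj z) ((w.w_obj z).trans rfl))
    (facMap (pullHom (w.obj z) ((w.w_obj z).trans rfl) (𝟙 _)) (w.map (pullHom z rfl (𝟙 _)))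
      (eqToHom (((BasedFunctor.comp (objFun z rfl) w).w_obj _).trans ((objFun (w.obj z) ((w.w_obj z).trans rfl)).w_obj _).symm))
      (by simp [map_pullHom, map_w])) (map_facMap _ _ _ _)) t

theorem repByAlgSpWith_lift_of_comp {P : MorphismProperty (Sp S)} (Q : 𝒳.obj → Prop)
    [FibCat.IsFibGrpd (AlgSt.fullSub 𝒳 Q).p] {g : 𝒵 ⥤ᵇ AlgSt.fullSub 𝒳 Q}
    (h : AlgSt.RepByAlgSpWith P (BasedFunctor.comp g (AlgSt.subIncl 𝒳 Q))) : AlgSt.RepByAlgSpWith P g := fun U y => by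
  haveI : (BasedFunctor.comp g (AlgSt.subIncl 𝒳 Q)).toFunctor.Faithful :=
    faithful_of_repByAlgSp1 (repByAlgSp1_of_with h)
  haveI : (g.toFunctor ⋙ (AlgSt.subIncl 𝒳 Q).toFunctor).Faithful :=
    inferInstanceAs (BasedFunctor.comp g (AlgSt.subIncl 𝒳 Q)).toFunctor.Faithful
  haveI : g.toFunctor.Faithful := Functor.Faithful.of_comp _ (AlgSt.subIncl 𝒳 Q).toFunctor
  haveI : (AlgSt.subIncl 𝒳 Q).toFunctor.Full := inferInstanceAs (ObjectProperty.ι Q).Full
  exact exists_rep_transfer (postF (AlgSt.subIncl 𝒳 Q) y g) (fpHom_postF _ _) (bijective_postF _ _) (h U _)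

theorem injective_points_subIncl (Q : 𝒳.obj → Prop) (hQ : ∀ {x' x : 𝒳.obj} (_ : x' ⟶ x), Q x → Q x') :
    Function.Injective (AlgSt.Points.map (AlgSt.subIncl 𝒳 Q)) := by
  haveI := isFibGrpd_fullSub_of_pull (Q := Q) hQ
  intro z z' e
  obtain ⟨p, rfl⟩ := AlgSt.Points.mk_surjective z
  obtain ⟨q, rfl⟩ := AlgSt.Points.mk_surjective z'
  rw [AlgSt.Points.map_mk, AlgSt.Points.map_mk] at e
  obtain ⟨r, a, b, -⟩ := mk_eq_mk_iff.1 e
  let a' : r.obj ⟶ p.obj.1 := a
  let b' : r.obj ⟶ q.obj.1 := b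
  exact AlgSt.Points.sound ⟨{ K := r.K, str := r.str, obj := ⟨r.obj, hQ a' p.obj.2⟩, lies := r.lies },
    ObjectProperty.homMk a', ObjectProperty.homMk b', trivial⟩

/-- The image of a smooth morphism from a space is an open substack with the morphism as an atlas. -/
theorem exists_openSubstack_image (hX : AlgSt.IsAlgStack Scheme.fppfPrecoverage 𝒳) (V : AlgSp.Space S)
    (w : AlgSt.ofSp V.obj ⥤ᵇ 𝒳) (hw : AlgSt.RepByAlgSpWith (LocP @Smooth) w) :
    ∃ (𝒴 : AlgSt.Cat S) (i : 𝒴 ⥤ᵇ 𝒳) (g : AlgSt.ofSp V.obj ⥤ᵇ 𝒴),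
      AlgSt.IsAlgStack Scheme.fppfPrecoverage 𝒴 ∧ AlgSt.IsOpenImm i ∧
        AlgSt.RepByAlgSpWith (LocP @Smooth) g ∧ AlgSt.RepByAlgSpWith IsSurjectiveMor g ∧
          BasedFunctor.comp g i = w := by
  let O := Set.range (AlgSt.Points.map w)
  have hO : IsOpen O := by
    rw [show O = AlgSt.Points.map w '' Set.univ from Set.image_univ.symm]
    exact Groth.Agent.S12821.result hX V w
      (repByAlgSpWith_mono (fun _ _ _ _ _ h U V p q k hp hq e => (haveI : Smooth k.left := h p q k hp hq e; inferInstance)) hw)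
      (repByAlgSpWith_mono (fun _ _ _ _ _ h U V p q k hp hq e => (haveI : Smooth k.left := h p q k hp hq e; inferInstance)) hw)
      _ isOpen_univ
  obtain ⟨hiso, hA, him⟩ := isOpenSubstack_inOpen O hX hO
  haveI := isFibGrpd_fullSub_of_pull (Q := InOpen O) (inOpen_pull O)
  let g := liftFullSub (InOpen O) w fun z => inOpen_range_map w z
  have e := liftFullSub_comp (InOpen O) w fun z => inOpen_range_map w z
  have hg : AlgSt.RepByAlgSpWith (LocP @Smooth) g := repByAlgSpWith_lift_of_comp _ (by rw [e]; exact hw)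
  refine ⟨_, AlgSt.subIncl 𝒳 (InOpen O), g, hA, him, hg, ?_, e⟩
  refine repByAlgSpWith_surjective_of_isSurjective (repByAlgSp1_of_with hg) fun z => ?_
  obtain ⟨v, hv⟩ : AlgSt.Points.map (AlgSt.subIncl 𝒳 (InOpen O)) z ∈ O :=
    (range_subIncl_inOpen O).subset (Set.mem_range_self z)
  refine ⟨v, injective_points_subIncl _ (inOpen_pull O) ?_⟩
  obtain ⟨q, rfl⟩ := AlgSt.Points.mk_surjective v
  rw [← hv, ← e]
  rfl

end Groth.Agent.DecSec
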