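import Groth.Agent.ASt.Inv
import Groth.Agent.ASt.StkAlg
import Groth.Agent.ASt.OpenSub
import Groth.Agent.DecSec.OpenImage
import Groth.Agent.S12868
import Groth.Agent.S12774

/-! The substack which is the image of an immersion. -/

set_option autoImplicit false
set_option backward.isDefEq.respectTransparency false
set_option backward.isDefEq.respectTransparency.types false

universe u

open CategoryTheory CategoryTheory.Limits AlgebraicGeometry Opposite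

namespace Groth.Agent.DecSec

open _root_.AlgSp Groth.Agent.ASp Groth.Agent.ASt

variable {S : Scheme.{u}} {𝒵 𝒳 : AlgSt.Cat S}

/-- The essential image of a morphism over the base. -/
def InImg (i : 𝒵 ⥤ᵇ 𝒳) (x : 𝒳.obj) : Prop := ∃ z : 𝒵.obj, Nonempty (i.obj z ≅ x)

/-- An immersion identifies the source with a unique locally closed substack. -/
theorem exists_substack_of_imm (h𝒵 : AlgSt.IsAlgStack Scheme.fppfPrecoverage 𝒵)
    (h𝒳 : AlgSt.IsAlgStack Scheme.fppfPrecoverage 𝒳) (i : 𝒵 ⥤ᵇ 𝒳) (hi : AlgSt.IsImm i) :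
    ∃ Q : 𝒳.obj → Prop,
      (AlgSt.IsLocClosedSubstack 𝒳 Q Scheme.fppfPrecoverage ∧
        (∃ i' : 𝒵 ⥤ᵇ AlgSt.fullSub 𝒳 Q, FibCat.IsEquivOver i' ∧
          Nonempty (BasedFunctor.comp i' (AlgSt.subIncl 𝒳 Q) ≅ i)) ∧
        (AlgSt.IsClosedImm i → AlgSt.IsClosedSubstack 𝒳 Q Scheme.fppfPrecoverage) ∧
        (AlgSt.IsOpenImm i → AlgSt.IsOpenSubstack 𝒳 Q Scheme.fppfPrecoverage)) ∧
      ∀ Q' : 𝒳.obj → Prop, AlgSt.IsLocClosedSubstack 𝒳 Q' Scheme.fppfPrecoverage →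
        (∃ i' : 𝒵 ⥤ᵇ AlgSt.fullSub 𝒳 Q', FibCat.IsEquivOver i' ∧
          Nonempty (BasedFunctor.comp i' (AlgSt.subIncl 𝒳 Q') ≅ i)) → Q' = Q := by
  haveI := h𝒵.isStack.1
  haveI := h𝒳.isStack.1
  obtain ⟨hfull, hfaith⟩ := Groth.Agent.S12774.result h𝒵.isStack.1 h𝒳.isStack.1 i (Groth.Agent.S12868.result i hi)
  haveI := hfull
  haveI := hfaith
  have hiso : ObjectProperty.IsClosedUnderIsomorphisms (InImg i) :=
    ⟨fun e ⟨z, ⟨e'⟩⟩ => ⟨z, ⟨e' ≪≫ e⟩⟩⟩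
  let i' : 𝒵 ⥤ᵇ AlgSt.fullSub 𝒳 (InImg i) := liftFullSub (InImg i) i fun z => ⟨z, ⟨Iso.refl _⟩⟩
  have hcomp : BasedFunctor.comp i' (AlgSt.subIncl 𝒳 (InImg i)) = i := liftFullSub_comp _ _ _
  haveI : i'.toFunctor.Faithful := ⟨fun h => i.toFunctor.map_injective (congrArg (fun m => m.hom) h)⟩
  haveI : i'.toFunctor.Full := ⟨fun m => ⟨i.toFunctor.preimage m.hom,
    ObjectProperty.hom_ext _ (i.toFunctor.map_preimage m.hom)⟩⟩
  have he : FibCat.IsEquivOver i' := by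
    refine isEquivOver_of_vert i' fun y => ?_
    obtain ⟨x, z, ⟨e⟩⟩ := y
    let f : 𝒳.p.obj x ⟶ 𝒵.p.obj z := 𝒳.p.map e.inv ≫ eqToHom (i.w_obj z)
    let z' := pull z rfl f
    have hz' : 𝒵.p.obj z' = 𝒳.p.obj x := pull_base z rfl f
    let φ : i.obj z' ⟶ x := i.map (pullHom z rfl f) ≫ e.hom
    have hφ : 𝒳.p.map φ = eqToHom ((i.w_obj z').trans hz') := by
      change 𝒳.p.map (i.map (pullHom z rfl f) ≫ e.hom) = _
      rw [Functor.map_comp, map_w, map_pullHom]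
      simp [f, ← Functor.map_comp]
    haveI : IsIso φ := isIso_of_vert φ hφ
    exact ⟨z', hz', ObjectProperty.isoMk _ (asIso φ), hφ⟩
  obtain ⟨G, hG, -, ⟨β⟩⟩ := isEquivOver_symm he
  have hA : AlgSt.IsAlgStack Scheme.fppfPrecoverage (AlgSt.fullSub 𝒳 (InImg i)) := isAlgStack_of_isEquivOver he h𝒵
  haveI := hA.isStack.1
  let γ : BasedFunctor.comp G i ≅ AlgSt.subIncl 𝒳 (InImg i) :=
    (eqToIso ((congrArg (BasedFunctor.comp G) hcomp.symm).trans (Groth.Agent.ASt.basedFunctor_ext rfl))).trans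
      ((wR β (AlgSt.subIncl 𝒳 (InImg i))).trans (eqToIso (Groth.Agent.ASt.basedFunctor_ext rfl)))
  have hP : ∀ {P : MorphismProperty (Sp S)}, AlgSt.RepByAlgSpWith P i →
      AlgSt.RepByAlgSpWith P (AlgSt.subIncl 𝒳 (InImg i)) := fun h =>
    repByAlgSpWith_congr γ (repByAlgSpWith_precomp hG h)
  refine ⟨InImg i, ⟨⟨hiso, hA, hP hi⟩, ⟨i', he, ⟨eqToIso hcomp⟩⟩, fun h => ⟨hiso, hA, hP h⟩,
    fun h => ⟨hiso, hA, hP h⟩⟩, fun Q' hQ' ⟨j, hj, ⟨α⟩⟩ => ?_⟩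
  funext x
  apply propext
  constructor
  · intro hx
    obtain ⟨K, -, -, ⟨δ⟩⟩ := isEquivOver_symm hj
    exact ⟨K.obj ⟨x, hx⟩, ⟨((BasedNatTrans.forgetful _ _).mapIso α.symm).app _ ≪≫
      (ObjectProperty.ι Q').mapIso (((BasedNatTrans.forgetful _ _).mapIso δ).app _)⟩⟩
  · rintro ⟨z, ⟨e⟩⟩
    exact hQ'.1.of_iso (((BasedNatTrans.forgetful _ _).mapIso α).app z ≪≫ e) (j.obj z).2

end Groth.Agent.DecSec
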