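import Groth.Agent.DecSec.AlgGerbe
import Groth.Agent.DecSec.OpenImage
import Groth.Agent.ASt.OpenSub
import Groth.Agent.ASt.QcMor

/-! Inertia over charts: transfer to substacks, restriction to opens. -/

set_option autoImplicit false
set_option backward.isDefEq.respectTransparency false
set_option backward.isDefEq.respectTransparency.types false

universe u

open CategoryTheory CategoryTheory.Limits AlgebraicGeometry Opposite

namespace Groth.Agent.DecSec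

open _root_.AlgSp Groth.Agent.ASp Groth.Agent.ASt Groth.Agent.Boot

variable {S : Scheme.{u}} {𝒳 : AlgSt.Cat S} [FibCat.IsFibGrpd 𝒳.p]

attribute [local instance] Groth.Agent.ASt.isFibGrpd_inertia

theorem hPb_locP {M : MorphismProperty Scheme.{u}} [IsEtLocal M] [M.IsStableUnderBaseChange] :
    ∀ ⦃X₁ Y₁ X₂ Y₂ : Sp S⦄, IsAlgSpace X₁ → IsAlgSpace Y₁ → IsAlgSpace X₂ →
      IsAlgSpace Y₂ → ∀ (a : X₁ ⟶ Y₁) (b : Y₂ ⟶ Y₁) (a' : X₂ ⟶ Y₂) (b' : X₂ ⟶ X₁),
      IsPullback b' a' a b → LocP M a → LocP M a' :=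
  fun _ _ _ _ h₁ h₂ _ h₄ _ _ _ _ sq h => locP_of_isPullback sq.flip h₁ h₂ h₄ h

section Chart

variable {𝒴 : AlgSt.Cat S} [FibCat.IsFibGrpd 𝒴.p] {f : 𝒳 ⥤ᵇ 𝒴} {U T : Over S} {y : FibCat.overCat U ⥤ᵇ 𝒴}

/-- Charts of a fibre restrict along morphisms. -/
theorem exists_restr_chart (hf : AlgSt.RepByAlgSp1 f) {hs : Presheaf.IsSheaf (J S) (ASt.fib y f)}
    {W : Over S} {p : (yon S).obj W ⟶ (⟨ASt.fib y f, hs⟩ : Sp S)} (hpe : RepWith @Etale p) (hps : RepWith @Surjective p)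
    {k : W ⟶ U} (hk : p ≫ ObjectProperty.homMk (fibπ y f) = (yon S).map k) (l : T ⟶ U) :
    ∃ (hs' : Presheaf.IsSheaf (J S) (ASt.fib (BasedFunctor.comp (AlgSt.overMap l) y) f))
      (_ : IsAlgSpace (⟨_, hs'⟩ : Sp S))
      (p' : (yon S).obj (pullback k l) ⟶ (⟨ASt.fib (BasedFunctor.comp (AlgSt.overMap l) y) f, hs'⟩ : Sp S)),
      RepWith @Etale p' ∧ RepWith @Surjective p' ∧
        p' ≫ ObjectProperty.homMk (fibπ (BasedFunctor.comp (AlgSt.overMap l) y) f) =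
          (yon S).map (pullback.snd k l) := by
  obtain ⟨hs', hA'⟩ := (repByAlgSp1_iff.1 hf).2 T (BasedFunctor.comp (AlgSt.overMap l) y)
  have sqF : IsPullback
      (ObjectProperty.homMk (clFun (restrF l y f)) :
        (⟨ASt.fib (BasedFunctor.comp (AlgSt.overMap l) y) f, hs'⟩ : Sp S) ⟶ (⟨ASt.fib y f, hs⟩ : Sp S))
      (ObjectProperty.homMk (fibπ (BasedFunctor.comp (AlgSt.overMap l) y) f))
      (ObjectProperty.homMk (fibπ y f)) ((yon S).map l) :=
    IsPullback.of_map_of_faithful (sheafToPresheaf (J S) (Type (u + 1))) (isPullback_restrF l y)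
  have hbig := isPullback_yon_map (IsPullback.of_hasPullback k l)
  let p' := sqF.lift ((yon S).map (pullback.fst k l) ≫ p) ((yon S).map (pullback.snd k l))
    (by rw [Category.assoc, hk, hbig.w])
  have h2 := sqF.lift_snd _ _ (show ((yon S).map (pullback.fst k l) ≫ p) ≫ _ = (yon S).map (pullback.snd k l) ≫ _ by
    rw [Category.assoc, hk, hbig.w])
  have sqp : IsPullback ((yon S).map (pullback.fst k l)) p' p
      (ObjectProperty.homMk (clFun (restrF l y f)) :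
        (⟨ASt.fib (BasedFunctor.comp (AlgSt.overMap l) y) f, hs'⟩ : Sp S) ⟶ _) := by
    refine IsPullback.of_bot ?_ (sqF.lift_fst _ _ _).symm sqF
    rw [h2, hk]
    exact hbig
  exact ⟨hs', hA', p', repWith_of_isPullback sqp hpe, repWith_of_isPullback sqp hps, h2⟩

theorem fibHas_restr_chart (hf : AlgSt.RepByAlgSp1 f) {M : MorphismProperty Scheme.{u}} [IsEtLocal M]
    {hs : Presheaf.IsSheaf (J S) (ASt.fib y f)}
    {W : Over S} {p : (yon S).obj W ⟶ (⟨ASt.fib y f, hs⟩ : Sp S)} (hpe : RepWith @Etale p) (hps : RepWith @Surjective p)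
    {k : W ⟶ U} (hk : p ≫ ObjectProperty.homMk (fibπ y f) = (yon S).map k) (l : T ⟶ U)
    (h : M (pullback.snd k l).left) : FibHas (LocP M) (BasedFunctor.comp (AlgSt.overMap l) y) f := by
  obtain ⟨hs', hA', p', he, hsu, hp'⟩ := exists_restr_chart hf hpe hps hk l
  exact ⟨hs', hA', locP_of_chart he hsu (AlgSp.repWith_id _ _) (by rw [Category.comp_id, hp']) h⟩

theorem prop_restr_chart (hf : AlgSt.RepByAlgSp1 f) {M : MorphismProperty Scheme.{u}}
    {hs : Presheaf.IsSheaf (J S) (ASt.fib y f)}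
    {W : Over S} {p : (yon S).obj W ⟶ (⟨ASt.fib y f, hs⟩ : Sp S)} (hpe : RepWith @Etale p) (hps : RepWith @Surjective p)
    {k : W ⟶ U} (hk : p ≫ ObjectProperty.homMk (fibπ y f) = (yon S).map k) (l : T ⟶ U)
    (h : FibHas (LocP M) (BasedFunctor.comp (AlgSt.overMap l) y) f) : M (pullback.snd k l).left := by
  obtain ⟨hs', hA', p', he, -, hp'⟩ := exists_restr_chart hf hpe hps hk l
  obtain ⟨_, _, hP⟩ := h
  exact prop_chart he hp' hP

/-- Properties of fibres are local on the base scheme. -/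
theorem fibHas_of_openCover (hf : AlgSt.RepByAlgSp1 f) {M : MorphismProperty Scheme.{u}} [IsEtLocal M]
    [IsZariskiLocalAtTarget M] {ι : Type*} (V : ι → Over S) (l : ∀ i, V i ⟶ U) [∀ i, IsOpenImmersion (l i).left]
    (hcov : ⨆ i, (l i).left.opensRange = ⊤)
    (h : ∀ i, FibHas (LocP M) (BasedFunctor.comp (AlgSt.overMap (l i)) y) f) : FibHas (LocP M) y f := by
  obtain ⟨hs, hA⟩ := (repByAlgSp1_iff.1 hf).2 U y
  obtain ⟨W, p, hpe, hps⟩ := hA.atlas
  obtain ⟨k, hk⟩ := (yon S).map_surjective (p ≫ ObjectProperty.homMk (fibπ y f))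
  refine ⟨hs, hA, locP_of_chart hpe hps (AlgSp.repWith_id _ _) (by rw [Category.comp_id, hk]) ?_⟩
  refine (IsZariskiLocalAtTarget.iff_of_iSup_eq_top (P := M) (f := k.left) _ hcov).2 fun i => ?_
  have h1 := prop_restr_chart hf hpe hps hk.symm (l i) (h i)
  have e := isPullback_left (IsPullback.of_hasPullback k (l i))
  rw [M.arrow_mk_iso_iff (morphismRestrictOpensRange k.left (l i).left)]
  exact (M.arrow_mk_iso_iff (Arrow.isoMk e.isoPullback (Iso.refl _) (by simp))).1 h1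

end Chart

/-- Inertia of a substack closed under pullbacks. -/
noncomputable def inertiaIncl (Q : 𝒳.obj → Prop) :
    FibCat.inertia (FibCat.toSelf (AlgSt.fullSub 𝒳 Q)) ⥤ᵇ FibCat.inertia (FibCat.toSelf 𝒳) where
  toFunctor :=
    { obj := fun o => ⟨o.pt.1, (ObjectProperty.ι Q).mapIso o.aut, o.map_aut⟩
      map := fun m => ⟨m.hom.hom, congrArg (fun k => k.hom) m.comm⟩
      map_id := fun o => rfl
      map_comp := fun m n => rfl }
  w := rfl

theorem inertiaIncl_toBase (Q : 𝒳.obj → Prop) :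
    BasedFunctor.comp (inertiaIncl Q) (FibCat.inertiaToBase (FibCat.toSelf 𝒳)) =
      BasedFunctor.comp (FibCat.inertiaToBase (FibCat.toSelf (AlgSt.fullSub 𝒳 Q))) (AlgSt.subIncl 𝒳 Q) :=
  Groth.Agent.ASt.basedFunctor_ext rfl

theorem fibHas_inertia_fullSub {Q : 𝒳.obj → Prop} (hQ : ∀ {x' x : 𝒳.obj} (_ : x' ⟶ x), Q x → Q x')
    [FibCat.IsFibGrpd (AlgSt.fullSub 𝒳 Q).p] [FibCat.IsFibGrpd (FibCat.inertia (FibCat.toSelf (AlgSt.fullSub 𝒳 Q))).p] {G : Over S} (c : FibCat.overCat G ⥤ᵇ AlgSt.fullSub 𝒳 Q)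
    {P : MorphismProperty (Sp S)} [P.RespectsIso]
    (h : FibHas P (BasedFunctor.comp c (AlgSt.subIncl 𝒳 Q)) (FibCat.inertiaToBase (FibCat.toSelf 𝒳))) :
    FibHas P c (FibCat.inertiaToBase (FibCat.toSelf (AlgSt.fullSub 𝒳 Q))) := by
  let i' := FibCat.inertiaToBase (FibCat.toSelf (AlgSt.fullSub 𝒳 Q))
  let i := FibCat.inertiaToBase (FibCat.toSelf 𝒳)
  haveI := isFibGrpd_inertia (FibCat.toSelf 𝒳)
  haveI : FibCat.IsFibGrpd (FibCat.fp c i').p := isFibGrpd_fp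
  haveI : FibCat.IsFibGrpd (FibCat.fp (BasedFunctor.comp c (AlgSt.subIncl 𝒳 Q)) i).p := isFibGrpd_fp
  let Φ : FibCat.fp c i' ⥤ᵇ FibCat.fp (BasedFunctor.comp c (AlgSt.subIncl 𝒳 Q)) i :=
    FibCat.fpLift (FibCat.fpFst c i') (BasedFunctor.comp (FibCat.fpSnd c i') (inertiaIncl Q))
      (wR (FibCat.fpIso c i') (AlgSt.subIncl 𝒳 Q))
  have hΦ : ∀ {T : Over S} (k : T ⟶ G) (o) (ho) (φ : c.obj (ov k) ⟶ i'.obj o) (hφ),
      clF Φ T (fpEl k o ho φ hφ) =
        fpEl (y := BasedFunctor.comp c (AlgSt.subIncl 𝒳 Q)) (f := i) k ((inertiaIncl Q).obj o) ho φ.hom hφ := by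
    intro T k o ho φ hφ
    refine cl_eq_iff.2 ⟨fpHomMk (𝟙 _) (𝟙 _) ?_, ((FibCat.overCat G).p.map_id _).trans rfl⟩
    change (c.map (𝟙 (ov k))).hom ≫ φ.hom = φ.hom ≫ 𝟙 _
    rw [c.toFunctor.map_id]
    exact (Category.id_comp _).trans (Category.comp_id _).symm
  refine (fibHas_iff_of_bijective Φ (fun T d => ?_) fun T => ⟨fun d d' e => ?_, fun d => ?_⟩).2 h
  · obtain ⟨k, o, ho, φ, hφ, rfl⟩ := fpEl_exists d
    rw [hΦ k o ho φ hφ, fpHom_fpEl, fpHom_fpEl]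
  · obtain ⟨k, o, ho, φ, hφ, rfl⟩ := fpEl_exists d
    obtain ⟨k', o', ho', φ', hφ', rfl⟩ := fpEl_exists d'
    rw [hΦ k o ho φ hφ, hΦ k' o' ho' φ' hφ'] at e
    obtain rfl : k = k' := (fpHom_fpEl _ _ _ _ _).symm.trans ((congrArg fpHom e).trans (fpHom_fpEl _ _ _ _ _))
    obtain ⟨m, hm, hm'⟩ := fpEl_eq_iff.1 e
    exact fpEl_eq_iff.2 ⟨⟨ObjectProperty.homMk m.hom, ObjectProperty.hom_ext _ m.comm⟩, hm,
      ObjectProperty.hom_ext _ hm'⟩
  · obtain ⟨k, o, ho, φ, hφ, rfl⟩ := fpEl_exists d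
    haveI : IsIso φ := isIso_of_vert φ hφ
    let x : (AlgSt.fullSub 𝒳 Q).obj := ⟨o.pt, hQ (inv φ) (c.obj (ov k)).2⟩
    let o' : (FibCat.inertia (FibCat.toSelf (AlgSt.fullSub 𝒳 Q))).obj :=
      ⟨x, ObjectProperty.isoMk Q o.aut, o.map_aut⟩
    refine ⟨fpEl (y := c) (f := i') k o' ho (ObjectProperty.homMk φ) hφ, (hΦ k o' ho (ObjectProperty.homMk φ) hφ).trans ?_⟩
    exact fpEl_eq_iff.2 ⟨⟨𝟙 o.pt, (Category.comp_id _).trans (Category.id_comp _).symm⟩,
      (𝒳.p.map_id _).trans (eqToHom_refl _ _).symm, Category.comp_id φ⟩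

/-- Flat and finitely presented inertia over an fppf chart gives a gerbe. -/
theorem isAlgGerbe_of_chart {𝒵 : AlgSt.Cat S} [FibCat.IsFibGrpd 𝒵.p]
    (hZ : AlgSt.IsAlgStack Scheme.fppfPrecoverage 𝒵) {W : Over S} {c : FibCat.overCat W ⥤ᵇ 𝒵}
    (hcp : AlgSt.RepByAlgSpWith (LocP @LocallyOfFinitePresentation) c)
    (hcs : AlgSt.RepByAlgSpWith IsSurjectiveMor c) (hcf : AlgSt.RepByAlgSpWith (LocP @Flat) c)
    (h1 : FibHas (LocP @Flat) c (FibCat.inertiaToBase (FibCat.toSelf 𝒵)))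
    (h2 : FibHas (LocP @LocallyOfFinitePresentation) c (FibCat.inertiaToBase (FibCat.toSelf 𝒵))) :
    Gerb.IsAlgGerbe Scheme.fppfPrecoverage 𝒵 := by
  haveI := isFibGrpd_inertia (FibCat.toSelf 𝒵)
  let i := FibCat.inertiaToBase (FibCat.toSelf 𝒵)
  have hr : AlgSt.RepByAlgSp1 i :=
    repByAlgSp1_of_with (repByAlgSpWith_inertiaToBase _ (lft_diag_toSelf hZ))
  haveI : FibCat.IsFibGrpd (FibCat.fp c i).p := isFibGrpd_fp
  haveI := faithful_of_repByAlgSp1 hr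
  have key : ∀ {M : MorphismProperty Scheme.{u}} [IsEtLocal M] [M.IsStableUnderBaseChange], FibHas (LocP M) c i →
      AlgSt.RepByAlgSpWith (LocP M) (FibCat.fpFst c i) := fun h =>
    repByAlgSpWith_iff.2 ⟨faithful_fpFst, fun U y => by
      obtain ⟨m, ⟨β⟩⟩ := exists_overMap y
      exact fibHas_baseChange c i y (fibHas_congr (wR β.symm c) (fibHas_restr hPb_locP hr m c h))⟩
  have hid : BasedFunctor.comp (BasedFunctor.id (FibCat.overCat W)) c = c :=
    Groth.Agent.ASt.basedFunctor_ext rfl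
  have hsu : AlgSt.IsSurjective (BasedFunctor.comp (BasedFunctor.id (FibCat.overCat W)) c) := by
    rw [hid]; exact isSurjective_of_repByAlgSpWith hcs
  exact isAlgGerbe_of_inertia hZ
    (locQ_of_repByAlgSpWith hZ (repByAlgSpWith_of_fppf isLocalOnBase_fppf_locP hr (BasedFunctor.id _)
      (hid.symm ▸ hcf) (hid.symm ▸ hcp) hsu (key h1)))
    (locQ_of_repByAlgSpWith hZ (repByAlgSpWith_of_fppf isLocalOnBase_fppf_locP hr (BasedFunctor.id _)
      (hid.symm ▸ hcf) (hid.symm ▸ hcp) hsu (key h2)))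

end Groth.Agent.DecSec
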