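import Groth.Agent.ASt.Stack
import Groth.Agent.ASt.Fib
import Groth.Prelude.Def_StGerb2
import Mathlib.CategoryTheory.Sites.LocallySurjective
import Mathlib.CategoryTheory.Sites.LocallyInjective

/-! The classes of objects of a gerbe over the category of a presheaf. -/

set_option autoImplicit false
set_option backward.isDefEq.respectTransparency false
set_option backward.isDefEq.respectTransparency.types false

universe w v u

open CategoryTheory Opposite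

namespace Groth.Agent.DecSec.GerbeCl

open Groth.Agent.ASt

variable {C : Type u} [Category.{v} C] {J : GrothendieckTopology C} {𝒳 : BasedCategory.{v, max u v} C}
  [FibCat.IsFibGrpd 𝒳.p] {P : Cᵒᵖ ⥤ Type (max u v)} (π : 𝒳 ⥤ᵇ Stk.ofPsh P)

/-- The section under an object of a fibre. -/
def secFib {U : C} (a : 𝒳.p.Fiber U) : P.obj (op U) := P.map (eqToHom a.2.symm).op (secOf π a.1)

theorem secFib_hom {U V : C} {a : 𝒳.p.Fiber U} {b : 𝒳.p.Fiber V} (m : b.1 ⟶ a.1) (f : V ⟶ U)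
    (hm : 𝒳.p.map m = eqToHom b.2 ≫ f ≫ eqToHom a.2.symm) : secFib π b = P.map f.op (secFib π a) := by
  unfold secFib
  rw [← secOf_map π m, hm, presheaf_map_map, presheaf_map_map]
  exact presheaf_map_congr (by simp) _

theorem secFib_congr {U : C} (a b : 𝒳.p.Fiber U) (h : Gerb.IsoRel 𝒳 U a b) : secFib π a = secFib π b := by
  obtain ⟨φ⟩ := h
  haveI := φ.2
  have e := secFib_hom π φ.1 (𝟙 U) (IsHomLift.fac' 𝒳.p (𝟙 U) φ.1)
  rw [e]; simp

theorem secFib_pullFib {U V : C} (f : V ⟶ U) (a : 𝒳.p.Fiber U) :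
    secFib π (Gerb.pullFib 𝒳 f a) = P.map f.op (secFib π a) :=
  secFib_hom π (Gerb.pullHom 𝒳 a.1 (f ≫ eqToHom a.2.symm)) f
    ((Gerb.pullHom_map 𝒳 _ _).trans (by simp))

/-- The map from classes to sections. -/
noncomputable def clMap : Gerb.isoClPsh 𝒳 ⟶ P where
  app U := ↾(Quot.lift (secFib π) (secFib_congr π) : Gerb.IsoCl 𝒳 U.unop → P.obj U)
  naturality U V f := by
    ext a
    obtain ⟨a⟩ := a
    exact secFib_pullFib π f.unop a

theorem clMap_fib (x : 𝒳.obj) :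
    (clMap π).app (op (𝒳.p.obj x)) (Quot.mk _ (Gerb.fib x)) = P.map (eqToHom (π.w_obj x).symm).op (π.obj x).sec := by
  change P.map (𝟙 _) (secOf π x) = _
  rw [FunctorToTypes.map_id_apply]
  rfl

theorem cls_eq {U V : C} {a : 𝒳.p.Fiber U} {x₀ : 𝒳.obj} (hx₀ : 𝒳.p.obj x₀ = V) (m : x₀ ⟶ a.1) (f : V ⟶ U)
    (hm : 𝒳.p.map m = eqToHom hx₀ ≫ f ≫ eqToHom a.2.symm) :
    (Quot.mk _ (Gerb.pullFib 𝒳 f a) : Gerb.IsoCl 𝒳 V) = Quot.mk _ ⟨x₀, hx₀⟩ := by
  obtain ⟨χ, hχ, -⟩ := Gerb.exists_hom_pull 𝒳 a.1 (f ≫ eqToHom a.2.symm) m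
    (isHomLift_of_map _ hx₀ rfl (by rw [hm]; simp))
  exact (Quot.sound (r := Gerb.IsoRel 𝒳 V) (a := (⟨x₀, hx₀⟩ : 𝒳.p.Fiber V))
    (b := Gerb.pullFib 𝒳 f a) ⟨⟨χ, hχ⟩⟩).symm

theorem locSurj_clMap (h : Gerb.LocSurjObj J π) : Presheaf.IsLocallySurjective J (clMap π) where
  imageSieve_mem {U} s := by
    obtain ⟨R, hR, hl⟩ := h ⟨U, s⟩
    refine J.superset_covering (fun V f hf => ?_) hR
    obtain ⟨x, g, hg⟩ := hl f hf
    have hx : 𝒳.p.obj x = V := (π.w_obj x).symm.trans (IsHomLift.domain_eq (Stk.ofPsh P).p f g)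
    refine ⟨Quot.mk _ ⟨x, hx⟩, ?_⟩
    change P.map (eqToHom hx.symm).op (secOf π x) = _
    have e := g.map_sec
    have hgm : g.hom = eqToHom ((π.w_obj x).trans hx) ≫ f := by
      have := IsHomLift.fac' (Stk.ofPsh P).p f g
      refine this.trans ?_
      simp
    rw [hgm] at e
    unfold secOf
    rw [← e]
    refine (presheaf_map_map _ _ _).trans ((presheaf_map_map _ _ _).trans ?_)
    exact presheaf_map_congr (by simp) _

theorem locInj_clMap (h : Gerb.LocSurjHom J π) : Presheaf.IsLocallyInjective J (clMap π) where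
  equalizerSieve_mem {U} a b e := by
    obtain ⟨U⟩ := U
    obtain ⟨⟨x, (rfl : 𝒳.p.obj x = U)⟩⟩ := a
    obtain ⟨⟨x', hx'⟩⟩ := b
    change secFib π ⟨x, rfl⟩ = secFib π ⟨x', hx'⟩ at e
    have hb : P.map (eqToHom ((π.w_obj x).trans (hx'.symm.trans (π.w_obj x').symm))).op (π.obj x').sec =
        (π.obj x).sec := by
      have h2 := congrArg (fun t => P.map (eqToHom (π.w_obj x)).op t) e
      simp only [secFib, secOf, presheaf_map_map] at h2
      refine (presheaf_map_congr ?_ _).trans (h2.symm.trans ((presheaf_map_congr (f' := 𝟙 _) ?_ _).trans ?_))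
      · simp
      · simp
      · simp
    let m : π.obj x ⟶ π.obj x' := ⟨eqToHom ((π.w_obj x).trans (hx'.symm.trans (π.w_obj x').symm)), hb⟩
    obtain ⟨R, hR, hl⟩ := h x x' m (isHomLift_id_of_map _ (π.w_obj x)
      (e := (π.w_obj x).trans (hx'.symm.trans (π.w_obj x').symm)) rfl)
    refine J.superset_covering (fun V f hf => ?_) hR
    obtain ⟨x₀, φ, ψ, hφ, hψ, -⟩ := hl f hf
    have hx₀ : 𝒳.p.obj x₀ = V := IsHomLift.domain_eq 𝒳.p f φ
    change (Quot.mk _ (Gerb.pullFib 𝒳 f ⟨x, rfl⟩) : Gerb.IsoCl 𝒳 V) = Quot.mk _ (Gerb.pullFib 𝒳 f ⟨x', hx'⟩)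
    rw [cls_eq (a := ⟨x, rfl⟩) hx₀ φ f ((IsHomLift.fac' 𝒳.p f φ).trans rfl),
      cls_eq (a := ⟨x', hx'⟩) hx₀ ψ f ((IsHomLift.fac' 𝒳.p f ψ).trans rfl)]

end Groth.Agent.DecSec.GerbeCl
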