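import Groth.Agent.ASp.SpQuot
import Groth.Agent.ASt.Props
import Groth.Agent.S10102
import Groth.Agent.S10107

/-! Sheaves covered by algebraic spaces with flat kernel pairs. -/

set_option autoImplicit false
set_option backward.isDefEq.respectTransparency false
set_option backward.isDefEq.respectTransparency.types false

universe u

open CategoryTheory CategoryTheory.Limits AlgebraicGeometry Opposite

namespace Groth.Agent.DecSec

open _root_.AlgSp Groth.Agent.ASp Groth.Agent.ASt

variable {S : Scheme.{u}}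

theorem isEqvRelSp_of_kernelPair {R X F : Sp S} {p : X ⟶ F} {s t : R ⟶ X} (h : IsPullback t s p p) :
    IsEqvRelSp s t where
  injective _ r r' h1 h2 := h.hom_ext h1 h2
  equivalence T := by
    have key : ∀ a b : (yon S).obj T ⟶ X,
        (∃ r : (yon S).obj T ⟶ R, r ≫ t = a ∧ r ≫ s = b) ↔ a ≫ p = b ≫ p := fun a b =>
      ⟨fun ⟨r, h1, h2⟩ => by rw [← h1, ← h2, Category.assoc, Category.assoc, h.w],
        fun e => ⟨h.lift a b e, h.lift_fst _ _ _, h.lift_snd _ _ _⟩⟩
    exact ⟨fun a => (key a a).2 rfl, fun {a b} e => (key b a).2 ((key a b).1 e).symm,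
      fun {a b c} e e' => (key a c).2 (((key a b).1 e).trans ((key b c).1 e'))⟩

/-- A locally surjective map with kernel pair `R ⇉ X` is the quotient by it. -/
theorem exists_iso_quotSp {R X F : Sp S} {p : X ⟶ F} [Sheaf.IsLocallySurjective p] {s t : R ⟶ X}
    (h : IsPullback t s p p) : ∃ i : quotSp s t ≅ F, quotSpπ s t ≫ i.hom = p := by
  let c : quotSp s t ⟶ F := quotSpDesc p h.w.symm
  have hc : quotSpπ s t ≫ c = p := coequalizer.π_desc _ _
  haveI : Epi (quotSpπ s t) := inferInstanceAs (Epi (coequalizer.π s t))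
  haveI : Sheaf.IsLocallySurjective (quotSpπ s t) := (Sheaf.isLocallySurjective_iff_epi _).2 inferInstance
  haveI : Epi p := (Sheaf.isLocallySurjective_iff_epi _).1 inferInstance
  haveI : Epi c := epi_of_epi_fac hc
  haveI : Sheaf.IsLocallySurjective c := (Sheaf.isLocallySurjective_iff_epi _).2 inferInstance
  haveI : Sheaf.IsLocallyInjective c := ⟨fun {U} a b e => by
    refine (J S).superset_covering ?_ ((J S).intersection_covering
      (Presheaf.imageSieve_mem (J S) (quotSpπ s t).hom a) (Presheaf.imageSieve_mem (J S) (quotSpπ s t).hom b))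
    rintro V g ⟨⟨x, hx⟩, ⟨y, hy⟩⟩
    let e' := fun (G : Sp S) => ((J S).uliftYonedaEquiv.{u+1} : ((yon S).obj V ⟶ G) ≃ G.obj.obj (op V))
    have hn : ∀ {G H : Sp S} (f : G ⟶ H) (z : G.obj.obj (op V)), (e' H).symm (f.hom.app (op V) z) = (e' G).symm z ≫ f :=
      fun {G H} f z => (e' H).injective (by
        rw [Equiv.apply_symm_apply]
        change _ = (J S).uliftYonedaEquiv.{u+1} ((J S).uliftYonedaEquiv.{u+1}.symm z ≫ f)
        rw [GrothendieckTopology.uliftYonedaEquiv_comp, Equiv.apply_symm_apply])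
    have hxy : p.hom.app (op V) x = p.hom.app (op V) y := by
      rw [← hc]
      change c.hom.app (op V) ((quotSpπ s t).hom.app (op V) x) = c.hom.app (op V) ((quotSpπ s t).hom.app (op V) y)
      rw [hx, hy, NatTrans.naturality_apply, NatTrans.naturality_apply, e]
    have hxy' : (e' X).symm x ≫ p = (e' X).symm y ≫ p := by rw [← hn, ← hn, hxy]
    let r := h.lift _ _ hxy'
    have hπ : (e' X).symm x ≫ quotSpπ s t = (e' X).symm y ≫ quotSpπ s t := by
      calc (e' X).symm x ≫ quotSpπ s t = r ≫ t ≫ quotSpπ s t := by rw [← Category.assoc, h.lift_fst]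
        _ = r ≫ s ≫ quotSpπ s t := by rw [quotSp_condition]
        _ = (e' X).symm y ≫ quotSpπ s t := by rw [← Category.assoc, h.lift_snd]
    change (quotSp s t).obj.map g.op a = (quotSp s t).obj.map g.op b
    rw [← hx, ← hy]
    exact (e' _).symm.injective (by rw [hn, hn, hπ])⟩
  haveI : IsIso c := (Sheaf.isLocallyBijective_iff_isIso c).1 ⟨inferInstance, inferInstance⟩
  exact ⟨asIso c, hc⟩

/-- A sheaf with a locally surjective map from an algebraic space whose kernel pair is an algebraic space,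
flat and locally of finite presentation over it, is an algebraic space and the map is fppf. -/
theorem isAlgSpace_of_kernelPair {R X F : Sp S} (hR : IsAlgSpace R) (hX : IsAlgSpace X) {p : X ⟶ F}
    [Sheaf.IsLocallySurjective p] {s t : R ⟶ X} (h : IsPullback t s p p)
    (hs : LocP @Flat s ∧ LocP @LocallyOfFinitePresentation s)
    (ht : LocP @Flat t ∧ LocP @LocallyOfFinitePresentation t) :
    IsAlgSpace F ∧ IsSurjectiveMor p ∧ LocP @Flat p ∧ LocP @LocallyOfFinitePresentation p := by
  have hj := isEqvRelSp_of_kernelPair h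
  obtain ⟨i, hi⟩ := exists_iso_quotSp h
  have hQ := Groth.Agent.S10102.result S R X hR hX s t hj hs ht
  have hF : IsAlgSpace F := hQ.of_iso i
  obtain ⟨h1, h2, h3⟩ := Groth.Agent.S10107.result S R X hR hX s t hj hs ht hQ
  let a : Arrow.mk (quotSpπ s t) ≅ Arrow.mk p := Arrow.isoMk (Iso.refl _) i (by simpa using hi.symm)
  have hsurj : IsSurjectiveMor p := fun y => by
    obtain ⟨z, hz⟩ := h1 (AlgSp.Points.map i.inv y)
    refine ⟨z, ?_⟩
    rw [← hi, AlgSp.Points.map_comp, hz, ← AlgSp.Points.map_comp, Iso.inv_hom_id, AlgSp.Points.map_id]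
  exact ⟨hF, hsurj,
    (MorphismProperty.arrow_mk_iso_iff _ a).1 h2, (MorphismProperty.arrow_mk_iso_iff _ a).1 h3⟩

end Groth.Agent.DecSec
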