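import Groth.Agent.DecSec.IsomEl
import Groth.Agent.DecSec.SheafQuot
import Groth.Agent.DecSec.GerbeOfClass
import Groth.Agent.ASp.BaseDesc
import Groth.Agent.ASp.LargestOpen

/-! The sheaf of classes of objects of a stack with flat inertia is an algebraic space. -/

set_option autoImplicit false
set_option backward.isDefEq.respectTransparency false
set_option backward.isDefEq.respectTransparency.types false

universe u

open CategoryTheory CategoryTheory.Limits AlgebraicGeometry Opposite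

namespace Groth.Agent.DecSec

open _root_.AlgSp Groth.Agent.ASp Groth.Agent.ASt Groth.Agent.Boot

variable {S : Scheme.{u}} {𝒳 : AlgSt.Cat S} [FibCat.IsFibGrpd 𝒳.p] {U : Over S} (a : FibCat.overCat U ⥤ᵇ 𝒳)

/-- The second projection of the space of isomorphisms. -/
noncomputable def isomSnd : ASt.fib a a ⟶ (pyon S).obj U where
  app T := ↾(fun c => ⟨IsomEl.snd a c⟩)
  naturality {A B} h := by
    ext c
    exact congrArg ULift.up (IsomEl.snd_clMap a h.unop c)

variable {F : Sp S} (π : 𝒳 ⥤ᵇ AlgSt.ofSp F)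

theorem chartSec_map {T T' : Over S} (g : T' ⟶ T) (k : T ⟶ U) :
    GerbeCl.secFib π (⟨a.obj (ov (g ≫ k)), (a.w_obj _).trans (ov_base _)⟩ : 𝒳.p.Fiber T') =
      F.obj.map g.op (GerbeCl.secFib π (⟨a.obj (ov k), (a.w_obj _).trans (ov_base _)⟩ : 𝒳.p.Fiber T)) :=
  GerbeCl.secFib_hom π (a.map (ovHom g rfl : ov (g ≫ k) ⟶ ov k)) g (by rw [map_w, ov_p_map]; simp)

/-- The map from a chart to the sheaf of classes. -/
noncomputable def chartCl : (yon S).obj U ⟶ F :=
  ObjectProperty.homMk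
    { app := fun T => ↾fun (c : ULift.{u + 1} (T.unop ⟶ U)) =>
        GerbeCl.secFib π (⟨a.obj (ov c.down), (a.w_obj _).trans (ov_base _)⟩ : 𝒳.p.Fiber T.unop)
      naturality := fun A B g => by
        ext c
        exact chartSec_map a π g.unop (ULift.down c) }

theorem chartCl_eq_of_vert {T : Over S} {k k' : T ⟶ U} {φ : a.obj (ov k) ⟶ a.obj (ov k')}
    (h : IsomEl.Vert a k k' φ) :
    (chartCl a π).hom.app (op T) ⟨k⟩ = (chartCl a π).hom.app (op T) ⟨k'⟩ := by
  have : 𝒳.p.IsHomLift (𝟙 T) φ := isHomLift_id_of_map φ ((a.w_obj _).trans (ov_base _)) h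
  exact GerbeCl.secFib_congr π _ _ ⟨⟨φ, this⟩⟩

theorem exists_vert_of_chartCl_eq (hπ : Gerb.IsGerbeOver (J S) π) {T : Over S} {k k' : T ⟶ U}
    (e : (chartCl a π).hom.app (op T) ⟨k⟩ = (chartCl a π).hom.app (op T) ⟨k'⟩) :
    ∃ R ∈ (J S) T, ∀ ⦃V : Over S⦄ (g : V ⟶ T), R g →
      ∃ φ : a.obj (ov (g ≫ k)) ⟶ a.obj (ov (g ≫ k')), IsomEl.Vert a (g ≫ k) (g ≫ k') φ := by
  haveI := GerbeCl.locInj_clMap π hπ.2
  let x : 𝒳.p.Fiber T := ⟨a.obj (ov k), (a.w_obj _).trans (ov_base _)⟩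
  let x' : 𝒳.p.Fiber T := ⟨a.obj (ov k'), (a.w_obj _).trans (ov_base _)⟩
  refine ⟨_, Presheaf.equalizerSieve_mem (J S) (GerbeCl.clMap π)
    (Quot.mk _ x : Gerb.IsoCl 𝒳 T) (Quot.mk _ x' : Gerb.IsoCl 𝒳 T) e, fun V g hg => ?_⟩
  have hg' : (Quot.mk _ (Gerb.pullFib 𝒳 g x) : Gerb.IsoCl 𝒳 V) = Quot.mk _ (Gerb.pullFib 𝒳 g x') := hg
  rw [GerbeCl.cls_eq (a := x) (x₀ := a.obj (ov (g ≫ k))) ((a.w_obj _).trans (ov_base _))
      (a.map (ovHom g rfl : ov (g ≫ k) ⟶ ov k)) g (by rw [map_w, ov_p_map]; simp),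
    GerbeCl.cls_eq (a := x') (x₀ := a.obj (ov (g ≫ k'))) ((a.w_obj _).trans (ov_base _))
      (a.map (ovHom g rfl : ov (g ≫ k') ⟶ ov k')) g (by rw [map_w, ov_p_map]; simp)] at hg'
  obtain ⟨χ⟩ := GerbeCl.isoRel_of_eq hg'
  haveI := χ.2
  exact ⟨χ.1, map_of_isHomLift_id (p := 𝒳.p) (R := V) χ.1⟩

theorem isLocallySurjective_chartCl (hπ : Gerb.IsGerbeOver (J S) π) (ha : AlgSt.RepByAlgSpWith (LocP @Smooth) a)
    (has : AlgSt.RepByAlgSpWith IsSurjectiveMor a) : Sheaf.IsLocallySurjective (chartCl a π) := ⟨fun {T} z => by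
  obtain ⟨R, hR, hR'⟩ := hπ.1 ⟨T, z⟩
  refine (J S).transitive hR _ fun V f hf => ?_
  obtain ⟨x, m, hm⟩ := hR' f hf
  haveI := hm
  have hx : 𝒳.p.obj x = V := (π.w_obj x).symm.trans (IsHomLift.domain_eq (Stk.ofPsh F.obj).p f m)
  obtain ⟨W, l, hl, hls, u, φ, hφ⟩ := exists_lift_atlas ha has (objFun x hx)
  haveI := hl
  haveI := hls
  haveI : IsIso φ := isIso_of_vert φ hφ
  refine (J S).superset_covering ?_ (generate_singleton_mem l)
  rw [Sieve.generate_le_iff]
  rintro _ _ ⟨⟩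
  refine ⟨⟨u⟩, ?_⟩
  have h1 : GerbeCl.secFib π (⟨x, hx⟩ : 𝒳.p.Fiber V) = F.obj.map f.op z := by
    have hgm : m.hom = eqToHom ((π.w_obj x).trans hx) ≫ f :=
      (IsHomLift.fac' (Stk.ofPsh F.obj).p f m).trans (by simp)
    have e := m.map_sec
    rw [hgm] at e
    unfold GerbeCl.secFib secOf
    rw [← e]
    refine (presheaf_map_map _ _ _).trans ((presheaf_map_map _ _ _).trans ?_)
    exact presheaf_map_congr (by simp) _
  have h2 := GerbeCl.secFib_hom π (a := (⟨x, hx⟩ : 𝒳.p.Fiber V))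
    (b := (⟨a.obj (ov u), (a.w_obj _).trans (ov_base _)⟩ : 𝒳.p.Fiber W)) (inv φ ≫ pullHom x hx l) l (by
      rw [Functor.map_comp, Functor.map_inv, map_pullHom, IsIso.inv_comp_eq, hφ]
      simp)
  refine h2.trans ?_
  rw [h1]
  exact (FunctorToTypes.map_comp_apply F.obj f.op l.op z).symm⟩

theorem chartCl_cond (hs : Presheaf.IsSheaf (J S) (ASt.fib a a)) :
    (ObjectProperty.homMk (fibπ a a) : (⟨ASt.fib a a, hs⟩ : Sp S) ⟶ (yon S).obj U) ≫ chartCl a π =
      (ObjectProperty.homMk (isomSnd a) : (⟨ASt.fib a a, hs⟩ : Sp S) ⟶ (yon S).obj U) ≫ chartCl a π := by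
  refine ObjectProperty.hom_ext _ ?_
  ext T c
  obtain ⟨k, k', φ, h, rfl⟩ := IsomEl.el_exists (T := T.unop) a c
  change (chartCl a π).hom.app T ⟨fpHom (IsomEl.el a h)⟩ = (chartCl a π).hom.app T ⟨IsomEl.snd a (IsomEl.el a h)⟩
  rw [IsomEl.fpHom_el, IsomEl.snd_el]
  exact chartCl_eq_of_vert a π h

/-- The map from the space of isomorphisms to the fibre square of the chart. -/
noncomputable def isomToSquare (hs : Presheaf.IsSheaf (J S) (ASt.fib a a)) :
    (⟨ASt.fib a a, hs⟩ : Sp S) ⟶ pullback (chartCl a π) (chartCl a π) :=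
  pullback.lift _ _ (chartCl_cond a π hs)

theorem isomToSquare_comp_fst (hs : Presheaf.IsSheaf (J S) (ASt.fib a a)) :
    isomToSquare a π hs ≫ pullback.fst (chartCl a π) (chartCl a π) = ObjectProperty.homMk (fibπ a a) :=
  pullback.lift_fst _ _ _

theorem isomToSquare_comp_snd (hs : Presheaf.IsSheaf (J S) (ASt.fib a a)) :
    isomToSquare a π hs ≫ pullback.snd (chartCl a π) (chartCl a π) = ObjectProperty.homMk (isomSnd a) :=
  pullback.lift_snd _ _ _

theorem fst_app_isomToSquare (hs : Presheaf.IsSheaf (J S) (ASt.fib a a)) {T : Over S}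
    (c : ClType (FibCat.fp a a) T) :
    (pullback.fst (chartCl a π) (chartCl a π)).hom.app (op T) ((isomToSquare a π hs).hom.app (op T) c) =
      ⟨fpHom c⟩ :=
  congrArg (fun φ => φ.hom.app (op T) c) (isomToSquare_comp_fst a π hs)

theorem snd_app_isomToSquare (hs : Presheaf.IsSheaf (J S) (ASt.fib a a)) {T : Over S}
    (c : ClType (FibCat.fp a a) T) :
    (pullback.snd (chartCl a π) (chartCl a π)).hom.app (op T) ((isomToSquare a π hs).hom.app (op T) c) =
      ⟨IsomEl.snd a c⟩ :=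
  congrArg (fun φ => φ.hom.app (op T) c) (isomToSquare_comp_snd a π hs)

theorem square_ext {T : Over S} {z z' : (pullback (chartCl a π) (chartCl a π)).obj.obj (op T)}
    (h₁ : (pullback.fst (chartCl a π) (chartCl a π)).hom.app (op T) z =
      (pullback.fst (chartCl a π) (chartCl a π)).hom.app (op T) z')
    (h₂ : (pullback.snd (chartCl a π) (chartCl a π)).hom.app (op T) z =
      (pullback.snd (chartCl a π) (chartCl a π)).hom.app (op T) z') : z = z' :=
  ((Types.isPullback_iff _ _ _ _).1 (((IsPullback.of_hasPullback (chartCl a π) (chartCl a π)).map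
    (sheafToPresheaf (J S) (Type (u + 1)))).map ((evaluation _ _).obj (op T)))).2.1 _ _ ⟨h₁, h₂⟩

theorem isLocallySurjective_isomToSquare (hπ : Gerb.IsGerbeOver (J S) π)
    (hs : Presheaf.IsSheaf (J S) (ASt.fib a a)) : Sheaf.IsLocallySurjective (isomToSquare a π hs) := ⟨fun {T} z => by
  let k : T ⟶ U := ((pullback.fst (chartCl a π) (chartCl a π)).hom.app (op T) z : ULift.{u + 1} (T ⟶ U)).down
  let k' : T ⟶ U := ((pullback.snd (chartCl a π) (chartCl a π)).hom.app (op T) z : ULift.{u + 1} (T ⟶ U)).down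
  have e : (chartCl a π).hom.app (op T) ⟨k⟩ = (chartCl a π).hom.app (op T) ⟨k'⟩ :=
    congrArg (fun φ => φ.hom.app (op T) z) (pullback.condition (f := chartCl a π) (g := chartCl a π))
  obtain ⟨R, hR, hR'⟩ := exists_vert_of_chartCl_eq a π hπ e
  refine (J S).superset_covering (fun V g hg => ?_) hR
  obtain ⟨φ, hφ⟩ := hR' g hg
  refine ⟨IsomEl.el a hφ, square_ext a π ?_ ?_⟩
  · rw [fst_app_isomToSquare, NatTrans.naturality_apply, IsomEl.fpHom_el]
    rfl
  · rw [snd_app_isomToSquare, NatTrans.naturality_apply, IsomEl.snd_el]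
    rfl⟩

/-- Projections of the kernel pair of the space of isomorphisms over the fibre square are flat. -/
theorem locP_kernelPair {M : MorphismProperty Scheme.{u}} [IsEtLocal M]
    [M.DescendsAlong (@Surjective ⊓ @Flat ⊓ @QuasiCompact)] [IsZariskiLocalAtTarget M]
    (hI : AlgSt.RepByAlgSpWith (LocP M) (FibCat.inertiaToBase (FibCat.toSelf 𝒳)))
    {hs : Presheaf.IsSheaf (J S) (ASt.fib a a)} (hA : IsAlgSpace (⟨ASt.fib a a, hs⟩ : Sp S))
    {E : Sp S} (hE : IsAlgSpace E) {e₁ e₂ : E ⟶ (⟨ASt.fib a a, hs⟩ : Sp S)}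
    (sq : IsPullback e₁ e₂ (isomToSquare a π hs) (isomToSquare a π hs)) : LocP M e₂ := by
  obtain ⟨V, v, hve, hvs⟩ := hA.atlas
  let E₀ : ClType (FibCat.fp a a) V := v.hom.app (op V) ⟨𝟙 V⟩
  obtain ⟨k, k', φ₀, h₀, hE₀⟩ := IsomEl.el_exists a E₀
  let α := IsomEl.isoOf a h₀
  haveI : FibCat.IsFibGrpd (FibCat.fp a a).p := isFibGrpd_fp
  haveI : FibCat.IsFibGrpd (FibCat.fp (FibCat.toSelf 𝒳) (FibCat.toSelf 𝒳)).p := isFibGrpd_fp
  haveI : FibCat.IsFibGrpd (FibCat.fp (IsomEl.diagPt a k') (FibCat.diag (FibCat.toSelf 𝒳))).p := isFibGrpd_fp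
  obtain ⟨hsA, -, hP⟩ : FibHas (LocP M) (IsomEl.diagPt a k') (FibCat.diag (FibCat.toSelf 𝒳)) :=
    fibHas_diag_of_inertia hI (BasedFunctor.comp (AlgSt.overMap k') a)
  let A : Sp S := ⟨ASt.fib (IsomEl.diagPt a k') (FibCat.diag (FibCat.toSelf 𝒳)), hsA⟩
  let πA : A ⟶ (yon S).obj V := ObjectProperty.homMk (fibπ (IsomEl.diagPt a k') (FibCat.diag (FibCat.toSelf 𝒳)))
  let Φ : A ⟶ (⟨ASt.fib a a, hs⟩ : Sp S) := ObjectProperty.homMk (clFun (IsomEl.twist a α))
  have hη : ∀ {T : Over S} (g : T ⟶ V), 𝒳.p.map (α.hom.toNatTrans.app (ov g)) = _ := fun g => map_app _ _ α.hom (ov g)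
  have hηV : ∀ {T : Over S} (g : T ⟶ V), IsomEl.Vert a (g ≫ k) (g ≫ k') (α.hom.toNatTrans.app (ov g)) :=
    fun g => (hη g).trans rfl
  have hv : ∀ {T : Over S} (g : T ⟶ V), v.hom.app (op T) ⟨g⟩ = IsomEl.el a (hηV g) := by
    intro T g
    have hn : v.hom.app (op T) ⟨g⟩ = clMap g E₀ := by
      refine Eq.trans ?_ (NatTrans.naturality_apply v.hom g.op (⟨𝟙 V⟩ : ULift.{u + 1} (V ⟶ V)))
      exact congrArg (fun c => v.hom.app (op T) c) (congrArg ULift.up (Category.comp_id g).symm)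
    rw [hn, hE₀]
    refine IsomEl.clMap_el a g h₀ (hηV g) ?_
    have e2 := funIso_app (y := BasedFunctor.comp (AlgSt.overMap k) a) (y' := BasedFunctor.comp (AlgSt.overMap k') a)
      (a.map (ovHom (𝟙 V) rfl : ov (𝟙 V ≫ k) ⟶ ov k) ≫ φ₀ ≫
        a.map (ovHom (𝟙 V) (Category.id_comp _) : ov k' ⟶ ov (𝟙 V ≫ k'))) (by
      rw [Functor.map_comp, Functor.map_comp, map_w, map_w, h₀, ov_p_map, ov_p_map]
      simp
      erw [Category.id_comp, Category.id_comp]
      exact eqToHom_trans _ _) (ov g)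
    let A' : ov (g ≫ k) ⟶ ov (𝟙 V ≫ k) := Over.homMk g (by simp)
    let B' : ov (g ≫ k') ⟶ ov (𝟙 V ≫ k') := Over.homMk g (by simp)
    let C' : ov (𝟙 V ≫ k') ⟶ ov k' := ovHom (𝟙 V) rfl
    change α.hom.toNatTrans.app (ov g) ≫ a.map B' = a.map A' ≫ _ at e2
    have f1 : A' ≫ (ovHom (𝟙 V) rfl : ov (𝟙 V ≫ k) ⟶ ov k) = ovHom g rfl :=
      Over.OverMorphism.ext (Category.comp_id g)
    have f2 : B' ≫ C' = (ovHom g rfl : ov (g ≫ k') ⟶ ov k') := Over.OverMorphism.ext (Category.comp_id g)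
    have f3 : (ovHom (𝟙 V) (Category.id_comp _) : ov k' ⟶ ov (𝟙 V ≫ k')) ≫ C' = 𝟙 _ :=
      Over.OverMorphism.ext (Category.comp_id _)
    rw [← f1, ← f2, a.toFunctor.map_comp, a.toFunctor.map_comp, ← Category.assoc (α.hom.toNatTrans.app (ov g)), e2]
    simp only [Category.assoc, ← a.toFunctor.map_comp, f3, a.toFunctor.map_id, Category.comp_id]
    rw [a.toFunctor.map_comp, Category.assoc]
  have hinv : ∀ {T : Over S} (g : T ⟶ V), IsIso (α.hom.toNatTrans.app (ov g)) :=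
    fun g => isIso_of_vert _ (hη g)
  have hπA : ∀ {T : Over S} (g : T ⟶ V) {w} (h : DVert (g := FibCat.toSelf 𝒳) (IsomEl.diagPt a k') g w),
      πA.hom.app (op T) (diagEl (IsomEl.diagPt a k') h) = ⟨g⟩ := fun g _ h => congrArg ULift.up (fpHom_diagEl _ h)
  have hΦ : ∀ {T : Over S} (g : T ⟶ V) {w} (h : DVert (g := FibCat.toSelf 𝒳) (IsomEl.diagPt a k') g w),
      Φ.hom.app (op T) (diagEl (IsomEl.diagPt a k') h) = IsomEl.el a (IsomEl.vert_twist a α g h) :=
    fun g _ h => IsomEl.clF_twist a α g h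
  have sqA : IsPullback Φ πA (isomToSquare a π hs) (v ≫ isomToSquare a π hs) := by
    refine IsPullback.of_map_of_faithful (sheafToPresheaf (J S) (Type (u + 1)))
      (isPullback_of_pointwise ?_ (fun T c c' e1 e2 => ?_) fun T b d h => ?_)
    · ext T c
      obtain ⟨g, w, h, rfl⟩ := diagEl_exists (T := T.unop) (IsomEl.diagPt a k') c
      change (isomToSquare a π hs).hom.app T (Φ.hom.app T (diagEl (IsomEl.diagPt a k') h)) =
        (isomToSquare a π hs).hom.app T (v.hom.app T (πA.hom.app T (diagEl (IsomEl.diagPt a k') h)))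
      rw [hΦ g h, hπA g h, hv g]
      refine square_ext a π ?_ ?_
      · rw [fst_app_isomToSquare, fst_app_isomToSquare, IsomEl.fpHom_el, IsomEl.fpHom_el]
      · rw [snd_app_isomToSquare, snd_app_isomToSquare, IsomEl.snd_el, IsomEl.snd_el]
    · obtain ⟨g, w, h, rfl⟩ := diagEl_exists (T := T) (IsomEl.diagPt a k') c
      obtain ⟨g', w', h', rfl⟩ := diagEl_exists (T := T) (IsomEl.diagPt a k') c'
      change πA.hom.app (op T) _ = πA.hom.app (op T) _ at e2
      rw [hπA g h, hπA g' h'] at e2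
      obtain rfl : g = g' := congrArg ULift.down e2
      change Φ.hom.app (op T) _ = Φ.hom.app (op T) _ at e1
      rw [hΦ g h, hΦ g h'] at e1
      have e3 := IsomEl.el_inj a _ _ e1
      haveI := hinv g
      exact (diagEl_eq_iff _ h h').2 ((cancel_epi (α.hom.toNatTrans.app (ov g))).1 e3)
    · obtain ⟨g⟩ := d
      obtain ⟨l, l', ψ, hψ, rfl⟩ := IsomEl.el_exists (T := T) a b
      change (isomToSquare a π hs).hom.app (op T) _ = (isomToSquare a π hs).hom.app (op T) (v.hom.app (op T) ⟨g⟩) at h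
      rw [hv g] at h
      have h1 := congrArg (fun z => (pullback.fst (chartCl a π) (chartCl a π)).hom.app (op T) z) h
      have h2 := congrArg (fun z => (pullback.snd (chartCl a π) (chartCl a π)).hom.app (op T) z) h
      obtain rfl : l = g ≫ k := (IsomEl.fpHom_el a hψ).symm.trans ((congrArg ULift.down
        ((fst_app_isomToSquare a π hs _).symm.trans (h1.trans (fst_app_isomToSquare a π hs _)))).trans
          (IsomEl.fpHom_el a (hηV g)))
      obtain rfl : l' = g ≫ k' := (IsomEl.snd_el a hψ).symm.trans ((congrArg ULift.down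
        ((snd_app_isomToSquare a π hs _).symm.trans (h2.trans (snd_app_isomToSquare a π hs _)))).trans
          (IsomEl.snd_el a (hηV g)))
      haveI := hinv g
      have hw : DVert (g := FibCat.toSelf 𝒳) (IsomEl.diagPt a k') g (inv (α.hom.toNatTrans.app (ov g)) ≫ ψ) := by
        have hm : 𝒳.p.map (inv (α.hom.toNatTrans.app (ov g)) ≫ ψ) =
            eqToHom (fp_snd_base ((IsomEl.diagPt a k').obj (ov g))).symm := by
          rw [Functor.map_comp, Functor.map_inv, IsIso.inv_comp_eq, hη g, hψ]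
          exact (eqToHom_trans _ _).symm
        exact ⟨hm, hm.trans ((fp_iso_map ((IsomEl.diagPt a k').obj (ov g))).trans rfl).symm⟩
      refine ⟨diagEl _ hw, (hΦ g hw).trans ?_, hπA g hw⟩
      exact IsomEl.el_congr a _ hψ rfl rfl (by simp)
  have hw' : Φ ≫ isomToSquare a π hs = (πA ≫ v) ≫ isomToSquare a π hs := by rw [Category.assoc]; exact sqA.w
  have sqB : IsPullback (sq.lift Φ (πA ≫ v) hw') πA e₂ v :=
    IsPullback.of_right (by rw [sq.lift_fst]; exact sqA) (sq.lift_snd _ _ _) sq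
  exact Groth.Agent.ASp.of_chart_fppf isLocalOnBase_fppf_locP
    (ObjectProperty.homMk e₂ : (⟨E, hE⟩ : AlgSp.Space S) ⟶ ⟨_, hA⟩) hve hvs sqB hP

/-- The sheaf of classes of a stack with flat and finitely presented inertia is an algebraic space. -/
theorem isAlgSpace_of_gerbe (hX : AlgSt.IsAlgStack Scheme.fppfPrecoverage 𝒳)
    (hI₁ : AlgSt.RepByAlgSpWith (LocP @Flat) (FibCat.inertiaToBase (FibCat.toSelf 𝒳)))
    (hI₂ : AlgSt.RepByAlgSpWith (LocP @LocallyOfFinitePresentation) (FibCat.inertiaToBase (FibCat.toSelf 𝒳)))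
    (hπ : Gerb.IsGerbeOver (J S) π) : IsAlgSpace F := by
  obtain ⟨U, a, ha, has⟩ := hX.atlas
  obtain ⟨hs, hA, hsm⟩ := (repByAlgSpWith_iff.1 ha).2 U a
  haveI := isLocallySurjective_chartCl a π hπ ha has
  haveI := isLocallySurjective_isomToSquare a π hπ hs
  let p := chartCl a π
  let q := isomToSquare a π hs
  let m : pullback p p ⟶ (yon S).obj U ⨯ (yon S).obj U := prod.lift (pullback.fst p p) (pullback.snd p p)
  haveI : Mono m := ⟨fun g g' e => pullback.hom_ext (by simpa [m] using congrArg (· ≫ prod.fst) e)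
    (by simpa [m] using congrArg (· ≫ prod.snd) e)⟩
  have sqE := IsPullback.of_hasPullback q q
  have sqE' : IsPullback (pullback.fst q q) (pullback.snd q q) (q ≫ m) (q ≫ m) :=
    IsPullback.of_isLimit' ⟨by rw [reassoc_of% sqE.w]⟩
      (PullbackCone.IsLimit.mk _ (fun c => sqE.lift c.fst c.snd ((cancel_mono m).1 (by simpa using c.condition)))
        (fun c => sqE.lift_fst _ _ _) (fun c => sqE.lift_snd _ _ _)
        (fun c r e1 e2 => sqE.hom_ext (by rw [e1, sqE.lift_fst]) (by rw [e2, sqE.lift_snd])))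
  have hE : IsAlgSpace (pullback q q) := isAlgSpace_of_isPullback
    (isAlgSpace_prod (IsAlgSpace.yon_obj U) (IsAlgSpace.yon_obj U)).diag hA hA sqE'
  obtain ⟨hQ, hqs, hqf, hqp⟩ := isAlgSpace_of_kernelPair hE hA sqE
    ⟨locP_kernelPair a π hI₁ hA hE sqE, locP_kernelPair a π hI₂ hA hE sqE⟩
    ⟨locP_kernelPair a π hI₁ hA hE sqE.flip, locP_kernelPair a π hI₂ hA hE sqE.flip⟩
  have hfl : LocP @Flat (pullback.fst p p) :=
    locP_desc (fun g h hg hgp hgs hgh => by
      haveI := hg; haveI := hgs; haveI : Flat (g ≫ h) := hgh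
      exact Groth.Agent.FlatDescStalk.flat_of_comp g h) hA hQ (IsAlgSpace.yon_obj U) q _
      ⟨hqf, hqp⟩ hqs (by rw [isomToSquare_comp_fst]; exact Groth.Agent.ASp.locP_mono (fun _ _ g (hg : Smooth g) => (haveI := hg; inferInstance : Flat g)) hsm)
  have hfp : LocP @LocallyOfFinitePresentation (pullback.fst p p) :=
    locP_desc (fun g h hg hgp hgs hgh => by
      haveI := hg; haveI := hgs; haveI := hgp
      haveI : LocallyOfFinitePresentation (g ≫ h) := hgh
      exact Groth.Agent.FppfSrc.locallyOfFinitePresentation_of_precomp_fppf g h) hA hQ (IsAlgSpace.yon_obj U) q _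
      ⟨hqf, hqp⟩ hqs (by rw [isomToSquare_comp_fst]; exact Groth.Agent.ASp.locP_mono (fun _ _ g (hg : Smooth g) => (haveI := hg; inferInstance : LocallyOfFinitePresentation g)) hsm)
  have hσ : (pullbackSymmetry p p).hom ≫ pullback.fst p p = pullback.snd p p :=
    pullbackSymmetry_hom_comp_fst p p
  exact (isAlgSpace_of_kernelPair hQ (IsAlgSpace.yon_obj U) (IsPullback.of_hasPullback p p)
    ⟨hσ ▸ (MorphismProperty.cancel_left_of_respectsIso _ _ _).2 hfl,
      hσ ▸ (MorphismProperty.cancel_left_of_respectsIso _ _ _).2 hfp⟩ ⟨hfl, hfp⟩).1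

end Groth.Agent.DecSec
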