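import Groth.Agent.DecSec.AutFib
import Groth.Agent.ASt.DiagAbs
import Groth.Agent.ASt.DiagSq

/-! Classes in the space of isomorphisms between two values of a chart. -/

set_option autoImplicit false
set_option backward.isDefEq.respectTransparency false
set_option backward.isDefEq.respectTransparency.types false

universe u

open CategoryTheory CategoryTheory.Limits AlgebraicGeometry Opposite

namespace Groth.Agent.DecSec.IsomEl

open _root_.AlgSp Groth.Agent.ASp Groth.Agent.ASt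

variable {S : Scheme.{u}} {𝒳 : AlgSt.Cat S} [FibCat.IsFibGrpd 𝒳.p] {U : Over S} (a : FibCat.overCat U ⥤ᵇ 𝒳)

/-- A morphism between values of a chart over the identity. -/
abbrev Vert {T : Over S} (k k' : T ⟶ U) (φ : a.obj (ov k) ⟶ a.obj (ov k')) : Prop :=
  𝒳.p.map φ = eqToHom (((a.w_obj (ov k)).trans (ov_base k)).trans
    ((ov_base k').symm.trans (a.w_obj (ov k')).symm))

/-- The class of an isomorphism. -/
noncomputable def el {T : Over S} {k k' : T ⟶ U} {φ : a.obj (ov k) ⟶ a.obj (ov k')} (h : Vert a k k' φ) :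
    ClType (FibCat.fp a a) T :=
  fpEl k (ov k') (ov_base k') φ h

theorem fpHom_el {T : Over S} {k k' : T ⟶ U} {φ : a.obj (ov k) ⟶ a.obj (ov k')} (h : Vert a k k' φ) :
    fpHom (el a h) = k := fpHom_fpEl _ _ _ _ _

/-- The second point of a class. -/
noncomputable def snd {T : Over S} (c : ClType (FibCat.fp a a) T) : T ⟶ U :=
  overHom (clF (FibCat.fpSnd a a) T c)

theorem snd_el {T : Over S} {k k' : T ⟶ U} {φ : a.obj (ov k) ⟶ a.obj (ov k')} (h : Vert a k k' φ) :
    snd a (el a h) = k' := Category.id_comp k'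

theorem snd_clMap {T' T : Over S} (g : T' ⟶ T) (c : ClType (FibCat.fp a a) T) :
    snd a (clMap g c) = g ≫ snd a c := by
  haveI : FibCat.IsFibGrpd (FibCat.fp a a).p := isFibGrpd_fp
  unfold snd
  rw [← overHom_clMap]
  exact congrArg overHom ((clFun (FibCat.fpSnd a a)).naturality_apply g.op c)

theorem el_exists {T : Over S} (c : ClType (FibCat.fp a a) T) :
    ∃ (k k' : T ⟶ U) (φ : a.obj (ov k) ⟶ a.obj (ov k')) (h : Vert a k k' φ), c = el a h := by
  obtain ⟨k, x₁, hx₁, φ, hφ, rfl⟩ := fpEl_exists c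
  obtain ⟨X, ⟨⟨⟩⟩, k'⟩ := x₁
  obtain rfl : X = T := hx₁
  exact ⟨k, k', φ, hφ, rfl⟩

theorem el_inj {T : Over S} {k k' : T ⟶ U} {φ ψ : a.obj (ov k) ⟶ a.obj (ov k')} (h : Vert a k k' φ)
    (h' : Vert a k k' ψ) (e : el a h = el a h') : φ = ψ := by
  obtain ⟨m, hm, hm'⟩ := fpEl_eq_iff.1 e
  obtain rfl : m = 𝟙 (ov k') := Over.OverMorphism.ext (hm.trans (eqToHom_refl _ _))
  rw [a.toFunctor.map_id, Category.comp_id] at hm'
  exact hm'

theorem el_congr {T : Over S} {k l k' l' : T ⟶ U} {φ : a.obj (ov k) ⟶ a.obj (ov k')}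
    {ψ : a.obj (ov l) ⟶ a.obj (ov l')} (h : Vert a k k' φ) (h' : Vert a l l' ψ) (e₁ : k = l) (e₂ : k' = l')
    (e : φ ≫ eqToHom (by rw [e₂]) = eqToHom (by rw [e₁]) ≫ ψ) : el a h = el a h' := by
  subst e₁ e₂
  obtain rfl : φ = ψ := by simpa using e
  rfl

theorem clMap_el {T' T : Over S} (g : T' ⟶ T) {k k' : T ⟶ U} {φ : a.obj (ov k) ⟶ a.obj (ov k')}
    (h : Vert a k k' φ) {ψ : a.obj (ov (g ≫ k)) ⟶ a.obj (ov (g ≫ k'))} (h' : Vert a (g ≫ k) (g ≫ k') ψ)
    (w : a.map (ovHom g rfl) ≫ φ = ψ ≫ a.map (ovHom g rfl)) : clMap g (el a h) = el a h' :=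
  clMap_fpEl g rfl (ovHom g rfl) w

variable {V : Over S} {k k' : V ⟶ U} {φ₀ : a.obj (ov k) ⟶ a.obj (ov k')} (h₀ : Vert a k k' φ₀)

/-- The point of the diagonal under the second value. -/
noncomputable abbrev diagPt (k' : V ⟶ U) : FibCat.overCat V ⥤ᵇ FibCat.fp (FibCat.toSelf 𝒳) (FibCat.toSelf 𝒳) :=
  BasedFunctor.comp (BasedFunctor.comp (AlgSt.overMap k') a) (FibCat.diag (FibCat.toSelf 𝒳))

/-- The 2-isomorphism given by a class. -/
noncomputable def isoOf : BasedFunctor.comp (AlgSt.overMap k) a ≅ BasedFunctor.comp (AlgSt.overMap k') a :=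
  funIso (y := BasedFunctor.comp (AlgSt.overMap k) a) (y' := BasedFunctor.comp (AlgSt.overMap k') a)
    (a.map (ovHom (𝟙 V) rfl : ov (𝟙 V ≫ k) ⟶ ov k) ≫ φ₀ ≫
      a.map (ovHom (𝟙 V) (Category.id_comp _) : ov k' ⟶ ov (𝟙 V ≫ k'))) (by
    rw [Functor.map_comp, Functor.map_comp, map_w, map_w, h₀, ov_p_map, ov_p_map]
    simp
    erw [Category.id_comp, Category.id_comp]
    exact eqToHom_trans _ _)

/-- Composition of the given isomorphism with an automorphism. -/
noncomputable def twist (α : BasedFunctor.comp (AlgSt.overMap k) a ≅ BasedFunctor.comp (AlgSt.overMap k') a) :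
    FibCat.fp (diagPt a k') (FibCat.diag (FibCat.toSelf 𝒳)) ⥤ᵇ FibCat.fp a a :=
  BasedFunctor.comp (absF (diagPt a k'))
    (FibCat.fpLift (F := a) (G := a)
      (BasedFunctor.comp (FibCat.fpFst (testFst (diagPt a k')) (testSnd (diagPt a k'))) (AlgSt.overMap k))
      (BasedFunctor.comp (FibCat.fpSnd (testFst (diagPt a k')) (testSnd (diagPt a k'))) (AlgSt.overMap k'))
      (wL (FibCat.fpFst (testFst (diagPt a k')) (testSnd (diagPt a k'))) α ≪≫
        FibCat.fpIso (testFst (diagPt a k')) (testSnd (diagPt a k'))))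

theorem vert_twist (α : BasedFunctor.comp (AlgSt.overMap k) a ≅ BasedFunctor.comp (AlgSt.overMap k') a)
    {T : Over S} (g : T ⟶ V) {v : _} (h : DVert (g := FibCat.toSelf 𝒳) (diagPt a k') g v) :
    Vert a (g ≫ k) (g ≫ k') (α.hom.toNatTrans.app (ov g) ≫ v) := by
  have h2 : 𝒳.p.map v = eqToHom _ := h.map
  change 𝒳.p.map (α.hom.toNatTrans.app (ov g) ≫ v) = _
  rw [Functor.map_comp, map_app _ _ α.hom (ov g), h2]
  exact eqToHom_trans _ _

theorem clF_twist (α : BasedFunctor.comp (AlgSt.overMap k) a ≅ BasedFunctor.comp (AlgSt.overMap k') a)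
    {T : Over S} (g : T ⟶ V) {v : _} (h : DVert (g := FibCat.toSelf 𝒳) (diagPt a k') g v) :
    clF (twist a α) T (diagEl (diagPt a k') h) = el a (vert_twist a α g h) := by
  haveI : FibCat.IsFibGrpd (FibCat.fp a a).p := isFibGrpd_fp
  haveI : FibCat.IsFibGrpd (FibCat.fp (FibCat.toSelf 𝒳) (FibCat.toSelf 𝒳)).p := isFibGrpd_fp
  haveI hi : IsIso (dHom (diagPt a k') h).hom.snd := by
    change IsIso (𝟙 _)
    infer_instance
  have hv := map_absF_vert (diagPt a k') (wbase' (diagPt a k') g) (map_dHom (diagPt a k') h)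
  refine (congrArg (clF (FibCat.fpLift (F := a) (G := a)
      (BasedFunctor.comp (FibCat.fpFst (testFst (diagPt a k')) (testSnd (diagPt a k'))) (AlgSt.overMap k))
      (BasedFunctor.comp (FibCat.fpSnd (testFst (diagPt a k')) (testSnd (diagPt a k'))) (AlgSt.overMap k'))
      (wL (FibCat.fpFst (testFst (diagPt a k')) (testSnd (diagPt a k'))) α ≪≫
        FibCat.fpIso (testFst (diagPt a k')) (testSnd (diagPt a k')))) T)
    (clF_absF (diagPt a k') g _ (wbase' (diagPt a k') g) (dHom (diagPt a k') h) (map_dHom (diagPt a k') h)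
      (hi := hi) (hφ' := hv))).trans ?_
  refine cl_eq_iff.2 ⟨fpHomMk (𝟙 _) (𝟙 _) ?_, ((FibCat.overCat U).p.map_id _).trans rfl⟩
  change a.map (𝟙 _) ≫ (α.hom.toNatTrans.app (ov g) ≫ v) =
    (α.hom.toNatTrans.app (ov g) ≫ v ≫ inv (dHom (diagPt a k') h).hom.snd) ≫ a.map (𝟙 _)
  rw [a.toFunctor.map_id, a.toFunctor.map_id]
  have he : inv (dHom (diagPt a k') h).hom.snd = 𝟙 _ := IsIso.inv_eq_of_hom_inv_id (Category.id_comp _)
  rw [he]
  simp
  exact congrArg (fun r => α.hom.toNatTrans.app (ov g) ≫ r)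
    ((Category.comp_id v).symm.trans (congrArg (fun r => v ≫ r) (Category.id_comp _).symm))

end Groth.Agent.DecSec.IsomEl
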