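import Groth.Agent.ASt.DiagLft
import Groth.Agent.ASt.Chart
import Groth.Agent.ASt.PtsTop
import Groth.Agent.ASp.ClosedIdeal
import Groth.Agent.PointBC.Basic
import Mathlib.AlgebraicGeometry.Morphisms.FlatMono
/-!
Trivial automorphism kernels at field-valued points and unramified diagonal give faithfulness.
-/

set_option autoImplicit false
set_option backward.isDefEq.respectTransparency false
set_option backward.isDefEq.respectTransparency.types false
set_option linter.style.haveILetI false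

universe u

open CategoryTheory CategoryTheory.Limits AlgebraicGeometry Opposite

namespace Groth.Agent.DecSec.KernelTrivial

open _root_.AlgSp Groth.Agent.ASp Groth.Agent.ASt

variable {S : Scheme.{u}} {𝒳 𝒴 : AlgSt.Cat S}

/-- The automorphism kernel is trivial at all pullbacks of an object along a morphism. -/
def KerTriv (f : 𝒳 ⥤ᵇ 𝒴) (a : 𝒳.obj) {R : Over S} (r : R ⟶ 𝒳.p.obj a) : Prop :=
  ∀ (b : 𝒳.obj) (g : b ⟶ a) (hb : 𝒳.p.obj b = R), 𝒳.p.map g = eqToHom hb ≫ r →
    ∀ γ : b ⟶ b, 𝒳.p.map γ = 𝟙 _ → f.map γ = 𝟙 _ → γ = 𝟙 b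

variable [FibCat.IsFibGrpd 𝒳.p] [FibCat.IsFibGrpd 𝒴.p] {f : 𝒳 ⥤ᵇ 𝒴}

theorem fpHom_injective_of_kerTriv (a : 𝒳.obj) {R : Over S} (r : R ⟶ 𝒳.p.obj a) (hk : KerTriv f a r)
    (c c' : ClType (FibCat.fp (objFun ((FibCat.diag f).obj a) ((FibCat.diag f).w_obj a)) (FibCat.diag f)) R)
    (h : fpHom c = r) (h' : fpHom c' = r) : c = c' := by
  haveI : FibCat.IsFibGrpd (FibCat.fp f f).p := isFibGrpd_fp
  obtain ⟨k, b, hb, φ, hφ, rfl⟩ := fpEl_exists c
  obtain ⟨k', b', hb', φ', hφ', rfl⟩ := fpEl_exists c'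
  obtain rfl : k = r := (fpHom_fpEl _ _ _ _ _).symm.trans h
  obtain rfl : k' = k := (fpHom_fpEl _ _ _ _ _).symm.trans h'
  haveI := isIso_of_vert φ hφ
  let θ : (FibCat.diag f).obj b ⟶ (FibCat.diag f).obj b' := inv φ ≫ φ'
  have hθ : (FibCat.fp f f).p.map θ = eqToHom (((FibCat.diag f).w_obj b).trans
      ((hb.trans hb'.symm).trans ((FibCat.diag f).w_obj b').symm)) := by
    rw [Functor.map_comp, Functor.map_inv, IsIso.inv_comp_eq, hφ, hφ']
    simp
  have hα : 𝒳.p.map θ.hom.fst = eqToHom (hb.trans hb'.symm) := hθ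
  have hβ : 𝒳.p.map θ.hom.snd = eqToHom (hb.trans hb'.symm) := by
    rw [fp_map_snd θ, hα]
    simp
  haveI := isIso_of_vert θ.hom.fst hα
  have hw : f.map θ.hom.fst = f.map θ.hom.snd :=
    ((Category.comp_id _).symm.trans θ.hom.w).trans (Category.id_comp _)
  let g : b ⟶ a := (inv φ ≫ pullHom ((FibCat.diag f).obj a) ((FibCat.diag f).w_obj a) k').hom.fst
  have hg : 𝒳.p.map g = eqToHom hb ≫ k' := by
    show (FibCat.fp f f).p.map (inv φ ≫ pullHom ((FibCat.diag f).obj a) ((FibCat.diag f).w_obj a) k') = _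
    rw [Functor.map_comp, Functor.map_inv, IsIso.inv_comp_eq, map_pullHom, hφ]
    simp
  have hγ := hk b g hb hg (θ.hom.snd ≫ inv θ.hom.fst) (by rw [Functor.map_comp, Functor.map_inv, hβ]; simp [hα])
    (by rw [f.map_comp, f.map_inv]; simp [hw])
  have he : θ.hom.snd = θ.hom.fst := by
    have := congrArg (fun t => t ≫ θ.hom.fst) hγ
    simp only [Category.assoc, IsIso.inv_hom_id] at this
    exact ((Category.comp_id _).symm.trans this).trans (Category.id_comp _)
  refine fpEl_eq_iff.2 ⟨θ.hom.fst, hα, ?_⟩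
  have e : (FibCat.diag f).map θ.hom.fst = θ := fp_hom_ext rfl he.symm
  rw [e, IsIso.hom_inv_id_assoc]

theorem aut_eq_id_of_fpHom_injective (a : 𝒳.obj)
    (hinj : ∀ (c c' : ClType (FibCat.fp (objFun ((FibCat.diag f).obj a) ((FibCat.diag f).w_obj a)) (FibCat.diag f))
      (𝒳.p.obj a)), fpHom c = fpHom c' → c = c')
    (γ : a ⟶ a) (hγ : 𝒳.p.map γ = 𝟙 _) (hfγ : f.map γ = 𝟙 _) : γ = 𝟙 a := by
  haveI : FibCat.IsFibGrpd (FibCat.fp f f).p := isFibGrpd_fp
  let J := pullHom ((FibCat.diag f).obj a) ((FibCat.diag f).w_obj a) (𝟙 (𝒳.p.obj a))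
  have hJ : (FibCat.fp f f).p.map J = eqToHom ((pull_base ((FibCat.diag f).obj a) ((FibCat.diag f).w_obj a)
      (𝟙 (𝒳.p.obj a))).trans ((FibCat.diag f).w_obj a).symm) := by
    refine (map_pullHom _ _ _).trans ?_
    simp
  haveI := isIso_of_vert J hJ
  let ψ : (FibCat.diag f).obj a ⟶ (FibCat.diag f).obj a := fpHomMk γ (𝟙 a) (by
    rw [hfγ]
    erw [f.toFunctor.map_id]
    exact (Category.id_comp _).trans (Category.comp_id _).symm)
  have hψ : (FibCat.fp f f).p.map ψ = eqToHom rfl := hγ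
  have h := hinj (fpEl (y := objFun ((FibCat.diag f).obj a) ((FibCat.diag f).w_obj a)) (f := FibCat.diag f)
      (𝟙 (𝒳.p.obj a)) a rfl J hJ)
    (fpEl (y := objFun ((FibCat.diag f).obj a) ((FibCat.diag f).w_obj a)) (f := FibCat.diag f)
      (𝟙 (𝒳.p.obj a)) a rfl (J ≫ ψ) (by rw [Functor.map_comp, hJ, hψ]; simp))
    (by rw [fpHom_fpEl, fpHom_fpEl])
  obtain ⟨δ, -, hδ⟩ := fpEl_eq_iff.1 h
  have e : (FibCat.diag f).map δ = ψ := (cancel_epi J).1 hδ
  have e1 : δ = γ := congrArg (fun t : (FibCat.diag f).obj a ⟶ (FibCat.diag f).obj a => t.hom.fst) e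
  have e2 : δ = 𝟙 a := congrArg (fun t : (FibCat.diag f).obj a ⟶ (FibCat.diag f).obj a => t.hom.snd) e
  exact e1.symm.trans e2

theorem aut_eq_id (hl : AlgSt.RepByAlgSpWith (LocP @LocallyOfFiniteType) (FibCat.diag f)) (a : 𝒳.obj)
    (hpt : ∀ (K : Type u) [Field K] [IsAlgClosed K] (s : Spec (CommRingCat.of K) ⟶ S) (r : Over.mk s ⟶ 𝒳.p.obj a), KerTriv f a r)
    (hu : AlgSt.RepByAlgSpWith (LocP (@LocallyOfFiniteType ⊓ @FormallyUnramified)) (FibCat.diag f) ∨
      ∀ (K : Type u) [Field K] [IsAlgClosed K] (s : Spec (CommRingCat.of K) ⟶ S) (g : Over.mk s ⟶ 𝒳.p.obj a)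
        (R : Over S) (r : R ⟶ Over.mk s), KerTriv f a (r ≫ g))
    (γ : a ⟶ a) (hγ : 𝒳.p.map γ = 𝟙 _) (hfγ : f.map γ = 𝟙 _) : γ = 𝟙 a := by
  haveI : FibCat.IsFibGrpd (FibCat.fp f f).p := isFibGrpd_fp
  let T : Over S := 𝒳.p.obj a
  let w : FibCat.overCat T ⥤ᵇ FibCat.fp f f := objFun ((FibCat.diag f).obj a) ((FibCat.diag f).w_obj a)
  haveI : FibCat.IsFibGrpd (FibCat.fp w (FibCat.diag f)).p := isFibGrpd_fp
  obtain ⟨hs, hA, U, p, E, h, hpe, hps, hcomp, -, -, -⟩ := exists_chart_of_fib (repByAlgSp1_of_with hl) w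
  let F : Sp S := ⟨fib w (FibCat.diag f), hs⟩
  let π : F ⟶ (yon S).obj T := ObjectProperty.homMk (fibπ w (FibCat.diag f))
  haveI hlh : LocallyOfFiniteType h.left := prop_chart hpe hcomp ((repByAlgSpWith_iff.1 hl).2 _ w).2.2
  have hinj : ∀ {R : Over S} (x x' : (yon S).obj R ⟶ F) (r : R ⟶ T), KerTriv f a r →
      x ≫ π = (yon S).map r → x' ≫ π = (yon S).map r → x = x' := by
    intro R x x' r hk e e'
    have he : ∀ (x : (yon S).obj R ⟶ F), x ≫ π = (yon S).map r →
        fpHom (uliftYonedaEquiv.{u + 1} x.hom) = r := fun x e => by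
      have := congrArg (fun k : (yon S).obj R ⟶ (yon S).obj T => (uliftYonedaEquiv.{u + 1} k.hom).down) e
      exact this.trans (by simp [uliftYonedaEquiv]; exact Category.id_comp r)
    exact InducedCategory.hom_ext (uliftYonedaEquiv.{u + 1}.injective
      (fpHom_injective_of_kerTriv a r hk _ _ (he x e) (he x' e')))
  let J := pullHom ((FibCat.diag f).obj a) ((FibCat.diag f).w_obj a) (𝟙 T)
  let e₁ : ClType (FibCat.fp w (FibCat.diag f)) T := fpEl (y := w) (f := FibCat.diag f) (𝟙 T) a rfl J (by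
    refine (map_pullHom _ _ _).trans ?_
    simp)
  let σ : (yon S).obj T ⟶ F := ObjectProperty.homMk (uliftYonedaEquiv.{u + 1}.symm e₁)
  have hσ : σ ≫ π = 𝟙 _ := InducedCategory.hom_ext (uliftYonedaEquiv.{u + 1}.injective (ULift.ext _ _ (by
    have e : fpHom e₁ = 𝟙 T := fpHom_fpEl _ _ _ _ _
    refine Eq.trans (b := fpHom e₁) ?_ (e.trans rfl)
    exact congrArg (fun c : ClType (FibCat.fp w (FibCat.diag f)) T => fpHom c)
      ((uliftYonedaEquiv.{u + 1} (X := T) (F := fib w (FibCat.diag f))).apply_symm_apply e₁))))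
  obtain ⟨W, w1, eσ, hW⟩ : ∃ (W : Over S) (w1 : (yon S).obj W ⟶ (yon S).obj U) (eσ : W ⟶ T),
      IsPullback w1 ((yon S).map eσ) p σ := ⟨_, _, _, hpe.1.isPullback _⟩
  obtain ⟨lσ, rfl⟩ := (yon S).map_surjective w1
  haveI hee : Etale eσ.left := hpe.2 _ _ _ hW
  have hle : lσ ≫ h = eσ := (yon S).map_injective (by
    rw [Functor.map_comp, ← hcomp, ← Category.assoc, hW.w, Category.assoc, hσ, Category.comp_id])
  have hlift : ∀ {R : Over S} (q : R ⟶ U) (r : R ⟶ T), KerTriv f a r → q ≫ h = r →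
      ∃ l : R ⟶ W, l ≫ lσ = q ∧ l ≫ eσ = r := by
    intro R q r hk e
    have hx : (yon S).map q ≫ p = (yon S).map r ≫ σ := hinj _ _ r hk
      (by rw [Category.assoc, hcomp, ← Functor.map_comp, e]) (by rw [Category.assoc, hσ, Category.comp_id])
    obtain ⟨l, hl⟩ := (yon S).map_surjective (hW.lift _ _ hx)
    exact ⟨l, (yon S).map_injective (by rw [Functor.map_comp, hl, hW.lift_fst]),
      (yon S).map_injective (by rw [Functor.map_comp, hl, hW.lift_snd])⟩
  haveI : FormallyUnramified h.left := by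
    rcases hu with hu | hu
    · exact (prop_chart (Q := @LocallyOfFiniteType ⊓ @FormallyUnramified) hpe hcomp
        ((repByAlgSpWith_iff.1 hu).2 _ w).2.2).2
    · suffices H : ∀ u : U.left, ∃ V : U.left.Opens, u ∈ V ∧ FormallyUnramified (V.ι ≫ h.left) from
        IsZariskiLocalAtSource.of_iSup_eq_top (P := @FormallyUnramified) (fun u => (H u).choose)
          (eq_top_iff.2 fun u _ => TopologicalSpace.Opens.mem_iSup.2 ⟨u, (H u).choose_spec.1⟩)
          fun u => (H u).choose_spec.2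
      intro u
      let t : T.left := h.left u
      let L := AlgebraicClosure (T.left.residueField t)
      let τ : Spec (CommRingCat.of L) ⟶ T.left :=
        Spec.map (CommRingCat.ofHom (algebraMap (T.left.residueField t) L)) ≫ T.left.fromSpecResidueField t
      let G : Over S := Over.mk (τ ≫ T.hom)
      let gm : G ⟶ T := Over.homMk τ rfl
      obtain ⟨u', hu', -⟩ := Scheme.Pullback.exists_preimage_pullback (f := h.left) (g := τ) u
        (default : ↥(Spec (CommRingCat.of L))) (Scheme.fromSpecResidueField_apply t _).symm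
      let R : Over S := Over.mk (pullback.fst h.left (τ) ≫ U.hom)
      let q : R ⟶ U := Over.homMk (pullback.fst h.left (τ)) rfl
      let r : R ⟶ G := Over.homMk (pullback.snd h.left (τ)) (by
        change _ ≫ _ ≫ T.hom = pullback.fst h.left (τ) ≫ U.hom
        rw [← pullback.condition_assoc, Over.w h])
      obtain ⟨l, hl₁, hl₂⟩ := hlift q (r ≫ gm) (hu L (τ ≫ T.hom) gm R r) (Over.OverMorphism.ext pullback.condition)
      have hl₁' : l.left ≫ lσ.left = pullback.fst h.left (τ) :=
        congrArg CommaMorphism.left hl₁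
      have hl₂' : l.left ≫ eσ.left = pullback.snd h.left (τ) ≫
          τ := congrArg CommaMorphism.left hl₂
      let v := pullback.lift l.left (pullback.snd h.left (τ)) hl₂'
      have hle' : lσ.left ≫ h.left = eσ.left := congrArg CommaMorphism.left hle
      let v' : pullback eσ.left (τ) ⟶ pullback h.left (τ) :=
        pullback.lift (pullback.fst _ _ ≫ lσ.left) (pullback.snd _ _) (by
          rw [Category.assoc, hle', pullback.condition])
      let Q : Over S := Over.mk (pullback.fst eσ.left (τ) ≫ W.hom)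
      have hvv' : v ≫ v' = 𝟙 _ := pullback.hom_ext (by simp [v, v', hl₁']) (by simp [v, v'])
      let i₁ : Q ⟶ W := Over.homMk (pullback.fst eσ.left (τ)) rfl
      let v'' : Q ⟶ R := Over.homMk v' (by
        change v' ≫ pullback.fst _ _ ≫ U.hom = pullback.fst _ _ ≫ W.hom
        rw [pullback.lift_fst_assoc, Category.assoc, Over.w lσ])
      have hv'v : v' ≫ v = 𝟙 _ := by
        have e : v'' ≫ l = i₁ := (yon S).map_injective (hW.hom_ext
          (by
            rw [← Functor.map_comp, ← Functor.map_comp, Category.assoc, hl₁]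
            exact congrArg _ (Over.OverMorphism.ext (pullback.lift_fst _ _ _)))
          (by
            rw [← Functor.map_comp, ← Functor.map_comp, Category.assoc, hl₂]
            exact congrArg _ (Over.OverMorphism.ext (by
              change v' ≫ pullback.snd _ _ ≫ _ = pullback.fst _ _ ≫ eσ.left
              rw [pullback.lift_snd_assoc, pullback.condition]
              rfl))))
        exact pullback.hom_ext (by
          rw [Category.assoc, pullback.lift_fst, Category.id_comp]
          exact congrArg CommaMorphism.left e) (by simp [v, v'])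
      haveI : IsIso v := ⟨v', hvv', hv'v⟩
      haveI : FormallyUnramified (pullback.snd h.left τ) := by
        rw [show pullback.snd h.left τ = v ≫ pullback.snd eσ.left τ from (pullback.lift_snd _ _ _).symm]
        infer_instance
      obtain ⟨V, hV, hVu⟩ := (PointBC.formallyUnramified_nhd_iff h.left τ u').1
        ⟨⊤, trivial, MorphismProperty.comp_mem _ _ _ inferInstance ‹FormallyUnramified (pullback.snd h.left τ)›⟩
      exact ⟨V, hu' ▸ hV, hVu⟩
  haveI : Etale lσ.left := by
    haveI : Etale (lσ.left ≫ h.left) := by rw [← Over.comp_left, hle]; exact hee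
    exact Etale.of_comp lσ.left h.left
  haveI : Mono σ := SplitMono.mono ⟨π, hσ⟩
  haveI : Mono ((yon S).map lσ) := hW.mono_fst_of_mono
  haveI : Mono lσ := (yon S).mono_of_mono_map inferInstance
  haveI : Mono lσ.left := inferInstanceAs (Mono ((Over.forget S).map lσ))
  haveI : Surjective lσ.left := ⟨fun u => by
    let k := U.left.residueField u
    let e : Over.mk (Spec.map (CommRingCat.ofHom (algebraMap k (AlgebraicClosure k))) ≫
        U.left.fromSpecResidueField u ≫ U.hom) ⟶ U :=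
      Over.homMk (Spec.map (CommRingCat.ofHom (algebraMap k (AlgebraicClosure k))) ≫ U.left.fromSpecResidueField u)
        (Category.assoc _ _ _)
    obtain ⟨l, hl₁, -⟩ := hlift e (e ≫ h) (hpt (AlgebraicClosure k) _ (e ≫ h)) rfl
    refine ⟨l.left (default : ↥(Spec (CommRingCat.of (AlgebraicClosure k)))), ?_⟩
    rw [← Scheme.Hom.comp_apply, ← Over.comp_left, hl₁]
    exact Scheme.fromSpecResidueField_apply u _⟩
  haveI : IsOpenImmersion lσ.left := IsOpenImmersion.of_flat_of_mono lσ.left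
  haveI : IsIso lσ.left := (isIso_iff_isOpenImmersion_and_surjective _).2 ⟨inferInstance, inferInstance⟩
  haveI : IsIso ((Over.forget S).map lσ) := ‹IsIso lσ.left›
  haveI : IsIso lσ := isIso_of_reflects_iso lσ (Over.forget S)
  have key : p ≫ π ≫ σ = p := by
    rw [← cancel_epi ((yon S).map lσ), ← Category.assoc p π σ, hcomp, ← Category.assoc, ← Functor.map_comp, hle,
      hW.w]
  haveI : Epi p := epi_of_etale_surjective hpe hps
  have hid : π ≫ σ = 𝟙 F := (cancel_epi p).1 (key.trans (Category.comp_id p).symm)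
  refine aut_eq_id_of_fpHom_injective a (fun c c' e => ?_) γ hγ hfγ
  have : Function.Injective ((ObjectProperty.homMk (fibπ w (FibCat.diag f)) : F ⟶ (yon S).obj T).hom.app (op T)) :=
    Function.LeftInverse.injective (g := σ.hom.app (op T)) fun z =>
      ConcreteCategory.congr_hom (congrArg (fun k : F ⟶ F => k.hom.app (op T)) hid) z
  exact this (congrArg ULift.up e)

/-- Trivial kernels at field-valued points and an unramified diagonal give faithfulness. -/
theorem faithful_of_kerTriv (hl : AlgSt.RepByAlgSpWith (LocP @LocallyOfFiniteType) (FibCat.diag f))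
    (hpt : ∀ (K : Type u) [Field K] [IsAlgClosed K] (s : Spec (CommRingCat.of K) ⟶ S) (a : 𝒳.obj)
      (r : Over.mk s ⟶ 𝒳.p.obj a), KerTriv f a r)
    (hu : AlgSt.RepByAlgSpWith (LocP (@LocallyOfFiniteType ⊓ @FormallyUnramified)) (FibCat.diag f) ∨
      ∀ (K : Type u) [Field K] [IsAlgClosed K] (s : Spec (CommRingCat.of K) ⟶ S) (a : 𝒳.obj)
        (g : Over.mk s ⟶ 𝒳.p.obj a) (R : Over S) (r : R ⟶ Over.mk s), KerTriv f a (r ≫ g)) :
    f.toFunctor.Faithful := by
  refine ⟨fun {x y} a b e => ?_⟩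
  have hp : 𝒳.p.map a = 𝒳.p.map b := map_inj_w f e
  let v := facMap a b (𝟙 _) (by rw [Category.id_comp]; exact hp)
  have hv : v ≫ a = b := facMap_comp _ _ _ _
  have hpv : 𝒳.p.map v = 𝟙 _ := map_facMap _ _ _ _
  have hfv : f.map v = 𝟙 _ := hom_ext (f.map a) (by rw [map_w, hpv]; simp)
    (by rw [← f.toFunctor.map_comp, hv, Category.id_comp]; exact e.symm)
  rw [← hv, aut_eq_id hl x (fun K _ _ s r => hpt K s x r) (hu.imp id fun h K _ _ s => h K s x) v hpv hfv, Category.id_comp]

end Groth.Agent.DecSec.KernelTrivial
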