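import Groth.Agent.DecSec.KernelTrivial
import Groth.Agent.Boot.Setoid
import Groth.Agent.ASp.EtSheafSmooth
import Groth.Agent.ASt.DiagFppf
import Groth.Agent.ASt.DiagCancel
import Groth.Agent.S10543
import Groth.Agent.ASp.LocP
import Groth.Prelude.Def_StGerb
/-!
Consumers of the criterion for trivial automorphism kernels.
-/

set_option autoImplicit false
set_option backward.isDefEq.respectTransparency false
set_option backward.isDefEq.respectTransparency.types false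
set_option linter.style.haveILetI false

universe u

open CategoryTheory CategoryTheory.Limits AlgebraicGeometry Opposite

namespace Groth.Agent.DecSec.KernelTrivial

open _root_.AlgSp Groth.Agent.ASp Groth.Agent.ASt

variable {S : Scheme.{u}} {𝒳 𝒴 : AlgSt.Cat S}

/-- An etale stack without automorphisms and with a smooth atlas is an algebraic space. -/
theorem repByAlgSp_of_faithful_etale (h𝒳 : AlgSt.IsAlgStack Scheme.etalePrecoverage 𝒳) [𝒳.p.Faithful] :
    AlgSt.RepByAlgSp 𝒳 := by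
  haveI := h𝒳.isStack.1
  have hsE : Presheaf.IsSheaf (QuotSh.J Scheme.etalePrecoverage S) (Cl 𝒳) := (isSheaf_iff_isSheaf_of_type _ _).2
    (isStack_ofPsh_iff.1 (isStack_of_isEquivOver (isEquivOver_toPsh (𝒳 := 𝒳)) h𝒳.isStack))
  obtain ⟨W, a, ha, has⟩ := h𝒳.atlas
  haveI := faithful_of_faithful_source a
  obtain ⟨hsW, -⟩ := (repByAlgSp_iff.1 (repByAlgSp_overCat W)).2
  let α : Cl (FibCat.overCat W) ⟶ (pyon S).obj W :=
    { app := fun T => ↾(fun c => ⟨overHom c⟩)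
      naturality := fun A B k => by ext c; exact congrArg ULift.up (overHom_clMap k.unop c) }
  haveI : ∀ T, IsIso (α.app T) := fun T => (isIso_iff_bijective _).2
    ⟨fun a b e => (bijective_overHom T.unop).1 (congrArg ULift.down e),
      fun ⟨k⟩ => by
        obtain ⟨c, hc⟩ := (bijective_overHom T.unop).2 k
        exact ⟨c, congrArg ULift.up hc⟩⟩
  haveI : IsIso α := NatIso.isIso_of_isIso_app _
  have key := (repBySpWith_clFun_iff (LocP @Smooth) a).2 ha
  have key' := (repBySpWith_clFun_iff IsSurjectiveMor a).2 has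
  have hA : IsAlgSpaceP (Cl 𝒳) := isAlgSpaceP_of_smoothChart hsE (inv α ≫ clFun a) fun T g P fst snd sq => by
    have sq' : IsPullback (fst ≫ inv α) snd (clFun a) g := by
      refine IsPullback.of_iso sq (Iso.refl _) (asIso (inv α)) (Iso.refl _) (Iso.refl _) ?_ ?_ ?_ ?_ <;> simp
    obtain ⟨hs, hA, hP⟩ := key g (fst ≫ inv α) snd sq'
    obtain ⟨hs', hA', hP'⟩ := key' g (fst ≫ inv α) snd sq'
    exact ⟨hs, hA, hP', hP⟩
  exact repByAlgSp_iff.2 ⟨inferInstance, hA⟩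

/-- Trivial automorphism groups on all schemes over fields give an algebraic space. -/
theorem repByAlgSp_of_forall_fieldPt (h𝒳 : AlgSt.IsAlgStack Scheme.etalePrecoverage 𝒳)
    (H : ∀ (k : Type u) [Field k] (sk : Spec (CommRingCat.of k) ⟶ S)
      (x : FibCat.overCat (Over.mk sk) ⥤ᵇ 𝒳) (T : Over (Over.mk sk)), Subsingleton (Gerb.AutO (x.obj T))) :
    AlgSt.RepByAlgSp 𝒳 := by
  haveI := h𝒳.isStack.1
  have key : ∀ (k : Type u) [Field k] (sk : Spec (CommRingCat.of k) ⟶ S) (a : 𝒳.obj) (R : Over S)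
      (r : R ⟶ Over.mk sk) (t : Over.mk sk ⟶ 𝒳.p.obj a), KerTriv (FibCat.toSelf 𝒳) a (r ≫ t) := by
    intro k _ sk a R r t b g hb hg γ hγ _
    let x := objFun (pull a rfl t) (pull_base a rfl t)
    let o := x.obj (Over.mk r)
    let g' : o ⟶ a := pullHom (pull a rfl t) (pull_base a rfl t) r ≫ pullHom a rfl t
    have ho : 𝒳.p.obj o = R := x.w_obj _
    have hg' : 𝒳.p.map g' = eqToHom ho ≫ r ≫ t := by
      rw [Functor.map_comp, map_pullHom, map_pullHom]
      simp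
    let v := facMap g' g (eqToHom (hb.trans ho.symm)) (by rw [hg, hg']; simp)
    have hv : 𝒳.p.map v = eqToHom (hb.trans ho.symm) := map_facMap _ _ _ _
    haveI := isIso_of_vert v hv
    let δ : o ⟶ o := inv v ≫ γ ≫ v
    have hδ : 𝒳.p.map δ = 𝟙 _ := by
      rw [Functor.map_comp, Functor.map_comp, Functor.map_inv, hγ]
      simp
    haveI := isIso_of_vert δ (e := rfl) hδ
    haveI : 𝒳.p.IsHomLift (𝟙 (𝒳.p.obj o)) δ := IsHomLift.of_fac' 𝒳.p _ _ rfl rfl (by rw [hδ]; simp)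
    haveI : 𝒳.p.IsHomLift (𝟙 (𝒳.p.obj o)) (inv δ) :=
      IsHomLift.of_fac' 𝒳.p _ _ rfl rfl (by rw [Functor.map_inv]; simp [hδ])
    let α : Gerb.AutO o :=
      { hom := ⟨δ, inferInstance⟩
        inv := ⟨inv δ, inferInstance⟩
        hom_inv_id := Functor.Fiber.hom_ext (IsIso.hom_inv_id δ)
        inv_hom_id := Functor.Fiber.hom_ext (IsIso.inv_hom_id δ) }
    haveI := H k sk x (Over.mk r)
    have e : δ = 𝟙 o := congrArg (fun β : Gerb.AutO o => β.hom.1) (Subsingleton.elim α 1)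
    rw [IsIso.inv_comp_eq, Category.comp_id] at e
    rw [← cancel_mono v, e, Category.id_comp]
  have hf : (FibCat.toSelf 𝒳).toFunctor.Faithful := faithful_of_kerTriv (lft_diag_toSelf h𝒳)
    (fun K _ _ s a r => by simpa using key K s a (Over.mk s) (𝟙 _) r)
    (Or.inr fun K _ _ s a g R r => key K s a R r g)
  haveI : 𝒳.p.Faithful := ⟨fun h => hf.map_injective h⟩
  exact repByAlgSp_of_faithful_etale h𝒳

theorem subsingleton_autO_of_rep [FibCat.IsFibGrpd 𝒳.p] (h : AlgSt.RepByAlgSp 𝒳) (o : 𝒳.obj) :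
    Subsingleton (Gerb.AutO o) := by
  haveI := faithful_of_repByAlgSp h
  refine ⟨fun α β => Iso.ext (Functor.Fiber.hom_ext (𝒳.p.map_injective ?_))⟩
  haveI : 𝒳.p.IsHomLift (𝟙 (𝒳.p.obj o)) α.hom.1 := α.hom.2
  haveI : 𝒳.p.IsHomLift (𝟙 (𝒳.p.obj o)) β.hom.1 := β.hom.2
  have h₁ := IsHomLift.fac' 𝒳.p (𝟙 (𝒳.p.obj o)) α.hom.1
  have h₂ := IsHomLift.fac' 𝒳.p (𝟙 (𝒳.p.obj o)) β.hom.1
  exact h₁.trans h₂.symm

/-- A morphism of Deligne-Mumford stacks injective on geometric automorphism groups is representable. -/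
theorem repByAlgSp1_of_geom (h𝒳 : AlgSt.IsDM Scheme.fppfPrecoverage 𝒳)
    (h𝒴 : AlgSt.IsAlgStack Scheme.fppfPrecoverage 𝒴) (f : 𝒳 ⥤ᵇ 𝒴)
    (hinj : ∀ (k : Type u) [Field k] [IsAlgClosed k] (s : Spec (CommRingCat.of k) ⟶ S)
      (ξ : 𝒳.obj) (_ : 𝒳.p.obj ξ = Over.mk s) (a : ξ ⟶ ξ),
      𝒳.p.IsHomLift (𝟙 (𝒳.p.obj ξ)) a → f.map a = 𝟙 (f.obj ξ) → a = 𝟙 ξ) :
    AlgSt.RepByAlgSp1 f := by
  haveI := h𝒳.1.isStack.1
  haveI := h𝒴.isStack.1
  obtain ⟨W, a, ha, has⟩ := h𝒳.2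
  have hd : AlgSt.RepByAlgSpWith (LocP (@LocallyOfFiniteType ⊓ @FormallyUnramified))
      (FibCat.diag (FibCat.toSelf 𝒳)) := by
    haveI : ASp.IsEtLocal (@LocallyOfFiniteType ⊓ @FormallyUnramified) := inferInstance
    exact repByAlgSpWith_diag_toSelf_of_fppf_chart (Q := @LocallyOfFiniteType ⊓ @FormallyUnramified)
      (fun f g h => ⟨haveI := h.1; locallyOfFiniteType_of_comp f g, haveI := h.2; FormallyUnramified.of_comp f g⟩)
      (fun ι Y Yi g hY hYi hτ X a hX Xi p q hXi sq =>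
        Groth.Agent.S10543.result S Yi g hY hYi (ASp.isFpqcCover_of_fppf hY hYi (fun i => (hτ.1 i).1)
          (fun i => (hτ.1 i).2) hτ.2) a hX Xi p q hXi sq)
      h𝒳.1.diag
      (repByAlgSpWith_mono (fun _ _ _ _ hY h A B a b k hp hq e =>
        (haveI : Etale k.left := (ASp.isEtaleMor_iff_locP hY).1 h a b k hp hq e; (inferInstance : Flat k.left))) ha)
      (repByAlgSpWith_mono (fun _ _ _ _ hY h A B a b k hp hq e =>
        (haveI : Etale k.left := (ASp.isEtaleMor_iff_locP hY).1 h a b k hp hq e; (inferInstance : LocallyOfFinitePresentation k.left))) ha)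
      (isSurjective_of_repByAlgSpWith has)
      (repByAlgSpWith_mono (fun _ _ _ _ hY h A B a b k ha hb e => ASp.IsEtLocal.etale_le _ ((ASp.isEtaleMor_iff_locP hY).1 h a b k ha hb e)) ha)
  have hdf : AlgSt.RepByAlgSpWith (LocP (@LocallyOfFiniteType ⊓ @FormallyUnramified)) (FibCat.diag f) :=
    repByAlgSpWith_diag_locP_of_comp compLocal_unramified (fun g hm hl => ⟨hl, inferInstance⟩)
      (g := FibCat.toSelf 𝒴) h𝒴.diag (by rw [comp_toSelf]; exact hd)
  haveI : f.toFunctor.Faithful := by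
    refine faithful_of_kerTriv (lft_diag h𝒳.1 h𝒴 f) ?_ (Or.inl hdf)
    intro K _ _ s c r b g hb hg γ hγ hfγ
    exact hinj K s b hb γ (IsHomLift.of_fac' 𝒳.p _ _ rfl rfl (by rw [hγ]; simp)) hfγ
  exact Boot.repByAlgSp1_of_faithful h𝒳.1 h𝒴 f

/-- Trivial automorphisms over geometric points give an algebraic space. -/
theorem repByAlgSp_of_geom_trivial (h𝒳 : AlgSt.IsAlgStack Scheme.fppfPrecoverage 𝒳)
    (H : ∀ (k : Type u) [Field k] [IsAlgClosed k] (x : 𝒳.obj) (_ : (𝒳.p.obj x).left ≅ Spec (CommRingCat.of k))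
      (ξ : 𝒳.obj) (_ : ξ ⟶ x) (σ : ξ ⟶ ξ), 𝒳.p.map σ = 𝟙 (𝒳.p.obj ξ) → σ = 𝟙 ξ) :
    AlgSt.RepByAlgSp 𝒳 := by
  haveI := h𝒳.isStack.1
  have key : ∀ (k : Type u) [Field k] [IsAlgClosed k] (sk : Spec (CommRingCat.of k) ⟶ S) (a : 𝒳.obj) (R : Over S)
      (r : R ⟶ Over.mk sk) (t : Over.mk sk ⟶ 𝒳.p.obj a), KerTriv (FibCat.toSelf 𝒳) a (r ≫ t) := by
    intro k _ _ sk a R r t b g hb hg γ hγ _
    let x := pull a rfl t
    let φ : b ⟶ x := facMap (pullHom a rfl t) g (eqToHom hb ≫ r ≫ eqToHom (pull_base a rfl t).symm)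
      (by rw [hg, map_pullHom]; simp)
    exact H k x ((Over.forget S).mapIso (eqToIso (pull_base a rfl t))) b φ γ hγ
  have hf : (FibCat.toSelf 𝒳).toFunctor.Faithful := faithful_of_kerTriv (lft_diag_toSelf h𝒳)
    (fun K _ _ s a r => by simpa using key K s a (Over.mk s) (𝟙 _) r)
    (Or.inr fun K _ _ s a g R r => key K s a R r g)
  haveI : 𝒳.p.Faithful := ⟨fun h => hf.map_injective h⟩
  exact Boot.repByAlgSp_of_faithful h𝒳

end Groth.Agent.DecSec.KernelTrivial
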