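import Groth.Agent.ASt.LocQCalc
import Groth.Agent.FppfSrc.Scheme
import Groth.Agent.ASp.SmST

/-! Finiteness descends along fppf morphisms of stacks. -/

set_option autoImplicit false
set_option backward.isDefEq.respectTransparency false
set_option backward.isDefEq.respectTransparency.types false

universe u

open CategoryTheory CategoryTheory.Limits AlgebraicGeometry Opposite

namespace Groth.Agent.DecSec

open _root_.AlgSp Groth.Agent.ASp Groth.Agent.ASt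

variable {S : Scheme.{u}} {𝒳 𝒴 𝒵 : AlgSt.Cat S} {f : 𝒳 ⥤ᵇ 𝒴} {g : 𝒴 ⥤ᵇ 𝒵}

theorem exists_fppf_square [FibCat.IsFibGrpd 𝒳.p] [FibCat.IsFibGrpd 𝒴.p] [FibCat.IsFibGrpd 𝒵.p]
    {P : MorphismProperty (Sp S)} (hP : IsSmoothLocalST P) (h𝒳 : AlgSt.IsAlgStack Scheme.fppfPrecoverage 𝒳)
    (h𝒴 : AlgSt.IsAlgStack Scheme.fppfPrecoverage 𝒴) (h𝒵 : AlgSt.IsAlgStack Scheme.fppfPrecoverage 𝒵)
    (hf₁ : AlgSt.LocQ (LocP @Flat) f) (hf₂ : AlgSt.LocQ (LocP @LocallyOfFinitePresentation) f)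
    (hf₃ : AlgSt.IsSurjective f) (h : AlgSt.LocQ P (BasedFunctor.comp f g)) :
    ∃ (W : Over S) (w : FibCat.overCat W ⥤ᵇ 𝒵) (E : ChartOf g w) (T : Over S) (k : T ⟶ E.C),
      AlgSt.RepByAlgSpWith (LocP @Smooth) w ∧ AlgSt.RepByAlgSpWith IsSurjectiveMor w ∧
      Flat k.left ∧ LocallyOfFinitePresentation k.left ∧ Surjective k.left ∧ P ((yon S).map (k ≫ E.k)) := by
  obtain ⟨W, w, E, D, hw, hws, hk⟩ := exists_charts_comp hP h𝒳 h𝒴 h𝒵 h
  exact ⟨W, w, E, D.C, D.k, hw, hws,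
    prop_left_of_locP (D.prop isSmoothLocalST_locP h𝒴.diag (E.x_smooth hw) hf₁),
    prop_left_of_locP (D.prop isSmoothLocalST_locP h𝒴.diag (E.x_smooth hw) hf₂), D.surjective_k hf₃, hk⟩

end Groth.Agent.DecSec
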