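import Groth.Agent.DecSec.OnePointStack
import Groth.Agent.Boot.LocEss
import Groth.Agent.ASt.DiagRep

/-! Monomorphisms into stacks with an fppf field-valued point. -/

set_option autoImplicit false
set_option backward.isDefEq.respectTransparency false
set_option backward.isDefEq.respectTransparency.types false

universe u

open CategoryTheory CategoryTheory.Limits AlgebraicGeometry Opposite

namespace Groth.Agent.DecSec

open _root_.AlgSp Groth.Agent.ASp Groth.Agent.ASt Groth.Agent.Boot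

variable {S : Scheme.{u}} {𝒳 𝒴 : AlgSt.Cat S} [FibCat.IsFibGrpd 𝒳.p] [FibCat.IsFibGrpd 𝒴.p] {f : 𝒳 ⥤ᵇ 𝒴}

/-- An identification with an image restricts along any morphism into it. -/
theorem exists_cl_of_hom {U V : Over S} (y : FibCat.overCat U ⥤ᵇ 𝒴) (l : V ⟶ U) (x₀ : 𝒳.obj)
    (m : y.obj (ov l) ⟶ f.obj x₀) : ∃ c : ClType (FibCat.fp y f) V, fpHom c = l := by
  let g : V ⟶ 𝒳.p.obj x₀ :=
    eqToHom ((y.w_obj (ov l)).trans (ov_base l)).symm ≫ 𝒴.p.map m ≫ eqToHom (f.w_obj x₀)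
  let φ := facMap (f.map (pullHom x₀ (rfl : 𝒳.p.obj x₀ = _) g)) m
    (eqToHom (((y.w_obj (ov l)).trans (ov_base l)).trans
      ((pull_base x₀ (rfl : 𝒳.p.obj x₀ = _) g).symm.trans (f.w_obj _).symm))) (by
      rw [map_w, map_pullHom]
      simp [g])
  exact ⟨fpEl l (pull x₀ rfl g) (pull_base x₀ rfl g) φ (map_facMap _ _ _ _), fpHom_fpEl _ _ _ _ _⟩

/-- A monomorphism locally surjective on objects is an equivalence. -/
theorem isEquivOver_of_mono_locSurj (hf : AlgSt.IsMono f)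
    (h : ∀ {U : Over S} (y : FibCat.overCat U ⥤ᵇ 𝒴), ∃ (V : Over S) (l : V ⟶ U), Flat l.left ∧
      LocallyOfFinitePresentation l.left ∧ Surjective l.left ∧
      ∃ (x : 𝒳.obj), Nonempty (y.obj (ov l) ⟶ f.obj x)) : FibCat.IsEquivOver f := by
  haveI := (full_faithful_of_isMono hf).1
  haveI := (full_faithful_of_isMono hf).2
  refine isEquivOver_of_vert f fun o => ?_
  let y := objFun o (rfl : 𝒴.p.obj o = _)
  obtain ⟨V, l, hl₁, hl₂, hl₃, x₀, ⟨m⟩⟩ := h y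
  haveI := hl₁
  haveI := hl₂
  haveI := hl₃
  obtain ⟨c, hc⟩ := exists_cl_of_hom y l x₀ m
  obtain ⟨c₀, hc₀⟩ := exists_cl_id_of_fppf hf l y c hc
  obtain ⟨k, x, hx, φ, hφ, rfl⟩ := fpEl_exists c₀
  obtain rfl : k = 𝟙 _ := (fpHom_fpEl _ _ _ _ _).symm.trans hc₀
  haveI : IsIso φ := isIso_of_vert φ hφ
  let p := pullHom o (rfl : 𝒴.p.obj o = _) (𝟙 _)
  haveI : IsIso p := by
    have : IsIso (𝒴.p.map p) := by rw [map_pullHom]; infer_instance
    exact isIso_of_isIso_map _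
  refine ⟨x, hx, (asIso φ).symm ≪≫ asIso p, ?_⟩
  simp only [Iso.trans_hom, Iso.symm_hom, asIso_inv, asIso_hom]
  rw [Functor.map_comp, Functor.map_inv, map_pullHom]
  simp [hφ]

/-- A nonempty monomorphism to a stack with an fppf field-valued point is an equivalence. -/
theorem isEquivOver_of_mono_point (hf : AlgSt.IsMono f) [Nonempty (AlgSt.Points 𝒳)] {k : Type u} [Field k]
    {a : Spec (CommRingCat.of k) ⟶ S} {z : FibCat.overCat (Over.mk a) ⥤ᵇ 𝒴}
    (hzp : AlgSt.RepByAlgSpWith (LocP @LocallyOfFinitePresentation) z)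
    (hzs : AlgSt.RepByAlgSpWith IsSurjectiveMor z) (hzf : AlgSt.RepByAlgSpWith (LocP @Flat) z) :
    FibCat.IsEquivOver f := by
  haveI := (subsingleton_points_of_point hzs).2
  haveI : FibCat.IsFibGrpd (FibCat.fp z f).p := isFibGrpd_fp
  obtain ⟨w, -, -⟩ := points_surjective_fp z f
    (AlgSt.Points.ofChart (BasedFunctor.id (FibCat.overCat (Over.mk a))) (IsLocalRing.closedPoint k))
    (Classical.arbitrary _) (Subsingleton.elim _ _)
  obtain ⟨q, -⟩ := AlgSt.Points.mk_surjective w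
  obtain ⟨c₀, hc₀⟩ := exists_cl_id_of_field hf z (cl q.obj q.lies)
  obtain ⟨k', x₀, hx₀, φ₀, hφ₀, rfl⟩ := fpEl_exists c₀
  obtain rfl : k' = 𝟙 _ := (fpHom_fpEl _ _ _ _ _).symm.trans hc₀
  refine isEquivOver_of_mono_locSurj hf fun y => ?_
  obtain ⟨V, l, hl₁, hl₂, hl₃, ω, hω, φ, hφ⟩ := Boot.exists_fppf_lift hzf hzp hzs y
  exact ⟨V, l, hl₁, hl₂, hl₃, x₀, ⟨φ ≫ z.map (toTop ω) ≫ φ₀⟩⟩


/-- Maps out of a stack with an fppf field-valued point land in a full algebraic substack as soon as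
one point does. -/
theorem forall_mem_of_point {𝒲 : AlgSt.Cat S} [FibCat.IsFibGrpd 𝒲.p] {Q : 𝒴.obj → Prop}
    (hY : AlgSt.IsAlgStack Scheme.fppfPrecoverage 𝒴) (hiso : ObjectProperty.IsClosedUnderIsomorphisms Q)
    (hQ : AlgSt.IsAlgStack Scheme.fppfPrecoverage (AlgSt.fullSub 𝒴 Q)) (F : 𝒲 ⥤ᵇ 𝒴) {k : Type u} [Field k]
    {a : Spec (CommRingCat.of k) ⟶ S} {z : FibCat.overCat (Over.mk a) ⥤ᵇ 𝒲}
    (hzp : AlgSt.RepByAlgSpWith (LocP @LocallyOfFinitePresentation) z)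
    (hzs : AlgSt.RepByAlgSpWith IsSurjectiveMor z) (hzf : AlgSt.RepByAlgSpWith (LocP @Flat) z)
    (hpt : ∀ w, AlgSt.Points.map F w ∈ Set.range (AlgSt.Points.map (AlgSt.subIncl 𝒴 Q))) (o : 𝒲.obj) :
    Q (F.obj o) := by
  haveI := hQ.isStack.1
  obtain ⟨Ω, hΩ, w, e, he⟩ := exists_mem_ext hiso hQ.isStack (BasedFunctor.comp z F)
    (t := IsLocalRing.closedPoint k) (by rw [ofChart_comp]; exact hpt _)
  have hz : ∀ g, Q ((BasedFunctor.comp z F).obj g) := fun g => mem_of_field hY hiso hQ _ e he g.hom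
  let y := objFun o (rfl : 𝒲.p.obj o = _)
  obtain ⟨V, l, hl₁, hl₂, hl₃, ω, hω, φ, hφ⟩ := Boot.exists_fppf_lift hzf hzp hzs y
  haveI := hl₁
  haveI := hl₂
  haveI := hl₃
  haveI : IsIso φ := isIso_of_vert φ hφ
  have h := mem_of_fppf hY hiso hQ l (BasedFunctor.comp y F)
    (hiso.of_iso (F.toFunctor.mapIso (asIso φ)).symm (hz ω)) (𝟙 _)
  haveI : IsIso (pullHom o (rfl : 𝒲.p.obj o = _) (𝟙 _)) := by
    have : IsIso (𝒲.p.map (pullHom o (rfl : 𝒲.p.obj o = _) (𝟙 _))) := by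
      rw [map_pullHom]; infer_instance
    exact isIso_of_isIso_map _
  exact hiso.of_iso (F.toFunctor.mapIso (asIso (pullHom o (rfl : 𝒲.p.obj o = _) (𝟙 _)))) h

end Groth.Agent.DecSec
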