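import Groth.Agent.DecSec.RedSub
import Groth.Agent.ASp.FieldMono
import Groth.Agent.Boot.MonoDesc

/-! Sections of monomorphisms of stacks over fields and over fppf covers. -/

set_option autoImplicit false
set_option backward.isDefEq.respectTransparency false
set_option backward.isDefEq.respectTransparency.types false

universe u

open CategoryTheory CategoryTheory.Limits AlgebraicGeometry Opposite

namespace Groth.Agent.DecSec

open _root_.AlgSp Groth.Agent.ASp Groth.Agent.ASt Groth.Agent.Boot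

variable {S : Scheme.{u}} {𝒳 𝒴 : AlgSt.Cat S} [FibCat.IsFibGrpd 𝒳.p] [FibCat.IsFibGrpd 𝒴.p] {f : 𝒳 ⥤ᵇ 𝒴}

/-- An isomorphism to the scheme gives a class over the identity. -/
theorem exists_cl_id_of_isIso {U : Over S} {y : FibCat.overCat U ⥤ᵇ 𝒴} (hs : Presheaf.IsSheaf (J S) (fib y f))
    [IsIso (ObjectProperty.homMk (fibπ y f) : (⟨fib y f, hs⟩ : Sp S) ⟶ (yon S).obj U)] :
    ∃ c₀ : ClType (FibCat.fp y f) U, fpHom c₀ = 𝟙 U := by
  let π : (⟨fib y f, hs⟩ : Sp S) ⟶ (yon S).obj U := ObjectProperty.homMk (fibπ y f)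
  haveI : IsIso ((fibπ y f).app (op U)) := inferInstanceAs (IsIso (((sheafToPresheaf _ _).map π).app (op U)))
  obtain ⟨c₀, hc₀⟩ := ((isIso_iff_bijective ((fibπ y f).app (op U))).1 inferInstance).2 ⟨𝟙 U⟩
  exact ⟨c₀, congrArg ULift.down hc₀⟩

/-- A class is a map from the scheme to the fibre. -/
theorem exists_hom_of_cl {U V : Over S} {y : FibCat.overCat U ⥤ᵇ 𝒴} (hs : Presheaf.IsSheaf (J S) (fib y f))
    (c : ClType (FibCat.fp y f) V) :
    ∃ r : (yon S).obj V ⟶ (⟨fib y f, hs⟩ : Sp S),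
      r ≫ ObjectProperty.homMk (fibπ y f) = (yon S).map (fpHom c) := by
  refine ⟨ObjectProperty.homMk (uliftYonedaEquiv.{u + 1}.symm c), ?_⟩
  ext T k
  refine congrArg ULift.up ?_
  change fpHom ((fib y f).map k.down.op c) = k.down ≫ fpHom c
  rw [show (fib y f).map k.down.op c = clMap k.down c from rfl, fpHom_clMap]

/-- A monomorphism with a point over a field extension has a point over the field. -/
theorem exists_cl_id_of_field (hf : AlgSt.IsMono f) {K Ω : Type u} [Field K] [Field Ω]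
    {a : Spec (CommRingCat.of K) ⟶ S} {w : Spec (CommRingCat.of Ω) ⟶ S}
    (y : FibCat.overCat (Over.mk a) ⥤ᵇ 𝒴) (c : ClType (FibCat.fp y f) (Over.mk w)) :
    ∃ c₀ : ClType (FibCat.fp y f) (Over.mk a), fpHom c₀ = 𝟙 _ := by
  obtain ⟨hs, hA, hm⟩ := (repByAlgSpWith_iff.1 hf).2 _ y
  haveI : Mono (ObjectProperty.homMk (fibπ y f) : (⟨fib y f, hs⟩ : Sp S) ⟶ (yon S).obj (Over.mk a)) := hm
  obtain ⟨r, hr⟩ := exists_hom_of_cl hs c
  haveI := isIso_of_mono_field hA _ (fpHom c) r hr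
  exact exists_cl_id_of_isIso hs

/-- A monomorphism with a point over an fppf cover has a point over the base. -/
theorem exists_cl_id_of_fppf (hf : AlgSt.IsMono f) {U V : Over S} (l : V ⟶ U) [Flat l.left]
    [LocallyOfFinitePresentation l.left] [Surjective l.left] (y : FibCat.overCat U ⥤ᵇ 𝒴)
    (c : ClType (FibCat.fp y f) V) (hc : fpHom c = l) :
    ∃ c₀ : ClType (FibCat.fp y f) U, fpHom c₀ = 𝟙 _ := by
  obtain ⟨hs, hA, hm⟩ := (repByAlgSpWith_iff.1 hf).2 _ y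
  haveI : Mono (ObjectProperty.homMk (fibπ y f) : (⟨fib y f, hs⟩ : Sp S) ⟶ (yon S).obj U) := hm
  obtain ⟨r, hr⟩ := exists_hom_of_cl hs c
  haveI := epi_yon_map l
  haveI : Epi (r ≫ (ObjectProperty.homMk (fibπ y f) : (⟨fib y f, hs⟩ : Sp S) ⟶ (yon S).obj U)) := by
    rw [hr, hc]; infer_instance
  haveI : Epi (ObjectProperty.homMk (fibπ y f) : (⟨fib y f, hs⟩ : Sp S) ⟶ (yon S).obj U) := epi_of_epi r _
  haveI := isIso_of_mono_of_epi (ObjectProperty.homMk (fibπ y f) : (⟨fib y f, hs⟩ : Sp S) ⟶ (yon S).obj U)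
  exact exists_cl_id_of_isIso hs

section FullSub

variable {Q : 𝒳.obj → Prop}

/-- A point of a full substack gives a class of the fibre. -/
theorem exists_cl_subIncl [FibCat.IsFibGrpd (AlgSt.fullSub 𝒳 Q).p] {U V : Over S} (y : FibCat.overCat U ⥤ᵇ 𝒳)
    (k : V ⟶ U) (hk : Q (y.obj (ov k))) :
    ∃ c : ClType (FibCat.fp y (AlgSt.subIncl 𝒳 Q)) V, fpHom c = k :=
  ⟨fpEl (f := AlgSt.subIncl 𝒳 Q) k ⟨y.obj (ov k), hk⟩ ((y.w_obj (ov k)).trans (ov_base k)) (𝟙 _) (by simp),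
    fpHom_fpEl _ _ _ _ _⟩

theorem mem_of_cl [FibCat.IsFibGrpd (AlgSt.fullSub 𝒳 Q).p] (hiso : ObjectProperty.IsClosedUnderIsomorphisms Q)
    {U V : Over S} (y : FibCat.overCat U ⥤ᵇ 𝒳) {k : V ⟶ U} (c : ClType (FibCat.fp y (AlgSt.subIncl 𝒳 Q)) V)
    (hc : fpHom c = k) : Q (y.obj (ov k)) := by
  obtain ⟨k', x, hx, φ, hφ, rfl⟩ := fpEl_exists c
  obtain rfl : k' = k := (fpHom_fpEl _ _ _ _ _).symm.trans hc
  haveI : IsIso φ := isIso_of_vert φ hφ
  exact hiso.of_iso (asIso φ).symm x.2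

theorem isMono_subIncl (hX : AlgSt.IsAlgStack Scheme.fppfPrecoverage 𝒳)
    (hQ : AlgSt.IsAlgStack Scheme.fppfPrecoverage (AlgSt.fullSub 𝒳 Q)) : AlgSt.IsMono (AlgSt.subIncl 𝒳 Q) := by
  haveI : (AlgSt.subIncl 𝒳 Q).toFunctor.Faithful := inferInstanceAs (ObjectProperty.ι Q).Faithful
  haveI : (AlgSt.subIncl 𝒳 Q).toFunctor.Full := inferInstanceAs (ObjectProperty.ι Q).Full
  exact isMono_of_full_faithful hQ hX _

/-- Membership in a full algebraic substack descends along field extensions. -/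
theorem mem_of_field (hX : AlgSt.IsAlgStack Scheme.fppfPrecoverage 𝒳)
    (hiso : ObjectProperty.IsClosedUnderIsomorphisms Q)
    (hQ : AlgSt.IsAlgStack Scheme.fppfPrecoverage (AlgSt.fullSub 𝒳 Q)) {K Ω : Type u} [Field K] [Field Ω]
    {a : Spec (CommRingCat.of K) ⟶ S} {w : Spec (CommRingCat.of Ω) ⟶ S}
    (y : FibCat.overCat (Over.mk a) ⥤ᵇ 𝒳) (k : Over.mk w ⟶ Over.mk a) (hk : Q (y.obj (ov k)))
    {T : Over S} (g : T ⟶ Over.mk a) : Q (y.obj (ov g)) := by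
  haveI := hQ.isStack.1
  obtain ⟨c, -⟩ := exists_cl_subIncl y k hk
  obtain ⟨c₀, hc₀⟩ := exists_cl_id_of_field (isMono_subIncl hX hQ) y c
  exact pull_closed hiso hQ.isStack.1 (y.map (ovHom g (Category.comp_id g) : ov g ⟶ ov (𝟙 (Over.mk a))))
    (mem_of_cl hiso y c₀ hc₀)

/-- Membership in a full algebraic substack descends along fppf covers. -/
theorem mem_of_fppf (hX : AlgSt.IsAlgStack Scheme.fppfPrecoverage 𝒳)
    (hiso : ObjectProperty.IsClosedUnderIsomorphisms Q)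
    (hQ : AlgSt.IsAlgStack Scheme.fppfPrecoverage (AlgSt.fullSub 𝒳 Q)) {U V : Over S} (l : V ⟶ U) [Flat l.left]
    [LocallyOfFinitePresentation l.left] [Surjective l.left]
    (y : FibCat.overCat U ⥤ᵇ 𝒳) (hk : Q (y.obj (ov l))) {T : Over S} (g : T ⟶ U) : Q (y.obj (ov g)) := by
  haveI := hQ.isStack.1
  obtain ⟨c, hc⟩ := exists_cl_subIncl y l hk
  obtain ⟨c₀, hc₀⟩ := exists_cl_id_of_fppf (isMono_subIncl hX hQ) l y c hc
  exact pull_closed hiso hQ.isStack.1 (y.map (ovHom g (Category.comp_id g) : ov g ⟶ ov (𝟙 U)))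
    (mem_of_cl hiso y c₀ hc₀)

/-- A point of a chart in the substack gives a field extension with values in it. -/
theorem exists_mem_ext (hiso : ObjectProperty.IsClosedUnderIsomorphisms Q)
    (hQ : Stk.IsStack (J S) (AlgSt.fullSub 𝒳 Q)) {U : Over S} (y : FibCat.overCat U ⥤ᵇ 𝒳) {t : ↥U.left}
    (ht : AlgSt.Points.ofChart y t ∈ Set.range (AlgSt.Points.map (AlgSt.subIncl 𝒳 Q))) :
    ∃ (Ω : Type u) (_ : Field Ω) (w : Spec (CommRingCat.of Ω) ⟶ S) (k : Over.mk w ⟶ U), Q (y.obj (ov k)) := by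
  haveI := hQ.1
  obtain ⟨z, hz⟩ := ht
  obtain ⟨q, rfl⟩ := AlgSt.Points.mk_surjective z
  obtain ⟨r, a, b, -⟩ := mk_eq_mk_iff.1 hz
  have hr : Q r.obj := pull_closed hiso hQ.1 (show r.obj ⟶ q.obj.1 from a) q.obj.2
  let b' : r.obj ⟶ y.obj (ov (rHom U t)) := b
  let b'' : r.obj ⟶ y.obj (ov (𝟙 U)) := b' ≫ y.map (toTop (ov (rHom U t)))
  let k : Over.mk r.str ⟶ U := eqToHom r.lies.symm ≫ 𝒳.p.map b'' ≫ eqToHom (y.w_obj (ov (𝟙 U)))
  let c := facMap (y.map (toTop (ov k))) b'' (eqToHom (r.lies.trans (y.w_obj (ov k)).symm)) (by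
    rw [map_toTop]; simp [k])
  haveI : IsIso c := isIso_of_vert c (map_facMap _ _ _ _)
  exact ⟨r.K, inferInstance, r.str, k, pull_closed hiso hQ.1 (inv c) hr⟩

end FullSub

end Groth.Agent.DecSec
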