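import Groth.Agent.GrpdIrred.Main
import Groth.Agent.NormalTensor.Main
import Groth.Agent.Unibranch.NormalStalk

/-! Normal branches through a rational point over an algebraically closed field. -/

set_option autoImplicit false
set_option backward.isDefEq.respectTransparency false

universe u

open CategoryTheory CategoryTheory.Limits AlgebraicGeometry TensorProduct

namespace Groth.Agent.DecSec

open EGA4 (IsNormalRing)
open Groth.Agent.GrpdIrred

variable {Ω : Type u} [Field Ω] [IsAlgClosed Ω]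

/-- Over an algebraically closed field a tensor product of normal domains is a normal ring. -/
theorem isNormalRing_tensor_of_isAlgClosed (C D : Type u) [CommRing C] [IsDomain C] [IsIntegrallyClosed C]
    [Algebra Ω C] [CommRing D] [IsDomain D] [IsIntegrallyClosed D] [Algebra Ω D] : IsNormalRing (C ⊗[Ω] D) := by
  refine Groth.Agent.NormalTensor.isNormalRing_tensor_field_general Ω C ?_ D
    (Groth.Agent.NormalTensor.isNormalRing_of_domain D)
  intro k' _ _ hfin
  haveI := hfin
  haveI : Algebra.IsIntegral Ω k' := Algebra.IsIntegral.of_finite Ω k'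
  let e : k' ⊗[Ω] C ≃ₐ[Ω] C :=
    (Algebra.TensorProduct.congr (AlgEquiv.ofBijective (Algebra.ofId Ω k')
      (IsAlgClosed.algebraMap_bijective_of_isIntegral)).symm AlgEquiv.refl).trans (Algebra.TensorProduct.lid Ω C)
  exact Groth.Agent.NormalTensor.isNormalRing_of_ringEquiv e.symm.toRingEquiv
    (Groth.Agent.NormalTensor.isNormalRing_of_domain C)

theorem genDir_of_isDomain_stalk {W : Scheme.{u}} {w : W} (h : IsDomain (W.presheaf.stalk w)) : GenDir w := by
  intro ξ₁ ξ₂ h₁ h₂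
  haveI := h
  let ω₀ : Spec (W.presheaf.stalk w) := (⟨⊥, Ideal.isPrime_bot⟩ : PrimeSpectrum (W.presheaf.stalk w))
  have key : ∀ ξ, ξ ⤳ w → W.fromSpecStalk w ω₀ ⤳ ξ := fun ξ hξ => by
    obtain ⟨P, rfl⟩ := (Scheme.range_fromSpecStalk (x := w)).ge hξ
    exact ((PrimeSpectrum.le_iff_specializes ω₀ P).1 bot_le).map (W.fromSpecStalk w).continuous
  exact ⟨_, key _ h₁, key _ h₂⟩

theorem isDomain_stalk_spec {R : Type u} [CommRing R] (hR : IsNormalRing R) (p : Spec (CommRingCat.of R)) :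
    IsDomain ((Spec (CommRingCat.of R)).presheaf.stalk p) ∧
      IsIntegrallyClosed ((Spec (CommRingCat.of R)).presheaf.stalk p) := by
  obtain ⟨h₁, h₂⟩ := hR (PrimeSpectrum.asIdeal p)
  let e : (Spec (CommRingCat.of R)).presheaf.stalk p ≃+* Localization.AtPrime (PrimeSpectrum.asIdeal p) :=
    ((StructureSheaf.stalkIso (CommRingCat.of R) p).symm).toRingEquiv
  exact ⟨e.isDomain_iff.2 h₁, (IsIntegrallyClosed.of_equiv e.symm)⟩

theorem mkQ_isPrime_bot_specializes {C : Type u} [CommRing C] [IsDomain C] (x : Spec (CommRingCat.of C)) :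
    ((⟨⊥, Ideal.isPrime_bot⟩ : PrimeSpectrum C) : Spec (CommRingCat.of C)) ⤳ x :=
  (PrimeSpectrum.le_iff_specializes (⟨⊥, Ideal.isPrime_bot⟩ : PrimeSpectrum C) x).1 bot_le

/-- Through a rational point and each generisation of it passes a normal integral branch. -/
theorem exists_normal_branch {V : Scheme.{u}} (σ : V ⟶ Spec (CommRingCat.of Ω)) (v : Spec (CommRingCat.of Ω) ⟶ V)
    (hv : v ≫ σ = 𝟙 _) {ξ : V} (hξ : ξ ⤳ v (IsLocalRing.closedPoint Ω)) :
    ∃ (C : Type u) (_ : CommRing C) (_ : IsDomain C) (_ : IsIntegrallyClosed C)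
      (ρ : Spec (CommRingCat.of C) ⟶ V) (ν : Spec (CommRingCat.of Ω) ⟶ Spec (CommRingCat.of C))
      (η : Spec (CommRingCat.of C)),
      ν ≫ ρ = v ∧ ρ η = ξ ∧ ∀ x, η ⤳ x := by
  obtain ⟨W, hW, hxW, -⟩ := exists_isAffineOpen_mem_and_subset (x := v (IsLocalRing.closedPoint Ω))
    (U := (⊤ : V.Opens)) (by simp)
  have hξW : ξ ∈ W := hξ.mem_open W.2 hxW
  have hvW : Set.range v ⊆ Set.range W.ι := by
    rintro _ ⟨p, rfl⟩
    rw [Scheme.Opens.range_ι, show p = IsLocalRing.closedPoint Ω from Subsingleton.elim (α := PrimeSpectrum Ω) _ _]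
    exact hxW
  let A : Type u := Γ(V, W)
  let j : Spec (CommRingCat.of A) ⟶ V := hW.fromSpec
  have hrj : Set.range j = (W : Set V) := hW.range_fromSpec
  have hv' : Set.range v ⊆ Set.range j := by rw [hrj, ← Scheme.Opens.range_ι W]; exact hvW
  let v₀ := IsOpenImmersion.lift j v hv'
  have hv₀ : v₀ ≫ j = v := IsOpenImmersion.lift_fac _ _ _
  obtain ⟨φ, hφ⟩ := Spec.map_surjective v₀
  obtain ⟨p, hp⟩ : ξ ∈ Set.range j := by rw [hrj]; exact hξW
  let P : Ideal A := PrimeSpectrum.asIdeal p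
  have hle : P ≤ RingHom.ker φ.hom := by
    have h1 : p ⤳ v₀ (IsLocalRing.closedPoint Ω) := by
      refine j.isOpenEmbedding.isInducing.specializes_iff.1 ?_
      rw [hp, ← Scheme.Hom.comp_apply, hv₀]
      exact hξ
    have h2 := (PrimeSpectrum.le_iff_specializes _ _).2 h1
    rw [← hφ] at h2
    refine le_trans h2 (le_of_eq ?_)
    change Ideal.comap φ.hom (IsLocalRing.maximalIdeal Ω) = RingHom.ker φ.hom
    rw [IsLocalRing.maximalIdeal_eq_bot]
    rfl
  let B := A ⧸ P
  let f : B →+* Ω := Ideal.Quotient.lift P φ.hom fun a ha => hle ha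
  let C := integralClosure B (FractionRing B)
  haveI : IsIntegrallyClosed C := integralClosure.isIntegrallyClosedOfFiniteExtension (FractionRing B)
  haveI : Algebra.IsIntegral B C := IsIntegralClosure.isIntegral_algebra B (FractionRing B)
  have hinj : Function.Injective (algebraMap B C) := fun a b hab =>
    IsFractionRing.injective B (FractionRing B) (congrArg Subtype.val hab)
  haveI : (RingHom.ker f).IsPrime := RingHom.ker_isPrime f
  obtain ⟨Q, -, hQp, hQ⟩ := Ideal.exists_ideal_over_prime_of_isIntegral (RingHom.ker f) (⊥ : Ideal C) (by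
    intro b hb
    rw [Ideal.mem_comap, Ideal.mem_bot] at hb
    rw [(map_eq_zero_iff (algebraMap B C) hinj).1 hb]
    exact zero_mem _)
  haveI := hQp
  have hker : ∀ b : B, algebraMap B C b ∈ Q ↔ f b = 0 := fun b => by
    rw [← Ideal.mem_comap, hQ, RingHom.mem_ker]
  let B' := B ⧸ RingHom.ker f
  letI : Algebra B' (C ⧸ Q) := (Ideal.quotientMap Q (algebraMap B C) hQ.ge).toAlgebra
  letI : Algebra B' Ω := (RingHom.kerLift f).toAlgebra
  have hBC : Function.Injective (algebraMap B' (C ⧸ Q)) := Ideal.quotientMap_injective' (le_of_eq hQ)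
  haveI : FaithfulSMul B' (C ⧸ Q) := (faithfulSMul_iff_algebraMap_injective _ _).2 hBC
  haveI : FaithfulSMul B' Ω := (faithfulSMul_iff_algebraMap_injective _ _).2 (RingHom.kerLift_injective f)
  haveI : Algebra.IsIntegral B' (C ⧸ Q) := ⟨fun x => by
    obtain ⟨x, rfl⟩ := Ideal.Quotient.mk_surjective x
    obtain ⟨r, hr, hx⟩ := Algebra.IsIntegral.isIntegral (R := B) x
    refine ⟨r.map (Ideal.Quotient.mk _), hr.map _, ?_⟩
    rw [Polynomial.eval₂_map]
    have := congrArg (Ideal.Quotient.mk Q) hx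
    rw [Polynomial.hom_eval₂, map_zero] at this
    refine Eq.trans ?_ this
    congr 1⟩
  haveI : Algebra.IsAlgebraic B' (C ⧸ Q) := Algebra.IsIntegral.isAlgebraic
  let g : C ⧸ Q →ₐ[B'] Ω := IsAlgClosed.lift
  let ψ : C →+* Ω := g.toRingHom.comp (Ideal.Quotient.mk Q)
  let π : A →+* C := (algebraMap B C).comp (Ideal.Quotient.mk P)
  have hψ : ψ.comp π = φ.hom := RingHom.ext fun a => by
    have := g.commutes (Ideal.Quotient.mk _ (Ideal.Quotient.mk P a))
    exact this
  let η : PrimeSpectrum C := ⟨⊥, Ideal.isPrime_bot⟩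
  refine ⟨C, inferInstance, inferInstance, inferInstance, Spec.map (CommRingCat.ofHom π) ≫ j,
    Spec.map (CommRingCat.ofHom ψ), η, ?_, ?_, fun x => mkQ_isPrime_bot_specializes x⟩
  · rw [← Category.assoc, ← Spec.map_comp, ← hv₀, ← hφ]
    congr 2
    exact CommRingCat.hom_ext hψ
  · rw [Scheme.Hom.comp_apply, ← hp]
    congr 1
    refine PrimeSpectrum.ext ?_
    change Ideal.comap π ⊥ = P
    rw [← Ideal.comap_comap, show Ideal.comap (algebraMap B C) ⊥ = ⊥ from (RingHom.injective_iff_ker_eq_bot _).1 hinj]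
    exact Ideal.mk_ker

/-- A product of normal branches over an algebraically closed field has normal local rings. -/
theorem normal_stalk_product {C₁ C₂ : Type u} [CommRing C₁] [IsDomain C₁] [IsIntegrallyClosed C₁]
    [CommRing C₂] [IsDomain C₂] [IsIntegrallyClosed C₂]
    (n₁ : Spec (CommRingCat.of C₁) ⟶ Spec (CommRingCat.of Ω)) (n₂ : Spec (CommRingCat.of C₂) ⟶ Spec (CommRingCat.of Ω))
    {W : Scheme.{u}} (f : W ⟶ pullback n₁ n₂) [Etale f] (w : W) : GenDir w := by
  obtain ⟨φ₁, rfl⟩ := Spec.map_surjective n₁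
  obtain ⟨φ₂, rfl⟩ := Spec.map_surjective n₂
  letI : Algebra Ω C₁ := φ₁.hom.toAlgebra
  letI : Algebra Ω C₂ := φ₂.hom.toAlgebra
  let e : pullback (Spec.map φ₁) (Spec.map φ₂) ≅ Spec (CommRingCat.of (C₁ ⊗[Ω] C₂)) := pullbackSpecIso Ω C₁ C₂
  obtain ⟨hd, hc⟩ := isDomain_stalk_spec (isNormalRing_tensor_of_isAlgClosed (Ω := Ω) C₁ C₂) ((f ≫ e.hom) w)
  exact genDir_of_isDomain_stalk
    ((Groth.Agent.Unibranch.normal_stalk_of_etale (f ≫ e.hom) w ⟨hd, hc⟩).1)

end Groth.Agent.DecSec
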