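import Groth.Agent.DecSec.OnePointStack
import Groth.Agent.RegLocal.Consequences
import Groth.Agent.ASp.GeomRedEt

/-! Regularity of one point stacks. -/

set_option autoImplicit false
set_option backward.isDefEq.respectTransparency false
set_option backward.isDefEq.respectTransparency.types false

universe u

open CategoryTheory CategoryTheory.Limits AlgebraicGeometry Opposite

namespace Groth.Agent.DecSec

open _root_.AlgSp Groth.Agent.ASp Groth.Agent.ASt

variable {S : Scheme.{u}} {𝒵 : AlgSt.Cat S} [FibCat.IsFibGrpd 𝒵.p]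

theorem regular_of_point (h𝒵 : AlgSt.IsAlgStack Scheme.fppfPrecoverage 𝒵)
    (hred : AlgSt.SmoothLocally (fun T => IsReduced T) 𝒵)
    (hn : AlgSt.SmoothLocally (fun T => IsLocallyNoetherian T) 𝒵) [Nonempty (AlgSt.Points 𝒵)]
    [Subsingleton (AlgSt.Points 𝒵)] :
    AlgSt.SmoothLocally (fun T => ∀ t : T, IsRegularLocalRing (T.presheaf.stalk t)) 𝒵 := by
  intro U b hb t
  haveI : IsLocallyNoetherian U.left := hn U b hb
  obtain ⟨k, hk, a, z, -, hs, hf⟩ := exists_fppf_point h𝒵 hred hn
  obtain ⟨W, w₁, w₂, hsm, hprop, hsu, -, -⟩ := exists_cross_chart compLocal_smooth hb (repByAlgSp1_of_with hs)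
  haveI := hprop @Flat hf
  haveI := hsu hs
  let w : W.left ⟶ Spec (CommRingCat.of k) := w₂.left
  haveI : Smooth w := hsm
  obtain ⟨s, rfl⟩ := w₁.left.surjective t
  haveI : IsRegularLocalRing ↥(W.left.presheaf.stalk s) := isRegularLocalRing_stalk_of_smooth_field w s
  letI := (w₁.left.stalkMap s).hom.toAlgebra
  haveI : Module.Flat ↥(U.left.presheaf.stalk (w₁.left s)) ↥(W.left.presheaf.stalk s) := Flat.stalkMap w₁.left s
  haveI : IsLocalHom (algebraMap ↥(U.left.presheaf.stalk (w₁.left s)) ↥(W.left.presheaf.stalk s)) :=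
    inferInstanceAs (IsLocalHom (w₁.left.stalkMap s).hom)
  exact Groth.Agent.RegLocal.isRegularLocalRing_of_flat _ ↥(W.left.presheaf.stalk s)

end Groth.Agent.DecSec
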