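import Groth.Agent.ASp.GpdQuot
import Groth.Agent.ASp.FppfGlue
import Groth.Agent.ASp.DecentPt
import Groth.Agent.ASp.Sheaf

/-! Subsheaves of a quotient sheaf cut out by saturated opens of a chart. -/

set_option autoImplicit false
set_option backward.isDefEq.respectTransparency false
set_option backward.isDefEq.respectTransparency.types false

universe u

open CategoryTheory CategoryTheory.Limits AlgebraicGeometry Opposite

namespace Groth.Agent.DecSec

open _root_.AlgSp Groth.Agent.ASp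

variable {S : Scheme.{u}}

/-- A section of the target of a monomorphism which factors locally factors. -/
theorem factor_of_sieve {Q' Q : Sp S} (ψ : Q' ⟶ Q) [Mono ψ] {T : Over S} {Rc : Sieve T} (hR : Rc ∈ J S T)
    (x : (yon S).obj T ⟶ Q)
    (h : ∀ ⦃V : Over S⦄ (k : V ⟶ T), Rc k → ∃ y : (yon S).obj V ⟶ Q', y ≫ ψ = (yon S).map k ≫ x) :
    ∃ y : (yon S).obj T ⟶ Q', y ≫ ψ = x := by
  choose y hy using h
  let e := fun (F : Sp S) (V : Over S) => ((J S).uliftYonedaEquiv.{u+1} : ((yon S).obj V ⟶ F) ≃ F.obj.obj (op V))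
  let fam : Presieve.FamilyOfElements Q'.obj Rc.arrows := fun V k hk => e Q' V (y k hk)
  have hcomp : fam.Compatible := by
    intro Y₁ Y₂ Z g₁ g₂ f₁ f₂ h₁ h₂ hw
    simp only [fam, e]
    rw [GrothendieckTopology.uliftYonedaEquiv_naturality.{u+1}, GrothendieckTopology.uliftYonedaEquiv_naturality.{u+1}]
    congr 1
    rw [← cancel_mono ψ, Category.assoc, Category.assoc, hy, hy, ← Category.assoc, ← Category.assoc,
      ← Functor.map_comp, ← Functor.map_comp, hw]
  obtain ⟨z, hz, -⟩ := ((isSheaf_iff_isSheaf_of_type _ _).1 Q'.2 _ hR) fam hcomp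
  refine ⟨(e Q' T).symm z, eq_of_sieve hR _ _ fun V k hk => ?_⟩
  have h1 : (yon S).map k ≫ (e Q' T).symm z = y k hk := by
    apply (e Q' V).injective
    change (J S).uliftYonedaEquiv.{u+1} _ = _
    rw [← GrothendieckTopology.uliftYonedaEquiv_naturality.{u+1}]
    change Q'.obj.map k.op (e Q' T ((e Q' T).symm z)) = _
    rw [Equiv.apply_symm_apply]
    exact hz k hk
  rw [← Category.assoc, h1, hy]

/-- A covering sieve contains an fppf family. -/
theorem exists_family_of_mem {T : Over S} {Rc : Sieve T} (hR : Rc ∈ J S T) (t : ↥T.left) :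
    ∃ (V : Over S) (k : V ⟶ T), Rc k ∧ Flat k.left ∧ LocallyOfFinitePresentation k.left ∧ t ∈ Set.range k.left := by
  rw [GrothendieckTopology.mem_over_iff] at hR
  haveI : (min (α := MorphismProperty Scheme.{u}) @Flat @LocallyOfFinitePresentation).ContainsIdentities :=
    ⟨fun X => ⟨(inferInstance : Flat (𝟙 X)), (inferInstance : LocallyOfFinitePresentation (𝟙 X))⟩⟩
  haveI : Scheme.fppfPrecoverage.{u}.HasIsos := inferInstanceAs
    ((Scheme.precoverage (min (α := MorphismProperty Scheme.{u}) @Flat @LocallyOfFinitePresentation)).HasIsos)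
  haveI : Scheme.fppfPrecoverage.{u}.HasPullbacks := inferInstanceAs
    ((Scheme.precoverage (min (α := MorphismProperty Scheme.{u}) @Flat @LocallyOfFinitePresentation)).HasPullbacks)
  obtain ⟨R, hR, hle⟩ :=
    (Precoverage.mem_toGrothendieck_iff_of_isStableUnderComposition (J := Scheme.fppfPrecoverage)).1 hR
  obtain ⟨ι, Y, g, rfl⟩ := R.exists_eq_ofArrows
  obtain ⟨hs, hP⟩ := (Scheme.ofArrows_mem_precoverage_iff _).1 hR
  obtain ⟨i, hi⟩ := hs t
  have := hle _ _ ⟨i⟩
  rw [Sieve.overEquiv_iff] at this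
  exact ⟨_, _, this, (hP i).1, (hP i).2, hi⟩

/-- The main criterion: a monomorphism onto the image of a saturated open of a chart is an open immersion. -/
theorem repWith_openImmersion_of_locus {U : Over S} {Q Q' : Sp S} (π : (yon S).obj U ⟶ Q) [Epi π]
    (W : U.left.Opens)
    (hinv : ∀ ⦃V : Over S⦄ (a b : V ⟶ U), (yon S).map a ≫ π = (yon S).map b ≫ π →
      ∀ v, a.left v ∈ W ↔ b.left v ∈ W)
    (ψ : Q' ⟶ Q) [Mono ψ]
    (hW : ∃ z : (yon S).obj (Over.mk (W.ι ≫ U.hom)) ⟶ Q',
      z ≫ ψ = (yon S).map (Over.homMk W.ι rfl : Over.mk (W.ι ≫ U.hom) ⟶ U) ≫ π)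
    (himg : ∀ ⦃T : Over S⦄ (y : (yon S).obj T ⟶ Q') (t : ↥T.left), ∃ (V : Over S) (k : V ⟶ T) (u : V ⟶ U) (v : ↥V.left),
      k.left v = t ∧ (yon S).map u ≫ π = (yon S).map k ≫ y ≫ ψ ∧ u.left v ∈ W) :
    RepWith @IsOpenImmersion ψ := by
  haveI : Sheaf.IsLocallySurjective π := (Sheaf.isLocallySurjective_iff_epi _).2 inferInstance
  refine repWith_of_exists fun T x => ?_
  -- local lifts of `x`
  let Rc : Sieve T := Presheaf.imageSieve π.hom ((J S).uliftYonedaEquiv.{u+1} x)
  have hRc : Rc ∈ J S T := Presheaf.imageSieve_mem (J S) π.hom _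
  have hlift : ∀ ⦃V : Over S⦄ (k : V ⟶ T), Rc k → ∃ u : V ⟶ U, (yon S).map u ≫ π = (yon S).map k ≫ x := by
    intro V k hk
    obtain ⟨a, ha⟩ := hk
    obtain ⟨u, hu⟩ := (yon S).map_surjective ((J S).uliftYonedaEquiv.{u+1}.symm a)
    refine ⟨u, (J S).uliftYonedaEquiv.{u+1}.injective ?_⟩
    rw [hu, GrothendieckTopology.uliftYonedaEquiv_comp, Equiv.apply_symm_apply,
      ← GrothendieckTopology.uliftYonedaEquiv_naturality.{u+1}]
    exact ha
  have hsat : ∀ {V V' : Over S} (k : V ⟶ T) (k' : V' ⟶ T) (u : V ⟶ U) (u' : V' ⟶ U),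
      (yon S).map u ≫ π = (yon S).map k ≫ x → (yon S).map u' ≫ π = (yon S).map k' ≫ x →
      ∀ v v', k.left v = k'.left v' → u.left v ∈ W → u'.left v' ∈ W := by
    intro V V' k k' u u' hu hu' v v' hv hvW
    obtain ⟨p, hp1, hp2⟩ := Scheme.exists_preimage_of_isPullback
      ((IsPullback.of_hasPullback k k').map (Over.forget S)) v v' hv
    have h := hinv (pullback.fst k k' ≫ u) (pullback.snd k k' ≫ u') (by
      rw [Functor.map_comp, Functor.map_comp, Category.assoc, Category.assoc, hu, hu', ← Functor.map_comp_assoc,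
        ← Functor.map_comp_assoc, pullback.condition]) p
    simp only [Over.comp_left, Scheme.Hom.comp_apply] at h
    rw [← hp2]
    refine h.1 ?_
    have hp1' : (pullback.fst k k').left p = v := hp1
    rwa [hp1']
  let Oset : Set ↥T.left := {t | ∃ (V : Over S) (k : V ⟶ T) (u : V ⟶ U) (v : ↥V.left),
    (yon S).map u ≫ π = (yon S).map k ≫ x ∧ k.left v = t ∧ u.left v ∈ W}
  have hO : IsOpen Oset := by
    rw [isOpen_iff_forall_mem_open]
    intro t ht
    obtain ⟨V, k, hk, hkf, hkp, v, hv⟩ := exists_family_of_mem hRc t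
    obtain ⟨u, hu⟩ := hlift k hk
    obtain ⟨V', k', u', v', hu', hv', hW'⟩ := ht
    refine ⟨k.left '' (u.left ⁻¹' (W : Set ↥U.left)), ?_, k.left.isOpenMap _ (W.2.preimage u.left.continuous),
      v, hsat k' k u' u hu' hu v' v (hv'.trans hv.symm) hW', hv⟩
    rintro _ ⟨w, hw, rfl⟩
    exact ⟨V, k, u, w, hu, rfl, hw⟩
  let O : T.left.Opens := ⟨Oset, hO⟩
  let TO : Over S := Over.mk (O.ι ≫ T.hom)
  let j : TO ⟶ T := Over.homMk O.ι rfl
  obtain ⟨z, hz⟩ := hW
  obtain ⟨fst, hfst⟩ : ∃ fst : (yon S).obj TO ⟶ Q', fst ≫ ψ = (yon S).map j ≫ x := by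
    refine factor_of_sieve ψ ((J S).pullback_stable j hRc) _ fun V k hk => ?_
    obtain ⟨u, hu⟩ := hlift (k ≫ j) hk
    have hr : Set.range u.left ⊆ Set.range W.ι := by
      rintro _ ⟨v, rfl⟩
      rw [Scheme.Opens.range_ι]
      obtain ⟨V', k', u', v', hu', hv', hW'⟩ := (k.left v).2
      exact hsat k' (k ≫ j) u' u hu' hu v' v (by rw [hv']; rfl) hW'
    let w₀ : V.left ⟶ (W : Scheme.{u}) := IsOpenImmersion.lift W.ι u.left hr
    let w : V ⟶ Over.mk (W.ι ≫ U.hom) := Over.homMk w₀ (by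
      change w₀ ≫ W.ι ≫ U.hom = V.hom
      rw [← Category.assoc, IsOpenImmersion.lift_fac]; exact Over.w u)
    refine ⟨(yon S).map w ≫ z, ?_⟩
    rw [Category.assoc, hz, ← Category.assoc, ← Functor.map_comp,
      show w ≫ (Over.homMk W.ι rfl : Over.mk (W.ι ≫ U.hom) ⟶ U) = u from
        Over.OverMorphism.ext (IsOpenImmersion.lift_fac _ _ _), hu, Functor.map_comp_assoc]
  haveI : IsOpenImmersion j.left := inferInstanceAs (IsOpenImmersion O.ι)
  have hj : RepWith @IsOpenImmersion ((yon S).map j) := repWith_yon_map ‹_›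
  haveI : Mono ((yon S).map j) := mono_of_repWith (P := @IsOpenImmersion)
    (fun g hg => haveI : IsOpenImmersion g := hg; inferInstance) hj
  refine ⟨TO, fst, j, ?_, inferInstanceAs (IsOpenImmersion O.ι)⟩
  let m : (yon S).obj TO ⟶ pullback ψ x := pullback.lift fst ((yon S).map j) hfst
  have hm2 : m ≫ pullback.snd ψ x = (yon S).map j := pullback.lift_snd _ _ _
  haveI : Mono m := mono_of_mono_fac hm2
  have hsurj : Sheaf.IsLocallySurjective m := by
    refine Presheaf.isLocallySurjective_of_surjective _ _ fun V s => ?_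
    obtain ⟨p, rfl⟩ := (J S).uliftYonedaEquiv.{u+1}.surjective s
    obtain ⟨b, hb⟩ := (yon S).map_surjective (p ≫ pullback.snd ψ x)
    have hrange : ∀ v, b.left v ∈ Oset := by
      intro v
      obtain ⟨V', k, u, w, hw, hu, hmem⟩ := himg (p ≫ pullback.fst ψ x) v
      refine ⟨V', k ≫ b, u, w, ?_, by rw [Over.comp_left, Scheme.Hom.comp_apply, hw], hmem⟩
      rw [hu, Functor.map_comp, Category.assoc, Category.assoc, hb, Category.assoc, pullback.condition]
    let l₀ : V.unop.left ⟶ (O : Scheme.{u}) := IsOpenImmersion.lift O.ι b.left (by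
      rintro _ ⟨v, rfl⟩; rw [Scheme.Opens.range_ι]; exact hrange v)
    let l : V.unop ⟶ TO := Over.homMk l₀ (by
      change l₀ ≫ O.ι ≫ T.hom = _
      rw [← Category.assoc, IsOpenImmersion.lift_fac]; exact Over.w b)
    have hl : l ≫ j = b := Over.OverMorphism.ext (IsOpenImmersion.lift_fac _ _ _)
    refine ⟨(J S).uliftYonedaEquiv.{u+1} ((yon S).map l), ?_⟩
    have hlm : (yon S).map l ≫ m = p := by
      apply pullback.hom_ext
      · rw [← cancel_mono ψ]
        simp only [Category.assoc, pullback.condition]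
        rw [reassoc_of% hm2, ← Functor.map_comp_assoc, hl, hb, Category.assoc]
      · rw [Category.assoc, hm2, ← Functor.map_comp, hl, hb]
    rw [← hlm]
    rfl
  haveI := isIso_of_mono_of_locallySurjective m hsurj
  exact (IsPullback.of_hasPullback ψ x).of_iso (asIso m).symm (Iso.refl _) (Iso.refl _) (Iso.refl _)
    (by simp [m]) (by simp [m]) (by simp) (by simp)

end Groth.Agent.DecSec
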