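import Groth.Agent.DecSec.OpenSub
import Groth.Agent.ASp.EqvQuot

/-! Restricting a relation along a map with open saturation gives an open immersion of quotient sheaves. -/

set_option autoImplicit false
set_option backward.isDefEq.respectTransparency false
set_option backward.isDefEq.respectTransparency.types false

universe u

open CategoryTheory CategoryTheory.Limits AlgebraicGeometry Opposite

namespace Groth.Agent.DecSec

open _root_.AlgSp Groth.Agent.ASp

variable {S : Scheme.{u}}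

theorem repMap_repIso {V W : Over S} (k : V ⟶ W) : QuotSh.repMap Scheme.fppfPrecoverage k ≫
    (QuotSh.repIsoUliftYoneda Scheme.fppfPrecoverage W).hom =
    (QuotSh.repIsoUliftYoneda Scheme.fppfPrecoverage V).hom ≫ (yon S).map k := by
  simp only [QuotSh.repIsoUliftYoneda, Iso.symm_hom]
  rw [Iso.eq_inv_comp, ← Category.assoc, Iso.comp_inv_eq]
  exact (sheafificationNatIso (J S) (Type (u + 1))).hom.naturality ((yon S).map k) |>.symm

theorem yon_repIso_inv {V W : Over S} (k : V ⟶ W) : (yon S).map k ≫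
    (QuotSh.repIsoUliftYoneda Scheme.fppfPrecoverage W).inv =
    (QuotSh.repIsoUliftYoneda Scheme.fppfPrecoverage V).inv ≫ QuotSh.repMap Scheme.fppfPrecoverage k := by
  rw [Iso.eq_inv_comp, ← reassoc_of% repMap_repIso k, Iso.hom_inv_id, Category.comp_id]

/-- The two quotient sheaves of a pair of maps of schemes agree. -/
noncomputable def quotIso {R U : Over S} (s t : R ⟶ U) :
    QuotSh.quot Scheme.fppfPrecoverage s t ≅ quotSp ((yon S).map s) ((yon S).map t) where
  hom := coequalizer.desc ((QuotSh.repIsoUliftYoneda Scheme.fppfPrecoverage U).hom ≫ quotSpπ _ _) (by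
    rw [reassoc_of% repMap_repIso s, reassoc_of% repMap_repIso t, quotSp_condition])
  inv := quotSpDesc ((QuotSh.repIsoUliftYoneda Scheme.fppfPrecoverage U).inv ≫
      QuotSh.quotπ Scheme.fppfPrecoverage s t) (by
    rw [reassoc_of% yon_repIso_inv s, reassoc_of% yon_repIso_inv t, QuotSh.quot_condition])
  hom_inv_id := by
    refine coequalizer.hom_ext (Eq.trans ?_ (Category.comp_id _).symm)
    erw [coequalizer.π_desc_assoc]
    rw [Category.assoc, quotSpπ_desc, Iso.hom_inv_id_assoc]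
    rfl
  inv_hom_id := by
    refine coequalizer.hom_ext (Eq.trans ?_ (Category.comp_id _).symm)
    change quotSpπ _ _ ≫ _ = quotSpπ _ _
    rw [quotSpπ_desc_assoc, Category.assoc]
    erw [coequalizer.π_desc]
    rw [Iso.inv_hom_id_assoc]

theorem quotπ_quotIso {R U : Over S} (s t : R ⟶ U) :
    QuotSh.quotπ Scheme.fppfPrecoverage s t ≫ (quotIso s t).hom =
      (QuotSh.repIsoUliftYoneda Scheme.fppfPrecoverage U).hom ≫ quotSpπ _ _ :=
  coequalizer.π_desc _ _

/-- Restriction to a chart with open saturation is an open immersion of quotients. -/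
theorem repWith_openImmersion_quot {R U R' U' : Over S} (s t : R ⟶ U)
    (heq : ∀ T : Over S, _root_.Equivalence (fun a b : T ⟶ U => ∃ r : T ⟶ R, r ≫ t = a ∧ r ≫ s = b))
    (g : U' ⟶ U) (s' t' : R' ⟶ U') (r : R' ⟶ R)
    (hsq : IsPullback (prod.lift t' s') r (prod.map g g) (prod.lift t s))
    {P : Over S} (x₀ : P ⟶ U') (ρ₀ : P ⟶ R) (hP : IsPullback x₀.left ρ₀.left g.left t.left)
    (W : U.left.Opens) (hWset : (W : Set ↥U.left) = Set.range (ρ₀ ≫ s).left)
    (H : P ⟶ Over.mk (W.ι ≫ U.hom)) (hH : H.left ≫ W.ι = ρ₀.left ≫ s.left)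
    (hsurj : Sheaf.IsLocallySurjective ((yon S).map H))
    (φ : QuotSh.quot Scheme.fppfPrecoverage s' t' ⟶ QuotSh.quot Scheme.fppfPrecoverage s t)
    (hφ : QuotSh.quotπ Scheme.fppfPrecoverage s' t' ≫ φ =
      QuotSh.repMap Scheme.fppfPrecoverage g ≫ QuotSh.quotπ Scheme.fppfPrecoverage s t) :
    RepWith @IsOpenImmersion φ := by
  let π := quotSpπ ((yon S).map s) ((yon S).map t)
  let π' := quotSpπ ((yon S).map s') ((yon S).map t')
  haveI : Epi π := inferInstanceAs (Epi (coequalizer.π _ _))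
  haveI : Epi π' := inferInstanceAs (Epi (coequalizer.π _ _))
  haveI : Sheaf.IsLocallySurjective π' := (Sheaf.isLocallySurjective_iff_epi _).2 inferInstance
  have hpre : IsPreEqvRelSp ((yon S).map s) ((yon S).map t) := fun T => by
    refine ⟨fun a => ?_, fun {a b} => ?_, fun {a b c} => ?_⟩
    · obtain ⟨a, rfl⟩ := (yon S).map_surjective a
      obtain ⟨q, h1, h2⟩ := (heq T).refl a
      exact ⟨(yon S).map q, by rw [← Functor.map_comp, h1], by rw [← Functor.map_comp, h2]⟩
    · rintro ⟨q, rfl, rfl⟩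
      obtain ⟨q, rfl⟩ := (yon S).map_surjective q
      obtain ⟨q', h1, h2⟩ := (heq T).symm ⟨q, rfl, rfl⟩
      exact ⟨(yon S).map q', by rw [← Functor.map_comp, h1, Functor.map_comp],
        by rw [← Functor.map_comp, h2, Functor.map_comp]⟩
    · rintro ⟨q, rfl, hq⟩ ⟨p, hp, rfl⟩
      obtain ⟨q, rfl⟩ := (yon S).map_surjective q
      obtain ⟨p, rfl⟩ := (yon S).map_surjective p
      have h := hq.trans hp.symm
      rw [← Functor.map_comp, ← Functor.map_comp] at h
      obtain ⟨q', h1, h2⟩ := (heq T).trans ⟨q, rfl, (yon S).map_injective h⟩ ⟨p, rfl, rfl⟩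
      exact ⟨(yon S).map q', by rw [← Functor.map_comp, h1, Functor.map_comp],
        by rw [← Functor.map_comp, h2, Functor.map_comp]⟩
  let ψ := (quotIso s' t').inv ≫ φ ≫ (quotIso s t).hom
  have hψ : π' ≫ ψ = (yon S).map g ≫ π := by
    simp only [ψ, π', π]
    rw [← Category.assoc]
    erw [quotSpπ_desc]
    rw [Category.assoc, reassoc_of% hφ, quotπ_quotIso, reassoc_of% repMap_repIso g, Iso.inv_hom_id_assoc]
  haveI : Mono ψ := mono_of_reflects hpre ((yon S).map g) ψ hψ (fun V a b q h1 h2 => by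
    obtain ⟨a, rfl⟩ := (yon S).map_surjective a
    obtain ⟨b, rfl⟩ := (yon S).map_surjective b
    obtain ⟨q, rfl⟩ := (yon S).map_surjective q
    rw [← Functor.map_comp, ← Functor.map_comp] at h1 h2
    have h1' := (yon S).map_injective h1
    have h2' := (yon S).map_injective h2
    obtain ⟨q', hq', -⟩ := hsq.exists_lift (prod.lift a b) q
      (by apply Limits.prod.hom_ext <;> simp [h1', h2'])
    refine ⟨(yon S).map q', ?_, ?_⟩ <;> rw [← Functor.map_comp] <;> congr 1
    · simpa using congrArg (· ≫ prod.fst) hq'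
    · simpa using congrArg (· ≫ prod.snd) hq')
  have hmem : ∀ w : ↥U.left, w ∈ W ↔
      ∃ (T : Over S) (x : T ⟶ U') (ρ : T ⟶ R) (τ : ↥T.left), ρ ≫ t = x ≫ g ∧ (ρ ≫ s).left τ = w := by
    intro w
    rw [← SetLike.mem_coe, hWset]
    refine ⟨fun ⟨p, hp⟩ => ⟨P, x₀, ρ₀, p, Over.OverMorphism.ext hP.w.symm, hp⟩, ?_⟩
    rintro ⟨T, x, ρ, τ, h1, rfl⟩
    obtain ⟨l, -, hl⟩ := hP.exists_lift x.left ρ.left (congrArg CommaMorphism.left h1).symm
    refine ⟨l τ, ?_⟩
    rw [Over.comp_left, Over.comp_left, Scheme.Hom.comp_apply, Scheme.Hom.comp_apply,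
      ← Scheme.Hom.comp_apply l, hl]
  have hstep : ∀ {T : Over S} (r₁ : T ⟶ R) (τ : ↥T.left),
      (r₁ ≫ t).left τ ∈ W → (r₁ ≫ s).left τ ∈ W := by
    intro T r₁ τ h
    obtain ⟨T', x, ρ, τ', h1, h2⟩ := (hmem _).1 h
    obtain ⟨p, hp1, hp2⟩ := Scheme.exists_preimage_of_isPullback
      ((IsPullback.of_hasPullback (ρ ≫ s) (r₁ ≫ t)).map (Over.forget S)) τ' τ h2
    obtain ⟨ρ', e1, e2⟩ := (heq _).trans
      (⟨pullback.fst (ρ ≫ s) (r₁ ≫ t) ≫ ρ, by rw [Category.assoc, h1], rfl⟩ :
        ∃ q, q ≫ t = pullback.fst (ρ ≫ s) (r₁ ≫ t) ≫ x ≫ g ∧ q ≫ s = (pullback.fst (ρ ≫ s) (r₁ ≫ t) ≫ ρ) ≫ s)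
      (⟨pullback.snd (ρ ≫ s) (r₁ ≫ t) ≫ r₁, by
          rw [Category.assoc, Category.assoc, pullback.condition], rfl⟩)
    refine (hmem _).2 ⟨_, pullback.fst (ρ ≫ s) (r₁ ≫ t) ≫ x, ρ', p, by rw [e1, Category.assoc], ?_⟩
    rw [e2, Category.assoc, Over.comp_left, Scheme.Hom.comp_apply]
    exact congrArg _ hp2
  have hself : ∀ {T : Over S} (x : T ⟶ U') (τ : ↥T.left), (x ≫ g).left τ ∈ W := fun {T} x τ => by
    obtain ⟨q, h1, h2⟩ := (heq T).refl (x ≫ g)
    exact (hmem _).2 ⟨T, x, q, τ, h1, by rw [h2]⟩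
  have hinv : ∀ ⦃V : Over S⦄ (a b : V ⟶ U), (yon S).map a ≫ π = (yon S).map b ≫ π →
      ∀ v, a.left v ∈ W ↔ b.left v ∈ W := by
    intro V a b hab v
    obtain ⟨Rc, hRc, hrel⟩ := locally_related hpre _ _ hab
    obtain ⟨V', k, hk, -, -, v', rfl⟩ := exists_family_of_mem hRc v
    obtain ⟨q, hq1, hq2⟩ := hrel k hk
    obtain ⟨q, rfl⟩ := (yon S).map_surjective q
    rw [← Functor.map_comp, ← Functor.map_comp] at hq1 hq2
    have hq1' := (yon S).map_injective hq1
    have hq2' := (yon S).map_injective hq2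
    obtain ⟨q', hr1, hr2⟩ := (heq V').symm ⟨q, hq1', hq2'⟩
    constructor
    · intro h
      have := hstep q v' (by rw [hq1', Over.comp_left, Scheme.Hom.comp_apply]; exact h)
      rwa [hq2', Over.comp_left, Scheme.Hom.comp_apply] at this
    · intro h
      have := hstep q' v' (by rw [hr1, Over.comp_left, Scheme.Hom.comp_apply]; exact h)
      rwa [hr2, Over.comp_left, Scheme.Hom.comp_apply] at this
  let j : Over.mk (W.ι ≫ U.hom) ⟶ U := Over.homMk W.ι rfl
  have hHj : H ≫ j = ρ₀ ≫ s := Over.OverMorphism.ext hH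
  have hW : ∃ z : (yon S).obj (Over.mk (W.ι ≫ U.hom)) ⟶ _, z ≫ ψ = (yon S).map j ≫ π := by
    refine factor_of_sieve ψ (Presheaf.imageSieve_mem (J S) ((yon S).map H).hom
      ((J S).uliftYonedaEquiv.{u+1} (𝟙 _))) _ fun V k hk => ?_
    obtain ⟨a, ha⟩ := hk
    obtain ⟨q, hq⟩ := (yon S).map_surjective ((J S).uliftYonedaEquiv.{u+1}.symm a)
    have hqk : q ≫ H = k := by
      apply (yon S).map_injective
      apply (J S).uliftYonedaEquiv.{u+1}.injective
      rw [Functor.map_comp, hq, GrothendieckTopology.uliftYonedaEquiv_comp, Equiv.apply_symm_apply,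
        ← Category.comp_id ((yon S).map k), ← GrothendieckTopology.uliftYonedaEquiv_naturality.{u+1}]
      exact ha
    refine ⟨(yon S).map (q ≫ x₀) ≫ π', ?_⟩
    rw [Category.assoc, hψ, ← Functor.map_comp_assoc, ← Functor.map_comp_assoc, ← hqk, Category.assoc,
      show x₀ ≫ g = ρ₀ ≫ t from Over.OverMorphism.ext hP.w, Category.assoc, hHj,
      Functor.map_comp_assoc, Functor.map_comp_assoc, Functor.map_comp_assoc, Functor.map_comp_assoc]
    congr 2
    exact (quotSp_condition _ _).symm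
  have hψW : RepWith @IsOpenImmersion ψ := by
    refine repWith_openImmersion_of_locus π W hinv ψ hW fun T y τ => ?_
    obtain ⟨V, c, l, -, -, hc, hl⟩ := exists_fppf_lift π' y
    obtain ⟨v, hv⟩ := hc.surj τ
    exact ⟨V, c, l ≫ g, v, hv, by rw [Functor.map_comp, Category.assoc, ← hψ, reassoc_of% hl], hself l v⟩
  rw [show φ = (quotIso s' t').hom ≫ ψ ≫ (quotIso s t).inv by simp [ψ]]
  exact (MorphismProperty.cancel_left_of_respectsIso (RepWith @IsOpenImmersion) _ _).2
    ((MorphismProperty.cancel_right_of_respectsIso (RepWith @IsOpenImmersion) _ _).2 hψW)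

end Groth.Agent.DecSec
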