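import Groth.Agent.DecSec.QuotFib
import Groth.Agent.ASt.Fp
import Groth.Agent.ASt.Stack

/-! The square of the action and the projection over the quotient. -/

set_option autoImplicit false
set_option backward.isDefEq.respectTransparency false
set_option backward.isDefEq.respectTransparency.types false

universe u

open CategoryTheory CategoryTheory.Limits MonoidalCategory CartesianMonoidalCategory MonObj GrpObj AlgebraicGeometry

namespace Groth.Agent.DecSec.QuotSch

open _root_.AlgSt Groth.Agent.ASt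

variable {S : Scheme.{u}} {K : Precoverage Scheme.{u}} [K.IsStableUnderBaseChange] [K.HasIsos] {G : Over S}
  [GrpObj G] {X : Over S} {aX : AlgGrp.Action G X}

theorem comp_top_quotMap {a a' : (ofSch X).obj} (g : a ⟶ a') {A : QuotObj K G aX}
    (m : (quotMap K G aX).obj a' ⟶ A) :
    unitSec a.base ≫ ((quotMap K G aX).map g ≫ m).top = g.hom ≫ unitSec a'.base ≫ m.top := by
  have h := unitSec_natural (G := G) g.hom
  exact (Category.assoc _ _ _).symm.trans ((congrArg (· ≫ m.top) h).trans (Category.assoc _ _ _))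

theorem existsUnique_rightMul {T : Over S} (gx : T ⟶ G ⊗ X) :
    ∃! m : (quotMap K G aX).obj ⟨T, ⟨gx ≫ aX.act⟩⟩ ⟶ (quotMap K G aX).obj ⟨T, ⟨gx ≫ snd G X⟩⟩,
      m.base = 𝟙 T ∧ unitSec T ≫ m.top = lift (gx ≫ fst G X) (𝟙 T) :=
  existsUnique_hom (gx ≫ aX.act) (qObj K G aX (gx ≫ snd G X)) (𝟙 T) (lift (gx ≫ fst G X) (𝟙 T))
    (lift_snd _ _) (by
      change lift (gx ≫ fst G X) (𝟙 T) ≫ (G ◁ (gx ≫ snd G X)) ≫ aX.act = _
      rw [← Category.assoc, lift_whiskerLeft, Category.id_comp, ← comp_lift, lift_fst_snd, Category.comp_id])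

/-- Right multiplication by the group element. -/
noncomputable def rightMul (s : (ofSch (G ⊗ X)).obj) :
    (quotMap K G aX).obj ⟨s.base, ⟨s.sec.down ≫ aX.act⟩⟩ ⟶
      (quotMap K G aX).obj ⟨s.base, ⟨s.sec.down ≫ snd G X⟩⟩ :=
  (existsUnique_rightMul s.sec.down).exists.choose

theorem rightMul_base (s : (ofSch (G ⊗ X)).obj) : (rightMul (K := K) (aX := aX) s).base = 𝟙 s.base :=
  (existsUnique_rightMul (K := K) (aX := aX) s.sec.down).exists.choose_spec.1

theorem rightMul_top (s : (ofSch (G ⊗ X)).obj) :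
    unitSec s.base ≫ (rightMul (K := K) (aX := aX) s).top = lift (s.sec.down ≫ fst G X) (𝟙 s.base) :=
  (existsUnique_rightMul (K := K) (aX := aX) s.sec.down).exists.choose_spec.2

theorem rightMul_natural {s s' : (ofSch (G ⊗ X)).obj} (g : s ⟶ s')
    (a : (⟨s.base, ⟨s.sec.down ≫ aX.act⟩⟩ : (ofSch X).obj) ⟶ ⟨s'.base, ⟨s'.sec.down ≫ aX.act⟩⟩)
    (b : (⟨s.base, ⟨s.sec.down ≫ snd G X⟩⟩ : (ofSch X).obj) ⟶ ⟨s'.base, ⟨s'.sec.down ≫ snd G X⟩⟩)
    (ha : a.hom = g.hom) (hb : b.hom = g.hom) :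
    (quotMap K G aX).map a ≫ rightMul s' = rightMul s ≫ (quotMap K G aX).map b := by
  refine hom_ext (T := s.base) ?_ ?_
  · change a.hom ≫ (rightMul s').base = (rightMul s).base ≫ b.hom
    rw [rightMul_base, rightMul_base, ha, hb]
    exact (Category.comp_id _).trans (Category.id_comp _).symm
  · refine (comp_top_quotMap a (rightMul s')).trans ?_
    change a.hom ≫ unitSec s'.base ≫ _ = unitSec s.base ≫ (rightMul s).top ≫ (G ◁ b.hom)
    rw [rightMul_top, ← Category.assoc, rightMul_top]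
    have h : g.hom ≫ s'.sec.down = s.sec.down := congrArg ULift.down g.map_sec
    refine Eq.trans ?_ (lift_whiskerLeft _ _ _).symm
    rw [comp_lift, ha, hb, reassoc_of% h]
    exact congrArg (lift _) ((Category.comp_id _).trans (Category.id_comp _).symm)

/-- The square of the action and the projection is 2-cartesian over the quotient. -/
theorem exists_isTwoCartOver :
    ∃ e : BasedFunctor.comp (ofSpMap ((AlgSp.yon S).map aX.act)) (quotMap K G aX) ≅
        BasedFunctor.comp (ofSpMap ((AlgSp.yon S).map (snd G X))) (quotMap K G aX),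
      FibCat.IsTwoCartOver (ofSpMap ((AlgSp.yon S).map aX.act))
        (ofSpMap ((AlgSp.yon S).map (snd G X))) e := by
  haveI := isFibGrpd_quot (K := K) (G := G) (aX := aX)
  let q := quotMap K G aX
  let A := ofSpMap ((AlgSp.yon S).map aX.act)
  let B := ofSpMap ((AlgSp.yon S).map (snd G X))
  have hm : ∀ s, (AlgSt.QuotSt K G aX).p.map (rightMul (K := K) (aX := aX) s) = eqToHom rfl := fun s =>
    rightMul_base s
  have hi : ∀ s, IsIso (rightMul (K := K) (aX := aX) s) := fun s => isIso_of_vert (rightMul s) (hm s)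
  let e : BasedFunctor.comp A q ≅ BasedFunctor.comp B q := BasedNatIso.mkNatIso
    (F := BasedFunctor.comp A q) (G := BasedFunctor.comp B q)
    (NatIso.ofComponents (fun s => @asIso _ _ _ _ (rightMul s) (hi s))
      fun {s s'} g => rightMul_natural g (A.map g) (B.map g) rfl rfl)
    fun s => isHomLift_id_of_map (rightMul s) ((BasedFunctor.comp A q).w_obj s) (hm s)
  refine ⟨e, ?_⟩
  let E := FibCat.fpLift (F := q) (G := q) A B e
  change FibCat.IsEquivOver E
  haveI : E.toFunctor.Faithful := ⟨fun {s s' g g'} h =>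
    Stk.EltObj.hom_ext (congrArg (fun n => n.hom.fst.hom) h :)⟩
  haveI : E.toFunctor.Full := ⟨fun {s s'} n => by
    let g : s.base ⟶ s'.base := n.hom.fst.hom
    have hsnd : n.hom.snd.hom = g := by
      refine (fp_map_snd n).trans ?_
      exact (congrArg (_ ≫ ·) (Category.comp_id g)).trans (Category.id_comp _)
    have w : q.map n.hom.fst ≫ rightMul s' = rightMul s ≫ q.map n.hom.snd := n.hom.w
    have h1 := congrArg (fun m => unitSec s.base ≫ m.top) w
    have h2 : g ≫ lift (s'.sec.down ≫ fst G X) (𝟙 s'.base) =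
        lift (s.sec.down ≫ fst G X) (𝟙 s.base) ≫ (G ◁ n.hom.snd.hom) := by
      rw [← rightMul_top (K := K) (aX := aX), ← rightMul_top (K := K) (aX := aX)]
      refine (comp_top_quotMap n.hom.fst (rightMul s')).symm.trans (h1.trans ?_)
      exact (Category.assoc _ _ _).symm
    have h3 : g ≫ s'.sec.down ≫ fst G X = s.sec.down ≫ fst G X := by
      have := congrArg (· ≫ fst G s'.base) h2
      refine Eq.trans ?_ (this.trans ?_)
      · simp
      · exact (Category.assoc _ _ _).trans ((congrArg (_ ≫ ·) (whiskerLeft_fst _ _)).trans (lift_fst _ _))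
    have h4 : g ≫ s'.sec.down ≫ snd G X = s.sec.down ≫ snd G X := by
      have := congrArg ULift.down n.hom.snd.map_sec
      change n.hom.snd.hom ≫ s'.sec.down ≫ snd G X = s.sec.down ≫ snd G X at this
      rwa [hsnd] at this
    have hsec : g ≫ s'.sec.down = s.sec.down := by
      apply CartesianMonoidalCategory.hom_ext
      · rw [Category.assoc, h3]
      · rw [Category.assoc, h4]
    exact ⟨⟨g, congrArg ULift.up hsec⟩,
      fp_hom_ext (Stk.EltObj.hom_ext rfl) (Stk.EltObj.hom_ext hsnd.symm)⟩⟩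
  refine isEquivOver_of_vert E fun m => ?_
  obtain ⟨⟨⟨T, ⟨x₁⟩⟩, ⟨T', ⟨x₂⟩⟩, φ⟩, hprop⟩ := m
  let m₀ : (FibCat.fp q q).obj := ⟨⟨⟨T, ⟨x₁⟩⟩, ⟨T', ⟨x₂⟩⟩, φ⟩, hprop⟩
  obtain rfl : T' = T := fp_snd_base m₀
  have hφ : φ.hom.base = 𝟙 T' := (fp_iso_map m₀).trans (eqToHom_refl _ _)
  let l : T' ⟶ G ⊗ T' := unitSec T' ≫ φ.hom.top
  have hl : l ≫ snd G T' = 𝟙 T' := (unit_π (x := x₁) (A := qObj K G aX x₂) φ.hom).trans hφ
  let g : T' ⟶ G := l ≫ fst G T'
  have hl' : l = lift g (𝟙 T') := by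
    rw [← hl, ← comp_lift, lift_fst_snd, Category.comp_id]
  have hx : lift g x₂ ≫ aX.act = x₁ := by
    have h : l ≫ (G ◁ x₂) ≫ aX.act = x₁ := unit_φ (x := x₁) (A := qObj K G aX x₂) φ.hom
    rw [hl', ← Category.assoc, lift_whiskerLeft, Category.id_comp] at h
    exact h
  let s : (ofSch (G ⊗ X)).obj := ⟨T', ⟨lift g x₂⟩⟩
  let na : A.obj s ⟶ m₀.obj.fst := ⟨𝟙 T', congrArg ULift.up ((Category.id_comp _).trans hx.symm)⟩
  let nb : B.obj s ⟶ m₀.obj.snd :=
    ⟨𝟙 T', congrArg ULift.up ((Category.id_comp _).trans (lift_snd g x₂).symm)⟩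
  have hw : q.map na ≫ φ.hom = rightMul s ≫ q.map nb := by
    refine hom_ext (T := T') ?_ ?_
    · change 𝟙 T' ≫ φ.hom.base = (rightMul s).base ≫ 𝟙 T'
      rw [rightMul_base, hφ]
    · refine (comp_top_quotMap na φ.hom).trans ?_
      change 𝟙 T' ≫ l = unitSec T' ≫ (rightMul s).top ≫ (G ◁ 𝟙 T')
      rw [MonoidalCategory.whiskerLeft_id, Category.id_comp, hl']
      refine Eq.trans ?_ (congrArg (unitSec T' ≫ ·) (Category.comp_id _)).symm
      exact (congrArg (lift · (𝟙 T')) (lift_fst g x₂).symm).trans (rightMul_top s).symm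
  let n : E.obj s ⟶ m₀ := fpHomMk na nb hw
  have hn : (FibCat.fp q q).p.map n = eqToHom rfl := rfl
  haveI : FibCat.IsFibGrpd (ofSch X).p := Stk.isFibGrpd_ofPsh _
  haveI : FibCat.IsFibGrpd (FibCat.fp q q).p := isFibGrpd_fp
  haveI := isIso_of_vert n hn
  exact ⟨s, rfl, asIso n, hn⟩

end Groth.Agent.DecSec.QuotSch
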