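import Groth.Agent.DecSec.QuotEt
import Groth.Agent.ASt.DiagFppf
import Groth.Agent.ASt.OverMapRep
import Groth.Agent.ASt.PtsTop
import Groth.Agent.RepOne.Slices
import Groth.Agent.ASt.Local
import Groth.Agent.ASp.LargestOpen

/-! The diagonal of a quotient stack of an affine group. -/

set_option autoImplicit false
set_option backward.isDefEq.respectTransparency false
set_option backward.isDefEq.respectTransparency.types false

universe u

open CategoryTheory CategoryTheory.Limits MonoidalCategory CartesianMonoidalCategory AlgebraicGeometry Opposite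

namespace Groth.Agent.DecSec.QuotSch

open _root_.AlgSt Groth.Agent.ASp Groth.Agent.ASt Groth.Agent.RepOne

variable {S : Scheme.{u}}

/-- The diagonal of a slice is the diagonal of its object. -/
theorem repByAlgSpWith_diag_overCat {P : MorphismProperty (AlgSp.Sp S)} [P.RespectsIso] (U : Over S)
    (h : AlgSt.RepByAlgSpWith P (AlgSt.overMap (Limits.diag U))) :
    AlgSt.RepByAlgSpWith P (FibCat.diag (FibCat.toSelf (FibCat.overCat U))) := by
  let T' := FibCat.toSelf (FibCat.overCat U)
  let e := funIso (y := BasedFunctor.comp (mapF (Limits.prod.fst : U ⨯ U ⟶ U)) T')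
    (y' := BasedFunctor.comp (mapF (Limits.prod.snd : U ⨯ U ⟶ U)) T') (𝟙 (U ⨯ U)) rfl
  let b := FibCat.fpLift (mapF (Limits.prod.fst : U ⨯ U ⟶ U)) (mapF (Limits.prod.snd : U ⨯ U ⟶ U)) e
  have hb : FibCat.IsEquivOver b := by
    have : b.toFunctor.Faithful :=
      ⟨fun {g g'} {u v} h => Over.OverMorphism.ext (congrArg (fun t => t.hom.fst.left) h :)⟩
    have : b.toFunctor.Full := ⟨fun {g g'} h => by
      have e1 : h.hom.snd.left = h.hom.fst.left := by
        refine (fp_map_snd h).trans ?_
        exact (Category.id_comp _).trans (Category.comp_id _)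
      refine ⟨Over.homMk h.hom.fst.left (Limits.prod.hom_ext ?_ ?_), fp_hom_ext (Over.OverMorphism.ext rfl)
        (Over.OverMorphism.ext e1.symm)⟩
      · exact (Category.assoc _ _ _).trans (Over.w h.hom.fst)
      · have := Over.w h.hom.snd
        rw [e1] at this
        exact (Category.assoc _ _ _).trans this⟩
    refine isEquivOver_of_vert b fun z => ?_
    have hz : z.obj.snd.left = z.obj.fst.left := fp_snd_base z
    refine ⟨ov (Limits.prod.lift z.obj.fst.hom (eqToHom hz.symm ≫ z.obj.snd.hom)), rfl,
      fpIsoMk (Over.isoMk (Iso.refl _) ((Category.id_comp _).trans (Limits.prod.lift_fst _ _).symm))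
        (Over.isoMk (eqToIso hz.symm) (Limits.prod.lift_snd _ _).symm) ?_, ?_⟩
    · apply (FibCat.selfOver (Over S)).p.map_injective
      rw [Functor.map_comp, Functor.map_comp, fp_iso_map, fp_iso_map, map_w, map_w]
      simp [ov_p_map]
      exact (Category.id_comp _).trans rfl
    · rfl
  let c : BasedFunctor.comp (mapF (Limits.diag U)) b ≅
      BasedFunctor.comp (BasedFunctor.id _) (FibCat.diag T') :=
    BasedNatIso.mkNatIso (NatIso.ofComponents (fun g => fpIsoMk
      (Over.isoMk (Iso.refl g.left) (by change 𝟙 g.left ≫ g.hom = (g.hom ≫ Limits.diag U) ≫ Limits.prod.fst; simp))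
      (Over.isoMk (Iso.refl g.left) (by change 𝟙 g.left ≫ g.hom = (g.hom ≫ Limits.diag U) ≫ Limits.prod.snd; simp))
      (by
        apply (FibCat.selfOver (Over S)).p.map_injective
        rw [Functor.map_comp, Functor.map_comp, fp_iso_map, fp_iso_map, map_w, map_w]
        simp [ov_p_map]
        try rfl))
      (fun {g g'} u => fp_hom_ext (Over.OverMorphism.ext ((Category.comp_id _).trans (Category.id_comp _).symm))
        (Over.OverMorphism.ext ((Category.comp_id _).trans (Category.id_comp _).symm))))
      (fun g => isHomLift_id_of_map _ rfl (e := rfl) rfl)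
  haveI : FibCat.IsFibGrpd (FibCat.fp T' T').p := isFibGrpd_fp
  exact repByAlgSpWith_congr c (repByAlgSpWith_comp_equiv hb h)

theorem isAffineHom_diag_of_diagonal {X : Over S} [IsAffineHom (pullback.diagonal X.hom)] :
    IsAffineHom (Limits.diag X).left := by
  have h : (Limits.diag X).left ≫ (Over.prodLeftIsoPullback X X).hom = pullback.diagonal X.hom := by
    ext
    · simp [← Over.comp_left]
    · simp [← Over.comp_left]
  exact (MorphismProperty.cancel_right_of_respectsIso (P := @IsAffineHom) _ _).1 (h ▸ ‹IsAffineHom (pullback.diagonal X.hom)›)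

variable {G : Over S} [GrpObj G] {X : Over S} {aX : AlgGrp.Action G X}

/-- The quotient of a smooth affine group acting on a scheme with affine diagonal has affine diagonal. -/
theorem repByAlgSpWith_isAffineMor_diag_etale [Smooth G.hom] [IsAffineHom G.hom]
    [IsAffineHom (pullback.diagonal X.hom)] :
    AlgSt.RepByAlgSpWith AlgSp.IsAffineMor
      (FibCat.diag (FibCat.toSelf (AlgSt.QuotSt Scheme.etalePrecoverage G aX))) := by
  haveI : FibCat.IsFibGrpd (AlgSt.QuotSt Scheme.etalePrecoverage G aX).p :=
    isFibGrpd_quot (K := Scheme.etalePrecoverage) (G := G) (aX := aX)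
  obtain ⟨hA, hsm, hsurj, haff⟩ := isAlgStack_quot_etale (G := G) (aX := aX)
  let a := BasedFunctor.comp (ofOverCat X) (quotMap Scheme.etalePrecoverage G aX)
  haveI : FibCat.IsFibGrpd (FibCat.fp (FibCat.toSelf (AlgSt.QuotSt Scheme.etalePrecoverage G aX))
    (FibCat.toSelf (AlgSt.QuotSt Scheme.etalePrecoverage G aX))).p := isFibGrpd_fp
  haveI : FibCat.IsFibGrpd (FibCat.fp (BasedFunctor.comp a (FibCat.toSelf _))
    (BasedFunctor.comp a (FibCat.toSelf _))).p := isFibGrpd_fp
  haveI : FibCat.IsFibGrpd (FibCat.fp a a).p := isFibGrpd_fp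
  have e : BasedFunctor.comp a (FibCat.toSelf (AlgSt.QuotSt Scheme.etalePrecoverage G aX)) =
      FibCat.toSelf (FibCat.overCat X) := Groth.Agent.ASt.basedFunctor_ext a.w
  have hd : AlgSt.RepByAlgSpWith AlgSp.IsAffineMor
      (FibCat.diag (BasedFunctor.comp a (FibCat.toSelf (AlgSt.QuotSt Scheme.etalePrecoverage G aX)))) := by
    rw [e]
    refine repByAlgSpWith_diag_overCat X (repByAlgSpWith_overMap fun k a' b sq => ?_)
    haveI : IsAffineHom b.left := MorphismProperty.of_isPullback (sq.map (Over.forget S)) isAffineHom_diag_of_diagonal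
    exact isAffineMor_yon_map b
  refine repByAlgSpWith_diag_toSelf_of_chart isLocalOnBase_fppf_isAffineMor hA.diag
    (a := a) ?_ ?_ (isSurjective_of_repByAlgSpWith hsurj) ?_
  · exact repByAlgSpWith_mono (fun _ _ _ _ _ h => locP_mono (fun _ _ f (hf : Smooth f) => inferInstanceAs (Flat f)) h) hsm
  · exact repByAlgSpWith_mono (fun _ _ _ _ _ h => locP_mono (fun _ _ f (hf : Smooth f) => inferInstanceAs (LocallyOfFinitePresentation f)) h) hsm
  · exact repByAlgSpWith_of_comp compLocal_affine
      (g := FibCat.fpFst (BasedFunctor.comp a (FibCat.toSelf _)) (BasedFunctor.comp a (FibCat.toSelf _)))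
      (repByAlgSpWith_fpFst a haff) (repByAlgSpWith_diag_fpFst _ _ hd)

end Groth.Agent.DecSec.QuotSch
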