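import Groth.Agent.DecSec.QuotRep
import Groth.Agent.SpTorsLib.Basic
import Groth.Agent.ASp.FppfLocal

/-! Properties of the quotient map of a scheme with an action. -/

set_option autoImplicit false
set_option backward.isDefEq.respectTransparency false
set_option backward.isDefEq.respectTransparency.types false

universe u

open CategoryTheory CategoryTheory.Limits MonoidalCategory CartesianMonoidalCategory MonObj GrpObj AlgebraicGeometry Opposite

namespace Groth.Agent.DecSec.QuotSch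

open _root_.AlgSt Groth.Agent.ASp

variable {S : Scheme.{u}} {G : Over S} [GrpObj G] {X : Over S} {aX : AlgGrp.Action G X}

theorem snd_prop {P : MorphismProperty Scheme.{u}} [P.IsStableUnderBaseChange] (hG : P G.hom) (T : Over S) :
    P (snd G T).left := by
  have h := (AlgSt.isPullback_fst_snd G T).map (Over.forget S)
  have e : (toUnit G).left = G.hom := by simpa using Over.w (toUnit G)
  refine MorphismProperty.of_isPullback h ?_
  change P (toUnit G).left
  rw [e]; exact hG

/-- The structure map of a torsor is locally the structure map of the group. -/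
theorem locP_π {P : MorphismProperty Scheme.{u}} [P.IsStableUnderBaseChange]
    [P.DescendsAlong (@Surjective ⊓ @Flat ⊓ @QuasiCompact)] [IsZariskiLocalAtTarget P] [IsEtLocal P] (hG : P G.hom)
    (A : AlgSt.QuotObj Scheme.fppfPrecoverage G aX) : AlgSp.LocP P ((AlgSp.yon S).map A.π) := by
  obtain ⟨R, hR, hsec⟩ := A.loc
  obtain ⟨J₀, W₀, f₀, rfl⟩ := Presieve.exists_eq_ofArrows R
  obtain ⟨h1, h2⟩ := (Scheme.ofArrows_mem_precoverage_iff _).1 hR
  choose i w hw using h1
  let f := fun t => f₀ (i t)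
  have hc : Presieve.ofArrows _ f ∈ Scheme.fppfPrecoverage A.base.left :=
    (Scheme.ofArrows_mem_precoverage_iff _).2 ⟨fun t => ⟨t, w t, hw t⟩, fun t => h2 (i t)⟩
  choose s hsπ using fun t => hsec (f t) (Presieve.ofArrows.mk (i t))
  let X' := fun t => (Over.mk (f t ≫ A.base.hom) : Over S)
  let σ := fun t => (Over.homMk (s t) (by
    change s t ≫ A.P.hom = f t ≫ A.base.hom
    rw [← Over.w A.π, ← Category.assoc]
    exact congrArg (· ≫ A.base.hom) (hsπ t)) : X' t ⟶ A.P)
  have hcov := Groth.Agent.SpTorsLib.isFppfCover_yon _ f hc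
  refine (Groth.Agent.ASp.isLocalOnBase_locP (fun t => (AlgSp.yon S).obj (X' t))
    (fun t => (AlgSp.yon S).map (Over.homMk (f t))) (AlgSp.IsAlgSpace.yon_obj _)
    (fun t => AlgSp.IsAlgSpace.yon_obj _)
    (Groth.Agent.ASp.isFpqcCover_of_fppf (AlgSp.IsAlgSpace.yon_obj _) (fun t => AlgSp.IsAlgSpace.yon_obj _)
      (fun t => (hcov.1 t).1) (fun t => (hcov.1 t).2) hcov.2)
    _ (AlgSp.IsAlgSpace.yon_obj _) (fun t => (AlgSp.yon S).obj (G ⊗ X' t))
    (fun t => (AlgSp.yon S).map (snd G (X' t)))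
    (fun t => (AlgSp.yon S).map ((G ◁ σ t) ≫ A.act.act))
    (fun t => AlgSp.IsAlgSpace.yon_obj _) fun t => ?_).2 fun t => ?_
  · have h := isPullback_triv A (σ t)
    rw [show σ t ≫ A.π = Over.homMk (f t) from Over.OverMorphism.ext (hsπ t)] at h
    exact h.map (AlgSp.yon S)
  · exact locP_of_repWith (repWith_yon_map (snd_prop hG _))

theorem surjective_π (A : AlgSt.QuotObj Scheme.fppfPrecoverage G aX) :
    AlgSp.IsSurjectiveMor ((AlgSp.yon S).map A.π) := by
  obtain ⟨R, hR, hsec⟩ := A.loc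
  obtain ⟨J₀, W₀, f₀, rfl⟩ := Presieve.exists_eq_ofArrows R
  obtain ⟨h1, -⟩ := (Scheme.ofArrows_mem_precoverage_iff _).1 hR
  intro p
  obtain ⟨t, rfl⟩ := (AlgSp.Points.schemeHomeo A.base).surjective p
  obtain ⟨i, w, hw⟩ := h1 t
  obtain ⟨s, hs⟩ := hsec (f₀ i) (Presieve.ofArrows.mk i)
  refine ⟨AlgSp.Points.schemeHomeo A.P (s w), ?_⟩
  rw [AlgSp.Points.map_yon_map_apply]
  refine congrArg _ ?_
  rw [← hw, ← hs]
  rfl

/-- The quotient map is representable with a property of the group. -/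
theorem repByAlgSpWith_qFun {P : MorphismProperty (AlgSp.Sp S)} [P.RespectsIso]
    (h : ∀ A : AlgSt.QuotObj Scheme.fppfPrecoverage G aX, P ((AlgSp.yon S).map A.π)) :
    AlgSt.RepByAlgSpWith P (BasedFunctor.comp (ofOverCat X) (quotMap Scheme.fppfPrecoverage G aX)) := fun U y => by
  haveI := isFibGrpd_quot (K := Scheme.fppfPrecoverage) (G := G) (aX := aX)
  obtain ⟨e, he, hr⟩ := exists_rep y
  refine ⟨⟨_, AlgSp.IsAlgSpace.yon_obj _⟩, e, he, ?_⟩
  rw [hr, Functor.map_comp]
  exact (P.cancel_right_of_respectsIso _ _).2 (h _)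

theorem isSurjectiveMor_comp_iso {A B C : AlgSp.Sp S} (f : A ⟶ B) (g : B ⟶ C) [IsIso g]
    (h : AlgSp.IsSurjectiveMor f) : AlgSp.IsSurjectiveMor (f ≫ g) := fun p => by
  obtain ⟨q, hq⟩ := h (AlgSp.Points.map (inv g) p)
  exact ⟨q, by rw [AlgSp.Points.map_comp, hq, ← AlgSp.Points.map_comp, IsIso.inv_hom_id, AlgSp.Points.map_id]⟩

theorem repByAlgSpWith_qFun_surjective :
    AlgSt.RepByAlgSpWith AlgSp.IsSurjectiveMor
      (BasedFunctor.comp (ofOverCat X) (quotMap Scheme.fppfPrecoverage G aX)) := fun U y => by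
  haveI := isFibGrpd_quot (K := Scheme.fppfPrecoverage) (G := G) (aX := aX)
  obtain ⟨e, he, hr⟩ := exists_rep y
  refine ⟨⟨_, AlgSp.IsAlgSpace.yon_obj _⟩, e, he, ?_⟩
  rw [hr, Functor.map_comp]
  exact isSurjectiveMor_comp_iso _ _ (surjective_π _)

end Groth.Agent.DecSec.QuotSch
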