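import Groth.Agent.DecSec.QuotSpEquiv
import Groth.Agent.DecSec.QuotProp
import Groth.Agent.DecSec.EtAtlas
import Groth.Agent.ASp.Smooth
import Groth.Agent.ASt.Props
import Groth.Agent.S0412

/-! Quotient stacks of smooth affine groups for the etale topology. -/

set_option autoImplicit false
set_option backward.isDefEq.respectTransparency false
set_option backward.isDefEq.respectTransparency.types false

universe u

open CategoryTheory CategoryTheory.Limits MonoidalCategory CartesianMonoidalCategory MonObj GrpObj AlgebraicGeometry Opposite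

namespace Groth.Agent.DecSec.QuotSch

open _root_.AlgSt Groth.Agent.ASp

variable {S : Scheme.{u}} {G : Over S} [GrpObj G] {X : Over S} {aX : AlgGrp.Action G X}

/-- An etale torsor is an fppf torsor. -/
def toFppfObj (A : AlgSt.QuotObj Scheme.etalePrecoverage G aX) : AlgSt.QuotObj Scheme.fppfPrecoverage G aX where
  base := A.base
  P := A.P
  act := A.act
  π := A.π
  cart := A.cart
  loc := let ⟨R, hR, h⟩ := A.loc; ⟨R, BigSite.etalePrecoverage_le_fppfPrecoverage _ hR, h⟩
  φ := A.φ
  eqv := A.eqv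

/-- Etale torsors among fppf torsors. -/
noncomputable def toFppf : AlgSt.QuotSt Scheme.etalePrecoverage G aX ⥤ᵇ AlgSt.QuotSt Scheme.fppfPrecoverage G aX where
  toFunctor :=
    { obj := toFppfObj
      map := fun m => { base := m.base, top := m.top, eqv := m.eqv, cart := m.cart, wφ := m.wφ }
      map_id := fun _ => QuotObj.hom_ext rfl rfl
      map_comp := fun _ _ => QuotObj.hom_ext rfl rfl }
  w := rfl

instance : (toFppf (G := G) (aX := aX)).toFunctor.Faithful :=
  ⟨fun h => QuotObj.hom_ext (congrArg (fun k => k.base) h :) (congrArg (fun k => k.top) h :)⟩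

instance : (toFppf (G := G) (aX := aX)).toFunctor.Full :=
  ⟨fun n => ⟨{ base := n.base, top := n.top, eqv := n.eqv, cart := n.cart, wφ := n.wφ }, QuotObj.hom_ext rfl rfl⟩⟩

theorem smooth_π [Smooth G.hom] (A : AlgSt.QuotObj Scheme.fppfPrecoverage G aX) : Smooth A.π.left :=
  locP_π (P := @Smooth) inferInstance A (𝟙 _) (𝟙 _) A.π (repWith_of_isIso _) (repWith_of_isIso _)
    ((Category.id_comp _).trans (Category.comp_id _).symm)

/-- For a smooth group every fppf torsor is etale locally trivial. -/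
theorem loc_etale [Smooth G.hom] (A : AlgSt.QuotObj Scheme.fppfPrecoverage G aX) :
    NonAbH1.IsLocallyTrivialFor Scheme.etalePrecoverage (Over.mk A.π.left : Over A.base.left) := by
  haveI := smooth_π A
  have hr : ∀ t : ↥A.base.left, t ∈ Set.range A.π.left := fun t => by
    obtain ⟨R, hR, hs⟩ := A.loc
    obtain ⟨J₀, W₀, f₀, rfl⟩ := Presieve.exists_eq_ofArrows R
    obtain ⟨i, w, hw⟩ := ((Scheme.ofArrows_mem_precoverage_iff _).1 hR).1 t
    obtain ⟨s, hs⟩ := hs (f₀ i) (Presieve.ofArrows.mk i)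
    refine ⟨s w, ?_⟩
    rw [← hw, ← hs]
    rfl
  choose S' g s' hg hgs h hh using fun t => Groth.Agent.S0412.result A.π.left t (hr t)
  refine ⟨Presieve.ofArrows S' g, (Scheme.ofArrows_mem_precoverage_iff _).2 ⟨fun t => ⟨t, s' t, hgs t⟩, hg⟩, ?_⟩
  rintro _ _ ⟨t⟩
  exact ⟨h t, hh t⟩

theorem isEquivOver_toFppf [Smooth G.hom] : FibCat.IsEquivOver (toFppf (G := G) (aX := aX)) := by
  haveI := isFibGrpd_quot (K := Scheme.fppfPrecoverage) (G := G) (aX := aX)
  refine Groth.Agent.ASt.isEquivOver_of_vert _ fun B => ?_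
  let x : AlgSt.QuotObj Scheme.etalePrecoverage G aX :=
    { base := B.base, P := B.P, act := B.act, π := B.π, cart := B.cart, loc := loc_etale B, φ := B.φ, eqv := B.eqv }
  exact ⟨x, rfl, Iso.refl B, (AlgSt.QuotSt Scheme.fppfPrecoverage G aX).p.map_id B⟩

theorem isStack_quot_etale [Smooth G.hom] [IsAffineHom G.hom] :
    Stk.IsStack (QuotSh.J Scheme.etalePrecoverage S) (AlgSt.QuotSt Scheme.etalePrecoverage G aX) := by
  haveI := isFibGrpd_quot (K := Scheme.fppfPrecoverage) (G := G) (aX := aX)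
  obtain ⟨F, hF, -, -⟩ := Groth.Agent.ASt.isEquivOver_symm (isEquivOver_toFppf (G := G) (aX := aX))
  exact Groth.Agent.ASt.isStack_of_isEquivOver hF (Groth.Agent.DecSec.isStack_et_of_fppf isStack_quot)

theorem isAffineMor_π [IsAffineHom G.hom] (A : AlgSt.QuotObj Scheme.fppfPrecoverage G aX) :
    AlgSp.IsAffineMor ((AlgSp.yon S).map A.π) := by
  haveI : IsAffineHom (toT₀ G).left := ‹IsAffineHom G.hom›
  exact Groth.Agent.SpTorsLib.prop_π (P := AlgSp.IsAffineMor) isLocalOnBase_fppf_isAffineMor isAlgSpace_B₀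
    (AlgSp.IsAlgSpace.yon_obj G) (isAffineMor_yon_map (toT₀ G)) ((toSp Scheme.fppfPrecoverage).obj A)

theorem repByAlgSpWith_qFun_etale {P : MorphismProperty (AlgSp.Sp S)}
    (h : ∀ (A : AlgSt.QuotObj Scheme.fppfPrecoverage G aX) {U : Over S} (e : A.base ⟶ U), IsIso e →
      P ((AlgSp.yon S).map (A.π ≫ e))) :
    AlgSt.RepByAlgSpWith P (BasedFunctor.comp (ofOverCat X) (quotMap Scheme.etalePrecoverage G aX)) := fun U y => by
  haveI := isFibGrpd_quot (K := Scheme.etalePrecoverage) (G := G) (aX := aX)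
  obtain ⟨e, he, hr⟩ := exists_rep y
  refine ⟨⟨_, AlgSp.IsAlgSpace.yon_obj _⟩, e, he, ?_⟩
  rw [hr]
  exact h (toFppfObj (top₀ y)) _ (inferInstanceAs (IsIso (eqToHom _)))

/-- The quotient stack of a smooth affine group is algebraic for the etale topology. -/
theorem isAlgStack_quot_etale [Smooth G.hom] [IsAffineHom G.hom] :
    AlgSt.IsAlgStack Scheme.etalePrecoverage (AlgSt.QuotSt Scheme.etalePrecoverage G aX) ∧
      AlgSt.RepByAlgSpWith (AlgSp.LocP @Smooth)
        (BasedFunctor.comp (ofOverCat X) (quotMap Scheme.etalePrecoverage G aX)) ∧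
      AlgSt.RepByAlgSpWith AlgSp.IsSurjectiveMor
        (BasedFunctor.comp (ofOverCat X) (quotMap Scheme.etalePrecoverage G aX)) ∧
      AlgSt.RepByAlgSpWith AlgSp.IsAffineMor
        (BasedFunctor.comp (ofOverCat X) (quotMap Scheme.etalePrecoverage G aX)) := by
  have h1 := repByAlgSpWith_qFun_etale (G := G) (aX := aX) (P := AlgSp.LocP @Smooth) fun A U e _ => by
    rw [Functor.map_comp]
    exact ((AlgSp.LocP @Smooth).cancel_right_of_respectsIso _ _).2 (locP_π (P := @Smooth) inferInstance A)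
  have h2 := repByAlgSpWith_qFun_etale (G := G) (aX := aX) (P := AlgSp.IsSurjectiveMor) fun A U e _ => by
    rw [Functor.map_comp]
    exact isSurjectiveMor_comp_iso _ _ (surjective_π A)
  have h3 := repByAlgSpWith_qFun_etale (G := G) (aX := aX) (P := AlgSp.IsAffineMor) fun A U e _ => by
    rw [Functor.map_comp]
    intro Z hZ g
    obtain ⟨W, i, fst, hW, hWa⟩ := isAffineMor_π A hZ (g ≫ inv ((AlgSp.yon S).map e))
    exact ⟨W, i, fst, hW.of_iso (Iso.refl _) (Iso.refl _) (Iso.refl _) (asIso ((AlgSp.yon S).map e))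
      (by simp) (by simp) (by simp) (by simp), hWa⟩
  exact ⟨Groth.Agent.DecSec.isAlgStack_etale_of_atlas isStack_quot_etale ⟨X, _, h1, h2⟩, h1, h2, h3⟩

end Groth.Agent.DecSec.QuotSch
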