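import Groth.Agent.DecSec.QuotDesc
import Groth.Agent.DecSec.QuotCart
import Groth.Agent.ASp.LqfRep
import Groth.Prelude.Def_StCoarse
import Groth.Prelude.Def_W4bk4git07Quot

/-! Categorical moduli of a quotient stack are categorical quotients. -/

set_option autoImplicit false
set_option backward.isDefEq.respectTransparency false
set_option backward.isDefEq.respectTransparency.types false

universe v w u

open CategoryTheory CategoryTheory.Limits MonoidalCategory CartesianMonoidalCategory MonObj GrpObj AlgebraicGeometry Opposite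

namespace Groth.Agent.DecSec.QuotSch

open _root_.AlgSt

variable {S : Scheme.{u}}

/-- Isomorphic functors into the category of a sheaf are equal. -/
theorem ofSp_eq_of_iso {𝒳 : BasedCategory.{v, w} (Over S)} {M : AlgSp.Sp S} {F F' : 𝒳 ⥤ᵇ AlgSt.ofSp M}
    (α : F ≅ F') : F = F' := ofSp_ext fun x => by
  have h : (AlgSt.ofSp M).p.IsHomLift (𝟙 (𝒳.p.obj x)) (α.hom.toNatTrans.app x) :=
    BasedNatTrans.isHomLift α.hom rfl
  refine obj_ext ((F.w_obj x).trans (F'.w_obj x).symm) ?_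
  have h1 := Groth.Agent.ASt.map_of_isHomLift_id (𝒳 := AlgSt.ofSp M) (p := (AlgSt.ofSp M).p) (R := 𝒳.p.obj x) (α.hom.toNatTrans.app x)
  change (α.hom.toNatTrans.app x).hom = _ at h1
  rw [← sy_map (α.hom.toNatTrans.app x), h1]

variable {G : Over S} [GrpObj G] {X : Over S} {aX : AlgGrp.Action G X}

theorem sy_ofSpMap {M : AlgSp.Sp S} (f : (AlgSp.yon S).obj X ⟶ M) {T : Over S} (x : T ⟶ X) :
    sy ((AlgSt.ofSpMap f).obj ⟨T, ⟨x⟩⟩) = (AlgSp.yon S).map x ≫ f := by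
  apply (AlgSp.J S).uliftYonedaEquiv.{u+1}.injective
  rw [GrothendieckTopology.uliftYonedaEquiv_comp]
  refine (Equiv.apply_symm_apply _ _).trans (congrArg (f.hom.app (op T)) ?_)
  exact (equiv_yon_map x).symm

theorem ofSpMap_inj {M : AlgSp.Sp S} {f f' : (AlgSp.yon S).obj X ⟶ M}
    (h : AlgSt.ofSpMap f = AlgSt.ofSpMap f') : f = f' := by
  have e := congrArg (fun F : AlgSt.ofSch X ⥤ᵇ AlgSt.ofSp M => F.obj ⟨X, ⟨𝟙 X⟩⟩) h
  have aux : ∀ (a b : (AlgSt.ofSp M).obj) (he : a = b) (h1 : X = a.base) (h2 : X = b.base),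
      (AlgSp.yon S).map (eqToHom h1) ≫ sy a = (AlgSp.yon S).map (eqToHom h2) ≫ sy b := by
    rintro a _ rfl h1 h2; rfl
  have := aux _ _ e rfl rfl
  rw [eqToHom_refl, CategoryTheory.Functor.map_id, Category.id_comp, Category.id_comp] at this
  have key : ∀ g : (AlgSp.yon S).obj X ⟶ M, sy ((AlgSt.ofSpMap g).obj ⟨X, ⟨𝟙 X⟩⟩) = g := fun g => by
    rw [sy_ofSpMap, CategoryTheory.Functor.map_id, Category.id_comp]
  exact (key f).symm.trans (this.trans (key f'))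

/-- A map which factors through the quotient is invariant. -/
theorem invariant_of_factor {M : AlgSp.Sp S} {f : (AlgSp.yon S).obj X ⟶ M}
    (π : AlgSt.QuotSt Scheme.fppfPrecoverage G aX ⥤ᵇ AlgSt.ofSp M)
    (h : BasedFunctor.comp (AlgSt.quotMap Scheme.fppfPrecoverage G aX) π = AlgSt.ofSpMap f) :
    (AlgSp.yon S).map aX.act ≫ f = (AlgSp.yon S).map (snd G X) ≫ f := by
  let s : (ofSch (G ⊗ X)).obj := ⟨G ⊗ X, ⟨𝟙 _⟩⟩
  let r := π.map (rightMul (K := Scheme.fppfPrecoverage) (aX := aX) s)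
  have h2 := Groth.Agent.ASt.map_w π (rightMul (K := Scheme.fppfPrecoverage) (aX := aX) s)
  change r.hom = eqToHom _ ≫ (rightMul s).base ≫ eqToHom _ at h2
  have key : ∀ {a b a' b' : (AlgSt.ofSp M).obj} (r : a ⟶ b) (ea : a = a') (eb : b = b')
      (hb : a'.base = b'.base) (h0 : a.base = b.base), r.hom = eqToHom h0 →
      (AlgSp.yon S).map (eqToHom hb) ≫ sy b' = sy a' := by
    rintro a b _ _ r rfl rfl hb h0 hr
    rw [← sy_map r, hr]
  have e1 : π.obj ((AlgSt.quotMap Scheme.fppfPrecoverage G aX).obj ⟨G ⊗ X, ⟨𝟙 _ ≫ aX.act⟩⟩) =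
      (AlgSt.ofSpMap f).obj ⟨G ⊗ X, ⟨𝟙 _ ≫ aX.act⟩⟩ :=
    congrArg (fun F : AlgSt.ofSch X ⥤ᵇ AlgSt.ofSp M => F.obj ⟨G ⊗ X, ⟨𝟙 _ ≫ aX.act⟩⟩) h
  have e2 : π.obj ((AlgSt.quotMap Scheme.fppfPrecoverage G aX).obj ⟨G ⊗ X, ⟨𝟙 _ ≫ snd G X⟩⟩) =
      (AlgSt.ofSpMap f).obj ⟨G ⊗ X, ⟨𝟙 _ ≫ snd G X⟩⟩ :=
    congrArg (fun F : AlgSt.ofSch X ⥤ᵇ AlgSt.ofSp M => F.obj ⟨G ⊗ X, ⟨𝟙 _ ≫ snd G X⟩⟩) h
  have h3 := key r e1 e2 rfl ((π.w_obj _).trans
    (π.w_obj ((AlgSt.quotMap Scheme.fppfPrecoverage G aX).obj ⟨G ⊗ X, ⟨𝟙 _ ≫ snd G X⟩⟩)).symm) (by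
    rw [h2, rightMul_base]
    refine (congrArg (_ ≫ ·) (Category.id_comp _)).trans ?_
    exact eqToHom_trans _ _)
  rw [eqToHom_refl, CategoryTheory.Functor.map_id, Category.id_comp, sy_ofSpMap, sy_ofSpMap,
    Category.id_comp, Category.id_comp] at h3
  exact h3.symm

theorem comp_ofSpMap {𝒳 : BasedCategory.{v, w} (Over S)} {M N : AlgSp.Sp S} {f : (AlgSp.yon S).obj X ⟶ M}
    (g : M ⟶ N) (q : AlgSt.ofSch X ⥤ᵇ 𝒳) (π : 𝒳 ⥤ᵇ AlgSt.ofSp M)
    (h : BasedFunctor.comp q π = AlgSt.ofSpMap f) :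
    BasedFunctor.comp q (BasedFunctor.comp π (AlgSt.ofSpMap g)) = AlgSt.ofSpMap (f ≫ g) := by
  change BasedFunctor.comp (BasedFunctor.comp q π) (AlgSt.ofSpMap g) = _
  rw [h]
  exact ofSp_ext fun _ => rfl

/-- Categorical moduli of the quotient stack in schemes are categorical quotients. -/
theorem isCatModuliSch_iff {Y : Over S} (f : X ⟶ Y)
    (π : AlgSt.QuotSt Scheme.fppfPrecoverage G aX ⥤ᵇ AlgSt.ofSch Y)
    (hπ : BasedFunctor.comp (AlgSt.quotMap Scheme.fppfPrecoverage G aX) π = AlgSt.ofSpMap ((AlgSp.yon S).map f)) :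
    AlgSt.IsCatModuliSch π ↔ GIT.IsCatQuot aX f := by
  have hinv : aX.act ≫ f = snd G X ≫ f := (AlgSp.yon S).map_injective (by
    rw [Functor.map_comp, Functor.map_comp]
    exact invariant_of_factor π hπ)
  constructor
  · intro h
    refine ⟨hinv, fun Z ψ hψ => ?_⟩
    have hψ' : (AlgSp.yon S).map aX.act ≫ (AlgSp.yon S).map ψ =
        (AlgSp.yon S).map (snd G X) ≫ (AlgSp.yon S).map ψ := by
      rw [← Functor.map_comp, ← Functor.map_comp]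
      exact congrArg _ hψ
    obtain ⟨φ, hφ, huφ⟩ := existsUnique_desc ((AlgSp.yon S).obj Z) ((AlgSp.yon S).map ψ) hψ'
    obtain ⟨g, ⟨hg⟩, hug⟩ := h.2 _ (Groth.Agent.ASp.isRepresentable_of_iso_yon (Iso.refl ((AlgSp.yon S).obj Z))) φ
    obtain ⟨χ, rfl⟩ := (AlgSp.yon S).map_surjective g
    have he := comp_ofSpMap ((AlgSp.yon S).map χ) _ π hπ
    rw [ofSp_eq_of_iso hg] at he
    refine ⟨χ, (AlgSp.yon S).map_injective ?_, fun χ' hχ' => (AlgSp.yon S).map_injective (hug _ ?_)⟩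
    · rw [Functor.map_comp]
      exact ofSpMap_inj (he.symm.trans hφ)
    · refine ⟨eqToIso (huφ _ ((comp_ofSpMap _ _ π hπ).trans ?_))⟩
      rw [← Functor.map_comp, hχ']
  · intro h
    refine ⟨Groth.Agent.ASp.isRepresentable_of_iso_yon (Iso.refl ((AlgSp.yon S).obj Y)), fun N hN φ => ?_⟩
    obtain ⟨Z, ⟨e⟩⟩ := (hN : N.obj.IsRepresentable).has_representation
    let i := AlgSp.isoOfRepresentableBy e
    let c := BasedFunctor.comp (AlgSt.quotMap Scheme.fppfPrecoverage G aX) φ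
    let ψ₀ : (AlgSp.yon S).obj X ⟶ N :=
      (AlgSp.yon S).map (eqToHom (c.w_obj ⟨X, ⟨𝟙 X⟩⟩).symm) ≫ sy (c.obj ⟨X, ⟨𝟙 X⟩⟩)
    have hc : c = AlgSt.ofSpMap ψ₀ := ofSp_ext fun a => by
      refine obj_ext (c.w_obj a) ?_
      obtain ⟨T, ⟨x⟩⟩ := a
      let m : (⟨T, ⟨x⟩⟩ : (ofSch X).obj) ⟶ ⟨X, ⟨𝟙 X⟩⟩ := ⟨x, congrArg ULift.up (Category.comp_id x)⟩
      have h2 := Groth.Agent.ASt.map_w c m
      change (c.map m).hom = eqToHom _ ≫ x ≫ eqToHom _ at h2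
      rw [sy_ofSpMap, ← sy_map (c.map m), h2]
      simp [ψ₀]
    have hinvψ := invariant_of_factor φ hc
    obtain ⟨ψ, hψ⟩ := (AlgSp.yon S).map_surjective (ψ₀ ≫ i.inv)
    have hψinv : GIT.IsInvariant aX ψ := (AlgSp.yon S).map_injective (by
      rw [Functor.map_comp, Functor.map_comp, hψ, reassoc_of% hinvψ])
    obtain ⟨χ, hχ, huχ⟩ := h.2 Z ψ hψinv
    have hψ₀ : (AlgSp.yon S).map f ≫ (AlgSp.yon S).map χ ≫ i.hom = ψ₀ := by
      rw [← Functor.map_comp_assoc, hχ, hψ, Category.assoc, i.inv_hom_id, Category.comp_id]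
    obtain ⟨φ', hφ', hu⟩ := existsUnique_desc N ψ₀ hinvψ
    refine ⟨(AlgSp.yon S).map χ ≫ i.hom, ⟨eqToIso ?_⟩, fun g ⟨hg⟩ => ?_⟩
    · exact (hu _ ((comp_ofSpMap _ _ π hπ).trans (by rw [hψ₀]))).trans (hu φ hc).symm
    · have he := comp_ofSpMap g _ π hπ
      rw [ofSp_eq_of_iso hg] at he
      have h4 : (AlgSp.yon S).map f ≫ g = ψ₀ := ofSpMap_inj (he.symm.trans hc)
      obtain ⟨χ', hχ'⟩ := (AlgSp.yon S).map_surjective (g ≫ i.inv)
      have h5 : χ' = χ := huχ χ' ((AlgSp.yon S).map_injective (by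
        rw [Functor.map_comp, hχ', reassoc_of% h4, hψ]))
      rw [← h5, hχ', Category.assoc, i.inv_hom_id, Category.comp_id]

end Groth.Agent.DecSec.QuotSch
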