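import Groth.Agent.DecSec.QuotFib
import Groth.Agent.ASt.Fp
import Groth.Agent.ASt.Stack
import Groth.Agent.ASp.Morph
import Groth.Agent.ASp.YonExt

/-! The fibres of the quotient map are the torsors. -/

set_option autoImplicit false
set_option backward.isDefEq.respectTransparency false
set_option backward.isDefEq.respectTransparency.types false

universe u

open CategoryTheory CategoryTheory.Limits MonoidalCategory CartesianMonoidalCategory MonObj GrpObj AlgebraicGeometry Opposite

namespace Groth.Agent.DecSec.QuotSch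

open _root_.AlgSt Groth.Agent.ASt Groth.Agent.ASp

variable {S : Scheme.{u}} {K : Precoverage Scheme.{u}} [K.IsStableUnderBaseChange] [K.HasIsos] {G : Over S}
  [GrpObj G] {X : Over S} {aX : AlgGrp.Action G X} {U : Over S} (y : FibCat.overCat U ⥤ᵇ AlgSt.QuotSt K G aX)

/-- The torsor over the test scheme. -/
noncomputable abbrev top₀ : AlgSt.QuotObj K G aX := y.obj (ov (𝟙 U))

/-- Its map to the test scheme. -/
noncomputable abbrev top₀R : (top₀ y).P ⟶ U := (top₀ y).π ≫ eqToHom (y.w_obj (ov (𝟙 U)))

/-- The morphism to the test scheme under a point of the torsor. -/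
noncomputable abbrev kOf (s : (ofSch (top₀ y).P).obj) : s.base ⟶ U := s.sec.down ≫ top₀R y

theorem kOf_natural {s s' : (ofSch (top₀ y).P).obj} (g : s ⟶ s') : g.hom ≫ kOf y s' = kOf y s := by
  have h : g.hom ≫ s'.sec.down = s.sec.down := congrArg ULift.down g.map_sec
  rw [← Category.assoc, h]

/-- Points of the torsor as objects over the test scheme. -/
noncomputable def kFun : ofSch (top₀ y).P ⥤ᵇ FibCat.overCat U where
  toFunctor :=
    { obj := fun s => ov (kOf y s)
      map := fun {s s'} g => Over.homMk g.hom (kOf_natural y g)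
      map_id := fun s => Over.OverMorphism.ext rfl
      map_comp := fun g g' => Over.OverMorphism.ext rfl }
  w := rfl

/-- Points of the torsor as points of the scheme acted on. -/
noncomputable def xFun : ofSch (top₀ y).P ⥤ᵇ FibCat.overCat X where
  toFunctor :=
    { obj := fun s => Over.mk (s.sec.down ≫ (top₀ y).φ)
      map := fun {s s'} g => Over.homMk g.hom (by
        have h : g.hom ≫ s'.sec.down = s.sec.down := congrArg ULift.down g.map_sec
        change g.hom ≫ s'.sec.down ≫ _ = s.sec.down ≫ _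
        rw [← Category.assoc, h])
      map_id := fun s => Over.OverMorphism.ext rfl
      map_comp := fun g g' => Over.OverMorphism.ext rfl }
  w := rfl

variable (K G aX) in
/-- The quotient map on points. -/
noncomputable abbrev qFun : FibCat.overCat X ⥤ᵇ AlgSt.QuotSt K G aX :=
  BasedFunctor.comp (ofOverCat X) (quotMap K G aX)

theorem existsUnique_mX (s : (ofSch (top₀ y).P).obj) :
    ∃! m : (qFun K G aX).obj ((xFun y).obj s) ⟶ top₀ y,
      m.base = kOf y s ≫ eqToHom (y.w_obj (ov (𝟙 U))).symm ∧ unitSec s.base ≫ m.top = s.sec.down :=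
  existsUnique_hom (s.sec.down ≫ (top₀ y).φ) (top₀ y) _ s.sec.down (by simp) rfl

/-- The morphism to the torsor of a point. -/
noncomputable def mX (s : (ofSch (top₀ y).P).obj) : (qFun K G aX).obj ((xFun y).obj s) ⟶ top₀ y :=
  (existsUnique_mX y s).exists.choose

theorem mX_base (s : (ofSch (top₀ y).P).obj) :
    (mX y s).base = kOf y s ≫ eqToHom (y.w_obj (ov (𝟙 U))).symm :=
  (existsUnique_mX y s).exists.choose_spec.1

theorem mX_top (s : (ofSch (top₀ y).P).obj) : unitSec s.base ≫ (mX y s).top = s.sec.down :=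
  (existsUnique_mX y s).exists.choose_spec.2

variable [FibCat.IsFibGrpd (AlgSt.QuotSt K G aX).p]

/-- The vertical morphism over a point. -/
noncomputable def psiX (s : (ofSch (top₀ y).P).obj) :
    (qFun K G aX).obj ((xFun y).obj s) ⟶ y.obj (ov (kOf y s)) :=
  facMap (y.map (toTop (ov (kOf y s)))) (mX y s) (eqToHom (y.w_obj (ov (kOf y s))).symm) (by
    rw [map_toTop]
    change _ = (mX y s).base
    rw [mX_base]
    simp)

theorem map_psiX (s : (ofSch (top₀ y).P).obj) :
    (AlgSt.QuotSt K G aX).p.map (psiX y s) = eqToHom (y.w_obj (ov (kOf y s))).symm :=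
  map_facMap _ _ _ _

theorem psiX_toTop (s : (ofSch (top₀ y).P).obj) :
    psiX y s ≫ y.map (toTop (ov (kOf y s))) = mX y s := facMap_comp _ _ _ _

theorem comp_top_qFun {a a' : (FibCat.overCat X).obj} (g : a ⟶ a') {A : QuotObj K G aX}
    (m : (qFun K G aX).obj a' ⟶ A) :
    unitSec a.left ≫ ((qFun K G aX).map g ≫ m).top = g.left ≫ unitSec a'.left ≫ m.top := by
  have h := unitSec_natural (G := G) g.left
  exact (Category.assoc _ _ _).symm.trans ((congrArg (· ≫ m.top) h).trans (Category.assoc _ _ _))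

theorem psiX_natural {s s' : (ofSch (top₀ y).P).obj} (g : s ⟶ s') :
    (qFun K G aX).map ((xFun y).map g) ≫ psiX y s' = psiX y s ≫ y.map ((kFun y).map g) := by
  refine ASt.hom_ext (y.map (toTop (ov (kOf y s')))) ?_ ?_
  · rw [Functor.map_comp, Functor.map_comp, map_psiX, map_psiX, ASt.map_w y ((kFun y).map g)]
    change g.hom ≫ eqToHom _ = eqToHom _ ≫ eqToHom _ ≫ g.hom ≫ eqToHom _
    rw [eqToHom_trans_assoc]
    exact (Category.id_comp _).symm
  · rw [Category.assoc, Category.assoc, psiX_toTop, ← y.toFunctor.map_comp]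
    have hk : (kFun y).map g ≫ toTop (ov (kOf y s')) = toTop (ov (kOf y s)) :=
      Over.OverMorphism.ext (kOf_natural y g)
    rw [hk, psiX_toTop]
    refine hom_ext ?_ ?_
    · change g.hom ≫ (mX y s').base = _
      rw [mX_base, mX_base, ← kOf_natural y g]
      exact (Category.assoc _ _ _).symm
    · refine (comp_top_qFun ((xFun y).map g) (mX y s')).trans ?_
      change g.hom ≫ unitSec s'.base ≫ _ = unitSec s.base ≫ _
      rw [mX_top, mX_top]
      exact congrArg ULift.down g.map_sec

/-- The fibre of the quotient map over an object is its torsor. -/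
theorem exists_rep :
    ∃ E : ofSch (top₀ y).P ⥤ᵇ FibCat.fp y (qFun K G aX),
      FibCat.IsEquivOver E ∧
        AlgSt.spMapOfOver (BasedFunctor.comp E (FibCat.fpFst _ _)) = (AlgSp.yon S).map (top₀R y) := by
  let q := qFun K G aX
  let c := BasedFunctor.comp (xFun y) q
  have hi : ∀ s, IsIso (psiX y s) := fun s => isIso_of_vert (psiX y s) (map_psiX y s)
  let θ : c ≅ BasedFunctor.comp (kFun y) y := BasedNatIso.mkNatIso (F := c) (G := BasedFunctor.comp (kFun y) y)
    (NatIso.ofComponents (fun s => @asIso _ _ _ _ (psiX y s) (hi s)) fun {_ _} g => psiX_natural y g)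
    fun s => isHomLift_id_of_map (psiX y s) (c.w_obj s) (map_psiX y s)
  let E := FibCat.fpLift (F := y) (G := q) (kFun y) (xFun y) θ.symm
  have h3 : ∀ s, psiX y s ≫ (E.obj s).obj.iso.hom = 𝟙 _ := fun s => app_eq_of_eq θ.hom_inv_id s
  have h4 : ∀ s, (E.obj s).obj.iso.hom ≫ psiX y s = 𝟙 _ := fun s => app_eq_of_eq θ.inv_hom_id s
  refine ⟨E, ?_, ?_⟩
  · haveI : E.toFunctor.Faithful := ⟨fun {s s' g g'} h =>
      Stk.EltObj.hom_ext (congrArg (fun n => n.hom.fst.left) h)⟩
    haveI : E.toFunctor.Full := ⟨fun {s s'} n => by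
      let g : s.base ⟶ s'.base := n.hom.fst.left
      have hsnd : n.hom.snd.left = g := by
        refine (fp_map_snd n).trans ?_
        exact (congrArg (_ ≫ ·) (Category.comp_id g)).trans (Category.id_comp _)
      have w := n.hom.w
      have h1 : q.map n.hom.snd ≫ psiX y s' = psiX y s ≫ y.map n.hom.fst := by
        calc q.map n.hom.snd ≫ psiX y s'
            = (psiX y s ≫ (E.obj s).obj.iso.hom) ≫ q.map n.hom.snd ≫ psiX y s' := by
              rw [h3 s]; exact (Category.id_comp _).symm
          _ = psiX y s ≫ ((E.obj s).obj.iso.hom ≫ q.map n.hom.snd) ≫ psiX y s' := by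
              simp only [Category.assoc]
          _ = psiX y s ≫ (y.map n.hom.fst ≫ (E.obj s').obj.iso.hom) ≫ psiX y s' := by rw [← w]
          _ = psiX y s ≫ y.map n.hom.fst := by rw [Category.assoc, h4 s', Category.comp_id]
      have hm : q.map n.hom.snd ≫ mX y s' = mX y s := by
        rw [← psiX_toTop, ← Category.assoc, h1, Category.assoc, ← psiX_toTop]
        refine congrArg (psiX y s ≫ ·) ?_
        refine (y.toFunctor.map_comp _ _).symm.trans ?_
        exact congrArg (fun m => y.map m) (Over.OverMorphism.ext (Over.w n.hom.fst))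
      have hsec : g ≫ s'.sec.down = s.sec.down := by
        have e := comp_top_qFun n.hom.snd (mX y s')
        rw [hsnd] at e
        exact ((mX_top y s).symm.trans ((congrArg
          (fun m => unitSec s.base ≫ m.top) hm.symm).trans
            (e.trans (congrArg (g ≫ ·) (mX_top y s'))))).symm
      exact ⟨⟨g, congrArg ULift.up hsec⟩,
        fp_hom_ext (Over.OverMorphism.ext rfl) (Over.OverMorphism.ext hsnd.symm)⟩⟩
    refine isEquivOver_of_vert E fun m => ?_
    obtain ⟨⟨a₁, x, φ⟩, hprop⟩ := m
    let m₀ : (FibCat.fp y q).obj := ⟨⟨a₁, x, φ⟩, hprop⟩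
    have hx : x.left = a₁.left := fp_snd_base m₀
    let nu : q.obj x ⟶ top₀ y := φ.inv ≫ y.map (toTop a₁)
    have hφ : φ.inv.base = eqToHom ((q.w_obj x).trans (hx.trans (y.w_obj a₁).symm)) := by
      have h1 : (AlgSt.QuotSt K G aX).p.map φ.hom = _ := fp_iso_map m₀
      change (AlgSt.QuotSt K G aX).p.map φ.inv = _
      rw [← cancel_epi ((AlgSt.QuotSt K G aX).p.map φ.hom), ← Functor.map_comp,
        φ.hom_inv_id, CategoryTheory.Functor.map_id, h1]
      simp
    have hnu : nu.base = eqToHom hx ≫ a₁.hom ≫ eqToHom (y.w_obj (ov (𝟙 U))).symm := by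
      change φ.inv.base ≫ (y.map (toTop a₁)).base = _
      rw [hφ, show (y.map (toTop a₁)).base = _ from map_toTop y a₁]
      simp
    let s : (ofSch (top₀ y).P).obj := ⟨x.left, ⟨unitSec x.left ≫ nu.top⟩⟩
    have hbx : ((xFun y).obj s).hom = x.hom := unit_φ (x := x.hom) (A := top₀ y) nu
    let bi : (xFun y).obj s ≅ x := Over.isoMk (Iso.refl _) (by rw [hbx]; exact Category.id_comp _)
    let bx : (xFun y).obj s ⟶ x := bi.hom
    have hk : kOf y s = eqToHom hx ≫ a₁.hom := by
      change (unitSec x.left ≫ nu.top) ≫ top₀R y = _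
      rw [top₀R, ← Category.assoc, unit_π (x := x.hom) (A := top₀ y) nu, hnu]
      simp
    let fs : ov (kOf y s) ≅ a₁ := Over.isoMk (eqToIso hx) (by simp [hk])
    have h1 : psiX y s ≫ y.map fs.hom = q.map bx ≫ φ.inv := by
      refine ASt.hom_ext (y.map (toTop a₁)) ?_ ?_
      · rw [Functor.map_comp, Functor.map_comp, map_psiX, ASt.map_w y fs.hom]
        change eqToHom _ ≫ eqToHom _ ≫ fs.hom.left ≫ eqToHom _ = 𝟙 _ ≫ φ.inv.base
        rw [hφ]
        simp [fs]
      · rw [Category.assoc, Category.assoc]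
        refine Eq.trans ?_ (Eq.trans (psiX_toTop y s) (hom_ext (m' := q.map bx ≫ nu) ?_ ?_))
        · refine congrArg (psiX y s ≫ ·) ?_
          refine (y.toFunctor.map_comp _ _).symm.trans ?_
          exact congrArg (fun m => y.map m) (Over.OverMorphism.ext hk.symm)
        · change _ = 𝟙 _ ≫ nu.base
          rw [mX_base, hnu, hk]
          simp
        · exact (mX_top y s).trans ((comp_top_qFun bx nu).trans (Category.id_comp _)).symm
    have hw : y.map fs.hom ≫ φ.hom = (E.obj s).obj.iso.hom ≫ q.map bx := by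
      calc y.map fs.hom ≫ φ.hom = ((E.obj s).obj.iso.hom ≫ psiX y s) ≫ y.map fs.hom ≫ φ.hom := by
              rw [h4 s]; exact (Category.id_comp _).symm
        _ = (E.obj s).obj.iso.hom ≫ q.map bx ≫ φ.inv ≫ φ.hom := by
              rw [Category.assoc, ← Category.assoc (psiX y s), h1, Category.assoc]
        _ = (E.obj s).obj.iso.hom ≫ q.map bx := by rw [φ.inv_hom_id, Category.comp_id]
    refine ⟨s, hx, ?_⟩
    let n : E.obj s ⟶ m₀ := fpHomMk fs.hom bx hw
    have hn : (FibCat.fp y q).p.map n = eqToHom hx := rfl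
    haveI : IsIso bx := inferInstanceAs (IsIso bi.hom)
    haveI : FibCat.IsFibGrpd (FibCat.overCat X).p := inferInstance
    haveI : FibCat.IsFibGrpd (FibCat.fp y q).p := isFibGrpd_fp
    haveI := isIso_of_vert n hn
    exact ⟨asIso n, hn⟩
  · refine hom_ext_of_yon fun T l => ?_
    apply (AlgSp.J S).uliftYonedaEquiv.{u+1}.injective
    rw [GrothendieckTopology.uliftYonedaEquiv_comp, GrothendieckTopology.uliftYonedaEquiv_comp]
    obtain ⟨x, rfl⟩ := (AlgSp.J S).uliftYonedaEquiv.{u+1}.symm.surjective l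
    rw [Equiv.apply_symm_apply]
    refine (AlgSt.spMapOfOver_app _ T x).trans ?_
    change (⟨𝟙 _ ≫ kOf y ⟨T, x⟩⟩ : ULift.{u+1} (T ⟶ U)) = _
    rw [Category.id_comp]
    rfl

end Groth.Agent.DecSec.QuotSch
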