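import Groth.Agent.DecSec.QuotTriv
import Groth.Agent.DecSec.QuotFib
import Groth.Prelude.Def_AlgSt6
import Groth.Prelude.Def_ActBC
import Groth.Agent.ASt.Fib

/-! Scheme torsors as torsors in sheaves over the final base. -/

set_option autoImplicit false
set_option backward.isDefEq.respectTransparency false
set_option backward.isDefEq.respectTransparency.types false

universe u

open CategoryTheory CategoryTheory.Limits MonoidalCategory CartesianMonoidalCategory MonObj GrpObj AlgebraicGeometry Opposite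

namespace Groth.Agent.DecSec.QuotSch

open _root_.AlgSt

variable (S : Scheme.{u})

/-- The final object. -/
abbrev T₀ : Over S := Over.mk (𝟙 S)

/-- The final base sheaf. -/
noncomputable abbrev B₀ : AlgSp.Sp S := (AlgSp.yon S).obj (T₀ S)

variable {S}

/-- The map to the final object. -/
noncomputable abbrev toT₀ (T : Over S) : T ⟶ T₀ S := Over.homMk T.hom (Category.comp_id _)

theorem toT₀_eq {T : Over S} (f : T ⟶ T₀ S) : f = toT₀ T :=
  Over.OverMorphism.ext ((Category.comp_id _).symm.trans (Over.w f))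

theorem eq_toB₀ {T : Over S} (f g : (AlgSp.yon S).obj T ⟶ B₀ S) : f = g := by
  obtain ⟨f, rfl⟩ := (AlgSp.yon S).map_surjective f
  obtain ⟨g, rfl⟩ := (AlgSp.yon S).map_surjective g
  rw [toT₀_eq f, toT₀_eq g]

/-- Schemes over the base as sheaves over the final sheaf. -/
noncomputable def Ψ : Over S ⥤ Over (B₀ S) where
  obj T := Over.mk ((AlgSp.yon S).map (toT₀ T))
  map f := Over.homMk ((AlgSp.yon S).map f) (eq_toB₀ _ _)
  map_id T := Over.OverMorphism.ext ((AlgSp.yon S).map_id T)
  map_comp f g := Over.OverMorphism.ext ((AlgSp.yon S).map_comp f g)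

instance : (Ψ (S := S)).Faithful :=
  ⟨fun h => (AlgSp.yon S).map_injective (congrArg (fun m => m.left) h)⟩

instance : (Ψ (S := S)).Full :=
  ⟨fun {T T'} f => ⟨(AlgSp.yon S).preimage f.left, Over.OverMorphism.ext ((AlgSp.yon S).map_preimage _)⟩⟩

theorem isPullback_map_Ψ {P T T' U : Over S} {a : P ⟶ T} {b : P ⟶ T'} {c : T ⟶ U} {d : T' ⟶ U}
    (h : IsPullback a b c d) : IsPullback (Ψ.map a) (Ψ.map b) (Ψ.map c) (Ψ.map d) :=
  IsPullback.of_map_of_faithful (F := Over.forget (B₀ S)) (h.map (AlgSp.yon S))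

instance : PreservesLimit (CategoryTheory.Functor.empty.{0} (Over S)) (Ψ (S := S)) :=
  preservesLimit_of_preserves_limit_cone Over.mkIdTerminal
    ((isLimitMapConeEmptyConeEquiv Ψ (T₀ S)).symm
      (Over.mkIdTerminal.ofIso (Over.isoMk (Iso.refl _) (by
        change 𝟙 _ ≫ (AlgSp.yon S).map (toT₀ (T₀ S)) = 𝟙 _
        rw [← toT₀_eq (𝟙 (T₀ S)), CategoryTheory.Functor.map_id, Category.id_comp]))))

instance : PreservesLimitsOfShape (Discrete.{0} PEmpty) (Ψ (S := S)) :=
  preservesLimitsOfShape_pempty_of_preservesTerminal _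

instance : PreservesLimitsOfShape WalkingCospan (Ψ (S := S)) :=
  ⟨fun {K} => by
    haveI : ∀ {X Y Z : Over S} (f : X ⟶ Z) (g : Y ⟶ Z), PreservesLimit (cospan f g) (Ψ (S := S)) := fun f g =>
      preservesLimit_of_preserves_limit_cone (IsPullback.of_hasPullback f g).isLimit
        ((isLimitMapConePullbackConeEquiv Ψ (IsPullback.of_hasPullback f g).w).symm (isPullback_map_Ψ (IsPullback.of_hasPullback f g)).isLimit)
    exact preservesLimit_of_iso_diagram _ (diagramIsoCospan K).symm⟩

instance : PreservesFiniteProducts (Ψ (S := S)) := by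
  haveI := preservesFiniteLimits_of_preservesTerminal_and_pullbacks (Ψ (S := S))
  infer_instance

noncomputable instance : (Ψ (S := S)).Monoidal := Functor.Monoidal.ofChosenFiniteProducts _

variable {G : Over S} [GrpObj G]

noncomputable instance grpObjΨ : GrpObj (Ψ.obj G) := Functor.grpObjObj

/-- Transport of an action. -/
noncomputable def actΨ {X : Over S} (a : AlgGrp.Action G X) : AlgSp.GAction (Ψ.obj G) (Ψ.obj X) where
  act := Functor.LaxMonoidal.μ Ψ G X ≫ Ψ.map a.act
  one_act := by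
    rw [Functor.obj.η_def, comp_whiskerRight, Category.assoc, Functor.LaxMonoidal.μ_natural_left_assoc,
      ← Functor.map_comp, a.one_act]
    exact (Functor.LaxMonoidal.left_unitality Ψ X).symm
  mul_act := by
    rw [Functor.obj.μ_def, comp_whiskerRight, Category.assoc, Functor.LaxMonoidal.μ_natural_left_assoc,
      ← Functor.map_comp, a.mul_act, Functor.map_comp, Functor.map_comp, Functor.LaxMonoidal.associativity_assoc,
      ← Functor.LaxMonoidal.μ_natural_right_assoc, MonoidalCategory.whiskerLeft_comp, Category.assoc]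

theorem eqv_iff {P Q : Over S} (a : AlgGrp.Action G P) (b : AlgGrp.Action G Q) (t : P ⟶ Q) :
    (actΨ a).act ≫ Ψ.map t = (Ψ.obj G ◁ Ψ.map t) ≫ (actΨ b).act ↔ a.act ≫ t = (G ◁ t) ≫ b.act := by
  change (Functor.LaxMonoidal.μ Ψ G P ≫ Ψ.map a.act) ≫ _ =
    (Ψ.obj G ◁ Ψ.map t) ≫ Functor.LaxMonoidal.μ Ψ G Q ≫ Ψ.map b.act ↔ _
  rw [Category.assoc, ← Functor.map_comp, Functor.LaxMonoidal.μ_natural_right_assoc, ← Functor.map_comp,
    cancel_epi]
  exact ⟨fun h => Ψ.map_injective h, fun h => congrArg Ψ.map h⟩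

theorem isPullback_Ψ_iff {P Q T U : Over S} {a : P ⟶ Q} {b : P ⟶ T} {c : Q ⟶ U} {d : T ⟶ U} :
    IsPullback (Ψ.map a) (Ψ.map b) (Ψ.map c) (Ψ.map d) ↔ IsPullback a b c d :=
  ⟨fun h => IsPullback.of_map_of_faithful (F := Ψ) h, isPullback_map_Ψ⟩

theorem cart_iff {P T : Over S} (a : AlgGrp.Action G P) (π : P ⟶ T) :
    IsPullback (actΨ a).act (snd (Ψ.obj G) (Ψ.obj P)) (Ψ.map π) (Ψ.map π) ↔
      IsPullback a.act (snd G P) π π := by
  rw [← isPullback_Ψ_iff]
  have h : Functor.LaxMonoidal.μ Ψ G P ≫ Ψ.map (snd G P) = snd (Ψ.obj G) (Ψ.obj P) := by simp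
  constructor
  · intro hc
    refine hc.of_iso (asIso (Functor.LaxMonoidal.μ Ψ G P)) (Iso.refl _) (Iso.refl _) (Iso.refl _) ?_ ?_
      (by simp) (by simp)
    · rw [Iso.refl_hom, Category.comp_id]; rfl
    · rw [Iso.refl_hom, Category.comp_id, asIso_hom, h]
  · intro hc
    refine hc.of_iso (asIso (Functor.LaxMonoidal.μ Ψ G P)).symm (Iso.refl _) (Iso.refl _) (Iso.refl _) ?_ ?_
      (by simp) (by simp)
    · rw [Iso.symm_hom, asIso_inv, Iso.refl_hom, Category.comp_id, IsIso.eq_inv_comp]; rfl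
    · rw [Iso.symm_hom, asIso_inv, Iso.refl_hom, Category.comp_id, IsIso.eq_inv_comp, h]

variable {X : Over S} {aX : AlgGrp.Action G X}

theorem hasSecLoc_map {K : Precoverage Scheme.{u}} (A : QuotObj K G aX) :
    HasSecLoc K (Ψ.map A.π).left := by
  obtain ⟨R, hR, hs⟩ := A.loc
  refine ⟨R, hR, fun T' f hf => ?_⟩
  obtain ⟨s, hs⟩ := hs f hf
  let l : Over.mk (f ≫ A.base.hom) ⟶ A.P := Over.homMk s (by
    change s ≫ A.P.hom = f ≫ A.base.hom
    rw [← Over.w A.π, ← Category.assoc]
    exact congrArg (· ≫ A.base.hom) hs)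
  refine ⟨(AlgSp.yon S).map l, ((AlgSp.yon S).map_comp _ _).symm.trans (congrArg _ ?_)⟩
  exact Over.OverMorphism.ext hs

/-- Scheme torsors as torsors in sheaves. -/
noncomputable def toSp (K : Precoverage Scheme.{u}) :
    AlgSt.QuotSt K G aX ⥤ᵇ AlgSt.SpQuotSt K (Ψ.obj G) (actΨ aX) where
  toFunctor :=
    { obj := fun A =>
        { base := A.base
          b := (AlgSp.yon S).map (toT₀ A.base)
          P := Ψ.obj A.P
          act := actΨ A.act
          π := Ψ.map A.π
          cart := (cart_iff A.act A.π).2 A.cart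
          loc := hasSecLoc_map A
          φ := Ψ.map A.φ
          eqv := (eqv_iff A.act aX A.φ).2 A.eqv }
      map := fun {A B} m =>
        { base := m.base
          wb := eq_toB₀ _ _
          top := Ψ.map m.top
          eqv := (eqv_iff A.act B.act m.top).2 m.eqv
          cart := isPullback_map_Ψ m.cart
          wφ := (Ψ.map_comp _ _).symm.trans (congrArg Ψ.map m.wφ) }
      map_id := fun A => SpQuotObj.hom_ext rfl (Ψ.map_id _)
      map_comp := fun m n => SpQuotObj.hom_ext rfl (Ψ.map_comp _ _) }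
  w := rfl

instance (K : Precoverage Scheme.{u}) : (toSp (G := G) (aX := aX) K).toFunctor.Faithful :=
  ⟨fun {A B m n} h => QuotObj.hom_ext (congrArg (fun k => k.base) h :)
    (Ψ.map_injective (congrArg (fun k => k.top) h :))⟩

instance (K : Precoverage Scheme.{u}) : (toSp (G := G) (aX := aX) K).toFunctor.Full :=
  ⟨fun {A B} n => by
    obtain ⟨t, ht⟩ := Ψ.map_surjective n.top
    refine ⟨{ base := n.base, top := t, eqv := ?_, cart := ?_, wφ := ?_ }, SpQuotObj.hom_ext rfl ht⟩
    · exact (eqv_iff A.act B.act t).1 (ht.symm ▸ n.eqv)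
    · refine isPullback_Ψ_iff.1 ?_
      have h := n.cart
      rw [← ht] at h
      exact h
    · refine Ψ.map_injective ((Ψ.map_comp _ _).trans ?_)
      rw [ht]
      exact n.wφ⟩

end Groth.Agent.DecSec.QuotSch
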