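import Groth.Agent.DecSec.SatSub
import Groth.Agent.DecSec.OpenImage
import Groth.Agent.ASp.Residual
import Groth.Agent.ASt.SmLocally
import Groth.Agent.ASp.PropDescend
import Groth.Agent.DVRCrit.Local
import Groth.Agent.CompAffLib.Basic
import Groth.Agent.S9841

/-! Reduced closed substacks. -/

set_option autoImplicit false
set_option backward.isDefEq.respectTransparency false
set_option backward.isDefEq.respectTransparency.types false

universe u

open CategoryTheory CategoryTheory.Limits AlgebraicGeometry Opposite TopologicalSpace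

namespace Groth.Agent.DecSec

open _root_.AlgSp Groth.Agent.ASt Groth.Agent.ASp

variable {S : Scheme.{u}} {𝒳 𝒴 : AlgSt.Cat S} [FibCat.IsFibGrpd 𝒳.p] [FibCat.IsFibGrpd 𝒴.p]

/-- The charts of a closed substack are closed subschemes. -/
theorem exists_closedSubstack_chart {Q : 𝒳.obj → Prop} (hQ : AlgSt.IsClosedSubstack 𝒳 Q Scheme.fppfPrecoverage)
    {U : Over S} (y : FibCat.overCat U ⥤ᵇ 𝒳) :
    ∃ (Z : Over S) (h : Z ⟶ U), IsClosedImmersion h.left ∧
      ∀ {T : Over S} (k : T ⟶ U), Q (y.obj (ov k)) ↔ ∃ m : T ⟶ Z, m ≫ h = k := by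
  obtain ⟨hiso, hA', him⟩ := hQ
  haveI := hA'.isStack.1
  haveI : FibCat.IsFibGrpd (FibCat.fp y (AlgSt.subIncl 𝒳 Q)).p := isFibGrpd_fp
  obtain ⟨hs, hA, hπ⟩ := (repByAlgSpWith_iff.1 him).2 U y
  have sq := hπ.1.isPullback (𝟙 ((yon S).obj U))
  have hopen : IsClosedImmersion (hπ.1.snd (𝟙 ((yon S).obj U))).left := hπ.2 _ _ _ sq
  generalize hπ.1.snd (𝟙 ((yon S).obj U)) = h at sq hopen
  generalize hπ.1.fst (𝟙 ((yon S).obj U)) = p at sq
  haveI : IsIso p := sq.isIso_fst_of_isIso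
  have hw : ∀ (T : Over S) (m : T ⟶ _),
      fpHom (p.hom.app (op T) ⟨m⟩ : ClType (FibCat.fp y (AlgSt.subIncl 𝒳 Q)) T) = m ≫ h := fun T m => by
    have h1 := ConcreteCategory.congr_hom (NatTrans.congr_app (congrArg InducedCategory.Hom.hom sq.w) (op T)) ⟨m⟩
    exact congrArg ULift.down h1
  refine ⟨_, h, hopen, fun {T} k => ⟨fun hk => ?_, ?_⟩⟩
  · let c : ClType (FibCat.fp y (AlgSt.subIncl 𝒳 Q)) T :=
      fpEl (f := AlgSt.subIncl 𝒳 Q) k ⟨y.obj (ov k), hk⟩ ((y.w_obj (ov k)).trans (ov_base k)) (𝟙 _)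
        (by simp)
    obtain ⟨⟨m⟩, hm⟩ : ∃ m, p.hom.app (op T) m = c := ((isIso_iff_bijective _).1
      (inferInstanceAs (IsIso (((sheafToPresheaf _ _).map p).app (op T))))).2 c
    exact ⟨m, by rw [← hw T m, hm]; exact fpHom_fpEl _ _ _ _ _⟩
  · rintro ⟨m, hm⟩
    obtain ⟨k', x, hx, φ, hφ, he⟩ := fpEl_exists (p.hom.app (op T) ⟨m⟩ : ClType (FibCat.fp y (AlgSt.subIncl 𝒳 Q)) T)
    obtain rfl : k' = k := by rw [← hm, ← hw T m, he, fpHom_fpEl]
    haveI : IsIso φ := isIso_of_vert φ hφ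
    exact hiso.of_iso (asIso φ).symm x.2

/-- A point of a chart lying in a pullback-stable locus gives a residue point in it. -/
theorem mem_of_mem_range {Q : 𝒳.obj → Prop} (hpull : ∀ {x' x : 𝒳.obj} (_ : x' ⟶ x), Q x → Q x')
    {U Z : Over S} (y : FibCat.overCat U ⥤ᵇ 𝒳) (h : Z ⟶ U)
    (hh : ∀ {T : Over S} (k : T ⟶ U), Q (y.obj (ov k)) → ∃ m : T ⟶ Z, m ≫ h = k) {t : ↥U.left}
    (ht : AlgSt.Points.ofChart y t ∈ Set.range (AlgSt.Points.map (AlgSt.subIncl 𝒳 Q))) : t ∈ Set.range h.left := by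
  obtain ⟨z, hz⟩ := ht
  obtain ⟨q, rfl⟩ := AlgSt.Points.mk_surjective z
  obtain ⟨r, a, b, -⟩ := mk_eq_mk_iff.1 hz
  have hr : Q r.obj := hpull a q.obj.2
  let b' : r.obj ⟶ y.obj (ov (rHom U t)) := b
  let b'' : r.obj ⟶ y.obj (ov (𝟙 U)) := b' ≫ y.map (toTop (ov (rHom U t)))
  let k : Over.mk r.str ⟶ U := eqToHom r.lies.symm ≫ 𝒳.p.map b'' ≫ eqToHom (y.w_obj (ov (𝟙 U)))
  let c := facMap (y.map (toTop (ov k))) b'' (eqToHom (r.lies.trans (y.w_obj (ov k)).symm)) (by
    rw [map_toTop]; simp [k])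
  haveI : IsIso c := isIso_of_vert c (map_facMap _ _ _ _)
  obtain ⟨m, hm⟩ := hh k (hpull (inv c) hr)
  refine ⟨m.left (default : ↥(Spec (CommRingCat.of r.K))), ?_⟩
  rw [← Scheme.Hom.comp_apply, ← Over.comp_left, hm]
  have hk : k = (eqToHom r.lies.symm ≫ 𝒳.p.map b' ≫ eqToHom (y.w_obj (ov (rHom U t)))) ≫ rHom U t := by
    simp [k, b'', map_toTop]
  rw [hk, Over.comp_left, Scheme.Hom.comp_apply]
  exact Scheme.fromSpecResidueField_apply t _

theorem mem_closedSubstack_of_reduced {Q : 𝒳.obj → Prop} (hQ : AlgSt.IsClosedSubstack 𝒳 Q Scheme.fppfPrecoverage)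
    (hY : AlgSt.IsAlgStack Scheme.fppfPrecoverage 𝒴) (hred : AlgSt.SmoothLocally (fun X => IsReduced X) 𝒴)
    (f : 𝒴 ⥤ᵇ 𝒳)
    (hpts : Set.range (AlgSt.Points.map f) ⊆ Set.range (AlgSt.Points.map (AlgSt.subIncl 𝒳 Q))) (y : 𝒴.obj) :
    Q (f.obj y) := by
  obtain ⟨U, b, hb, hbs⟩ := hY.atlas
  haveI : IsReduced U.left := hred U b hb
  haveI := hQ.2.1.isStack.1
  obtain ⟨Z, h, hh, hh'⟩ := exists_closedSubstack_chart hQ (BasedFunctor.comp b f)
  haveI : Surjective h.left := ⟨fun t => mem_of_mem_range (fun a => pull_closed hQ.1 hQ.2.1.isStack.1 a)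
    (BasedFunctor.comp b f) h (fun k hk => (hh' k).1 hk)
    (by rw [ofChart_comp]; exact hpts ⟨_, rfl⟩)⟩
  haveI := isIso_of_isClosedImmersion_of_surjective h.left
  haveI : IsIso ((Over.forget S).map h) := inferInstanceAs (IsIso h.left)
  haveI : IsIso h := isIso_of_reflects_iso h (Over.forget S)
  have hall : ∀ {T : Over S} (k : T ⟶ U), Q (f.obj (b.obj (ov k))) := fun k =>
    (hh' k).2 ⟨k ≫ inv h, by simp⟩
  let T := 𝒴.p.obj y
  let w := objFun y (rfl : 𝒴.p.obj y = T)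
  obtain ⟨V, l, hl, hls, v, φ, hφ⟩ := exists_lift_atlas hb hbs w
  haveI := hl
  haveI := hls
  haveI : IsIso φ := isIso_of_vert φ hφ
  have hl' : Q (f.obj (w.obj (ov l))) := hQ.1.of_iso (f.toFunctor.mapIso (asIso φ)).symm (hall v)
  obtain ⟨Z', h', hh1, hh2⟩ := exists_closedSubstack_chart hQ (BasedFunctor.comp w f)
  obtain ⟨m, hm⟩ := (hh2 l).1 hl'
  haveI : Mono h' := (Over.forget S).mono_of_mono_map (inferInstanceAs (Mono h'.left))
  haveI := epi_yon_map l
  haveI : Epi ((yon S).map m ≫ (yon S).map h') := by rw [← Functor.map_comp, hm]; infer_instance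
  haveI : Epi ((yon S).map h') := epi_of_epi ((yon S).map m) _
  haveI : IsIso ((yon S).map h') := isIso_of_mono_of_epi _
  haveI : IsIso h' := isIso_of_fully_faithful (yon S) h'
  have h1 : Q (f.obj (w.obj (ov (𝟙 T)))) := (hh2 (𝟙 T)).2 ⟨inv h', by simp⟩
  haveI : IsIso (pullHom y (rfl : 𝒴.p.obj y = T) (𝟙 T)) := by
    have : IsIso (𝒴.p.map (pullHom y (rfl : 𝒴.p.obj y = T) (𝟙 T))) := by
      rw [map_pullHom]; infer_instance
    exact isIso_of_isIso_map _
  exact hQ.1.of_iso (f.toFunctor.mapIso (asIso (pullHom y (rfl : 𝒴.p.obj y = T) (𝟙 T)))) h1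

theorem forall_mem_iff {Q : 𝒳.obj → Prop} (hQ : AlgSt.IsClosedSubstack 𝒳 Q Scheme.fppfPrecoverage)
    (hY : AlgSt.IsAlgStack Scheme.fppfPrecoverage 𝒴) (hred : AlgSt.SmoothLocally (fun X => IsReduced X) 𝒴)
    (f : 𝒴 ⥤ᵇ 𝒳) : (∀ y, Q (f.obj y)) ↔
      Set.range (AlgSt.Points.map f) ⊆ Set.range (AlgSt.Points.map (AlgSt.subIncl 𝒳 Q)) := by
  refine ⟨fun h => ?_, mem_closedSubstack_of_reduced hQ hY hred f⟩
  rintro _ ⟨z, rfl⟩
  obtain ⟨p, rfl⟩ := AlgSt.Points.mk_surjective z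
  exact ⟨AlgSt.Points.mk { K := p.K, str := p.str, obj := ⟨f.obj p.obj, h _⟩, lies := (p.map f).lies }, rfl⟩

variable {U : Over S} {a : FibCat.overCat U ⥤ᵇ 𝒳}

/-- The reduced closed subscheme on the preimage of a set of points is saturated. -/
theorem isSat_reduced (ha : AlgSt.RepByAlgSpWith (LocP @Smooth) a) (T : Set (AlgSt.Points 𝒳)) {Z : Over S}
    (i : Z ⟶ U) [IsClosedImmersion i.left] [IsReduced Z.left]
    (hZ : Set.range i.left = AlgSt.Points.ofChart a ⁻¹' T) : IsSat a i := by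
  intro W v v' φ hφ hv'
  obtain ⟨w', hw'⟩ := hv'
  haveI : FibCat.IsFibGrpd (FibCat.fp a a).p := isFibGrpd_fp
  haveI := faithful_of_repByAlgSp1 (repByAlgSp1_of_with ha)
  obtain ⟨hs, hA, C, p, E, h, hpe, hps, hcomp, -, hsec, -⟩ := exists_chart_of_fib (repByAlgSp1_of_with ha) a
  obtain ⟨_, _, hsm⟩ := (repByAlgSpWith_iff.1 ha).2 U a
  haveI : Smooth h.left := prop_chart hpe hcomp hsm
  let σ : (⟨fib a a, hs⟩ : Sp S).obj ⟶ (pyon S).obj U := clFun (FibCat.fpSnd a a) ≫ overClHom U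
  obtain ⟨q, hq⟩ := (yon S).map_surjective (p ≫ (ObjectProperty.homMk σ : (⟨fib a a, hs⟩ : Sp S) ⟶ (yon S).obj U))
  have key : ∀ {V : Over S} (k : V ⟶ C), ∃ (φ' : a.obj (ov (k ≫ h)) ⟶ a.obj (ov (k ≫ q))),
      𝒳.p.map φ' = eqToHom (((a.w_obj (ov (k ≫ h))).trans (ov_base _)).trans
        ((a.w_obj (ov (k ≫ q))).trans (ov_base _)).symm) := by
    intro V k
    obtain ⟨j, x, hx, ψ, hψ, he⟩ := fpEl_exists (p.hom.app (op V) ⟨k⟩ : ClType (FibCat.fp a a) V)
    obtain ⟨xl, ⟨⟨⟩⟩, j'⟩ := x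
    obtain rfl : xl = V := hx
    have e1 : j = k ≫ h := by
      have := ConcreteCategory.congr_hom (NatTrans.congr_app (congrArg InducedCategory.Hom.hom hcomp) (op xl)) ⟨k⟩
      refine Eq.trans ?_ (congrArg ULift.down this)
      change j = fpHom (p.hom.app (op xl) ⟨k⟩ : ClType (FibCat.fp a a) xl)
      rw [he]
      exact (fpHom_fpEl _ _ _ _ _).symm
    have e2 : j' = k ≫ q := by
      have := ConcreteCategory.congr_hom (NatTrans.congr_app (congrArg InducedCategory.Hom.hom hq) (op xl)) ⟨k⟩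
      refine Eq.trans ?_ (congrArg ULift.down this).symm
      change j' = (σ.app (op xl) (p.hom.app (op xl) ⟨k⟩)).down
      rw [he]
      exact (overHom_mk j').symm
    subst e1; subst e2
    exact ⟨ψ, hψ⟩
  have hpts : h.left ⁻¹' Set.range i.left = q.left ⁻¹' Set.range i.left := by
    rw [hZ]
    ext c
    obtain ⟨φ', hφ'⟩ := key (𝟙 C)
    have e := ofChart_congr (restrIso a a (𝟙 C ≫ h) (𝟙 C ≫ q) φ' hφ') c
    rw [ofChart_overMap, ofChart_overMap, Category.id_comp, Category.id_comp] at e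
    change AlgSt.Points.ofChart a (h.left c) ∈ T ↔ AlgSt.Points.ofChart a (q.left c) ∈ T
    rw [e]
  let j := pullback.snd i q
  have sq := (IsPullback.of_hasPullback i q).map (Over.forget S)
  haveI : IsClosedImmersion j.left := MorphismProperty.of_isPullback sq ‹IsClosedImmersion i.left›
  have sq₀ := (IsPullback.of_hasPullback i h).map (Over.forget S)
  let j₀ := pullback.snd i h
  haveI : IsClosedImmersion j₀.left := MorphismProperty.of_isPullback sq₀ ‹IsClosedImmersion i.left›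
  haveI : Smooth (pullback.fst i h).left := MorphismProperty.of_isPullback sq₀.flip ‹Smooth h.left›
  haveI : IsReduced (pullback i h).left := isReduced_of_smooth (pullback.fst i h).left
  have hr : Set.range j₀.left ⊆ Set.range j.left := by
    rintro _ ⟨c, rfl⟩
    have : j₀.left c ∈ h.left ⁻¹' Set.range i.left := ⟨(pullback.fst i h).left c, by
      rw [← Scheme.Hom.comp_apply, ← Scheme.Hom.comp_apply, ← Over.comp_left, ← Over.comp_left, pullback.condition]⟩
    rw [hpts] at this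
    obtain ⟨z, hz⟩ := this
    obtain ⟨c', -, hc'⟩ := Scheme.exists_preimage_of_isPullback sq z (j₀.left c) hz
    exact ⟨c', hc'⟩
  obtain ⟨g, hg⟩ := Groth.Agent.DVRCrit.exists_factor_closed j.left j₀.left hr
  let c₀ : ClType (FibCat.fp a a) W := fpEl (y := a) (f := a) v' (ov v) rfl (by haveI := isIso_of_vert φ hφ; exact inv φ) (by
    haveI := isIso_of_vert φ hφ
    rw [Functor.map_inv]; simp [hφ])
  let g₀ : (yon S).obj W ⟶ (⟨fib a a, hs⟩ : Sp S) := ObjectProperty.homMk (uliftYonedaEquiv.{u + 1}.symm c₀)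
  haveI : Mono i := (Over.forget S).mono_of_mono_map (inferInstanceAs (Mono i.left))
  have hsq := hpe.1.isPullback g₀
  haveI he : Etale (hpe.1.snd g₀).left := hpe.2 _ _ _ hsq
  haveI hsu : Surjective (hpe.1.snd g₀).left := hps.2 _ _ _ hsq
  generalize hl : hpe.1.snd g₀ = l at hsq he hsu
  obtain ⟨k, hk⟩ := (yon S).map_surjective (hpe.1.fst g₀)
  rw [← hk] at hsq
  have e1 : k ≫ h = l ≫ v' := by
    refine (yon S).map_injective ?_
    rw [Functor.map_comp, ← hcomp, ← Category.assoc, hsq.w, Category.assoc, Functor.map_comp]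
    congr 1
    refine ObjectProperty.hom_ext _ (uliftYonedaEquiv.{u + 1}.injective (congrArg ULift.up ?_))
    change fpHom ((fib a a).map (𝟙 (op W)) c₀) = 𝟙 W ≫ v'
    rw [FunctorToTypes.map_id_apply, Category.id_comp]
    exact fpHom_fpEl _ _ _ _ _
  have e2 : k ≫ q = l ≫ v := by
    refine (yon S).map_injective ?_
    rw [Functor.map_comp, hq, ← Category.assoc, hsq.w, Category.assoc, Functor.map_comp]
    congr 1
    refine ObjectProperty.hom_ext _ (uliftYonedaEquiv.{u + 1}.injective (congrArg ULift.up ?_))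
    change (σ.app (op W) ((fib a a).map (𝟙 (op W)) c₀)).down = 𝟙 W ≫ v
    rw [FunctorToTypes.map_id_apply, Category.id_comp]
    exact overHom_mk v
  have hsub : ∃ z, z ≫ i = l ≫ v := by
    let n := pullback.lift (l ≫ w') k (by rw [Category.assoc, hw', e1])
    let gO : pullback i h ⟶ pullback i q := Over.homMk g (by
      change g ≫ _ = _
      rw [← Over.w j, ← Category.assoc, hg, Over.w j₀])
    have hgO : gO ≫ j = j₀ := Over.OverMorphism.ext hg
    refine ⟨n ≫ gO ≫ pullback.fst i q, ?_⟩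
    rw [Category.assoc, Category.assoc, pullback.condition, ← Category.assoc gO, hgO,
      ← Category.assoc, pullback.lift_snd, e2]
  obtain ⟨z, hz⟩ := hsub
  haveI := epi_yon_map l
  haveI : Mono (pullback.fst v i) := inferInstance
  let m : _ ⟶ pullback v i := pullback.lift l z hz.symm
  haveI : Epi ((yon S).map m ≫ (yon S).map (pullback.fst v i)) := by
    rw [← Functor.map_comp, pullback.lift_fst]; infer_instance
  haveI : Epi ((yon S).map (pullback.fst v i)) := epi_of_epi ((yon S).map m) _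
  haveI : IsIso ((yon S).map (pullback.fst v i)) := isIso_of_mono_of_epi _
  haveI : IsIso (pullback.fst v i) := isIso_of_fully_faithful (yon S) _
  exact ⟨inv (pullback.fst v i) ≫ pullback.snd v i, by
    rw [Category.assoc, ← pullback.condition, IsIso.inv_hom_id_assoc]⟩

theorem isReduced_iff_of_presieve (U : Scheme.{u}) (R : Presieve U) (hR : R ∈ Scheme.precoverage @Smooth U) :
    IsReduced U ↔ ∀ ⦃V : Scheme.{u}⦄ (g : V ⟶ U), R g → IsReduced V := by
  obtain ⟨J₀, W₀, f₀, rfl⟩ := Presieve.exists_eq_ofArrows R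
  obtain ⟨hs, hP⟩ := (Scheme.ofArrows_mem_precoverage_iff _).1 hR
  constructor
  · intro h V g hg
    cases hg with
    | mk j =>
      haveI : Smooth (f₀ j) := hP j
      exact isReduced_of_smooth (f₀ j)
  · intro h
    choose j w hw using hs
    exact (Groth.Agent.S9841.result (fun t : ↥U => f₀ (j t))
      ((Scheme.ofArrows_mem_precoverage_iff _).2 ⟨fun t => ⟨t, w t, hw t⟩, fun t => hP _⟩)).2
        fun t => h _ (Presieve.ofArrows.mk (j t))

/-- Every closed set of points carries a reduced closed substack, which is closed on points. -/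
theorem exists_reduced_closedSubstack' (hX : AlgSt.IsAlgStack Scheme.fppfPrecoverage 𝒳)
    (T : Set (AlgSt.Points 𝒳)) (hT : IsClosed T) :
    ∃ Q : 𝒳.obj → Prop, AlgSt.IsClosedSubstack 𝒳 Q Scheme.fppfPrecoverage ∧
      Set.range (AlgSt.Points.map (AlgSt.subIncl 𝒳 Q)) = T ∧
      AlgSt.SmoothLocally (fun X => IsReduced X) (AlgSt.fullSub 𝒳 Q) ∧
      IsClosedMap (AlgSt.Points.map (AlgSt.subIncl 𝒳 Q)) := by
  obtain ⟨U, a, ha, has⟩ := hX.atlas
  let C : Closeds ↥U.left := ⟨AlgSt.Points.ofChart a ⁻¹' T, hT.preimage (continuous_ofChart_stack hX a)⟩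
  let Z : Over S := Over.mk ((Scheme.IdealSheafData.vanishingIdeal C).subschemeι ≫ U.hom)
  let i : Z ⟶ U := Over.homMk (Scheme.IdealSheafData.vanishingIdeal C).subschemeι rfl
  haveI : IsClosedImmersion i.left :=
    inferInstanceAs (IsClosedImmersion (Scheme.IdealSheafData.vanishingIdeal C).subschemeι)
  haveI : IsReduced Z.left := Groth.Agent.DVRCrit.isReduced_vanishingIdeal C
  have hZ : Set.range i.left = AlgSt.Points.ofChart a ⁻¹' T := Groth.Agent.CompAffLib.range_subι C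
  have hsat : IsSat a i := isSat_reduced ha T i hZ
  have hQ := isClosedSubstack_inSat hX ha has hsat
  haveI := hQ.2.1.isStack.1
  have hi : ∀ {W : Over S} (k : W ⟶ U), InSat a i (a.obj (ov k)) ↔ ∃ w, w ≫ i = k := inSat_chart_iff hsat
  have hrange : Set.range (AlgSt.Points.map (AlgSt.subIncl 𝒳 (InSat a i))) = T := by
    ext z
    obtain ⟨t, rfl⟩ := surjective_chart has z
    constructor
    · intro ht
      have := mem_of_mem_range (fun m => inSat_pull a i m) a i (fun k hk => (hi k).1 hk) ht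
      exact hZ.subset this
    · intro ht
      obtain ⟨s, rfl⟩ := hZ.superset ht
      have hs : InSat a i (a.obj (ov (rHom Z s ≫ i))) := (hi _).2 ⟨_, rfl⟩
      exact ⟨AlgSt.Points.mk { K := Z.left.residueField s, str := Z.left.fromSpecResidueField s ≫ Z.hom, obj := ⟨_, hs⟩, lies := a.w_obj _ }, ofChart_overMap i a s⟩
  haveI : (AlgSt.subIncl 𝒳 (InSat a i)).toFunctor.Faithful := faithful_subIncl _
  let g : FibCat.overCat Z ⥤ᵇ AlgSt.fullSub 𝒳 (InSat a i) :=
    liftFullSub (InSat a i) (BasedFunctor.comp (AlgSt.overMap i) a) fun z => (hi _).2 ⟨z.hom, rfl⟩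
  haveI : FibCat.IsFibGrpd (FibCat.fp a (AlgSt.subIncl 𝒳 (InSat a i))).p := isFibGrpd_fp
  let E : FibCat.overCat Z ⥤ᵇ FibCat.fp a (AlgSt.subIncl 𝒳 (InSat a i)) :=
    FibCat.fpLift (AlgSt.overMap i) g (Iso.refl _)
  haveI : (FibCat.fp a (AlgSt.subIncl 𝒳 (InSat a i))).p.Faithful := faithful_fp
  haveI : Mono i := (Over.forget S).mono_of_mono_map (inferInstanceAs (Mono i.left))
  have hE : FibCat.IsEquivOver E := by
    refine isEquivOver_of_bijective E fun W => ⟨fun c c' e => ?_, fun c => ?_⟩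
    · obtain ⟨x, hx, rfl⟩ := cl_exists c
      obtain ⟨x', hx', rfl⟩ := cl_exists c'
      refine (bijective_overHom W).1 ((cancel_mono i).1 ?_)
      have := congrArg fpHom e
      rw [clF_cl, clF_cl] at this
      obtain ⟨xl, ⟨⟨⟩⟩, x⟩ := x
      obtain ⟨xl', ⟨⟨⟩⟩, x'⟩ := x'
      obtain rfl : xl = W := hx
      obtain rfl : xl' = xl := hx'
      exact (congrArg (· ≫ i) (overHom_mk x)).trans ((overHom_mk (x ≫ i)).symm.trans
        ((this.trans (overHom_mk (x' ≫ i))).trans (congrArg (· ≫ i) (overHom_mk x').symm)))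
    · obtain ⟨k, x, hx, φ, hφ, rfl⟩ := fpEl_exists c
      haveI : IsIso φ := isIso_of_vert φ hφ
      obtain ⟨w, rfl⟩ := (hi k).1 (inSat_pull a i φ x.2)
      refine ⟨cl (ov w) rfl, ?_⟩
      rw [clF_cl]
      refine cl_eq_iff.2 ?_
      exact ⟨fpHomMk (𝟙 _) (ObjectProperty.homMk φ) (by
        simp [E, g, FibCat.fpLift, liftFullSub, fpObj, fpMk]
        exact (Category.id_comp φ).symm),
        ((FibCat.overCat U).p.map_id _).trans rfl⟩
  have e : BasedFunctor.comp E (FibCat.fpSnd a (AlgSt.subIncl 𝒳 (InSat a i))) = g :=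
    Groth.Agent.ASt.basedFunctor_ext rfl
  have hg1 : AlgSt.RepByAlgSpWith (LocP @Smooth) g :=
    e ▸ repByAlgSpWith_precomp hE (repByAlgSpWith_fpSnd _ ha)
  have hg2 : AlgSt.RepByAlgSpWith IsSurjectiveMor g :=
    e ▸ repByAlgSpWith_precomp hE (repByAlgSpWith_fpSnd _ has)
  refine ⟨InSat a i, hQ, hrange, smoothLocally_of_chart (P := fun X => IsReduced X)
    (fun U' R hR => isReduced_iff_of_presieve U' R hR) hg1 hg2 inferInstance, fun C hC => ?_⟩
  have hgi : BasedFunctor.comp g (AlgSt.subIncl 𝒳 (InSat a i)) = BasedFunctor.comp (AlgSt.overMap i) a :=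
    liftFullSub_comp _ _ _
  have hgt : ∀ s, AlgSt.Points.map (AlgSt.subIncl 𝒳 (InSat a i)) (AlgSt.Points.ofChart g s) =
      AlgSt.Points.ofChart a (i.left s) := fun s => by
    rw [← ofChart_comp, hgi, ofChart_overMap]
  have hkey : AlgSt.Points.ofChart a ⁻¹' (AlgSt.Points.map (AlgSt.subIncl 𝒳 (InSat a i)) '' C) =
      i.left '' (AlgSt.Points.ofChart g ⁻¹' C) := by
    ext t
    constructor
    · rintro ⟨c, hc, hct⟩
      have htT : t ∈ AlgSt.Points.ofChart a ⁻¹' T := by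
        change AlgSt.Points.ofChart a t ∈ T
        rw [← hct, ← hrange]
        exact Set.mem_range_self c
      obtain ⟨s, rfl⟩ := hZ.superset htT
      refine ⟨s, ?_, rfl⟩
      change AlgSt.Points.ofChart g s ∈ C
      rwa [injective_points_subIncl _ (fun m => inSat_pull a i m) ((hgt s).trans hct.symm)]
    · rintro ⟨s, hs, rfl⟩
      exact ⟨_, hs, hgt s⟩
  have hcl : IsClosed (AlgSt.Points.ofChart a ⁻¹' (AlgSt.Points.map (AlgSt.subIncl 𝒳 (InSat a i)) '' C)) :=
    hkey ▸ i.left.isClosedEmbedding.isClosedMap _ (hC.preimage (continuous_ofChart_stack hQ.2.1 g))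
  rw [← isOpen_compl_iff, ← Set.image_preimage_eq (_)ᶜ (surjective_chart has)]
  exact isOpenMap_ofChart_of_smooth ha _ hcl.isOpen_compl

/-- Every closed set of points carries a reduced closed substack. -/
theorem exists_reduced_closedSubstack (hX : AlgSt.IsAlgStack Scheme.fppfPrecoverage 𝒳)
    (T : Set (AlgSt.Points 𝒳)) (hT : IsClosed T) :
    ∃ Q : 𝒳.obj → Prop, AlgSt.IsClosedSubstack 𝒳 Q Scheme.fppfPrecoverage ∧
      Set.range (AlgSt.Points.map (AlgSt.subIncl 𝒳 Q)) = T ∧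
      AlgSt.SmoothLocally (fun X => IsReduced X) (AlgSt.fullSub 𝒳 Q) :=
  let ⟨Q, h1, h2, h3, _⟩ := exists_reduced_closedSubstack' hX T hT
  ⟨Q, h1, h2, h3⟩

end Groth.Agent.DecSec
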