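import Groth.Agent.DecSec.PointImage
import Groth.Agent.ASt.QcMor
import Groth.Agent.ASt.StkAlg
import Groth.Prelude.Def_StGerb

/-! Residual gerbes. -/

set_option autoImplicit false
set_option backward.isDefEq.respectTransparency false
set_option backward.isDefEq.respectTransparency.types false

universe u

open CategoryTheory CategoryTheory.Limits AlgebraicGeometry Opposite

namespace Groth.Agent.DecSec

open _root_.AlgSp Groth.Agent.ASp Groth.Agent.ASt Groth.Agent.Boot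

variable {S : Scheme.{u}} {𝒳 𝒴 𝒵 : AlgSt.Cat S} [FibCat.IsFibGrpd 𝒳.p] [FibCat.IsFibGrpd 𝒴.p]
  [FibCat.IsFibGrpd 𝒵.p]

/-- The essential image of a functor. -/
def EssImg (f : 𝒵 ⥤ᵇ 𝒳) (o : 𝒳.obj) : Prop := ∃ x : 𝒵.obj, Nonempty (f.obj x ≅ o)

omit [FibCat.IsFibGrpd 𝒳.p] [FibCat.IsFibGrpd 𝒵.p] in
theorem isClosedUnderIsomorphisms_essImg (f : 𝒵 ⥤ᵇ 𝒳) : ObjectProperty.IsClosedUnderIsomorphisms (EssImg f) :=
  ⟨fun e ⟨x, ⟨i⟩⟩ => ⟨x, ⟨i ≪≫ e⟩⟩⟩

/-- A fully faithful functor is an equivalence with its essential image. -/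
theorem isEquivOver_toEssImg (f : 𝒵 ⥤ᵇ 𝒳) [f.toFunctor.Full] [f.toFunctor.Faithful] :
    FibCat.IsEquivOver (liftFullSub (EssImg f) f fun x => ⟨x, ⟨Iso.refl _⟩⟩) := by
  let e := liftFullSub (EssImg f) f fun x => ⟨x, ⟨Iso.refl _⟩⟩
  haveI : e.toFunctor.Faithful := inferInstanceAs (ObjectProperty.lift (EssImg f) f.toFunctor _).Faithful
  haveI : e.toFunctor.Full := inferInstanceAs (ObjectProperty.lift (EssImg f) f.toFunctor _).Full
  refine isEquivOver_of_vert e fun o => ?_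
  obtain ⟨x, ⟨i⟩⟩ := o.2
  let g : 𝒳.p.obj o.1 ⟶ 𝒵.p.obj x := 𝒳.p.map i.inv ≫ eqToHom (f.w_obj x)
  have hb : 𝒵.p.obj (pull x (rfl : 𝒵.p.obj x = _) g) = 𝒳.p.obj o.1 := pull_base x rfl g
  let φ := facMap i.inv (f.map (pullHom x (rfl : 𝒵.p.obj x = _) g))
    (eqToHom ((f.w_obj _).trans hb)) (by rw [ASt.map_w, map_pullHom]; simp [g])
  haveI : IsIso φ := isIso_of_vert φ (map_facMap _ _ _ _)
  exact ⟨pull x rfl g, hb,
    (ObjectProperty.isoMk (EssImg f) (asIso φ) : e.obj (pull x rfl g) ≅ o), (show 𝒳.p.map φ = _ from map_facMap _ _ _ _)⟩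

/-- A monomorphism from a stack with an fppf field-valued point gives the residual gerbe. -/
theorem isResGerbe_essImg (hZ : AlgSt.IsAlgStack Scheme.fppfPrecoverage 𝒵) (f : 𝒵 ⥤ᵇ 𝒳) (hf : AlgSt.IsMono f)
    (x : AlgSt.Points 𝒳) (hfx : ∀ p, AlgSt.Points.map f p = x) {k : Type u} [Field k]
    {a : Spec (CommRingCat.of k) ⟶ S} {z : FibCat.overCat (Over.mk a) ⥤ᵇ 𝒵}
    (hzp : AlgSt.RepByAlgSpWith (LocP @LocallyOfFinitePresentation) z)
    (hzs : AlgSt.RepByAlgSpWith IsSurjectiveMor z) (hzf : AlgSt.RepByAlgSpWith (LocP @Flat) z) :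
    Gerb.IsResGerbe Scheme.fppfPrecoverage 𝒳 x (EssImg f) ∧
      ∃ e : 𝒵 ⥤ᵇ AlgSt.fullSub 𝒳 (EssImg f), FibCat.IsEquivOver e ∧
        BasedFunctor.comp e (AlgSt.subIncl 𝒳 (EssImg f)) = f := by
  haveI := (full_faithful_of_isMono hf).1
  haveI := (full_faithful_of_isMono hf).2
  have he := isEquivOver_toEssImg f
  let e := liftFullSub (EssImg f) f fun x => ⟨x, ⟨Iso.refl _⟩⟩
  have hA := isAlgStack_of_isEquivOver he hZ
  haveI := hA.isStack.1
  have hs := repByAlgSpWith_postcomp e he hzs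
  have hl := repByAlgSpWith_postcomp e he hzp
  have hfl := repByAlgSpWith_postcomp e he hzf
  refine ⟨⟨isClosedUnderIsomorphisms_essImg f, hA, smoothLocally_reduced_of_point hA hs hfl,
    smoothLocally_noetherian_of_point hA hl hs hfl, (subsingleton_points_of_point hs).1,
    (subsingleton_points_of_point hs).2, fun w => ?_⟩, e, he, liftFullSub_comp _ _ _⟩
  obtain ⟨p, rfl⟩ := surjective_map_of_isEquivOver he w
  rw [ASt.map_map, liftFullSub_comp]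
  exact hfx p

/-- Residual gerbes are unique. -/
theorem resGerbe_le (hX : AlgSt.IsAlgStack Scheme.fppfPrecoverage 𝒳) {x : AlgSt.Points 𝒳} {Q Q' : 𝒳.obj → Prop}
    (hQ : Gerb.IsResGerbe Scheme.fppfPrecoverage 𝒳 x Q) (hQ' : Gerb.IsResGerbe Scheme.fppfPrecoverage 𝒳 x Q')
    (ξ : 𝒳.obj) (h : Q ξ) : Q' ξ := by
  obtain ⟨-, hA, hred, hn, hne, hsub, hx⟩ := hQ
  obtain ⟨hiso', hA', -, -, hne', -, hx'⟩ := hQ'
  haveI := hA.isStack.1
  haveI := hne
  haveI := hsub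
  obtain ⟨k, hk, a, z, h₁, h₂, h₃⟩ := exists_fppf_point hA hred hn
  exact forall_mem_of_point hX hiso' hA' (AlgSt.subIncl 𝒳 Q) h₁ h₂ h₃
    (fun w => ⟨Classical.arbitrary _, (hx' _).trans (hx w).symm⟩) ⟨ξ, h⟩

/-- The substack with an fppf point inside a stack with a surjective flat point. -/
theorem exists_fullSub_fppf_point (hZ : AlgSt.IsAlgStack Scheme.fppfPrecoverage 𝒵)
    (hred : AlgSt.SmoothLocally (fun T => IsReduced T) 𝒵) [Nonempty (AlgSt.Points 𝒵)]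
    [Subsingleton (AlgSt.Points 𝒵)] :
    ∃ Q : 𝒵.obj → Prop, ObjectProperty.IsClosedUnderIsomorphisms Q ∧
      AlgSt.IsAlgStack Scheme.fppfPrecoverage (AlgSt.fullSub 𝒵 Q) ∧
      (∃ (k' : Type u) (_ : Field k') (a' : Spec (CommRingCat.of k') ⟶ S)
          (z' : FibCat.overCat (Over.mk a') ⥤ᵇ AlgSt.fullSub 𝒵 Q),
          AlgSt.RepByAlgSpWith (LocP @LocallyOfFinitePresentation) z' ∧
            AlgSt.RepByAlgSpWith IsSurjectiveMor z' ∧ AlgSt.RepByAlgSpWith (LocP @Flat) z') ∧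
      AlgSt.IsMono (AlgSt.subIncl 𝒵 Q) := by
  obtain ⟨k₁, hk₁, a₁, z₁, hs₁, hf₁⟩ := exists_point_of_reduced hZ hred
  obtain ⟨k, hk, a, z, hl, -⟩ := exists_lft_point hZ
  have hs := surjective_point_of_subsingleton hZ z
  have hf := flat_point hZ hs₁ hf₁ z
  have hA := isAlgStack_inImg hZ hl hs hf
  exact ⟨_, isClosedUnderIsomorphisms_inImg z, hA, ⟨k, hk, a, toImg z, toImg_rep hZ.isStack hl hs hf⟩,
    isMono_subIncl hZ hA⟩

end Groth.Agent.DecSec
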