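import Groth.Agent.DecSec.DenseGerbe
import Groth.Agent.DecSec.RedSub
import Groth.Agent.DecSec.GerbeRes
import Groth.Agent.DecSec.MonoField
import Groth.Agent.S12869

/-! Residual gerbes of stacks with quasi-compact inertia. -/

set_option autoImplicit false
set_option backward.isDefEq.respectTransparency false
set_option backward.isDefEq.respectTransparency.types false

universe u

open CategoryTheory CategoryTheory.Limits AlgebraicGeometry Opposite

namespace Groth.Agent.DecSec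

open _root_.AlgSp Groth.Agent.ASp Groth.Agent.ASt Groth.Agent.Boot

variable {S : Scheme.{u}} {𝒳 : AlgSt.Cat S} [FibCat.IsFibGrpd 𝒳.p]

attribute [local instance] Groth.Agent.ASt.isFibGrpd_inertia

theorem isAlgStack_inertia (hX : AlgSt.IsAlgStack Scheme.fppfPrecoverage 𝒳) :
    AlgSt.IsAlgStack Scheme.fppfPrecoverage (FibCat.inertia (FibCat.toSelf 𝒳)) := by
  haveI : FibCat.IsFibGrpd (FibCat.fp (FibCat.toSelf 𝒳) (FibCat.toSelf 𝒳)).p := isFibGrpd_fp
  let hS := (isDM_of_repByAlgSp (repByAlgSp_selfOver (S := S))).1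
  have hXX := Groth.Agent.ASt.isAlgStack_fp (isPrestack_of_isStack hS.isStack) hS.diag hX hX
    (FibCat.toSelf 𝒳) (FibCat.toSelf 𝒳)
  haveI : FibCat.IsFibGrpd (FibCat.fp (FibCat.diag (FibCat.toSelf 𝒳)) (FibCat.diag (FibCat.toSelf 𝒳))).p :=
    isFibGrpd_fp
  obtain ⟨G', hG', -, -⟩ := isEquivOver_symm (isEquivOver_inertiaFp (FibCat.toSelf 𝒳))
  exact isAlgStack_of_isEquivOver hG'
    (Groth.Agent.ASt.isAlgStack_fp (isPrestack_of_isStack hXX.isStack) hXX.diag hX hX _ _)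

/-- Substacks inherit quasi-compact inertia. -/
theorem isQuasiCompactMor_inertia_fullSub (hX : AlgSt.IsAlgStack Scheme.fppfPrecoverage 𝒳) {Q : 𝒳.obj → Prop}
    (hiso : ObjectProperty.IsClosedUnderIsomorphisms Q)
    (hA : AlgSt.IsAlgStack Scheme.fppfPrecoverage (AlgSt.fullSub 𝒳 Q))
    (hI : AlgSt.IsQuasiCompactMor Scheme.fppfPrecoverage (FibCat.inertiaToBase (FibCat.toSelf 𝒳))) :
    AlgSt.IsQuasiCompactMor Scheme.fppfPrecoverage
      (FibCat.inertiaToBase (FibCat.toSelf (AlgSt.fullSub 𝒳 Q))) := by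
  haveI := hA.isStack.1
  haveI := isFibGrpd_inertia (FibCat.toSelf (AlgSt.fullSub 𝒳 Q))
  have hr : AlgSt.RepByAlgSp1 (FibCat.inertiaToBase (FibCat.toSelf 𝒳)) :=
    repByAlgSp1_of_with (repByAlgSpWith_inertiaToBase _ (lft_diag_toSelf hX))
  have hr' : AlgSt.RepByAlgSp1 (FibCat.inertiaToBase (FibCat.toSelf (AlgSt.fullSub 𝒳 Q))) :=
    repByAlgSp1_of_with (repByAlgSpWith_inertiaToBase _ (lft_diag_toSelf hA))
  have hq := (repByAlgSpWith_isQuasiCompactMor_iff (isAlgStack_inertia hX) hX hr).2 hI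
  refine (repByAlgSpWith_isQuasiCompactMor_iff (isAlgStack_inertia hA) hA hr').1
    (repByAlgSpWith_iff.2 ⟨faithful_of_repByAlgSp1 hr', fun U y => ?_⟩)
  exact fibHas_inertia_fullSub (fun m h => pull_closed hiso hA.isStack.1 m h) y
    ((repByAlgSpWith_iff.1 hq).2 U _)

/-- A closed set of points carries a reduced closed substack with a dense open gerbe. -/
theorem exists_closed_dense_gerbe (hX : AlgSt.IsAlgStack Scheme.fppfPrecoverage 𝒳)
    (hI : AlgSt.IsQuasiCompactMor Scheme.fppfPrecoverage (FibCat.inertiaToBase (FibCat.toSelf 𝒳)))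
    (T : Set (AlgSt.Points 𝒳)) (hT : IsClosed T) :
    ∃ Q : 𝒳.obj → Prop, AlgSt.IsClosedSubstack 𝒳 Q Scheme.fppfPrecoverage ∧
      Set.range (AlgSt.Points.map (AlgSt.subIncl 𝒳 Q)) = T ∧
      AlgSt.SmoothLocally (fun X => IsReduced X) (AlgSt.fullSub 𝒳 Q) ∧
      IsClosedMap (AlgSt.Points.map (AlgSt.subIncl 𝒳 Q)) ∧
      ∃ R : (AlgSt.fullSub 𝒳 Q).obj → Prop,
        AlgSt.IsOpenSubstack (AlgSt.fullSub 𝒳 Q) R Scheme.fppfPrecoverage ∧
        Dense (Set.range (AlgSt.Points.map (AlgSt.subIncl (AlgSt.fullSub 𝒳 Q) R))) ∧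
        Gerb.IsAlgGerbe Scheme.fppfPrecoverage (AlgSt.fullSub (AlgSt.fullSub 𝒳 Q) R) := by
  obtain ⟨Q, hQ, hr, hred, hcl⟩ := exists_reduced_closedSubstack' hX T hT
  haveI := hQ.2.1.isStack.1
  obtain ⟨R, hR⟩ := exists_dense_gerbe hQ.2.1 hred (isQuasiCompactMor_inertia_fullSub hX hQ.1 hQ.2.1 hI)
  exact ⟨Q, hQ, hr, hred, hcl, R, hR⟩

/-- Quasi-compact inertia gives residual gerbes at all points. -/
theorem resGerbeExists_of_qc_inertia (hX : AlgSt.IsAlgStack Scheme.fppfPrecoverage 𝒳)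
    (hI : AlgSt.IsQuasiCompactMor Scheme.fppfPrecoverage (FibCat.inertiaToBase (FibCat.toSelf 𝒳)))
    (x : AlgSt.Points 𝒳) : Gerb.ResGerbeExists Scheme.fppfPrecoverage 𝒳 x := by
  obtain ⟨Q, hQ, hr, -, hcl, R, hR, hd, X, π, hπ⟩ :=
    exists_closed_dense_gerbe hX hI (closure {x}) isClosed_closure
  haveI := hQ.2.1.isStack.1
  haveI := hR.2.1.isStack.1
  have hinj := injective_points_subIncl Q (fun m h => pull_closed hQ.1 hQ.2.1.isStack.1 m h)
  obtain ⟨z, hz⟩ := hr.superset (subset_closure (Set.mem_singleton x))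
  let O := Set.range (AlgSt.Points.map (AlgSt.subIncl (AlgSt.fullSub 𝒳 Q) R))
  have hzO : z ∈ O := by
    by_contra hn
    have h1 : closure {x} ⊆ AlgSt.Points.map (AlgSt.subIncl 𝒳 Q) '' Oᶜ :=
      closure_minimal (Set.singleton_subset_iff.2 ⟨z, hn, hz⟩) (hcl _ (isOpen_range_subIncl hR).isClosed_compl)
    haveI : Nonempty (AlgSt.Points (AlgSt.fullSub 𝒳 Q)) := ⟨z⟩
    obtain ⟨w, hw⟩ := hd.nonempty
    obtain ⟨v, hv, hvw⟩ := h1 (hr.subset (Set.mem_range_self w))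
    exact hv (hinj hvw ▸ hw)
  obtain ⟨r, rfl⟩ := hzO
  obtain ⟨W, i, hW, hi, hne, hs, hp⟩ := resGerbeExists_of_gerbe hR.2.1 X π hπ r
  haveI := hW.isStack.1
  refine ⟨W, BasedFunctor.comp (BasedFunctor.comp i (AlgSt.subIncl (AlgSt.fullSub 𝒳 Q) R)) (AlgSt.subIncl 𝒳 Q),
    hW, ?_, hne, hs, fun w => ?_⟩
  · exact Groth.Agent.S12869.result hW hQ.2.1 hX _ _
      (Groth.Agent.S12869.result hW hR.2.1 hQ.2.1 _ _ hi (isMono_subIncl hQ.2.1 hR.2.1))
      (isMono_subIncl hX hQ.2.1)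
  · rw [← map_map, ← map_map, hp w, hz]

end Groth.Agent.DecSec
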