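import Groth.Agent.ASt.OpenSub
import Groth.Agent.ASt.RepDesc
import Groth.Agent.ASp.Bootstrap
import Groth.Agent.ASt.Local
import Groth.Agent.ASt.StackSetoid
import Groth.Agent.DecSec.OpenSub
import Groth.Agent.S12795

/-! Closed substacks cut out by saturated closed subschemes of a smooth chart. -/

set_option autoImplicit false
set_option backward.isDefEq.respectTransparency false
set_option backward.isDefEq.respectTransparency.types false

universe u

open CategoryTheory CategoryTheory.Limits AlgebraicGeometry Opposite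

namespace Groth.Agent.DecSec

open _root_.AlgSp Groth.Agent.ASt Groth.Agent.ASp

variable {S : Scheme.{u}} {𝒳 : AlgSt.Cat S} [FibCat.IsFibGrpd 𝒳.p] {U Z : Over S}

/-- An isomorphism of values gives an isomorphism of restrictions. -/
noncomputable def restrIso {U₁ U₂ W : Over S} (y₁ : FibCat.overCat U₁ ⥤ᵇ 𝒳) (y₂ : FibCat.overCat U₂ ⥤ᵇ 𝒳)
    (j₁ : W ⟶ U₁) (j₂ : W ⟶ U₂) (φ : y₁.obj (ov j₁) ⟶ y₂.obj (ov j₂))
    (hφ : 𝒳.p.map φ = eqToHom
      (((y₁.w_obj (ov j₁)).trans (ov_base j₁)).trans ((y₂.w_obj (ov j₂)).trans (ov_base j₂)).symm)) :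
    BasedFunctor.comp (AlgSt.overMap j₁) y₁ ≅ BasedFunctor.comp (AlgSt.overMap j₂) y₂ :=
  funIso (y := BasedFunctor.comp (AlgSt.overMap j₁) y₁) (y' := BasedFunctor.comp (AlgSt.overMap j₂) y₂)
    (y₁.map (ovHom (𝟙 W) rfl : ov (𝟙 W ≫ j₁) ⟶ ov j₁) ≫ φ ≫
      y₂.map (ovHom (𝟙 W) (by simp) : ov j₂ ⟶ ov (𝟙 W ≫ j₂))) (by
    simp [ASt.map_w, hφ, ov_p_map]
    erw [Category.id_comp, Category.id_comp]
    exact eqToHom_trans _ _)

variable (a : FibCat.overCat U ⥤ᵇ 𝒳) (i : Z ⟶ U)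

/-- The objects all whose lifts to the chart lie in a closed subscheme. -/
def InSat (x : 𝒳.obj) : Prop := ∀ {W : Over S} (v : W ⟶ U) (_ : a.obj (ov v) ⟶ x), ∃ w : W ⟶ Z, w ≫ i = v

theorem inSat_pull {x' x : 𝒳.obj} (m : x' ⟶ x) (h : InSat a i x) : InSat a i x' :=
  fun v n => h v (n ≫ m)

theorem isClosedUnderIsomorphisms_inSat : ObjectProperty.IsClosedUnderIsomorphisms (InSat a i) :=
  ⟨fun e h => inSat_pull a i e.inv h⟩

theorem isStack_inSat [IsClosedImmersion i.left] (hX : Stk.IsStack (J S) 𝒳) :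
    Stk.IsStack (J S) (AlgSt.fullSub 𝒳 (InSat a i)) := by
  haveI : Mono i := (Over.forget S).mono_of_mono_map (inferInstanceAs (Mono i.left))
  refine Groth.Agent.S12795.result (J S) hX (InSat a i)
    (fun y x φ hx => ⟨y, Iso.refl y, inSat_pull a i φ hx, isHomLift_id_of_map _ rfl (e := rfl) (𝒳.p.map_id y)⟩)
    fun T R hR x hx h => ⟨x, Iso.refl x, fun {W} v m => ?_, isHomLift_id_of_map _ hx (e := rfl) (𝒳.p.map_id x)⟩
  let g : W ⟶ T := eqToHom ((a.w_obj (ov v)).trans (ov_base v)).symm ≫ 𝒳.p.map m ≫ eqToHom hx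
  haveI : Mono ((yon S).map i) := inferInstance
  obtain ⟨w, hw⟩ := factor_of_sieve ((yon S).map i) ((J S).pullback_stable g hR) ((yon S).map v)
    fun V k hk => by
      let n : a.obj (ov (k ≫ v)) ⟶ a.obj (ov v) := a.map (ovHom k rfl)
      obtain ⟨y', e, hy', -⟩ := h (k ≫ g) hk (a.obj (ov (k ≫ v))) (n ≫ m)
        (isHomLift_of_map _ ((a.w_obj _).trans (ov_base _)) hx (by
          simp [n, g, ASt.map_w, ov_p_map]))
      obtain ⟨z, hz⟩ := hy' (k ≫ v) e.hom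
      exact ⟨(yon S).map z, by rw [← Functor.map_comp, hz, Functor.map_comp]⟩
  obtain ⟨w, rfl⟩ := (yon S).map_surjective w
  exact ⟨w, (yon S).map_injective (by rw [Functor.map_comp, hw])⟩

/-- The chart is saturated for the closed subscheme. -/
def IsSat : Prop := ∀ {W : Over S} (v v' : W ⟶ U) (φ : a.obj (ov v) ⟶ a.obj (ov v')),
  𝒳.p.map φ = eqToHom (((a.w_obj (ov v)).trans (ov_base v)).trans ((a.w_obj (ov v')).trans (ov_base v')).symm) →
    (∃ w : W ⟶ Z, w ≫ i = v') → ∃ w : W ⟶ Z, w ≫ i = v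

variable {a i}

theorem inSat_chart_iff (hsat : IsSat a i) {T : Over S} (k : T ⟶ U) :
    InSat a i (a.obj (ov k)) ↔ ∃ w : T ⟶ Z, w ≫ i = k := by
  refine ⟨fun h => h k (𝟙 _), fun ⟨w, hw⟩ W v m => ?_⟩
  let g : W ⟶ T := eqToHom ((a.w_obj (ov v)).trans (ov_base v)).symm ≫ 𝒳.p.map m ≫
    eqToHom ((a.w_obj (ov k)).trans (ov_base k))
  let φ := facMap (a.map (ovHom g rfl : ov (g ≫ k) ⟶ ov k)) m
    (eqToHom (((a.w_obj (ov v)).trans (ov_base v)).trans ((a.w_obj (ov (g ≫ k))).trans (ov_base _)).symm))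
    (by simp [g, ASt.map_w, ov_p_map])
  exact hsat v (g ≫ k) φ (map_facMap _ _ _ _) ⟨g ≫ w, by rw [Category.assoc, hw]⟩

/-- A locus read as a mono of schemes gives the fibre of a full subcategory. -/
theorem fibHas_subIncl_of_locus {P : MorphismProperty (Sp S)} [P.RespectsIso] {Q : 𝒳.obj → Prop}
    (hiso : ObjectProperty.IsClosedUnderIsomorphisms Q) [FibCat.IsFibGrpd (AlgSt.fullSub 𝒳 Q).p]
    {T V : Over S} (y : FibCat.overCat T ⥤ᵇ 𝒳) (j : V ⟶ T) [Mono j]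
    (h : ∀ {T' : Over S} (k : T' ⟶ T), Q (y.obj (ov k)) ↔ ∃ w : T' ⟶ V, w ≫ j = k) (hP : P ((yon S).map j)) :
    FibHas P y (AlgSt.subIncl 𝒳 Q) := by
  haveI : FibCat.IsFibGrpd (FibCat.fp y (AlgSt.subIncl 𝒳 Q)).p := isFibGrpd_fp
  let c₀ : ClType (FibCat.fp y (AlgSt.subIncl 𝒳 Q)) V :=
    fpEl (f := AlgSt.subIncl 𝒳 Q) j ⟨y.obj (ov j), (h j).2 ⟨𝟙 _, Category.id_comp _⟩⟩
      ((y.w_obj (ov j)).trans (ov_base j)) (𝟙 _) (by simp)
  have hinj : ∀ T', Function.Injective (fpHom : ClType (FibCat.fp y (AlgSt.subIncl 𝒳 Q)) T' → (T' ⟶ T)) := by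
    intro T' c c' e
    obtain ⟨k, x, hx, φ, hφ, rfl⟩ := fpEl_exists c
    obtain ⟨k', x', hx', φ', hφ', rfl⟩ := fpEl_exists c'
    obtain rfl : k = k' := (fpHom_fpEl _ _ _ _ _).symm.trans (e.trans (fpHom_fpEl _ _ _ _ _))
    haveI : IsIso φ := isIso_of_vert φ hφ
    refine fpEl_eq_iff.2 ⟨ObjectProperty.homMk (inv φ ≫ φ'), ?_, ?_⟩
    · change 𝒳.p.map (inv φ ≫ φ') = _
      rw [Functor.map_comp, Functor.map_inv]
      simp [hφ, hφ']
    · change φ ≫ inv φ ≫ φ' = φ'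
      simp
  have hc₀ : fpHom c₀ = j := fpHom_fpEl _ _ _ _ _
  haveI : IsIso (uliftYonedaEquiv.{u + 1}.symm c₀ :
      (pyon S).obj V ⟶ fib y (AlgSt.subIncl 𝒳 Q)) := isIso_secHomP (F := fib y (AlgSt.subIncl 𝒳 Q)) c₀ fun T' => by
    refine ⟨fun l l' e => ?_, fun c => ?_⟩
    · have h := congrArg fpHom (show clMap l c₀ = clMap l' c₀ from e)
      rw [fpHom_clMap, fpHom_clMap, hc₀] at h
      exact (cancel_mono j).1 h
    · obtain ⟨k, x, hx, φ, hφ, rfl⟩ := fpEl_exists c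
      haveI : IsIso φ := isIso_of_vert φ hφ
      obtain ⟨w, hw⟩ := (h k).1 (hiso.of_iso (asIso φ).symm x.2)
      refine ⟨w, hinj T' ?_⟩
      change fpHom (clMap w c₀) = _
      rw [fpHom_clMap, hc₀, fpHom_fpEl, hw]
  let e := asIso (uliftYonedaEquiv.{u + 1}.symm c₀ : (pyon S).obj V ⟶ fib y (AlgSt.subIncl 𝒳 Q))
  obtain ⟨hs, hA⟩ := ((isAlgSpaceP_obj_iff ((yon S).obj V)).2 (IsAlgSpace.yon_obj V)).of_iso e
  obtain ⟨q⟩ := arrowIso_of_hom (a := (yon S).map j)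
    (b := (ObjectProperty.homMk (fibπ y (AlgSt.subIncl 𝒳 Q)) :
      (⟨fib y (AlgSt.subIncl 𝒳 Q), hs⟩ : Sp S) ⟶ (yon S).obj T)) e (by
      ext T' k
      refine congrArg ULift.up ?_
      change k.down ≫ j = fpHom ((fib y (AlgSt.subIncl 𝒳 Q)).map k.down.op c₀)
      rw [show (fib y (AlgSt.subIncl 𝒳 Q)).map k.down.op c₀ = clMap k.down c₀ from rfl, fpHom_clMap, hc₀])
  exact ⟨hs, hA, (P.arrow_mk_iso_iff q).1 hP⟩

theorem isSheaf_fib_of_stack {Q : 𝒳.obj → Prop} [FibCat.IsFibGrpd (AlgSt.fullSub 𝒳 Q).p] (hX : Stk.IsStack (J S) 𝒳)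
    (hQ : Stk.IsStack (J S) (AlgSt.fullSub 𝒳 Q)) {T : Over S} (y : FibCat.overCat T ⥤ᵇ 𝒳) :
    Presheaf.IsSheaf (J S) (fib y (AlgSt.subIncl 𝒳 Q)) := by
  haveI := hX.1
  haveI := hQ.1
  have h := Groth.Agent.ASt.isStack_fp (F := y) (G := AlgSt.subIncl 𝒳 Q) (Groth.Agent.ASt.isAlgStack_overCat T).isStack hQ
    (isPrestack_of_isStack hX)
  haveI : FibCat.IsFibGrpd (FibCat.fp y (AlgSt.subIncl 𝒳 Q)).p := isFibGrpd_fp
  haveI : (FibCat.fp y (AlgSt.subIncl 𝒳 Q)).p.Faithful := faithful_fp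
  exact (isSheaf_iff_isSheaf_of_type _ _).2
    (isStack_ofPsh_iff.1 (isStack_of_isEquivOver (isEquivOver_toPsh (𝒳 := FibCat.fp y (AlgSt.subIncl 𝒳 Q))) h))

theorem fibHas_restr_inSat [IsClosedImmersion i.left] (hsat : IsSat a i)
    [FibCat.IsFibGrpd (AlgSt.fullSub 𝒳 (InSat a i)).p]
    {T V : Over S} (y : FibCat.overCat T ⥤ᵇ 𝒳) (l : V ⟶ T) (v : V ⟶ U) (φ : y.obj (ov l) ⟶ a.obj (ov v))
    (hφ : 𝒳.p.map φ = eqToHom
      (((y.w_obj (ov l)).trans (ov_base l)).trans ((a.w_obj (ov v)).trans (ov_base v)).symm)) :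
    FibHas (RepWith @IsClosedImmersion) (BasedFunctor.comp (AlgSt.overMap l) y)
      (AlgSt.subIncl 𝒳 (InSat a i)) := by
  have hj : IsClosedImmersion (pullback.fst v i).left :=
    MorphismProperty.of_isPullback ((IsPullback.of_hasPullback v i).map (Over.forget S)).flip ‹IsClosedImmersion i.left›
  haveI : Mono (pullback.fst v i) := (Over.forget S).mono_of_mono_map (inferInstanceAs (Mono (pullback.fst v i).left))
  refine fibHas_subIncl_of_locus (isClosedUnderIsomorphisms_inSat a i) _ (pullback.fst v i) (fun {T'} k => ?_)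
    (repWith_yon_map hj)
  haveI : IsIso φ := isIso_of_vert φ hφ
  have e : InSat a i (y.obj (ov (k ≫ l))) ↔ InSat a i (a.obj (ov (k ≫ v))) := by
    let θ := facMap (a.map (ovHom k rfl : ov (k ≫ v) ⟶ ov v)) (y.map (ovHom k rfl : ov (k ≫ l) ⟶ ov l) ≫ φ)
      (eqToHom (((y.w_obj (ov (k ≫ l))).trans (ov_base _)).trans ((a.w_obj (ov (k ≫ v))).trans (ov_base _)).symm))
      (by simp [ASt.map_w, hφ, ov_p_map])
    haveI : IsIso θ := isIso_of_vert θ (map_facMap _ _ _ _)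
    exact ⟨inSat_pull a i (inv θ), inSat_pull a i θ⟩
  refine e.trans ((inSat_chart_iff hsat _).trans ⟨fun ⟨w, hw⟩ => ⟨pullback.lift k w hw.symm, pullback.lift_fst _ _ _⟩, ?_⟩)
  rintro ⟨w, rfl⟩
  exact ⟨w ≫ pullback.snd v i, by rw [Category.assoc, ← pullback.condition, Category.assoc]⟩

/-- A saturated closed subscheme of a smooth atlas gives a closed substack. -/
theorem isClosedSubstack_inSat [IsClosedImmersion i.left] (hX : AlgSt.IsAlgStack Scheme.fppfPrecoverage 𝒳)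
    (ha : AlgSt.RepByAlgSpWith (LocP @Smooth) a) (has : AlgSt.RepByAlgSpWith IsSurjectiveMor a) (hsat : IsSat a i) :
    AlgSt.IsClosedSubstack 𝒳 (InSat a i) Scheme.fppfPrecoverage := by
  have hst := isStack_inSat a i hX.isStack
  haveI := hst.1
  haveI : (AlgSt.subIncl 𝒳 (InSat a i)).toFunctor.Faithful := faithful_subIncl _
  have hP : AlgSp.IsLocalOnBase AlgSp.IsFppfCover (AlgSp.RepWith (S := S) @IsClosedImmersion) :=
    fun ι Y Yi g hY hYi hτ X f hX Xi p q hXi sq => Groth.Agent.S10534.result S Yi g hY hYi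
      (isFpqcCover_of_fppf hY hYi (fun i => (hτ.1 i).1) (fun i => (hτ.1 i).2) hτ.2) f hX Xi p q hXi sq
  have h1 : AlgSt.RepByAlgSp1 (AlgSt.subIncl 𝒳 (InSat a i)) := by
    refine repByAlgSp1_iff.2 ⟨inferInstance, fun T y => ?_⟩
    obtain ⟨V, l, hl, hls, v, φ, hφ⟩ := exists_lift_atlas ha has y
    obtain ⟨hs', hA', -⟩ := fibHas_restr_inSat hsat y l v φ hφ
    haveI := hl
    haveI := hls
    have hs := isSheaf_fib_of_stack hX.isStack hst y
    haveI : FibCat.IsFibGrpd (FibCat.fp y (AlgSt.subIncl 𝒳 (InSat a i))).p := isFibGrpd_fp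
    haveI : FibCat.IsFibGrpd (FibCat.fp (BasedFunctor.comp (AlgSt.overMap l) y) (AlgSt.subIncl 𝒳 (InSat a i))).p := isFibGrpd_fp
    let F : Sp S := ⟨fib y (AlgSt.subIncl 𝒳 (InSat a i)), hs⟩
    let π : F ⟶ (yon S).obj T := ObjectProperty.homMk (fibπ y _)
    let X' : Sp S := ⟨fib (BasedFunctor.comp (AlgSt.overMap l) y) (AlgSt.subIncl 𝒳 (InSat a i)), hs'⟩
    have sq : IsPullback (ObjectProperty.homMk (clFun (restrF l y (AlgSt.subIncl 𝒳 (InSat a i)))) : X' ⟶ F)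
        (ObjectProperty.homMk (fibπ (BasedFunctor.comp (AlgSt.overMap l) y) _)) π ((yon S).map l) :=
      IsPullback.of_map_of_faithful (sheafToPresheaf (J S) (Type (u + 1))) (isPullback_restrF l y)
    refine ⟨hs, isAlgSpace_of_fppfChart (F := F) (p := (ObjectProperty.homMk (clFun (restrF l y (AlgSt.subIncl 𝒳 (InSat a i)))) : X' ⟶ F)) hA' (fun T' g P fst snd sq' => ?_)⟩
    have sq'' := (sq'.paste_horiz sq.flip).flip
    obtain ⟨g', hg'⟩ := (yon S).map_surjective (g ≫ π)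
    rw [← hg'] at sq''
    let q : pullback g' l ⟶ T' := pullback.fst g' l
    have sqS := ((IsPullback.of_hasPullback g' l).map (yon S))
    let ε : P ≅ (yon S).obj (pullback g' l) := sq''.isoIsPullback _ _ sqS
    have hε : ε.hom ≫ (yon S).map q = snd := sq''.isoIsPullback_hom_fst _ _ sqS
    have sqL : IsPullback q.left (pullback.snd g' l).left g'.left l.left :=
      (IsPullback.of_hasPullback g' l).map (Over.forget S)
    have hl1 : Smooth q.left := MorphismProperty.of_isPullback sqL.flip hl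
    have hl2 : Surjective q.left := MorphismProperty.of_isPullback sqL.flip hls
    haveI := hl1
    refine ⟨(IsAlgSpace.yon_obj _).of_iso ε.symm, ?_, ?_, ?_⟩
    · rw [← hε]
      exact ((LocP @Flat).cancel_left_of_respectsIso ε.hom _).2 (locP_of_prop_left (inferInstanceAs (Flat q.left)))
    · rw [← hε]
      exact ((LocP @LocallyOfFinitePresentation).cancel_left_of_respectsIso ε.hom _).2
        (locP_of_prop_left (inferInstanceAs (LocallyOfFinitePresentation q.left)))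
    · rw [← hε, show Points.map (ε.hom ≫ _) = Points.map _ ∘ Points.map ε.hom from funext (Points.map_comp ε.hom _)]
      refine (surjective_map_of_repWith (repWith_yon_map (P := @Surjective) hl2)).comp fun z => ⟨Points.map ε.inv z, ?_⟩
      rw [← Points.map_comp, ε.inv_hom_id, Points.map_id]
  refine ⟨isClosedUnderIsomorphisms_inSat a i, isAlgStack_of_repByAlgSp1 hX h1,
    repByAlgSpWith_iff.2 ⟨inferInstance, fun T y => ?_⟩⟩
  obtain ⟨V, l, hl, hls, v, φ, hφ⟩ := exists_lift_atlas ha has y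
  haveI := hl
  haveI := hls
  exact fibHas_of_cover hP h1 l y (fibHas_restr_inSat hsat y l v φ hφ)

end Groth.Agent.DecSec
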