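import Groth.Agent.DecSec.OpenImage
import Groth.Agent.ASt.LocQCalc
import Groth.Agent.ASt.StQc
import Groth.Agent.S12868
import Groth.Agent.S12774

/-! The largest open substack on which a morphism is smooth. -/

set_option autoImplicit false
set_option backward.isDefEq.respectTransparency false
set_option backward.isDefEq.respectTransparency.types false

universe u

open CategoryTheory CategoryTheory.Limits AlgebraicGeometry Opposite

namespace Groth.Agent.DecSec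

open _root_.AlgSp Groth.Agent.ASp Groth.Agent.ASt

variable {S : Scheme.{u}} {𝒳 𝒴 𝒲 : AlgSt.Cat S}

/-- Cancellation of fully faithful functors. -/
theorem repByAlgSpWith_of_comp_fullFaithful [FibCat.IsFibGrpd 𝒳.p] [FibCat.IsFibGrpd 𝒴.p] [FibCat.IsFibGrpd 𝒲.p]
    {P : MorphismProperty (Sp S)} (Φ : 𝒴 ⥤ᵇ 𝒳) [Φ.toFunctor.Full] [Φ.toFunctor.Faithful] {g : 𝒲 ⥤ᵇ 𝒴}
    (h : AlgSt.RepByAlgSpWith P (BasedFunctor.comp g Φ)) : AlgSt.RepByAlgSpWith P g := fun U y => by
  haveI : (BasedFunctor.comp g Φ).toFunctor.Faithful :=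
    faithful_of_repByAlgSp1 (repByAlgSp1_of_with h)
  haveI : (g.toFunctor ⋙ Φ.toFunctor).Faithful :=
    inferInstanceAs (BasedFunctor.comp g Φ).toFunctor.Faithful
  haveI : g.toFunctor.Faithful := Functor.Faithful.of_comp _ Φ.toFunctor
  exact exists_rep_transfer (postF Φ y g) (fpHom_postF _ _) (bijective_postF _ _) (h U _)

variable [FibCat.IsFibGrpd 𝒳.p] [FibCat.IsFibGrpd 𝒴.p] {f : 𝒳 ⥤ᵇ 𝒴}

/-- Charts are smooth on the preimage of an open substack on which the morphism is smooth. -/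
theorem smooth_restrict (hY : AlgSt.IsAlgStack Scheme.fppfPrecoverage 𝒴) {Q : 𝒳.obj → Prop}
    (hQ : AlgSt.IsOpenSubstack 𝒳 Q Scheme.fppfPrecoverage)
    (hsm : AlgSt.LocQ (LocP @Smooth) (BasedFunctor.comp (AlgSt.subIncl 𝒳 Q) f))
    {V : Over S} {y : FibCat.overCat V ⥤ᵇ 𝒴} (hy : AlgSt.RepByAlgSpWith (LocP @Smooth) y) (D : ChartOf f y)
    {C₁ : Over S} (j : C₁ ⟶ D.C) [IsOpenImmersion j.left]
    (hj : ∀ z, Q ((BasedFunctor.comp (AlgSt.overMap j) D.x).obj z)) : Smooth (j ≫ D.k).left := by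
  haveI := hQ.2.1.isStack.1
  let g := BasedFunctor.comp (AlgSt.subIncl 𝒳 Q) f
  haveI : FibCat.IsFibGrpd (FibCat.fp y f).p := isFibGrpd_fp
  haveI : FibCat.IsFibGrpd (FibCat.fp y g).p := isFibGrpd_fp
  have hi : AlgSt.IsImm (pushR y f (AlgSt.subIncl 𝒳 Q)) := repByAlgSpWith_pushR y f _
    (repByAlgSpWith_mono (fun _ _ _ _ _ h => repWith_mono
      (fun _ _ m (hm : IsOpenImmersion m) => inferInstanceAs (IsImmersion m)) h) hQ.2.2)
  obtain ⟨hfull, hfaith⟩ := Groth.Agent.S12774.result (𝒳 := FibCat.fp y g) (𝒴 := FibCat.fp y f)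
    inferInstance inferInstance (pushR y f (AlgSt.subIncl 𝒳 Q)) (Groth.Agent.S12868.result _ hi)
  haveI := hfull
  haveI := hfaith
  let c₁ : FibCat.overCat C₁ ⥤ᵇ FibCat.fp y g :=
    FibCat.fpLift (BasedFunctor.comp (AlgSt.overMap j) (BasedFunctor.comp D.c (FibCat.fpFst y f)))
      (liftFullSub Q (BasedFunctor.comp (AlgSt.overMap j) D.x) hj)
      (wL (AlgSt.overMap j) (wL D.c (FibCat.fpIso y f)))
  have e : BasedFunctor.comp c₁ (pushR y f (AlgSt.subIncl 𝒳 Q)) = BasedFunctor.comp (AlgSt.overMap j) D.c :=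
    Groth.Agent.ASt.basedFunctor_ext rfl
  have hc₁ : AlgSt.RepByAlgSpWith (LocP @Smooth) c₁ := by
    refine repByAlgSpWith_of_comp_fullFaithful (pushR y f (AlgSt.subIncl 𝒳 Q)) ?_
    rw [e]
    exact repByAlgSpWith_comp compLocal_smooth
      (repByAlgSpWith_overMap_locP (M := @Smooth) inferInstance) D.smooth
  have α : BasedFunctor.comp c₁ (FibCat.fpFst y g) ≅ AlgSt.overMap (j ≫ D.k) :=
    (eqToIso (Groth.Agent.ASt.basedFunctor_ext rfl)).trans ((wL (AlgSt.overMap j) D.α).trans (overMapComp j D.k))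
  exact prop_left_of_locP (smLoc_of_locQ isSmoothLocalST_locP hY.diag hsm hy hc₁ α)

/-- There is a largest open substack on which a morphism is smooth. -/
theorem exists_largest_smooth_open (hX : AlgSt.IsAlgStack Scheme.fppfPrecoverage 𝒳)
    (hY : AlgSt.IsAlgStack Scheme.fppfPrecoverage 𝒴) (f : 𝒳 ⥤ᵇ 𝒴) :
    ∃ Q : 𝒳.obj → Prop, AlgSt.IsOpenSubstack 𝒳 Q Scheme.fppfPrecoverage ∧
      AlgSt.LocQ (LocP @Smooth) (BasedFunctor.comp (AlgSt.subIncl 𝒳 Q) f) ∧
      ∀ Q' : 𝒳.obj → Prop, AlgSt.IsOpenSubstack 𝒳 Q' Scheme.fppfPrecoverage →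
        AlgSt.LocQ (LocP @Smooth) (BasedFunctor.comp (AlgSt.subIncl 𝒳 Q') f) → ∀ a, Q' a → Q a := by
  obtain ⟨V, y, hy, hys⟩ := hY.atlas
  obtain ⟨D⟩ := nonempty_chartOf hY.diag hX.atlas f y
  let ι := {W : D.C.left.Opens // Smooth (W.ι ≫ D.k.left)}
  let W : D.C.left.Opens := ⨆ i : ι, i.1
  have hW : Smooth (W.ι ≫ D.k.left) := by
    refine IsZariskiLocalAtSource.of_iSup_eq_top (fun i : ι => W.ι ⁻¹ᵁ i.1) ?_ fun i => ?_
    · refine eq_top_iff.2 fun z _ => ?_
      obtain ⟨i, hi⟩ := TopologicalSpace.Opens.mem_iSup.1 (show W.ι z ∈ W from z.2)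
      exact TopologicalSpace.Opens.mem_iSup.2 ⟨i, hi⟩
    · have hle : i.1 ≤ W := le_iSup (fun i : ι => i.1) i
      have hr : Set.range ((W.ι ⁻¹ᵁ i.1).ι ≫ W.ι) ⊆ Set.range i.1.ι := by
        rw [Scheme.Opens.range_ι]
        rintro _ ⟨z, rfl⟩
        exact z.2
      haveI := i.2
      rw [← Category.assoc, ← IsOpenImmersion.lift_fac i.1.ι ((W.ι ⁻¹ᵁ i.1).ι ≫ W.ι) hr, Category.assoc]
      infer_instance
  let C₀ : Over S := Over.mk (W.ι ≫ D.C.hom)
  let j : C₀ ⟶ D.C := Over.homMk W.ι rfl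
  haveI : IsOpenImmersion j.left := inferInstanceAs (IsOpenImmersion W.ι)
  let w := BasedFunctor.comp (AlgSt.overMap j) D.x
  have hw : AlgSt.RepByAlgSpWith (LocP @Smooth) w :=
    repByAlgSpWith_comp compLocal_smooth (repByAlgSpWith_overMap_locP (M := @Smooth) inferInstance) (D.x_smooth hy)
  let O := Set.range (AlgSt.Points.ofChart w)
  have hO : IsOpen O := by
    rw [show O = AlgSt.Points.ofChart w '' Set.univ from Set.image_univ.symm]
    exact isOpenMap_ofChart_of_smooth hw _ isOpen_univ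
  have hQ := isOpenSubstack_inOpen O hX hO
  haveI := hQ.2.1.isStack.1
  let c := liftFullSub (InOpen O) w fun z => by
    obtain ⟨X', ⟨⟨⟩⟩, k'⟩ := z
    exact (inOpen_chart_iff O w k').2 fun t => Set.mem_range_self _
  have hc : BasedFunctor.comp c (AlgSt.subIncl 𝒳 (InOpen O)) = w := liftFullSub_comp _ _ _
  have hcsm : AlgSt.RepByAlgSpWith (LocP @Smooth) c := repByAlgSpWith_lift_of_comp _ (by rw [hc]; exact hw)
  have hcs : AlgSt.RepByAlgSpWith IsSurjectiveMor c := by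
    refine repByAlgSpWith_surjective_of_isSurjective (repByAlgSp1_of_with hcsm) fun z => ?_
    obtain ⟨t, ht⟩ : AlgSt.Points.map (AlgSt.subIncl 𝒳 (InOpen O)) z ∈ O :=
      (range_subIncl_inOpen O).subset (Set.mem_range_self z)
    refine ⟨AlgSt.Points.ofChart (BasedFunctor.id (FibCat.overCat C₀)) t,
      injective_points_subIncl _ (inOpen_pull O) ?_⟩
    rw [← ht]
    rfl
  refine ⟨InOpen O, hQ, ⟨C₀, V, c, y, j ≫ D.k, ?_, hcsm, hcs, hy, ?_⟩, fun Q' hQ' hsm a ha => ?_⟩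
  · exact (eqToIso (Groth.Agent.ASt.basedFunctor_ext rfl)).trans ((wL (AlgSt.overMap j) D.sq).trans
      ((eqToIso (Groth.Agent.ASt.basedFunctor_ext rfl)).trans (wR (overMapComp j D.k) y)))
  · exact locP_of_prop_left hW
  · rw [eq_inOpen_range hQ'] at ha
    intro t
    let R := Set.range (AlgSt.Points.map (AlgSt.subIncl 𝒳 Q'))
    let W' : D.C.left.Opens := ⟨AlgSt.Points.ofChart D.x ⁻¹' R,
      (isOpen_range_subIncl hQ').preimage (continuous_ofChart_stack hX _)⟩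
    let C' : Over S := Over.mk (W'.ι ≫ D.C.hom)
    let j' : C' ⟶ D.C := Over.homMk W'.ι rfl
    haveI : IsOpenImmersion j'.left := inferInstanceAs (IsOpenImmersion W'.ι)
    have hsW : Smooth (W'.ι ≫ D.k.left) := smooth_restrict hY hQ' hsm hy D j' fun z => by
      obtain ⟨X', ⟨⟨⟩⟩, k'⟩ := z
      rw [eq_inOpen_range hQ']
      refine (inOpen_chart_iff R (BasedFunctor.comp (AlgSt.overMap j') D.x) k').2 fun s => ?_
      rw [ofChart_overMap]
      exact (k'.left s).2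
    obtain ⟨s, hs⟩ := surjective_chart (D.x_surj hys) (AlgSt.Points.ofChart (objFun a rfl) t)
    have hsW' : s ∈ W' := by
      change AlgSt.Points.ofChart D.x s ∈ R
      rw [hs]
      exact ha t
    have : W' ≤ W := le_iSup (fun i : ι => i.1) ⟨W', hsW⟩
    refine ⟨⟨s, this hsW'⟩, ?_⟩
    rw [← hs]
    exact ofChart_overMap j D.x _

end Groth.Agent.DecSec
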