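import Groth.Agent.DecSec.SmoothOpen
import Groth.Agent.FppfSrc.Scheme
import Groth.Agent.ASp.SmST

/-! The smooth open substack and smooth precomposition. -/

set_option autoImplicit false
set_option backward.isDefEq.respectTransparency false
set_option backward.isDefEq.respectTransparency.types false

universe u

open CategoryTheory CategoryTheory.Limits AlgebraicGeometry Opposite

namespace Groth.Agent.DecSec

open _root_.AlgSp Groth.Agent.ASp Groth.Agent.ASt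

variable {S : Scheme.{u}} {𝒳' 𝒳 𝒴 : AlgSt.Cat S} [FibCat.IsFibGrpd 𝒳'.p] [FibCat.IsFibGrpd 𝒳.p] [FibCat.IsFibGrpd 𝒴.p]

theorem map_ofChart_objFun (g : 𝒳' ⥤ᵇ 𝒳) (a : 𝒳'.obj) (t : ↥(𝒳'.p.obj a).left) :
    AlgSt.Points.map g (AlgSt.Points.ofChart (objFun a (rfl : 𝒳'.p.obj a = _)) t) =
      AlgSt.Points.ofChart (objFun (g.obj a) ((g.w_obj a).trans rfl)) t := by
  rw [← ofChart_comp]
  exact ofChart_congr (funIso (y := BasedFunctor.comp (objFun a rfl) g) (y' := objFun (g.obj a) ((g.w_obj a).trans rfl))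
    (facMap (pullHom (g.obj a) ((g.w_obj a).trans rfl) (𝟙 _)) (g.map (pullHom a rfl (𝟙 _)))
      (eqToHom (((BasedFunctor.comp (objFun a rfl) g).w_obj _).trans ((objFun (g.obj a) ((g.w_obj a).trans rfl)).w_obj _).symm))
      (by simp [map_pullHom, map_w])) (map_facMap _ _ _ _)) t

/-- Preimages of opens in terms of objects. -/
theorem inOpen_map_iff (g : 𝒳' ⥤ᵇ 𝒳) (R : Set (AlgSt.Points 𝒳)) (a : 𝒳'.obj) :
    InOpen R (g.obj a) ↔ InOpen (AlgSt.Points.map g ⁻¹' R) a := by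
  rw [inOpen_iff R ((g.w_obj a).trans rfl), inOpen_iff (AlgSt.Points.map g ⁻¹' R) (rfl : 𝒳'.p.obj a = _)]
  exact forall_congr' fun t => by rw [Set.mem_preimage, map_ofChart_objFun]

/-- An open part of a chart on which a morphism is smooth gives an open substack with the same property. -/
theorem exists_open_of_smooth (hX : AlgSt.IsAlgStack Scheme.fppfPrecoverage 𝒳) {f : 𝒳 ⥤ᵇ 𝒴} {V : Over S}
    {y : FibCat.overCat V ⥤ᵇ 𝒴} (hy : AlgSt.RepByAlgSpWith (LocP @Smooth) y) (D : ChartOf f y)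
    (W : D.C.left.Opens) (hW : Smooth (W.ι ≫ D.k.left)) :
    ∃ Q : 𝒳.obj → Prop, AlgSt.IsOpenSubstack 𝒳 Q Scheme.fppfPrecoverage ∧
      AlgSt.LocQ (LocP @Smooth) (BasedFunctor.comp (AlgSt.subIncl 𝒳 Q) f) ∧
      Set.range (AlgSt.Points.map (AlgSt.subIncl 𝒳 Q)) = AlgSt.Points.ofChart D.x '' W := by
  let C₀ : Over S := Over.mk (W.ι ≫ D.C.hom)
  let j : C₀ ⟶ D.C := Over.homMk W.ι rfl
  haveI : IsOpenImmersion j.left := inferInstanceAs (IsOpenImmersion W.ι)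
  let w := BasedFunctor.comp (AlgSt.overMap j) D.x
  have hw : AlgSt.RepByAlgSpWith (LocP @Smooth) w :=
    repByAlgSpWith_comp compLocal_smooth (repByAlgSpWith_overMap_locP (M := @Smooth) inferInstance) (D.x_smooth hy)
  let O := Set.range (AlgSt.Points.ofChart w)
  have hO : IsOpen O := by
    rw [show O = AlgSt.Points.ofChart w '' Set.univ from Set.image_univ.symm]
    exact isOpenMap_ofChart_of_smooth hw _ isOpen_univ
  have hQ := isOpenSubstack_inOpen O hX hO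
  haveI := hQ.2.1.isStack.1
  let c := liftFullSub (InOpen O) w fun z => by
    obtain ⟨X', ⟨⟨⟩⟩, k'⟩ := z
    exact (inOpen_chart_iff O w k').2 fun t => Set.mem_range_self _
  have hc : BasedFunctor.comp c (AlgSt.subIncl 𝒳 (InOpen O)) = w := liftFullSub_comp _ _ _
  have hcsm : AlgSt.RepByAlgSpWith (LocP @Smooth) c := repByAlgSpWith_lift_of_comp _ (by rw [hc]; exact hw)
  have hcs : AlgSt.RepByAlgSpWith IsSurjectiveMor c := by
    refine repByAlgSpWith_surjective_of_isSurjective (repByAlgSp1_of_with hcsm) fun z => ?_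
    obtain ⟨t, ht⟩ : AlgSt.Points.map (AlgSt.subIncl 𝒳 (InOpen O)) z ∈ O :=
      (range_subIncl_inOpen O).subset (Set.mem_range_self z)
    refine ⟨AlgSt.Points.ofChart (BasedFunctor.id (FibCat.overCat C₀)) t,
      injective_points_subIncl _ (inOpen_pull O) ?_⟩
    rw [← ht]
    rfl
  refine ⟨InOpen O, hQ, ⟨C₀, V, c, y, j ≫ D.k, ?_, hcsm, hcs, hy, locP_of_prop_left hW⟩, ?_⟩
  · exact (eqToIso (Groth.Agent.ASt.basedFunctor_ext rfl)).trans ((wL (AlgSt.overMap j) D.sq).trans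
      ((eqToIso (Groth.Agent.ASt.basedFunctor_ext rfl)).trans (wR (overMapComp j D.k) y)))
  · rw [range_subIncl_inOpen]
    ext z
    constructor
    · rintro ⟨s, rfl⟩
      exact ⟨_, s.2, (ofChart_overMap j D.x s).symm⟩
    · rintro ⟨s, hs, rfl⟩
      exact ⟨⟨s, hs⟩, ofChart_overMap j D.x _⟩

/-- The chart of a composite from charts of the two morphisms, as a chart. -/
noncomputable def compChartOf {g : 𝒳' ⥤ᵇ 𝒳} {f : 𝒳 ⥤ᵇ 𝒴} {W : Over S} {w : FibCat.overCat W ⥤ᵇ 𝒴}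
    (E : ChartOf f w) (D : ChartOf g E.x) : ChartOf (BasedFunctor.comp g f) w where
  C := D.C
  c := ChartOf.compChart E D
  smooth := ChartOf.compChart_smooth E D
  surj := by
    haveI : FibCat.IsFibGrpd (FibCat.fp w f).p := isFibGrpd_fp
    haveI : FibCat.IsFibGrpd (FibCat.fp E.x g).p := isFibGrpd_fp
    haveI : FibCat.IsFibGrpd (FibCat.fp g E.x).p := isFibGrpd_fp
    haveI : FibCat.IsFibGrpd (FibCat.fp g (BasedFunctor.comp E.c (FibCat.fpSnd w f))).p := isFibGrpd_fp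
    haveI : FibCat.IsFibGrpd (FibCat.fp g (FibCat.fpSnd w f)).p := isFibGrpd_fp
    haveI : FibCat.IsFibGrpd (FibCat.fp w (BasedFunctor.comp g f)).p := isFibGrpd_fp
    exact repByAlgSpWith_postcomp _ (isEquivOver_pasteG w f g) (repByAlgSpWith_comp compLocal_surjective D.surj
      (repByAlgSpWith_precomp (isEquivOver_swapF E.x g) (repByAlgSpWith_pushR g (FibCat.fpSnd w f) E.c E.surj)))
  k := D.k ≫ E.k
  α := ChartOf.compChartIso E D

theorem compChartOf_x {g : 𝒳' ⥤ᵇ 𝒳} {f : 𝒳 ⥤ᵇ 𝒴} {W : Over S} {w : FibCat.overCat W ⥤ᵇ 𝒴}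
    (E : ChartOf f w) (D : ChartOf g E.x) : (compChartOf E D).x = D.x :=
  Groth.Agent.ASt.basedFunctor_ext rfl

/-- The largest smooth open substack pulls back along smooth morphisms. -/
theorem largest_smooth_open_comp (hX' : AlgSt.IsAlgStack Scheme.fppfPrecoverage 𝒳')
    (hX : AlgSt.IsAlgStack Scheme.fppfPrecoverage 𝒳) (hY : AlgSt.IsAlgStack Scheme.fppfPrecoverage 𝒴)
    (g : 𝒳' ⥤ᵇ 𝒳) (hg : AlgSt.LocQ (LocP @Smooth) g) (f : 𝒳 ⥤ᵇ 𝒴)
    (Q : 𝒳.obj → Prop) (hQ₁ : AlgSt.IsOpenSubstack 𝒳 Q Scheme.fppfPrecoverage)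
    (hQ₂ : AlgSt.LocQ (LocP @Smooth) (BasedFunctor.comp (AlgSt.subIncl 𝒳 Q) f))
    (hQ₃ : ∀ Q' : 𝒳.obj → Prop, AlgSt.IsOpenSubstack 𝒳 Q' Scheme.fppfPrecoverage →
      AlgSt.LocQ (LocP @Smooth) (BasedFunctor.comp (AlgSt.subIncl 𝒳 Q') f) → ∀ a, Q' a → Q a) :
    AlgSt.IsOpenSubstack 𝒳' (fun a ↦ Q (g.obj a)) Scheme.fppfPrecoverage ∧
      AlgSt.LocQ (LocP @Smooth)
        (BasedFunctor.comp (AlgSt.subIncl 𝒳' (fun a ↦ Q (g.obj a))) (BasedFunctor.comp g f)) ∧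
      ∀ Q' : 𝒳'.obj → Prop, AlgSt.IsOpenSubstack 𝒳' Q' Scheme.fppfPrecoverage →
        AlgSt.LocQ (LocP @Smooth) (BasedFunctor.comp (AlgSt.subIncl 𝒳' Q') (BasedFunctor.comp g f)) →
        ∀ a, Q' a → Q (g.obj a) := by
  obtain ⟨W, w, hw, hws⟩ := hY.atlas
  obtain ⟨E⟩ := nonempty_chartOf hY.diag hX.atlas f w
  obtain ⟨D⟩ := nonempty_chartOf hX.diag hX'.atlas g E.x
  haveI hDs : Smooth D.k.left := prop_left_of_locP (D.prop isSmoothLocalST_locP hX.diag (E.x_smooth hw) hg)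
  let R := Set.range (AlgSt.Points.map (AlgSt.subIncl 𝒳 Q))
  have hR : IsOpen R := isOpen_range_subIncl hQ₁
  let R' := AlgSt.Points.map g ⁻¹' R
  have hR' : IsOpen R' := hR.preimage (continuous_map_stack hX g)
  have hQeq : (fun a ↦ Q (g.obj a)) = InOpen R' := funext fun a => propext (by
    conv_lhs => rw [eq_inOpen_range hQ₁]
    exact inOpen_map_iff g R a)
  have hpt : ∀ s, AlgSt.Points.map g (AlgSt.Points.ofChart D.x s) = AlgSt.Points.ofChart E.x (D.k.left s) := fun s => by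
    rw [← ofChart_comp, ofChart_congr D.sq, ofChart_overMap]
  rw [hQeq]
  refine ⟨isOpenSubstack_inOpen R' hX' hR', ?_, fun Q' hQ' hsm a ha => ?_⟩
  · let U₁ : E.C.left.Opens := ⟨AlgSt.Points.ofChart E.x ⁻¹' R, hR.preimage (continuous_ofChart_stack hX _)⟩
    let C₁ : Over S := Over.mk (U₁.ι ≫ E.C.hom)
    let j₁ : C₁ ⟶ E.C := Over.homMk U₁.ι rfl
    haveI : IsOpenImmersion j₁.left := inferInstanceAs (IsOpenImmersion U₁.ι)
    haveI hE₁ : Smooth (U₁.ι ≫ E.k.left) := smooth_restrict hY hQ₁ hQ₂ hw E j₁ fun z => by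
      obtain ⟨X', ⟨⟨⟩⟩, k'⟩ := z
      rw [eq_inOpen_range hQ₁]
      refine (inOpen_chart_iff R (BasedFunctor.comp (AlgSt.overMap j₁) E.x) k').2 fun s => ?_
      rw [ofChart_overMap]
      exact (k'.left s).2
    let U₂ : D.C.left.Opens := D.k.left ⁻¹ᵁ U₁
    have hU₂ : Smooth (U₂.ι ≫ (compChartOf E D).k.left) := by
      change Smooth (U₂.ι ≫ D.k.left ≫ E.k.left)
      rw [← Category.assoc, ← morphismRestrict_ι, Category.assoc]
      infer_instance
    obtain ⟨Q₂, hQ₂o, hQ₂s, hQ₂r⟩ := exists_open_of_smooth hX' hw (compChartOf E D) U₂ hU₂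
    have hr : Set.range (AlgSt.Points.map (AlgSt.subIncl 𝒳' Q₂)) = R' := by
      rw [hQ₂r]
      refine Set.Subset.antisymm ?_ fun z hz => ?_
      · rintro _ ⟨s, hs, rfl⟩
        change AlgSt.Points.map g _ ∈ R
        rw [compChartOf_x, hpt]
        exact hs
      · obtain ⟨s, rfl⟩ := surjective_chart (D.x_surj (E.x_surj hws)) z
        refine ⟨s, ?_, by rw [compChartOf_x]⟩
        change AlgSt.Points.ofChart E.x (D.k.left s) ∈ R
        rw [← hpt]
        exact hz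
    rwa [← hr, ← eq_inOpen_range hQ₂o]
  · let R₂ := Set.range (AlgSt.Points.map (AlgSt.subIncl 𝒳' Q'))
    let U : D.C.left.Opens := ⟨AlgSt.Points.ofChart D.x ⁻¹' R₂,
      (isOpen_range_subIncl hQ').preimage (continuous_ofChart_stack hX' _)⟩
    let C₂ : Over S := Over.mk (U.ι ≫ D.C.hom)
    let j₂ : C₂ ⟶ (compChartOf E D).C := Over.homMk U.ι rfl
    haveI : IsOpenImmersion j₂.left := inferInstanceAs (IsOpenImmersion U.ι)
    have hsU : Smooth (U.ι ≫ D.k.left ≫ E.k.left) := smooth_restrict hY hQ' hsm hw (compChartOf E D) j₂ fun z => by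
      obtain ⟨X', ⟨⟨⟩⟩, k'⟩ := z
      rw [eq_inOpen_range hQ']
      refine (inOpen_chart_iff R₂ (BasedFunctor.comp (AlgSt.overMap j₂) (compChartOf E D).x) k').2 fun s => ?_
      rw [ofChart_overMap, compChartOf_x]
      exact (k'.left s).2
    let U₃ : E.C.left.Opens := ⟨D.k.left '' (U : Set ↥D.C.left), D.k.left.isOpenMap _ U.2⟩
    have hsub : Set.range (U.ι ≫ D.k.left) ⊆ Set.range U₃.ι := by
      rw [Scheme.Opens.range_ι]
      rintro _ ⟨s, rfl⟩
      exact ⟨U.ι s, s.2, rfl⟩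
    let l := IsOpenImmersion.lift U₃.ι (U.ι ≫ D.k.left) hsub
    have hl : l ≫ U₃.ι = U.ι ≫ D.k.left := IsOpenImmersion.lift_fac _ _ _
    haveI : Smooth l := by
      haveI : Smooth (l ≫ U₃.ι) := by rw [hl]; infer_instance
      exact MorphismProperty.of_postcomp (W := @Smooth) (W' := @IsOpenImmersion) l U₃.ι inferInstance ‹_›
    haveI : Surjective l := ⟨fun ⟨e, s, hs, he⟩ => ⟨⟨s, hs⟩, U₃.ι.injective (by
      rw [← Scheme.Hom.comp_apply, hl]
      exact he)⟩⟩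
    haveI : Smooth (l ≫ U₃.ι ≫ E.k.left) := by rw [← Category.assoc, hl, Category.assoc]; exact hsU
    obtain ⟨Q₃, hQ₃o, hQ₃s, hQ₃r⟩ := exists_open_of_smooth hX hw E U₃
      (Groth.Agent.FppfSrc.smooth_of_precomp_fppf l (U₃.ι ≫ E.k.left))

    refine hQ₃ Q₃ hQ₃o hQ₃s _ ?_
    rw [eq_inOpen_range hQ₃o, inOpen_map_iff]
    rw [eq_inOpen_range hQ'] at ha
    intro t
    obtain ⟨s, hs⟩ := surjective_chart (D.x_surj (E.x_surj hws)) (AlgSt.Points.ofChart (objFun a rfl) t)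
    rw [Set.mem_preimage, ← hs, hQ₃r, hpt]
    refine ⟨D.k.left s, ⟨s, ?_, rfl⟩, rfl⟩
    change AlgSt.Points.ofChart D.x s ∈ R₂
    rw [hs]
    exact ha t

end Groth.Agent.DecSec
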