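import Groth.Agent.DecSec.SmoothOpenComp
import Groth.Agent.ASt.LocQDesc
import Groth.Agent.ASt.FpEtale
import Groth.Agent.PointBC.Basic
import Groth.Agent.FlatStage.Smooth

/-! The smooth open substack and flat base change. -/

set_option autoImplicit false
set_option backward.isDefEq.respectTransparency false
set_option backward.isDefEq.respectTransparency.types false
set_option linter.style.haveILetI false

universe u

open CategoryTheory CategoryTheory.Limits AlgebraicGeometry Opposite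

namespace Groth.Agent.DecSec

open _root_.AlgSp Groth.Agent.ASp Groth.Agent.ASt

variable {S : Scheme.{u}} {𝒳 𝒴 𝒵 : AlgSt.Cat S} [FibCat.IsFibGrpd 𝒳.p] [FibCat.IsFibGrpd 𝒴.p]
  [FibCat.IsFibGrpd 𝒵.p]

/-- A chart of a base change lying smoothly and surjectively over the fibre product of the charts. -/
theorem exists_bc_chartOf {f : 𝒳 ⥤ᵇ 𝒴} {V : Over S} {y : FibCat.overCat V ⥤ᵇ 𝒴} (D : ChartOf f y) (g : 𝒵 ⥤ᵇ 𝒴)
    {T : Over S} {e : FibCat.overCat T ⥤ᵇ 𝒵} {l : T ⟶ V}
    (sq : BasedFunctor.comp e g ≅ BasedFunctor.comp (AlgSt.overMap l) y) :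
    ∃ (D' : ChartOf (FibCat.fpFst g f) e) (m : D'.C ⟶ D.C) (hml : m.left ≫ D.k.left = D'.k.left ≫ l.left),
      Smooth (pullback.lift m.left D'.k.left hml) ∧ Surjective (pullback.lift m.left D'.k.left hml) ∧
      Nonempty (BasedFunctor.comp D'.x (FibCat.fpSnd g f) ≅ BasedFunctor.comp (AlgSt.overMap m) D.x) := by
  haveI : FibCat.IsFibGrpd (FibCat.fp g f).p := isFibGrpd_fp
  have hr : AlgSt.RepByAlgSp1 (AlgSt.overMap D.k) :=
    repByAlgSp1_of_with (repByAlgSpWith_overMap (P := ⊤) (σ := D.k) fun _ _ _ _ => trivial)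
  obtain ⟨hs, hA, C, p, G, h, hpe, hps, hcomp, ⟨γ⟩, hsec, hG⟩ := exists_chart_of_fib hr (AlgSt.overMap l)
  haveI : FibCat.IsFibGrpd (FibCat.fp (AlgSt.overMap l) (AlgSt.overMap D.k)).p := isFibGrpd_fp
  haveI : FibCat.IsFibGrpd (FibCat.fp f y).p := isFibGrpd_fp
  haveI : FibCat.IsFibGrpd (FibCat.fp y f).p := isFibGrpd_fp
  let d : FibCat.overCat D.C ⥤ᵇ FibCat.fp f y := BasedFunctor.comp D.c (swapF y f)
  haveI : FibCat.IsFibGrpd (FibCat.fp (AlgSt.overMap l) (BasedFunctor.comp d (FibCat.fpSnd f y))).p := isFibGrpd_fp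
  haveI : FibCat.IsFibGrpd (FibCat.fp (AlgSt.overMap l) (FibCat.fpSnd f y)).p := isFibGrpd_fp
  haveI : FibCat.IsFibGrpd (FibCat.fp f (BasedFunctor.comp (AlgSt.overMap l) y)).p := isFibGrpd_fp
  haveI : FibCat.IsFibGrpd (FibCat.fp f (BasedFunctor.comp e g)).p := isFibGrpd_fp
  haveI : FibCat.IsFibGrpd (FibCat.fp e (FibCat.fpFst g f)).p := isFibGrpd_fp
  let c₁ := BasedFunctor.comp G
    (FibCat.fpLift (FibCat.fpFst (AlgSt.overMap l) (AlgSt.overMap D.k))
      (FibCat.fpSnd (AlgSt.overMap l) (AlgSt.overMap D.k))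
      ((FibCat.fpIso (AlgSt.overMap l) (AlgSt.overMap D.k)).trans (wL _ D.α.symm)) :
      FibCat.fp (AlgSt.overMap l) (AlgSt.overMap D.k) ⥤ᵇ
        FibCat.fp (AlgSt.overMap l) (BasedFunctor.comp d (FibCat.fpSnd f y)))
  let c₂ := BasedFunctor.comp c₁ (pushR (AlgSt.overMap l) (FibCat.fpSnd f y) d)
  let c₃ := BasedFunctor.comp c₂ (pasteG f y (AlgSt.overMap l))
  let c₄ := BasedFunctor.comp c₃
    (FibCat.fpLift (FibCat.fpFst f (BasedFunctor.comp (AlgSt.overMap l) y))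
      (FibCat.fpSnd f (BasedFunctor.comp (AlgSt.overMap l) y))
      ((FibCat.fpIso f (BasedFunctor.comp (AlgSt.overMap l) y)).trans (wL _ sq.symm)) :
      FibCat.fp f (BasedFunctor.comp (AlgSt.overMap l) y) ⥤ᵇ FibCat.fp f (BasedFunctor.comp e g))
  let c := BasedFunctor.comp c₄ (bcJ f g e)
  have key : ∀ {Q : MorphismProperty (Sp S)} [Q.RespectsIso], CompLocal Q → AlgSt.RepByAlgSpWith Q G →
      AlgSt.RepByAlgSpWith Q D.c → AlgSt.RepByAlgSpWith Q c := fun hQ h1 h2 =>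
    repByAlgSpWith_postcomp _ (isEquivOver_bcJ f g e)
      (repByAlgSpWith_postcomp _ (isEquivOver_changeR sq.symm f)
        (repByAlgSpWith_postcomp _ (isEquivOver_pasteG f y (AlgSt.overMap l))
          (repByAlgSpWith_comp hQ (repByAlgSpWith_postcomp _ (isEquivOver_changeR D.α.symm (AlgSt.overMap l)) h1)
            (repByAlgSpWith_pushR (AlgSt.overMap l) (FibCat.fpSnd f y) d
              (repByAlgSpWith_postcomp _ (isEquivOver_swapF y f) h2)))))
  let D' : ChartOf (FibCat.fpFst g f) e := ⟨C, c,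
    key compLocal_smooth (hG (P := LocP @Smooth) hpe fun v hv => locP_of_repWith (repWith_yon_map
      (haveI : Etale v.left := hv; inferInstance))) D.smooth,
    key compLocal_surjective (hG (P := IsSurjectiveMor) hps fun v hv =>
      surjective_map_of_repWith (repWith_yon_map hv)) D.surj, h, γ⟩
  let G₂ := BasedFunctor.comp G (FibCat.fpSnd (AlgSt.overMap l) (AlgSt.overMap D.k))
  let m : C ⟶ D.C := eqToHom (G₂.w_obj (ov (𝟙 C))).symm ≫ (G₂.obj (ov (𝟙 C))).hom
  have eG : BasedFunctor.comp D'.x (FibCat.fpSnd g f) = BasedFunctor.comp G₂ D.x :=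
    Groth.Agent.ASt.basedFunctor_ext rfl
  have θ : G₂ ≅ AlgSt.overMap m :=
    funIso (y := G₂) (y' := AlgSt.overMap m)
      (Over.homMk (eqToHom (G₂.w_obj (ov (𝟙 C)))) (by
        change eqToHom _ ≫ (𝟙 C ≫ eqToHom _ ≫ (G₂.obj (ov (𝟙 C))).hom) = _
        simp) : G₂.obj (ov (𝟙 C)) ⟶ Over.mk (𝟙 C ≫ m)) rfl
  let q : (⟨fib (AlgSt.overMap l) (AlgSt.overMap D.k), hs⟩ : Sp S) ⟶ (yon S).obj D.C :=
    ObjectProperty.homMk (fibSnd l D.k)
  have hq : p ≫ q = (yon S).map m := by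
    obtain ⟨m₀, hm₀⟩ := (yon S).map_surjective (p ≫ q)
    have e : m₀ = m := by
      have e1 := congrArg (fun k : (yon S).obj C ⟶ (yon S).obj D.C => (k.hom.app (op C) ⟨𝟙 C⟩).down) hm₀
      refine ((Category.id_comp m₀).symm.trans e1).trans ?_
      change ((fibSnd l D.k).app (op C) (p.hom.app (op C) ⟨𝟙 C⟩)).down = m
      rw [hsec (𝟙 C)]
      rfl
    rw [← hm₀, e]
  have hpb : IsPullback q (ObjectProperty.homMk (fibπ (AlgSt.overMap l) (AlgSt.overMap D.k)))
      ((yon S).map D.k) ((yon S).map l) :=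
    IsPullback.of_map_of_faithful (sheafToPresheaf (J S) (Type (u + 1))) (isPullback_overMap l D.k)
  have hml₀ : m ≫ D.k = h ≫ l := (yon S).map_injective (by
    rw [(yon S).map_comp m D.k, (yon S).map_comp h l, ← hq, ← hcomp, Category.assoc, Category.assoc, hpb.w])
  have hml : m.left ≫ D.k.left = h.left ≫ l.left := congrArg CommaMorphism.left hml₀
  let P : Over S := Over.mk (pullback.fst D.k.left l.left ≫ D.C.hom)
  let p₁ : P ⟶ D.C := Over.homMk (pullback.fst D.k.left l.left) rfl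
  let p₂ : P ⟶ T := Over.homMk (pullback.snd D.k.left l.left) (by
    change _ = pullback.fst D.k.left l.left ≫ D.C.hom
    rw [← Over.w D.k, ← Over.w l, pullback.condition_assoc])
  have hP : IsPullback p₁ p₂ D.k l :=
    IsPullback.of_map_of_faithful (Over.forget S) (IsPullback.of_hasPullback D.k.left l.left)
  let φ : C ⟶ P := Over.homMk (pullback.lift m.left h.left hml) (by
    change _ ≫ pullback.fst _ _ ≫ D.C.hom = _
    rw [pullback.lift_fst_assoc, Over.w m])
  let i := hpb.isoIsPullback _ _ (hP.map (yon S))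
  have hi : p ≫ i.hom = (yon S).map φ := by
    refine (hP.map (yon S)).hom_ext ?_ ?_
    · rw [Category.assoc, IsPullback.isoIsPullback_hom_fst, hq, ← Functor.map_comp]
      exact congrArg _ (Over.OverMorphism.ext (pullback.lift_fst _ _ _).symm)
    · rw [Category.assoc, IsPullback.isoIsPullback_hom_snd, hcomp, ← Functor.map_comp]
      exact congrArg _ (Over.OverMorphism.ext (pullback.lift_snd _ _ _).symm)
  refine ⟨D', m, hml, ?_, ?_, ⟨(eqToIso eG).trans (wR θ D.x)⟩⟩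
  · have h1 : LocP @Smooth ((yon S).map φ) := by
      rw [← hi]
      exact (MorphismProperty.cancel_right_of_respectsIso _ p i.hom).2 (locP_of_repWith
        (repWith_mono (fun _ _ a (ha : Etale a) => (haveI := ha; inferInstance : Smooth a)) hpe))
    exact prop_left_of_locP (k := φ) h1
  · refine surjective_left_of_map (l := φ) ?_
    rw [← hi]
    exact (MorphismProperty.cancel_right_of_respectsIso IsSurjectiveMor p i.hom).2 (surjective_map_of_repWith hps)

/-- A point of a fibre product near which the projection is smooth lies over a smooth point. -/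
theorem exists_smooth_nhd_of_flat_bc {X Y Y' : Scheme.{u}} (f : X ⟶ Y) (g : Y' ⟶ Y) [Flat g]
    (h : LocallyOfFinitePresentation g ∨ LocallyOfFinitePresentation f) (U : (pullback f g).Opens)
    [hU : Smooth (U.ι ≫ pullback.snd f g)] (x : ↑(pullback f g)) (hx : x ∈ U) :
    ∃ N : X.Opens, pullback.fst f g x ∈ N ∧ Smooth (N.ι ≫ f) := by
  rcases h with hg | hf
  · let N₀ : X.Opens := ⟨pullback.fst f g '' (U : Set ↑(pullback f g)), (pullback.fst f g).isOpenMap _ U.2⟩
    have hsub : Set.range (U.ι ≫ pullback.fst f g) ⊆ Set.range N₀.ι := by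
      rw [Scheme.Opens.range_ι]
      rintro _ ⟨s, rfl⟩
      exact ⟨U.ι s, s.2, rfl⟩
    let l := IsOpenImmersion.lift N₀.ι (U.ι ≫ pullback.fst f g) hsub
    have hl : l ≫ N₀.ι = U.ι ≫ pullback.fst f g := IsOpenImmersion.lift_fac _ _ _
    haveI : Flat l := by
      haveI : Flat (l ≫ N₀.ι) := by rw [hl]; infer_instance
      exact MorphismProperty.of_postcomp (W := @Flat) (W' := @IsOpenImmersion) l N₀.ι inferInstance ‹_›
    haveI : LocallyOfFinitePresentation l := by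
      haveI : LocallyOfFinitePresentation (l ≫ N₀.ι) := by rw [hl]; infer_instance
      exact MorphismProperty.of_postcomp (W := @LocallyOfFinitePresentation) (W' := @IsOpenImmersion) l N₀.ι
        inferInstance ‹_›
    haveI : Surjective l := ⟨fun ⟨e, s, hs, he⟩ => ⟨⟨s, hs⟩, N₀.ι.injective (by
      rw [← Scheme.Hom.comp_apply, hl]
      exact he)⟩⟩
    have e1 : l ≫ N₀.ι ≫ f = (U.ι ≫ pullback.snd f g) ≫ g := by
      rw [← Category.assoc, hl, Category.assoc, Category.assoc, pullback.condition]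
    haveI : LocallyOfFinitePresentation (l ≫ N₀.ι ≫ f) := by rw [e1]; infer_instance
    haveI : LocallyOfFinitePresentation (N₀.ι ≫ f) :=
      Groth.Agent.FppfSrc.locallyOfFinitePresentation_of_precomp_fppf l _
    haveI : Flat (N₀.ι ≫ f) := Groth.Agent.FppfSrc.of_precomp_fppf (P := @Flat)
      Groth.Agent.FppfSrc.descendsFppfSource_flat l _ (by rw [e1]; infer_instance)
    let x₀ : ↥(pullback.fst f g ⁻¹ᵁ N₀) := ⟨x, x, hx, rfl⟩
    obtain ⟨N, hxN, hN⟩ := Groth.Agent.FlatStage.exists_smooth_nhd_of_baseChange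
      ((isPullback_morphismRestrict (pullback.fst f g) N₀).paste_vert (IsPullback.of_hasPullback f g))
      x₀ (by
        refine ⟨(pullback.fst f g ⁻¹ᵁ N₀).ι ⁻¹ᵁ U, hx, ?_⟩
        have hr : Set.range (((pullback.fst f g ⁻¹ᵁ N₀).ι ⁻¹ᵁ U).ι ≫ (pullback.fst f g ⁻¹ᵁ N₀).ι) ⊆
            Set.range U.ι := by
          rw [Scheme.Opens.range_ι]
          rintro _ ⟨s, rfl⟩
          exact s.2
        rw [← Category.assoc, ← IsOpenImmersion.lift_fac U.ι _ hr, Category.assoc]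
        infer_instance)
      (Flat.stalkMap _ _)
    refine ⟨N₀.ι ''ᵁ N, ⟨_, hxN, ?_⟩, ?_⟩
    · exact congr($(morphismRestrict_ι (pullback.fst f g) N₀) x₀)
    · rw [← Scheme.Hom.isoImage_inv_ι N₀.ι N]
      simp only [Category.assoc]
      infer_instance
  · haveI := hf
    exact (Groth.Agent.PointBC.smooth_nhd_iff f g x (Or.inr inferInstance)).1 ⟨U, hx, hU⟩

/-- The largest smooth open substack pulls back along flat morphisms. -/
theorem largest_smooth_open_fp (hX : AlgSt.IsAlgStack Scheme.fppfPrecoverage 𝒳)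
    (hY : AlgSt.IsAlgStack Scheme.fppfPrecoverage 𝒴) (hZ : AlgSt.IsAlgStack Scheme.fppfPrecoverage 𝒵)
    (f : 𝒳 ⥤ᵇ 𝒴) (g : 𝒵 ⥤ᵇ 𝒴) (hg : AlgSt.LocQ (LocP @Flat) g)
    (hfp : AlgSt.LocQ (LocP @LocallyOfFinitePresentation) g ∨ AlgSt.LocQ (LocP @LocallyOfFinitePresentation) f)
    (Q : 𝒳.obj → Prop) (hQ₁ : AlgSt.IsOpenSubstack 𝒳 Q Scheme.fppfPrecoverage)
    (hQ₂ : AlgSt.LocQ (LocP @Smooth) (BasedFunctor.comp (AlgSt.subIncl 𝒳 Q) f))
    (hQ₃ : ∀ Q' : 𝒳.obj → Prop, AlgSt.IsOpenSubstack 𝒳 Q' Scheme.fppfPrecoverage →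
      AlgSt.LocQ (LocP @Smooth) (BasedFunctor.comp (AlgSt.subIncl 𝒳 Q') f) → ∀ a, Q' a → Q a) :
    AlgSt.IsOpenSubstack (FibCat.fp g f) (fun b ↦ Q b.obj.snd) Scheme.fppfPrecoverage ∧
      AlgSt.LocQ (LocP @Smooth)
        (BasedFunctor.comp (AlgSt.subIncl (FibCat.fp g f) fun b ↦ Q b.obj.snd) (FibCat.fpFst g f)) ∧
      ∀ Q' : (FibCat.fp g f).obj → Prop, AlgSt.IsOpenSubstack (FibCat.fp g f) Q' Scheme.fppfPrecoverage →
        AlgSt.LocQ (LocP @Smooth) (BasedFunctor.comp (AlgSt.subIncl (FibCat.fp g f) Q') (FibCat.fpFst g f)) →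
        ∀ b, Q' b → Q b.obj.snd := by
  haveI : FibCat.IsFibGrpd (FibCat.fp g f).p := isFibGrpd_fp
  have hF := isAlgStack_fp_any hZ hX hY g f
  obtain ⟨V, v, hv, hvs⟩ := hY.atlas
  obtain ⟨E⟩ := nonempty_chartOf hY.diag hZ.atlas g v
  obtain ⟨D⟩ := nonempty_chartOf hY.diag hX.atlas f v
  haveI hEf : Flat E.k.left := prop_left_of_locP (E.prop isSmoothLocalST_locP hY.diag hv hg)
  have hlfp : LocallyOfFinitePresentation E.k.left ∨ LocallyOfFinitePresentation D.k.left :=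
    hfp.imp (fun h => prop_left_of_locP (E.prop isSmoothLocalST_locP hY.diag hv h))
      fun h => prop_left_of_locP (D.prop isSmoothLocalST_locP hY.diag hv h)
  obtain ⟨D', m, hml, hφ, hφs, ⟨θ⟩⟩ := exists_bc_chartOf D g E.sq
  haveI := hφ
  haveI := hφs
  let φ := pullback.lift m.left D'.k.left hml
  have hpt : ∀ s, AlgSt.Points.map (FibCat.fpSnd g f) (AlgSt.Points.ofChart D'.x s) =
      AlgSt.Points.ofChart D.x (m.left s) := fun s => by
    rw [← ofChart_comp, ofChart_congr θ, ofChart_overMap]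
  have hw := E.x_smooth hv
  let R := Set.range (AlgSt.Points.map (AlgSt.subIncl 𝒳 Q))
  have hR : IsOpen R := isOpen_range_subIncl hQ₁
  let R' := AlgSt.Points.map (FibCat.fpSnd g f) ⁻¹' R
  have hR' : IsOpen R' := hR.preimage (continuous_map_stack hX (FibCat.fpSnd g f))
  have hQeq : (fun b : (FibCat.fp g f).obj ↦ Q b.obj.snd) = InOpen R' := funext fun a => propext (by
    conv_lhs => rw [eq_inOpen_range hQ₁]
    exact inOpen_map_iff (FibCat.fpSnd g f) R a)
  rw [hQeq]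
  refine ⟨isOpenSubstack_inOpen R' hF hR', ?_, fun Q' hQ' hsm a ha => ?_⟩
  · let U₁ : D.C.left.Opens := ⟨AlgSt.Points.ofChart D.x ⁻¹' R, hR.preimage (continuous_ofChart_stack hX _)⟩
    let C₁ : Over S := Over.mk (U₁.ι ≫ D.C.hom)
    let j₁ : C₁ ⟶ D.C := Over.homMk U₁.ι rfl
    haveI : IsOpenImmersion j₁.left := inferInstanceAs (IsOpenImmersion U₁.ι)
    have hD₁ : Smooth (U₁.ι ≫ D.k.left) := smooth_restrict hY hQ₁ hQ₂ hv D j₁ fun z => by
      obtain ⟨X', ⟨⟨⟩⟩, k'⟩ := z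
      rw [eq_inOpen_range hQ₁]
      refine (inOpen_chart_iff R (BasedFunctor.comp (AlgSt.overMap j₁) D.x) k').2 fun s => ?_
      rw [ofChart_overMap]
      exact (k'.left s).2
    haveI : Smooth ((pullback.fst D.k.left E.k.left ⁻¹ᵁ U₁).ι ≫ pullback.snd D.k.left E.k.left) :=
      MorphismProperty.of_isPullback (P := @Smooth)
        ((isPullback_morphismRestrict (pullback.fst D.k.left E.k.left) U₁).paste_vert
          (IsPullback.of_hasPullback D.k.left E.k.left)) hD₁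
    let U₂ : D'.C.left.Opens := φ ⁻¹ᵁ (pullback.fst D.k.left E.k.left ⁻¹ᵁ U₁)
    have hU₂ : Smooth (U₂.ι ≫ D'.k.left) := by
      rw [← pullback.lift_snd m.left D'.k.left hml, ← Category.assoc, ← morphismRestrict_ι, Category.assoc]
      infer_instance
    obtain ⟨Q₂, hQ₂o, hQ₂s, hQ₂r⟩ := exists_open_of_smooth hF hw D' U₂ hU₂
    have hm : ∀ s, pullback.fst D.k.left E.k.left (φ s) = m.left s := fun s => by
      rw [← Scheme.Hom.comp_apply, pullback.lift_fst]
    have hr : Set.range (AlgSt.Points.map (AlgSt.subIncl (FibCat.fp g f) Q₂)) = R' := by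
      rw [hQ₂r]
      refine Set.Subset.antisymm ?_ fun z hz => ?_
      · rintro _ ⟨s, hs, rfl⟩
        change AlgSt.Points.map (FibCat.fpSnd g f) _ ∈ R
        rw [hpt, ← hm]
        exact hs
      · obtain ⟨s, rfl⟩ := surjective_chart (D'.x_surj (E.x_surj hvs)) z
        refine ⟨s, ?_, rfl⟩
        change AlgSt.Points.ofChart D.x (pullback.fst D.k.left E.k.left (φ s)) ∈ R
        rw [hm, ← hpt]
        exact hz
    rwa [← hr, ← eq_inOpen_range hQ₂o]
  · let R₂ := Set.range (AlgSt.Points.map (AlgSt.subIncl (FibCat.fp g f) Q'))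
    let U : D'.C.left.Opens := ⟨AlgSt.Points.ofChart D'.x ⁻¹' R₂,
      (isOpen_range_subIncl hQ').preimage (continuous_ofChart_stack hF _)⟩
    let C₂ : Over S := Over.mk (U.ι ≫ D'.C.hom)
    let j₂ : C₂ ⟶ D'.C := Over.homMk U.ι rfl
    haveI : IsOpenImmersion j₂.left := inferInstanceAs (IsOpenImmersion U.ι)
    have hsU : Smooth (U.ι ≫ D'.k.left) := smooth_restrict hZ hQ' hsm hw D' j₂ fun z => by
      obtain ⟨X', ⟨⟨⟩⟩, k'⟩ := z
      rw [eq_inOpen_range hQ']
      refine (inOpen_chart_iff R₂ (BasedFunctor.comp (AlgSt.overMap j₂) D'.x) k').2 fun s => ?_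
      rw [ofChart_overMap]
      exact (k'.left s).2
    let U₃ : (pullback D.k.left E.k.left).Opens := ⟨φ '' (U : Set ↥D'.C.left), φ.isOpenMap _ U.2⟩
    have hsub : Set.range (U.ι ≫ φ) ⊆ Set.range U₃.ι := by
      rw [Scheme.Opens.range_ι]
      rintro _ ⟨s, rfl⟩
      exact ⟨U.ι s, s.2, rfl⟩
    let l := IsOpenImmersion.lift U₃.ι (U.ι ≫ φ) hsub
    have hl : l ≫ U₃.ι = U.ι ≫ φ := IsOpenImmersion.lift_fac _ _ _
    clear_value l
    haveI : Smooth l := by
      have h1 : Smooth (U.ι ≫ φ) := MorphismProperty.comp_mem _ _ _ inferInstance hφ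
      rw [← hl] at h1
      exact MorphismProperty.of_postcomp (W := @Smooth) (W' := @IsOpenImmersion) l U₃.ι inferInstance h1
    haveI : Surjective l := ⟨fun e => by
      obtain ⟨s, hs, he⟩ := (show e.1 ∈ φ '' (U : Set ↥D'.C.left) from e.2)
      refine ⟨⟨s, hs⟩, U₃.ι.injective ?_⟩
      rw [← Scheme.Hom.comp_apply, hl]
      exact he⟩
    haveI : Smooth (l ≫ U₃.ι ≫ pullback.snd D.k.left E.k.left) := by
      rw [← Category.assoc, hl, Category.assoc, pullback.lift_snd]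
      exact hsU
    haveI := Groth.Agent.FppfSrc.smooth_of_precomp_fppf l (U₃.ι ≫ pullback.snd D.k.left E.k.left)
    rw [eq_inOpen_range hQ'] at ha
    change Q a.obj.snd
    rw [eq_inOpen_range hQ₁]
    refine (inOpen_map_iff (FibCat.fpSnd g f) R a).2 fun t => ?_
    obtain ⟨s, hs⟩ := surjective_chart (D'.x_surj (E.x_surj hvs)) (AlgSt.Points.ofChart (objFun a rfl) t)
    have hsU' : s ∈ U := by
      change AlgSt.Points.ofChart D'.x s ∈ R₂
      rw [hs]
      exact ha t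
    obtain ⟨N, hN, hNs⟩ := exists_smooth_nhd_of_flat_bc D.k.left E.k.left hlfp U₃ (φ s) ⟨s, hsU', rfl⟩
    obtain ⟨Q₃, hQ₃o, hQ₃s, hQ₃r⟩ := exists_open_of_smooth hX hv D N hNs
    rw [Set.mem_preimage, ← hs, hpt]
    rw [← Scheme.Hom.comp_apply, pullback.lift_fst] at hN
    have hmem : AlgSt.Points.ofChart D.x (m.left s) ∈
        Set.range (AlgSt.Points.map (AlgSt.subIncl 𝒳 Q₃)) := by rw [hQ₃r]; exact ⟨_, hN, rfl⟩
    obtain ⟨z, hz⟩ := hmem
    rw [← hz]
    obtain ⟨pz, rfl⟩ := AlgSt.Points.mk_surjective z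
    let o : (AlgSt.fullSub 𝒳 Q₃).obj := pz.obj
    exact ⟨AlgSt.Points.mk { K := pz.K, str := pz.str, obj := ⟨o.obj, hQ₃ Q₃ hQ₃o hQ₃s o.obj o.property⟩, lies := pz.lies }, rfl⟩

end Groth.Agent.DecSec
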