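import Mathlib.RingTheory.Spectrum.Prime.Topology
import Mathlib.RingTheory.TensorProduct.Maps
import Mathlib.RingTheory.FiniteType
import Mathlib.RingTheory.Adjoin.Tower

/-! Equations in a tensor product come from a finitely generated subalgebra. -/

set_option autoImplicit false

universe u

open TensorProduct

namespace Groth.Agent.DecSec

variable {B R A : Type u} [CommRing B] [CommRing R] [CommRing A] [Algebra B R] [Algebra B A]

/-- The base change map of a subalgebra. -/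
noncomputable abbrev tmap (A' : Subalgebra B A) : R ⊗[B] A' →ₐ[B] R ⊗[B] A :=
  Algebra.TensorProduct.map (AlgHom.id B R) A'.val

/-- The map to a larger subalgebra. -/
noncomputable abbrev tincl {A₁ A₂ : Subalgebra B A} (h : A₁ ≤ A₂) : R ⊗[B] A₁ →ₐ[B] R ⊗[B] A₂ :=
  Algebra.TensorProduct.map (AlgHom.id B R) (Subalgebra.inclusion h)

theorem tmap_tincl {A₁ A₂ : Subalgebra B A} (h : A₁ ≤ A₂) (z : R ⊗[B] A₁) :
    tmap A₂ (tincl h z) = tmap (R := R) A₁ z := by
  change ((tmap A₂).comp (tincl h)) z = _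
  congr 1
  ext x <;> simp

theorem exists_fg_lift (z : R ⊗[B] A) : ∃ A' : Subalgebra B A, A'.FG ∧ ∃ z' : R ⊗[B] A', tmap A' z' = z := by
  induction z using TensorProduct.induction_on with
  | zero => exact ⟨⊥, Subalgebra.fg_bot, 0, map_zero _⟩
  | tmul r a => exact ⟨Algebra.adjoin B {a}, Subalgebra.fg_adjoin_finset {a} |> fun h => by simpa using h,
      r ⊗ₜ ⟨a, Algebra.subset_adjoin rfl⟩, rfl⟩
  | add x y hx hy =>
    obtain ⟨A₁, h₁, x', rfl⟩ := hx
    obtain ⟨A₂, h₂, y', rfl⟩ := hy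
    exact ⟨A₁ ⊔ A₂, h₁.sup h₂, tincl (R := R) (le_sup_left : A₁ ≤ A₁ ⊔ A₂) x' + tincl (R := R) (le_sup_right : A₂ ≤ A₁ ⊔ A₂) y', by rw [map_add, tmap_tincl, tmap_tincl]⟩

theorem exists_fg_mem_map (q : Ideal A) (m : R ⊗[B] A)
    (hm : m ∈ q.map (Algebra.TensorProduct.includeRight (R := B) (A := R)).toRingHom) :
    ∃ A' : Subalgebra B A, A'.FG ∧ ∃ m' ∈ (q.comap A'.val.toRingHom).map
      (Algebra.TensorProduct.includeRight (R := B) (A := R) (B := A')).toRingHom, tmap A' m' = m := by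
  have key : ∀ {A₁ A₂ : Subalgebra B A} (h : A₁ ≤ A₂) {m : R ⊗[B] A₁},
      m ∈ (q.comap A₁.val.toRingHom).map
        (Algebra.TensorProduct.includeRight (R := B) (A := R) (B := A₁)).toRingHom →
      tincl (R := R) h m ∈ (q.comap A₂.val.toRingHom).map
        (Algebra.TensorProduct.includeRight (R := B) (A := R) (B := A₂)).toRingHom := by
    intro A₁ A₂ h m hm
    have h2 := Ideal.mem_map_of_mem (tincl (R := R) h).toRingHom hm
    rw [Ideal.map_map] at h2
    refine (Ideal.map_le_iff_le_comap.2 fun x hx => ?_) h2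
    rw [Ideal.mem_comap]
    have e : (tincl (R := R) h).toRingHom ((Algebra.TensorProduct.includeRight (R := B) (A := R) (B := A₁)) x) =
        (Algebra.TensorProduct.includeRight (R := B) (A := R) (B := A₂)) (Subalgebra.inclusion h x) := by simp
    exact (congrArg (· ∈ _) e).mpr (Ideal.mem_map_of_mem _ (x := Subalgebra.inclusion h x) hx)
  unfold Ideal.map at hm
  induction hm using Submodule.span_induction with
  | mem x hx =>
    obtain ⟨a, ha, rfl⟩ := hx
    refine ⟨Algebra.adjoin B {a}, by simpa using Subalgebra.fg_adjoin_finset (R := B) {a},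
      _, Ideal.mem_map_of_mem _ (x := ⟨a, Algebra.subset_adjoin rfl⟩) ha, by simp⟩
  | zero => exact ⟨⊥, Subalgebra.fg_bot, 0, zero_mem _, map_zero _⟩
  | add x y _ _ hx hy =>
    obtain ⟨A₁, h₁, x', hx', rfl⟩ := hx
    obtain ⟨A₂, h₂, y', hy', rfl⟩ := hy
    exact ⟨A₁ ⊔ A₂, h₁.sup h₂, tincl (R := R) (le_sup_left : A₁ ≤ A₁ ⊔ A₂) x' + tincl (R := R) (le_sup_right : A₂ ≤ A₁ ⊔ A₂) y',
      add_mem (key _ hx') (key _ hy'), by rw [map_add, tmap_tincl, tmap_tincl]⟩
  | smul c x _ hx =>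
    obtain ⟨A₁, h₁, x', hx', rfl⟩ := hx
    obtain ⟨A₂, h₂, c', rfl⟩ := exists_fg_lift c
    exact ⟨A₁ ⊔ A₂, h₁.sup h₂, tincl (R := R) (le_sup_right : A₂ ≤ A₁ ⊔ A₂) c' * tincl (R := R) (le_sup_left : A₁ ≤ A₁ ⊔ A₂) x',
      Ideal.mul_mem_left _ _ (key _ hx'), by rw [map_mul, tmap_tincl, tmap_tincl, smul_eq_mul]⟩

/-- An element of `A` outside `q` in `I + q` on the tensor product, already so over a finitely generated subalgebra. -/
theorem exists_fg_equation (I : Ideal (R ⊗[B] A)) (q : Ideal A) [q.IsPrime]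
    (h : ∀ P : Ideal (R ⊗[B] A), P.IsPrime → I ≤ P →
      P.comap (Algebra.TensorProduct.includeRight (R := B) (A := R)).toRingHom ≠ q) :
    ∃ A' : Subalgebra B A, A'.FG ∧ ∃ e : R ⊗[B] A', tmap A' e ∈ I ∧
      ∀ P : Ideal (R ⊗[B] A'), P.IsPrime → e ∈ P →
        P.comap (Algebra.TensorProduct.includeRight (R := B) (A := R) (B := A')).toRingHom ≠ q.comap A'.val.toRingHom := by
  let inr := (Algebra.TensorProduct.includeRight (R := B) (A := R) (B := A)).toRingHom
  obtain ⟨s, hs, hsJ⟩ : ∃ s, s ∉ q ∧ inr s ∈ I ⊔ q.map inr := by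
    by_contra hne
    obtain ⟨P, hP, hle, hdis⟩ := Ideal.exists_le_prime_disjoint (I ⊔ q.map inr) (q.primeCompl.map inr.toMonoidHom)
      (Set.disjoint_left.2 fun x hx ⟨s, hs, e⟩ => hne ⟨s, hs, show inr s ∈ _ from (show inr s = x from e) ▸ hx⟩)
    refine h P hP (le_sup_left.trans hle) (le_antisymm (fun a ha => ?_) ?_)
    · by_contra haq
      exact Set.disjoint_left.1 hdis ha ⟨a, haq, rfl⟩
    · exact Ideal.map_le_iff_le_comap.1 (le_sup_right.trans hle)
  obtain ⟨i, hi, m, hm, e⟩ := Submodule.mem_sup.1 hsJ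
  obtain ⟨A₁, h₁, m', hm', hmm⟩ := exists_fg_mem_map q m hm
  let A' := A₁ ⊔ Algebra.adjoin B {s}
  let s' : A' := ⟨s, (le_sup_right : _ ≤ A') (Algebra.subset_adjoin rfl)⟩
  let m'' := tincl (R := R) (le_sup_left : A₁ ≤ A') m'
  refine ⟨A', h₁.sup (by simpa using Subalgebra.fg_adjoin_finset (R := B) {s}), (1 : R) ⊗ₜ s' - m'', ?_, ?_⟩
  · rw [map_sub, tmap_tincl, hmm]
    have : tmap A' ((1 : R) ⊗ₜ s') = inr s := by simp [inr, s']
    rw [this, ← e, add_sub_cancel_right]
    exact hi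
  · intro P hP he hPq
    refine hs (show s' ∈ q.comap A'.val.toRingHom from hPq ▸ ?_)
    rw [Ideal.mem_comap]
    have hm'' : m'' ∈ P := by
      have h2 := Ideal.mem_map_of_mem (tincl (R := R) (le_sup_left : A₁ ≤ A')).toRingHom hm'
      rw [Ideal.map_map] at h2
      refine (Ideal.map_le_iff_le_comap.2 fun x hx => ?_) h2
      rw [Ideal.mem_comap]
      have : Subalgebra.inclusion (le_sup_left : A₁ ≤ A') x ∈ q.comap A'.val.toRingHom := hx
      rw [← hPq, Ideal.mem_comap] at this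
      simpa using this
    simpa using add_mem he hm''

end Groth.Agent.DecSec
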