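import Groth.Agent.DecSec.DvrCrit
import Groth.Agent.DecSec.TensorLimit
import Groth.Agent.ASp.ValDenseUniv

/-! Universal closedness from lifts over discrete valuation rings, without separation hypotheses. -/

set_option autoImplicit false
set_option backward.isDefEq.respectTransparency false
set_option backward.isDefEq.respectTransparency.types false

universe u

open CategoryTheory CategoryTheory.Limits AlgebraicGeometry Opposite IsLocalRing TensorProduct

namespace Groth.Agent.DecSec

open _root_.AlgSp Groth.Agent.ASp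

variable {S : Scheme.{u}}

/-- The scheme over `S` of an algebra over an affine scheme. -/
noncomputable def affOver (T : Over S) [IsAffine T.left] (A : Type u) [CommRing A] [Algebra Γ(T.left, ⊤) A] : Over S :=
  Over.mk ((Spec.map (CommRingCat.ofHom (algebraMap Γ(T.left, ⊤) A)) ≫ T.left.isoSpec.inv) ≫ T.hom)

/-- Its map to the base. -/
noncomputable def affTo (T : Over S) [IsAffine T.left] (A : Type u) [CommRing A] [Algebra Γ(T.left, ⊤) A] :
    affOver T A ⟶ T :=
  Over.homMk (Spec.map (CommRingCat.ofHom (algebraMap Γ(T.left, ⊤) A)) ≫ T.left.isoSpec.inv) rfl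

/-- An algebra map as a map over `S`. -/
noncomputable def affMap (T : Over S) [IsAffine T.left] {A A' : Type u} [CommRing A] [Algebra Γ(T.left, ⊤) A]
    [CommRing A'] [Algebra Γ(T.left, ⊤) A'] (φ : A →ₐ[Γ(T.left, ⊤)] A') : affOver T A' ⟶ affOver T A :=
  Over.homMk (Spec.map (CommRingCat.ofHom φ.toRingHom)) (by
    change Spec.map _ ≫ (Spec.map _ ≫ _) ≫ _ = (Spec.map _ ≫ _) ≫ _
    rw [← Category.assoc, ← Category.assoc (Spec.map _) (Spec.map _), ← Spec.map_comp, ← CommRingCat.ofHom_comp,
      show φ.toRingHom.comp (algebraMap Γ(T.left, ⊤) A) = algebraMap Γ(T.left, ⊤) A' from φ.comp_algebraMap])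

theorem affMap_affTo (T : Over S) [IsAffine T.left] {A A' : Type u} [CommRing A] [Algebra Γ(T.left, ⊤) A]
    [CommRing A'] [Algebra Γ(T.left, ⊤) A'] (φ : A →ₐ[Γ(T.left, ⊤)] A') : affMap T φ ≫ affTo T A = affTo T A' := by
  apply Over.OverMorphism.ext
  change Spec.map _ ≫ Spec.map _ ≫ _ = Spec.map _ ≫ _
  rw [← Spec.map_comp_assoc, ← CommRingCat.ofHom_comp,
    show φ.toRingHom.comp (algebraMap Γ(T.left, ⊤) A) = algebraMap Γ(T.left, ⊤) A' from φ.comp_algebraMap]

section
variable {W T : Over S} [IsAffine W.left] [IsAffine T.left] (c : W ⟶ T)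
  (A : Type u) [CommRing A] [Algebra Γ(T.left, ⊤) A]

/-- The base change of an affine scheme to an algebra. -/
theorem exists_chart_pullback [Algebra Γ(T.left, ⊤) Γ(W.left, ⊤)]
    (hc : algebraMap Γ(T.left, ⊤) Γ(W.left, ⊤) = c.left.appTop.hom) :
    ∃ (p₁ : affOver T (Γ(W.left, ⊤) ⊗[Γ(T.left, ⊤)] A) ⟶ W),
      p₁.left = Spec.map (CommRingCat.ofHom Algebra.TensorProduct.includeLeftRingHom) ≫ W.left.isoSpec.inv ∧
      IsPullback p₁ (affMap T (Algebra.TensorProduct.includeRight (R := Γ(T.left, ⊤)) (A := Γ(W.left, ⊤)))) c (affTo T A) := by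
  let B := Γ(T.left, ⊤)
  let R := Γ(W.left, ⊤)
  have hcl : W.left.isoSpec.inv ≫ c.left = Spec.map (CommRingCat.ofHom (algebraMap B R)) ≫ T.left.isoSpec.inv := by
    rw [hc, Iso.inv_comp_eq, ← Category.assoc, Iso.eq_comp_inv]
    exact (Scheme.isoSpec_hom_naturality c.left).symm
  have e0 : Spec.map (CommRingCat.ofHom (Algebra.TensorProduct.includeLeftRingHom : R →+* R ⊗[B] A)) ≫
      Spec.map (CommRingCat.ofHom (algebraMap B R)) = Spec.map (CommRingCat.ofHom (algebraMap B (R ⊗[B] A))) := by
    rw [← Spec.map_comp]; rfl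
  refine ⟨Over.homMk (Spec.map (CommRingCat.ofHom Algebra.TensorProduct.includeLeftRingHom) ≫ W.left.isoSpec.inv) (by
    rw [← Over.w c, Category.assoc, reassoc_of% hcl, reassoc_of% e0]
    exact (Category.assoc _ _ _).symm), rfl, ?_⟩
  refine IsPullback.of_map (Over.forget S) (Over.OverMorphism.ext ?_) ?_
  · change (Spec.map _ ≫ _) ≫ c.left = Spec.map _ ≫ Spec.map _ ≫ _
    rw [Category.assoc, hcl, reassoc_of% e0, ← Spec.map_comp_assoc, ← CommRingCat.ofHom_comp]
    congr 2
    exact congrArg CommRingCat.ofHom (AlgHom.comp_algebraMap Algebra.TensorProduct.includeRight).symm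
  · change IsPullback (Spec.map _ ≫ W.left.isoSpec.inv) (Spec.map _) c.left (Spec.map _ ≫ T.left.isoSpec.inv)
    have hP : IsPullback (Spec.map (CommRingCat.ofHom (Algebra.TensorProduct.includeLeftRingHom : R →+* R ⊗[B] A)))
        (Spec.map (CommRingCat.ofHom (Algebra.TensorProduct.includeRight (R := B) (A := R) (B := A)).toRingHom))
        (Spec.map (CommRingCat.ofHom (algebraMap B R))) (Spec.map (CommRingCat.ofHom (algebraMap B A))) :=
      (IsPullback.of_hasPullback _ _).of_iso (pullbackSpecIso B R A) (Iso.refl _) (Iso.refl _) (Iso.refl _)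
        (by simp) (by simp [pullbackSpecIso_hom_snd]) (by simp) (by simp)
    exact hP.of_iso (Iso.refl _) W.left.isoSpec.symm (Iso.refl _) T.left.isoSpec.symm
      (by simp) (by simp) (by simp [hcl]) (by simp [B])

end

theorem isClosed_image_of_dvr {X : Sp S} {T : Over S} [IsAffine T.left] [IsNoetherianRing Γ(T.left, ⊤)]
    (hX : IsAlgSpace X) [CompactSpace (Points X)] (f : X ⟶ (yon S).obj T) (hf : LocP @LocallyOfFiniteType f)
    (hv : ∀ sq : ValSq f, IsDiscreteValuationRing sq.A → sq.HasLiftExt)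
    (A : Type u) [CommRing A] [Algebra Γ(T.left, ⊤) A] {P : Sp S} {fst : P ⟶ X} {q : P ⟶ (yon S).obj (affOver T A)}
    (sq : IsPullback fst q f ((yon S).map (affTo T A))) {C : Set (Points P)} (hC : IsClosed C) :
    IsClosed (Points.schemeHomeo (affOver T A) ⁻¹' (Points.map q '' C)) := by
  obtain ⟨W, pW, hW, hpe, hps⟩ := exists_affine_chart hX
  haveI : IsAffine W.left := hW
  obtain ⟨c, hc⟩ := (yon S).map_surjective (pW ≫ f)
  haveI : LocallyOfFiniteType c.left :=
    hf pW (𝟙 _) c hpe (repWith_id _ _) (by rw [hc, Category.comp_id])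
  letI algR : Algebra Γ(T.left, ⊤) Γ(W.left, ⊤) := c.left.appTop.hom.toAlgebra
  let R := Γ(W.left, ⊤)
  let B := Γ(T.left, ⊤)
  obtain ⟨p₁, hp₁l, hp₁⟩ := exists_chart_pullback c A (RingHom.algebraMap_toAlgebra _)
  let TW := affOver T (R ⊗[B] A)
  let snd : TW ⟶ affOver T A := affMap T (Algebra.TensorProduct.includeRight (R := B) (A := R))
  let p' : (yon S).obj TW ⟶ P := sq.lift ((yon S).map p₁ ≫ pW) ((yon S).map snd)
    (by rw [Category.assoc, ← hc, ← Functor.map_comp, ← Functor.map_comp, hp₁.w])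
  have hp'q : p' ≫ q = (yon S).map snd := sq.lift_snd _ _ _
  have hsqW : IsPullback ((yon S).map p₁) p' pW fst := by
    refine IsPullback.of_bot ?_ (sq.lift_fst _ _ _).symm sq
    rw [hp'q, ← hc]
    exact hp₁.map (yon S)
  have hp's : RepWith @Surjective p' := repWith_of_isPullback hsqW hps
  have key : ∀ w, Points.map q (Points.ofPt p' w) = Points.schemeHomeo _ (snd.left w) := fun w => by
    rw [Points.map_ofPt, hp'q, ofPt_yon_eq]
  have e : Points.schemeHomeo (affOver T A) ⁻¹' (Points.map q '' C) = snd.left '' (Points.ofPt p' ⁻¹' C) := by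
    ext t
    constructor
    · rintro ⟨x, hx, ex⟩
      obtain ⟨w, rfl⟩ := surjective_ofPt hp's x
      exact ⟨w, hx, (Points.schemeHomeo _).injective ((key w).symm.trans ex)⟩
    · rintro ⟨w, hw, rfl⟩
      exact ⟨_, hw, key w⟩
  rw [e]
  haveI : IsAffine TW.left := inferInstanceAs (IsAffine (Spec _))
  haveI : IsAffine (affOver T A).left := inferInstanceAs (IsAffine (Spec _))
  refine isClosed_image_of_stable snd.left (hC.preimage (Points.continuous_ofPt p')) ?_
  rintro _ t hst ⟨w, hw, rfl⟩
  by_contra hne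
  let Z : Set (PrimeSpectrum (R ⊗[B] A)) := Points.ofPt p' ⁻¹' C
  have hZ : IsClosed Z := hC.preimage (Points.continuous_ofPt p')
  let qt : Ideal A := (t : PrimeSpectrum A).asIdeal
  haveI : qt.IsPrime := (t : PrimeSpectrum A).isPrime
  obtain ⟨A', hA', el, helI, hel⟩ := exists_fg_equation (PrimeSpectrum.vanishingIdeal Z) qt (fun P hP hle he => by
    refine hne ⟨(⟨P, hP⟩ : PrimeSpectrum _), ?_, PrimeSpectrum.ext he⟩
    have h2 : (⟨P, hP⟩ : PrimeSpectrum _) ∈ PrimeSpectrum.zeroLocus (PrimeSpectrum.vanishingIdeal Z : Set (R ⊗[B] A)) :=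
      (PrimeSpectrum.mem_zeroLocus _ _).2 hle
    rwa [PrimeSpectrum.zeroLocus_vanishingIdeal_eq_closure, hZ.closure_eq] at h2)
  -- the stage
  haveI : Algebra.FiniteType B A' := (Subalgebra.fg_iff_finiteType A').1 hA'
  haveI : IsNoetherianRing A' := isNoetherianRing_of_fg hA'
  obtain ⟨p₁', hp₁l', hp₁'⟩ := exists_chart_pullback c A' (RingHom.algebraMap_toAlgebra _)
  let TW' := affOver T (R ⊗[B] A')
  let snd' : TW' ⟶ affOver T A' := affMap T (Algebra.TensorProduct.includeRight (R := B) (A := R))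
  let π : TW ⟶ TW' := affMap T (tmap A')
  let ν : affOver T A ⟶ affOver T A' := affMap T A'.val
  have hν : ν ≫ affTo T A' = affTo T A := affMap_affTo T _
  have hπsnd : π ≫ snd' = snd ≫ ν := by
    apply Over.OverMorphism.ext
    change Spec.map _ ≫ Spec.map _ = Spec.map _ ≫ Spec.map _
    rw [← Spec.map_comp, ← Spec.map_comp]
    refine congrArg Spec.map (CommRingCat.hom_ext (RingHom.ext fun x => ?_))
    change tmap A' ((1 : R) ⊗ₜ[B] x) = (1 : R) ⊗ₜ[B] (x : A)
    simp
  have hπp : π ≫ p₁' = p₁ := by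
    apply Over.OverMorphism.ext
    refine hom_ext_toRing ?_
    change toRing (Spec.map _ ≫ p₁'.left) = toRing p₁.left
    rw [hp₁l, hp₁l', toRing_spec_comp, toRing_map, toRing_map]
    refine CommRingCat.hom_ext (RingHom.ext fun x => ?_)
    change tmap A' (x ⊗ₜ[B] (1 : A')) = x ⊗ₜ[B] (1 : A)
    simp
  let P' := pullback f ((yon S).map (affTo T A'))
  have sq' : IsPullback (pullback.fst f ((yon S).map (affTo T A'))) (pullback.snd f ((yon S).map (affTo T A'))) f
      ((yon S).map (affTo T A')) := IsPullback.of_hasPullback _ _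
  let p'' : (yon S).obj TW' ⟶ P' := pullback.lift ((yon S).map p₁' ≫ pW) ((yon S).map snd')
    (by rw [Category.assoc, ← hc, ← Functor.map_comp, ← Functor.map_comp, hp₁'.w])
  have hsqW' : IsPullback ((yon S).map p₁') p'' pW (pullback.fst f ((yon S).map (affTo T A'))) := by
    refine IsPullback.of_bot ?_ (pullback.lift_fst _ _ _).symm sq'
    rw [pullback.lift_snd, ← hc]
    exact hp₁'.map (yon S)
  have hp''e : RepWith @Etale p'' := repWith_of_isPullback hsqW' hpe
  have hp''s : RepWith @Surjective p'' := repWith_of_isPullback hsqW' hps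
  let Pi₀ : P ⟶ P' := pullback.lift fst (q ≫ (yon S).map ν)
    (by rw [Category.assoc, ← Functor.map_comp, hν, sq.w])
  have hsqπ : IsPullback ((yon S).map π) p' p'' Pi₀ := by
    refine IsPullback.of_right (h₁₂ := (yon S).map p₁') (v₁₃ := pW) (h₂₂ := pullback.fst f ((yon S).map (affTo T A'))) ?_ ?_ hsqW'
    · rw [← Functor.map_comp, hπp, pullback.lift_fst]
      exact hsqW
    · apply pullback.hom_ext
      · simp only [p'', Pi₀, p', Category.assoc, pullback.lift_fst, sq.lift_fst]
        rw [← Functor.map_comp_assoc, hπp]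
      · simp only [p'', Pi₀, p', Category.assoc, pullback.lift_snd, sq.lift_snd_assoc]
        rw [← Functor.map_comp, ← Functor.map_comp, hπsnd]
  -- the closed set at the stage
  let V : Set (PrimeSpectrum (R ⊗[B] A')) := PrimeSpectrum.zeroLocus {el}
  have hmem : ∀ v ∈ Z, π.left v ∈ V := fun v hv => by
    refine (PrimeSpectrum.mem_zeroLocus _ _).2 (Set.singleton_subset_iff.2 ?_)
    exact (PrimeSpectrum.mem_vanishingIdeal _ _).1 helI v hv
  have hfib : ∀ v ∈ V, snd'.left v ≠ ν.left t := fun v hv he =>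
    hel (v : PrimeSpectrum _).asIdeal (v : PrimeSpectrum _).isPrime
      (Set.singleton_subset_iff.1 ((PrimeSpectrum.mem_zeroLocus _ _).1 hv)) (congrArg PrimeSpectrum.asIdeal he)
  let w' := π.left w
  have hsp : snd'.left w' ⤳ ν.left t := by
    rw [show snd'.left w' = ν.left (snd.left w) from congrFun (congrArg (fun g : TW ⟶ affOver T A' => ⇑g.left) hπsnd) w]
    exact hst.map ν.left.continuous
  rcases eq_or_ne (ν.left t) (snd'.left w') with heq | hneq
  · exact hfib w' (hmem w hw) heq.symm
  haveI : IsLocallyNoetherian (affOver T A').left :=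
    inferInstanceAs (IsLocallyNoetherian (Spec (CommRingCat.of A')))
  haveI : LocallyOfFiniteType snd'.left :=
    MorphismProperty.of_isPullback (P := @LocallyOfFiniteType) (isPullback_left hp₁') ‹_›
  obtain ⟨D, _, _, hD, σ, hD', hh, hσ, hσw⟩ := DVRCrit.exists_dvr_square snd'.left w' (ν.left t) hsp hneq
  let bD : Over.mk (hD' ≫ (affOver T A').hom) ⟶ affOver T A' := Over.homMk hD' rfl
  let jD : Over.mk (Spec.map (CommRingCat.ofHom (algebraMap D (FractionRing D))) ≫ hD' ≫ (affOver T A').hom) ⟶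
      Over.mk (hD' ≫ (affOver T A').hom) := Over.homMk (Spec.map (CommRingCat.ofHom (algebraMap D (FractionRing D)))) rfl
  let kD : Over.mk (Spec.map (CommRingCat.ofHom (algebraMap D (FractionRing D))) ≫ hD' ≫ (affOver T A').hom) ⟶ TW' :=
    Over.homMk σ (by rw [← Over.w snd', reassoc_of% hσ]; rfl)
  have hkD : kD ≫ snd' = jD ≫ bD := Over.OverMorphism.ext hσ
  let sqD : ValSq f :=
    { A := D
      K := FractionRing D
      str := hD' ≫ (affOver T A').hom
      top := (yon S).map (kD ≫ p₁') ≫ pW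
      bot := (yon S).map (bD ≫ affTo T A')
      comm := (Category.assoc _ _ _).trans ((congrArg (_ ≫ ·) hc.symm).trans (((yon S).map_comp _ _).symm.trans
        ((congrArg (yon S).map (by
          change (kD ≫ p₁') ≫ c = jD ≫ bD ≫ affTo T A'
          exact (Category.assoc _ _ _).trans ((congrArg (kD ≫ ·) hp₁'.w).trans ((Category.assoc _ _ _).symm.trans
            ((congrArg (· ≫ affTo T A') hkD).trans (Category.assoc _ _ _)))))).trans ((yon S).map_comp _ _)))) }
  obtain ⟨e', l, hl1, hl2⟩ := hv sqD hD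
  let jA : e'.ptK' ⟶ e'.ptA' := Over.homMk (Spec.map (CommRingCat.ofHom (algebraMap e'.A' e'.K'))) rfl
  let iA : e'.ptA' ⟶ sqD.ptA := Over.homMk (Spec.map (CommRingCat.ofHom e'.φ)) rfl
  let iK : e'.ptK' ⟶ sqD.ptK := Over.homMk (Spec.map (CommRingCat.ofHom e'.ψ)) (by
    change Spec.map _ ≫ Spec.map _ ≫ _ = Spec.map _ ≫ Spec.map _ ≫ _
    rw [← Spec.map_comp_assoc, ← Spec.map_comp_assoc, ← CommRingCat.ofHom_comp, ← CommRingCat.ofHom_comp, e'.comm])
  let L : (yon S).obj e'.ptA' ⟶ P' := pullback.lift l ((yon S).map (iA ≫ bD)) (by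
    rw [hl2, ← Functor.map_comp]
    change (yon S).map iA ≫ (yon S).map (bD ≫ affTo T A') = _
    simp only [Functor.map_comp, Category.assoc])
  have hL : (yon S).map jA ≫ L = (yon S).map (iK ≫ kD) ≫ p'' := by
    apply pullback.hom_ext
    · rw [Category.assoc, Category.assoc, pullback.lift_fst, pullback.lift_fst,
        show (yon S).map jA ≫ l = (yon S).map iK ≫ sqD.top from hl1, ← Functor.map_comp_assoc]
      change (yon S).map iK ≫ (yon S).map (kD ≫ p₁') ≫ pW = _
      simp only [Functor.map_comp, Category.assoc]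
    · rw [Category.assoc, Category.assoc, pullback.lift_snd, pullback.lift_snd, ← Functor.map_comp, ← Functor.map_comp,
        Category.assoc, hkD]
      refine congrArg (yon S).map (Over.OverMorphism.ext ?_)
      change Spec.map _ ≫ Spec.map _ ≫ hD' = Spec.map _ ≫ Spec.map _ ≫ hD'
      rw [← Spec.map_comp_assoc, ← Spec.map_comp_assoc, ← CommRingCat.ofHom_comp, ← CommRingCat.ofHom_comp, e'.comm]
  let x := Points.map Pi₀ (Points.ofPt p' w)
  have hx : x = Points.ofPt p'' w' := by
    simp only [x, Points.map_ofPt]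
    rw [← hsqπ.w, ofPt_yon_map_comp]
  let ζ := closedPoint e'.K'
  have hgen : Points.ofPt L (jA.left ζ) = x := by
    rw [← ofPt_yon_map_comp jA L, hL, ofPt_yon_map_comp, hx, Over.comp_left, Scheme.Hom.comp_apply]
    exact congrArg (Points.ofPt p'') (hσw _)
  have hspx : x ⤳ Points.ofPt L (closedPoint e'.A') := by
    rw [← hgen]
    exact (show jA.left ζ ⤳ closedPoint e'.A' from specializes_closedPoint _).map (Points.continuous_ofPt L)
  obtain ⟨v, hv'⟩ := surjective_ofPt hp''s (Points.ofPt L (closedPoint e'.A'))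
  have hvV : v ∈ V := by
    have h1 : v ∈ closure (Points.ofPt p'' ⁻¹' {x}) :=
      (isOpenMap_ofPt_of_etale hp''e).preimage_closure_subset_closure_preimage
        (show Points.ofPt p'' v ∈ closure {x} by rw [hv']; exact specializes_iff_mem_closure.1 hspx)
    refine (closure_minimal ?_ (PrimeSpectrum.isClosed_zeroLocus _)) h1
    intro u hu
    obtain ⟨z, hz1, hz2⟩ := points_exists_of_isPullback hsqπ (Points.schemeHomeo TW' u) (Points.ofPt p' w)
      ((congrFun (ofPt_comp_eq_map p'') u).symm.trans hu)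
    obtain ⟨z, rfl⟩ := (Points.schemeHomeo TW).surjective z
    rw [Points.map_yon_map_apply] at hz1
    rw [← (Points.schemeHomeo TW').injective hz1]
    refine hmem z ?_
    change Points.ofPt p' z ∈ C
    rw [show Points.ofPt p' z = Points.ofPt p' w from (congrFun (ofPt_comp_eq_map p') z).trans hz2]
    exact hw
  refine hfib v hvV ?_
  apply (Points.schemeHomeo (affOver T A')).injective
  rw [← ofPt_yon_eq, show (yon S).map snd' = p'' ≫ pullback.snd _ _ from (pullback.lift_snd _ _ _).symm,
    ← Points.map_ofPt, hv', Points.map_ofPt, pullback.lift_snd, ofPt_yon_eq]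
  refine congrArg (Points.schemeHomeo _) ?_
  change hD' (Spec.map (CommRingCat.ofHom e'.φ) (closedPoint e'.A')) = _
  haveI := e'.isLocalHom
  rw [show Spec.map (CommRingCat.ofHom e'.φ) (closedPoint e'.A') = closedPoint D from comap_closedPoint e'.φ]
  exact hh

end Groth.Agent.DecSec
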