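import Groth.Agent.DecSec.UnivClosedDvr
import Groth.Agent.DVRCrit.Scheme
import Groth.Agent.ASp.ValExist

/-! The discrete valuative criterion for universal closedness. -/

set_option autoImplicit false
set_option backward.isDefEq.respectTransparency false
set_option backward.isDefEq.respectTransparency.types false

universe u

open CategoryTheory CategoryTheory.Limits AlgebraicGeometry Opposite IsLocalRing

namespace Groth.Agent.DecSec

open _root_.AlgSp Groth.Agent.ASp

variable {S : Scheme.{u}}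

theorem isUnivClosedMor_of_dvr_affine {X : Sp S} {T₀ : Over S} [IsAffine T₀.left] [IsNoetherianRing Γ(T₀.left, ⊤)]
    (hX : IsAlgSpace X) [CompactSpace (Points X)] (f : X ⟶ (yon S).obj T₀) (hf : LocP @LocallyOfFiniteType f)
    (hv : ∀ sq : ValSq f, IsDiscreteValuationRing sq.A → sq.HasLiftExt) : IsUnivClosedMor f := by
  intro Z Z' _ g fst snd sq C hC
  rw [← isOpen_compl_iff, Points.isOpen_iff]
  intro T x
  rw [Set.preimage_compl, isOpen_compl_iff,
    TopologicalSpace.IsOpenCover.isClosed_iff_coe_preimage (iSup_affineOpens_eq_top T.left)]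
  intro V
  let T' : Over S := Over.mk (V.1.ι ≫ T.hom)
  let ι' : T' ⟶ T := Over.homMk V.1.ι rfl
  haveI : IsAffine T'.left := V.2
  obtain ⟨m, hm⟩ := (yon S).map_surjective ((yon S).map ι' ≫ x ≫ g)
  letI : Algebra Γ(T₀.left, ⊤) Γ(T'.left, ⊤) := m.left.appTop.hom.toAlgebra
  let T'' := affOver T₀ Γ(T'.left, ⊤)
  have he : T'.left.isoSpec.inv ≫ m.left =
      Spec.map (CommRingCat.ofHom (algebraMap Γ(T₀.left, ⊤) Γ(T'.left, ⊤))) ≫ T₀.left.isoSpec.inv := by
    rw [RingHom.algebraMap_toAlgebra, Iso.inv_comp_eq, ← Category.assoc, Iso.eq_comp_inv]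
    exact (Scheme.isoSpec_hom_naturality m.left).symm
  let e : T'' ⟶ T' := Over.homMk T'.left.isoSpec.inv (by
    rw [← Over.w m, ← Category.assoc, he]; rfl)
  have hem : e ≫ m = affTo T₀ Γ(T'.left, ⊤) := Over.OverMorphism.ext he
  let x' := (yon S).map (e ≫ ι') ≫ x
  have sq' : IsPullback (pullback.fst snd x') (pullback.snd snd x') snd x' := IsPullback.of_hasPullback snd x'
  have pb := sq'.paste_horiz sq
  have hx'g : x' ≫ g = (yon S).map (affTo T₀ Γ(T'.left, ⊤)) := by
    rw [← hem, Functor.map_comp, hm]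
    simp only [x', Functor.map_comp, Category.assoc]
  rw [hx'g] at pb
  have h := isClosed_image_of_dvr hX f hf hv Γ(T'.left, ⊤) pb
    (hC.preimage (Points.continuous_map (pullback.fst snd x')))
  rw [← preimage_image_of_isPullback sq', ← Set.preimage_comp, ← ofPt_comp_eq_map] at h
  rw [show Points.ofPt x' = fun t => Points.ofPt x (ι'.left (e.left t)) from
    funext (ofPt_yon_map_comp (e ≫ ι') x)] at h
  exact ((Scheme.homeoOfIso T'.left.isoSpec.symm).isClosed_preimage).1 h

theorem isUnivClosedMor_of_dvr {X Y : Sp S} (hX : IsAlgSpace X) (hY : IsAlgSpace Y) (hYN : IsLocNoethSp Y)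
    (f : X ⟶ Y) (hft : IsFiniteTypeMor f)
    (hv : ∀ sq : ValSq f, IsDiscreteValuationRing sq.A → sq.HasLiftExt) : IsUnivClosedMor f := by
  obtain ⟨ι, A, g, hA, hg, hτ, -⟩ := exists_affine_cover hY
  have hUC : ∀ i, IsUnivClosedMor (pullback.snd f (g i)) := by
    intro i
    haveI : IsAffine (A i).left := hA i
    haveI : IsLocallyNoetherian (A i).left := isLocallyNoetherian_of_chart hYN (hg i)
    haveI : IsNoetherianRing Γ((A i).left, ⊤) := IsLocallyNoetherian.component_noetherian ⟨⊤, isAffineOpen_top _⟩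
    have pb := IsPullback.of_hasPullback f (g i)
    have hXi : IsAlgSpace (pullback f (g i)) := isAlgSpace_pullback hY.diag hX (IsAlgSpace.yon_obj (A i)) f (g i)
    haveI := compactSpace_of_isQuasiCompactSp (hft.2 (IsAlgSpace.yon_obj (A i)) isQuasiCompactSp_yon _ _ _ pb)
    exact isUnivClosedMor_of_dvr_affine hXi _ (locP_of_isPullback pb.flip hX hY (IsAlgSpace.yon_obj (A i)) hft.1)
      fun s hs => hasLiftExt_of_isPullback pb s fun c => hv _ hs
  intro Z Z' hZ gz fst snd sq
  have pbZ := fun i => IsPullback.of_hasPullback (g i) gz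
  have hτZ : IsFpqcCover (fun i => pullback (g i) gz) (fun i => pullback.snd (g i) gz) :=
    isFpqcCover_baseChange hY hZ (fun i => IsAlgSpace.yon_obj (A i)) pbZ hτ
  refine isClosedMap_of_fpqc hτZ (fun i => IsPullback.of_hasPullback snd (pullback.snd (g i) gz)) fun i => ?_
  have s1 := (IsPullback.of_hasPullback snd (pullback.snd (g i) gz)).paste_horiz sq
  rw [← (pbZ i).w] at s1
  obtain ⟨m, hm, hm'⟩ : ∃ m : pullback snd (pullback.snd (g i) gz) ⟶ pullback f (g i),
      m ≫ pullback.fst f (g i) = pullback.fst snd (pullback.snd (g i) gz) ≫ fst ∧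
      m ≫ pullback.snd f (g i) = pullback.snd snd (pullback.snd (g i) gz) ≫ pullback.fst (g i) gz :=
    ⟨pullback.lift _ _ (s1.w.trans (Category.assoc _ _ _).symm), pullback.lift_fst _ _ _, pullback.lift_snd _ _ _⟩
  exact hUC i (isAlgSpace_pullback hY.diag (IsAlgSpace.yon_obj (A i)) hZ (g i) gz) _ m _
    (IsPullback.of_right (by rw [hm]; exact s1) hm' (IsPullback.of_hasPullback f (g i)))

theorem finiteType_algebraMap_dvr (A K : Type u) [CommRing A] [IsDomain A] [IsDiscreteValuationRing A] [Field K]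
    [Algebra A K] [IsFractionRing A K] : (algebraMap A K).FiniteType := by
  obtain ⟨ϖ, hϖ⟩ := IsDiscreteValuationRing.exists_irreducible A
  refine RingHom.finiteType_algebraMap.2 ⟨⟨{(algebraMap A K ϖ)⁻¹}, eq_top_iff.2 fun x _ => ?_⟩⟩
  obtain ⟨⟨a, s⟩, h⟩ := IsLocalization.surj (nonZeroDivisors A) x
  obtain ⟨n, u, hu⟩ := IsDiscreteValuationRing.eq_unit_mul_pow_irreducible (nonZeroDivisors.coe_ne_zero s) hϖ
  have hne : algebraMap A K ϖ ≠ 0 := (map_ne_zero_iff _ (IsFractionRing.injective A K)).2 hϖ.ne_zero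
  have hsne : algebraMap A K (u : A) ≠ 0 := (u.isUnit.map _).ne_zero
  have : x = algebraMap A K (a * ↑u⁻¹) * ((algebraMap A K ϖ)⁻¹) ^ n := by
    have e1 : algebraMap A K (↑u⁻¹ : A) = (algebraMap A K (u : A))⁻¹ :=
      eq_inv_of_mul_eq_one_left (by rw [← map_mul, Units.inv_mul, map_one])
    simp only at h
    rw [map_mul, e1, ← h, hu, map_mul, map_pow, inv_pow]
    field_simp
  rw [this]
  exact mul_mem (Subalgebra.algebraMap_mem _ _)
    (pow_mem (Algebra.subset_adjoin (by simp)) _)

theorem exists_dvr_lift_of_decent {F G P : Sp S} {f : F ⟶ G} (sq : ValSq f) [IsDiscreteValuationRing sq.A]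
    (hP : IsAlgSpace P) (hdec : IsDecent P)
    (fst : P ⟶ F) (q : P ⟶ (yon S).obj sq.ptA) (hq : LocP @LocallyOfFiniteType q) (comm : fst ≫ f = q ≫ sq.bot)
    (hcl : IsClosedMap (Points.map q)) (t : (yon S).obj sq.ptK ⟶ P) (ht1 : t ≫ fst = sq.top)
    (ht2 : t ≫ q = (yon S).map sq.j) :
    ∃ e : sq.DomExt, IsDiscreteValuationRing e.A' ∧
      (letI := e.ψ.toAlgebra; Module.Finite sq.K e.K' ∧ Algebra.IsSeparable sq.K e.K') ∧ e.HasLift := by
  let x₀ := Points.ofPt t (closedPoint sq.K)
  let η : (sq.ptA).left := Spec.map (CommRingCat.ofHom (algebraMap sq.A sq.K)) (closedPoint sq.K)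
  have hx₀ : Points.map q x₀ = Points.schemeHomeo sq.ptA η := by
    rw [Points.map_ofPt, ht2, ← Category.comp_id ((yon S).map sq.j)]
    exact ofPt_yon_map_comp sq.j _ _
  have hmem : Points.schemeHomeo sq.ptA (closedPoint sq.A) ∈ Points.map q '' closure {x₀} := by
    have hs : η ⤳ closedPoint sq.A := specializes_closedPoint _
    exact (hs.map (Points.schemeHomeo sq.ptA).continuous).mem_closed (hcl _ isClosed_closure)
      ⟨x₀, subset_closure rfl, hx₀⟩
  obtain ⟨x, hx, hqx⟩ := hmem
  obtain ⟨U, p, hpe, hps⟩ := hP.atlas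
  obtain ⟨v, rfl⟩ := surjective_ofPt hps x
  obtain ⟨v₀, hv, hv₀⟩ := exists_specializes_lift hdec hpe (specializes_iff_mem_closure.2 hx)
  obtain ⟨c, hc⟩ := (yon S).map_surjective (p ≫ q)
  have hcv : c.left v = closedPoint sq.A := ofPt_yon_inj c (by rw [hc, ← Points.map_ofPt]; exact hqx)
  obtain ⟨W, fstW, sndW, pbW⟩ := exists_isPullback_yon hpe.1 t
  obtain ⟨w, hw1, hw2⟩ := (ofPt_eq_ofPt_iff pbW v₀ (closedPoint sq.K)).1 hv₀
  have hw3 : fstW ≫ c = sndW ≫ sq.j := (yon S).map_injective (by
    rw [Functor.map_comp, Functor.map_comp, hc, ← Category.assoc, pbW.w, Category.assoc, ht2])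
  have hw3' : fstW.left ≫ c.left = sndW.left ≫ sq.j.left := congrArg CommaMorphism.left hw3
  haveI : LocallyOfFiniteType c.left := hq p (𝟙 _) c hpe (repWith_id _ _) (by rw [hc, Category.comp_id])
  haveI : IsLocallyNoetherian U.left :=
    haveI : IsLocallyNoetherian sq.ptA.left := inferInstanceAs (IsLocallyNoetherian (Spec (CommRingCat.of sq.A)))
    LocallyOfFiniteType.isLocallyNoetherian c.left
  haveI : Etale sndW.left := hpe.2 _ _ _ pbW
  haveI : LocallyOfFiniteType sq.j.left :=
    (HasRingHomProperty.Spec_iff (P := @LocallyOfFiniteType)).2 (finiteType_algebraMap_dvr sq.A sq.K)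
  haveI : LocallyOfFiniteType fstW.left := by
    haveI : LocallyOfFiniteType (fstW.left ≫ c.left) := by rw [hw3']; infer_instance
    exact locallyOfFiniteType_of_comp fstW.left c.left
  have hne : v ≠ fstW.left w := by
    intro h
    have h1 : η = closedPoint sq.A := by
      rw [← hcv, h, ← Scheme.Hom.comp_apply, hw3', Scheme.Hom.comp_apply, hw2]
      rfl
    have h2 := congrArg PrimeSpectrum.asIdeal h1
    change Ideal.comap (algebraMap sq.A sq.K) (maximalIdeal sq.K) = maximalIdeal sq.A at h2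
    rw [IsLocalRing.maximalIdeal_eq_bot, ← RingHom.ker_eq_comap_bot,
      (RingHom.injective_iff_ker_eq_bot _).1 (IsFractionRing.injective sq.A sq.K)] at h2
    exact IsDiscreteValuationRing.not_a_field sq.A h2.symm
  obtain ⟨V, l, hV, h2, h1⟩ := DVRCrit.exists_dvr_residueField fstW.left w v (hw1.symm ▸ hv) hne
  let L : Type u := W.left.residueField w
  obtain ⟨φ, hφ⟩ := Spec.map_surjective (l ≫ c.left)
  obtain ⟨ψ, hψ⟩ := Spec.map_surjective (R := CommRingCat.of sq.K) (S := CommRingCat.of L)
    (W.left.fromSpecResidueField w ≫ sndW.left)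
  have hcomm : φ ≫ CommRingCat.ofHom (algebraMap V L) = CommRingCat.ofHom (algebraMap sq.A sq.K) ≫ ψ := by
    apply Spec.map_injective
    rw [Spec.map_comp, Spec.map_comp, hφ, hψ, ← Category.assoc]
    change (Spec.map (CommRingCat.ofHom V.subtype) ≫ l) ≫ c.left = _
    rw [h1, Category.assoc, Category.assoc, hw3']
    rfl
  let e : sq.DomExt :=
    { A' := V
      K' := L
      φ := φ.hom
      ψ := ψ.hom
      comm := congrArg CommRingCat.Hom.hom hcomm
      isLocalHom := by
        have e1 : Spec.map φ (closedPoint V) = closedPoint sq.A := by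
          rw [hφ, Scheme.Hom.comp_apply, h2]; exact hcv
        exact ((IsLocalRing.local_hom_TFAE φ.hom).out 0 4).2 (congrArg PrimeSpectrum.asIdeal e1) }
  refine ⟨e, hV, ?_, ?_⟩
  · haveI : LocallyQuasiFinite sndW.left := Groth.Agent.ASt.locallyQuasiFinite_of_unramified sndW.left
    have hd := sndW.left.isDiscrete_preimage_singleton (closedPoint sq.K)
    rw [show sndW.left ⁻¹' {closedPoint sq.K} = Set.univ from
      Set.eq_univ_of_forall fun z =>
        @Subsingleton.elim _ (inferInstanceAs (Subsingleton ↥(Spec (CommRingCat.of sq.K)))) _ _] at hd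
    haveI : DiscreteTopology ↥W.left := by
      rw [← (Homeomorph.Set.univ ↥W.left).discreteTopology_iff]
      exact isDiscrete_iff_discreteTopology.1 hd
    haveI := (isClosed_singleton_iff_isClosedImmersion).1 (isClosed_discrete ({w} : Set ↥W.left))
    have hlft : LocallyOfFiniteType (W.left.fromSpecResidueField w ≫ sndW.left) :=
      MorphismProperty.comp_mem _ _ _ inferInstance inferInstance
    haveI : FormallyUnramified (W.left.fromSpecResidueField w) := by
      haveI : IsIso (pullback.diagonal (W.left.fromSpecResidueField w)) := inferInstance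
      infer_instance
    have hfu : FormallyUnramified (W.left.fromSpecResidueField w ≫ sndW.left) :=
      MorphismProperty.comp_mem _ _ _ inferInstance inferInstance
    rw [← hψ] at hlft hfu
    rw [HasRingHomProperty.Spec_iff (P := @LocallyOfFiniteType)] at hlft
    rw [HasRingHomProperty.Spec_iff (P := @FormallyUnramified)] at hfu
    letI : Algebra sq.K L := ψ.hom.toAlgebra
    haveI : Algebra.FiniteType sq.K L := hlft
    haveI : Algebra.FormallyUnramified sq.K L := hfu
    exact ⟨Algebra.FormallyUnramified.finite_of_free sq.K L, Algebra.FormallyUnramified.isSeparable sq.K L⟩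
  · let l' : e.ptA' ⟶ U := Over.homMk l (by
      change l ≫ U.hom = Spec.map φ ≫ sq.str
      rw [hφ, Category.assoc, show c.left ≫ sq.str = U.hom from Over.w c])
    refine ⟨(yon S).map l' ≫ p ≫ fst, ?_, ?_⟩
    · let k : e.ptK' ⟶ W := Over.homMk (W.left.fromSpecResidueField w) (by
        change _ = Spec.map (CommRingCat.ofHom V.subtype) ≫ Spec.map φ ≫ sq.str
        rw [hφ, Category.assoc, show c.left ≫ sq.str = U.hom from Over.w c, reassoc_of% h1]
        simp only [Over.w fstW])
      let jA : e.ptK' ⟶ e.ptA' := Over.homMk (Spec.map (CommRingCat.ofHom (algebraMap e.A' e.K'))) rfl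
      have k1 : jA ≫ l' = k ≫ fstW := Over.OverMorphism.ext h1
      change (yon S).map jA ≫ _ = _
      rw [← Category.assoc, ← Functor.map_comp, k1, Functor.map_comp, Category.assoc,
        ← Category.assoc ((yon S).map fstW), pbW.w, Category.assoc, ht1, ← Category.assoc, ← Functor.map_comp]
      congr 2
      exact Over.OverMorphism.ext hψ.symm
    · rw [Category.assoc, Category.assoc, comm, ← Category.assoc p, ← hc, ← Category.assoc, ← Functor.map_comp]
      congr 2
      exact Over.OverMorphism.ext hφ.symm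

theorem exists_dvr_lift_of_univClosed {X Y : Sp S} (hX : IsAlgSpace X) (hY : IsAlgSpace Y) (f : X ⟶ Y)
    (hft : IsFiniteTypeMor f) (hd : IsDecentMor f) (hc : IsUnivClosedMor f) (sq : ValSq f)
    (hA : IsDiscreteValuationRing sq.A) :
    ∃ e : sq.DomExt, IsDiscreteValuationRing e.A' ∧
      (letI := e.ψ.toAlgebra; Module.Finite sq.K e.K' ∧ Algebra.IsSeparable sq.K e.K') ∧ e.HasLift := by
  have pb := IsPullback.of_hasPullback f sq.bot
  haveI := hA
  exact exists_dvr_lift_of_decent sq (isAlgSpace_pullback hY.diag hX (IsAlgSpace.yon_obj sq.ptA) f sq.bot)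
    (hd sq.bot _ _ pb) _ _ (locP_of_isPullback pb.flip hX hY (IsAlgSpace.yon_obj sq.ptA) hft.1) pb.w
    (hc (IsAlgSpace.yon_obj sq.ptA) sq.bot _ _ pb)
    (pb.lift sq.top ((yon S).map sq.j) sq.comm) (pb.lift_fst _ _ _) (pb.lift_snd _ _ _)

end Groth.Agent.DecSec
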