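import Groth.Agent.ASt.QcPts
import Groth.Agent.ASt.LocQCalc
import Groth.Agent.ASp.ValDense
import Mathlib.RingTheory.Valuation.LocalSubring
import Mathlib.AlgebraicGeometry.ResidueField

/-! The closure of the image of a quasi-compact morphism is reached by valuation rings. -/

set_option autoImplicit false
set_option backward.isDefEq.respectTransparency false
set_option backward.isDefEq.respectTransparency.types false

universe u

open CategoryTheory CategoryTheory.Limits AlgebraicGeometry Opposite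

namespace Groth.Agent.DecSec

open _root_.AlgSp Groth.Agent.ASp Groth.Agent.ASt

variable {S : Scheme.{u}} {𝒳 𝒴 : AlgSt.Cat S}

/-- Points in the closure of the image of a quasi-compact morphism. -/
theorem exists_valuationRing_of_closure (h𝒳 : AlgSt.IsAlgStack Scheme.fppfPrecoverage 𝒳)
    (h𝒴 : AlgSt.IsAlgStack Scheme.fppfPrecoverage 𝒴) (f : 𝒳 ⥤ᵇ 𝒴)
    (hf : AlgSt.IsQuasiCompactMor Scheme.fppfPrecoverage f)
    (y : AlgSt.Points 𝒴) (hy : y ∈ closure (Set.range (AlgSt.Points.map f))) :
    ∃ (A : Type u) (_ : CommRing A) (_ : IsDomain A) (_ : ValuationRing A) (sA : Spec (CommRingCat.of A) ⟶ S)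
      (a : FibCat.overCat (Over.mk sA) ⥤ᵇ 𝒴)
      (x : FibCat.overCat (Over.mk (Spec.map (CommRingCat.ofHom (algebraMap A (FractionRing A))) ≫ sA)) ⥤ᵇ 𝒳),
      Nonempty (BasedFunctor.comp x f ≅
        BasedFunctor.comp (AlgSt.overMap (Over.homMk (Spec.map (CommRingCat.ofHom (algebraMap A (FractionRing A)))) rfl :
          Over.mk (Spec.map (CommRingCat.ofHom (algebraMap A (FractionRing A))) ≫ sA) ⟶ Over.mk sA)) a) ∧
      AlgSt.Points.ofChart a (IsLocalRing.closedPoint A) = y := by
  haveI := h𝒳.isStack.1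
  haveI := h𝒴.isStack.1
  obtain ⟨V, b, hb, hbs⟩ := h𝒴.atlas
  obtain ⟨v, rfl⟩ := surjective_chart hbs y
  obtain ⟨V₁, hV₁, hvV, -⟩ := exists_isAffineOpen_mem_and_subset (x := v) (U := (⊤ : V.left.Opens)) (by simp)
  let V₀ : Over S := Over.mk (V₁.ι ≫ V.hom)
  let jV : V₀ ⟶ V := Over.homMk V₁.ι rfl
  haveI : IsAffine V₀.left := hV₁
  haveI : IsOpenImmersion jV.left := inferInstanceAs (IsOpenImmersion V₁.ι)
  let b' := BasedFunctor.comp (AlgSt.overMap jV) b
  have hb' : AlgSt.RepByAlgSpWith (LocP @Smooth) b' :=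
    repByAlgSpWith_comp compLocal_smooth (repByAlgSpWith_overMap_locP (M := @Smooth) inferInstance) hb
  let v₀ : ↥V₀.left := ⟨v, hvV⟩
  have hv₀ : AlgSt.Points.ofChart b' v₀ = AlgSt.Points.ofChart b v := ofChart_overMap jV b v₀
  have hop : IsOpenMap (AlgSt.Points.ofChart b') := isOpenMap_ofChart_of_smooth hb'
  have hcl : v₀ ∈ closure (AlgSt.Points.ofChart b' ⁻¹' Set.range (AlgSt.Points.map f)) :=
    hop.preimage_closure_subset_closure_preimage (show AlgSt.Points.ofChart b' v₀ ∈ _ from hv₀ ▸ hy)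
  haveI : FibCat.IsFibGrpd (FibCat.fp b' f).p := isFibGrpd_fp
  obtain ⟨W, c, hW, -, hcs⟩ := hf _ (isAlgStack_overCat V₀) (isQuasiCompact_overCat V₀) b'
  haveI : IsAffine W.left := hW
  obtain ⟨k, ⟨γ⟩⟩ := exists_overMap (BasedFunctor.comp c (FibCat.fpFst b' f))
  have hsub : AlgSt.Points.ofChart b' ⁻¹' Set.range (AlgSt.Points.map f) ⊆ Set.range k.left := by
    rintro v' ⟨p, hp⟩
    obtain ⟨e, he, -⟩ := points_surjective_fp b' f (schemePts V₀ v') p (by rw [map_schemePts]; exact hp.symm)
    obtain ⟨w, rfl⟩ := isSurjective_of_repByAlgSpWith hcs e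
    obtain ⟨s, rfl⟩ := (schemePts W).surjective w
    rw [map_map, map_congr γ, map_schemePts,
      ← show AlgSt.Points.ofChart (BasedFunctor.id (FibCat.overCat V₀)) (k.left s) =
        AlgSt.Points.ofChart (AlgSt.overMap k) s from (ofChart_overMap k _ s).symm, schemePts_apply] at he
    exact ⟨s, injective_ofChart_id V₀ he⟩
  obtain ⟨w, hw⟩ := Groth.Agent.ASp.exists_specializes_of_mem_closure_range k.left (closure_mono hsub hcl)
  let φ := V₀.left.presheaf.stalkSpecializes hw ≫ V₀.left.residue (k.left w) ≫ k.left.residueFieldMap w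
  obtain ⟨A, hA, hA_local⟩ := IsLocalRing.exists_factor_valuationRing φ.hom
  let a₀ : V₀.left.presheaf.stalk v₀ ⟶ CommRingCat.of A :=
    CommRingCat.ofHom (φ.hom.codRestrict A.toSubring hA)
  let l : Spec (CommRingCat.of A) ⟶ V₀.left := Spec.map a₀ ≫ V₀.left.fromSpecStalk v₀
  let σ : CommRingCat.of (W.left.residueField w) ⟶ CommRingCat.of (FractionRing A) :=
    CommRingCat.ofHom (IsLocalization.algEquiv (nonZeroDivisors A) (W.left.residueField w) (FractionRing A)).toRingHom
  have hσ : CommRingCat.ofHom (algebraMap A (W.left.residueField w)) ≫ σ =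
      CommRingCat.ofHom (algebraMap A (FractionRing A)) := by
    ext z
    exact (IsLocalization.algEquiv (nonZeroDivisors A) (W.left.residueField w) (FractionRing A)).commutes z
  let n : Spec (CommRingCat.of (FractionRing A)) ⟶ W.left := Spec.map σ ≫ W.left.fromSpecResidueField w
  have hn : n ≫ k.left = Spec.map (CommRingCat.ofHom (algebraMap A (FractionRing A))) ≫ l := by
    have e1 : a₀ ≫ CommRingCat.ofHom (algebraMap A (W.left.residueField w)) = φ := by
      ext z
      rfl
    simp only [n, l]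
    rw [← hσ, Spec.map_comp]
    simp only [Category.assoc]
    congr 1
    rw [← Spec.map_comp_assoc, e1, ← Scheme.Hom.SpecMap_residueFieldMap_fromSpecResidueField]
    simp [φ, Scheme.fromSpecResidueField]
  let sA : Spec (CommRingCat.of A) ⟶ S := l ≫ V₀.hom
  let T : Over S := Over.mk sA
  let T' : Over S := Over.mk (Spec.map (CommRingCat.ofHom (algebraMap A (FractionRing A))) ≫ sA)
  let M : T ⟶ V₀ := Over.homMk l rfl
  let N : T' ⟶ W := Over.homMk n (by
    change n ≫ W.hom = _
    rw [← Over.w k, ← Category.assoc, hn, Category.assoc]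
    rfl)
  let jT : T' ⟶ T := Over.homMk (Spec.map (CommRingCat.ofHom (algebraMap A (FractionRing A)))) rfl
  have eN : N ≫ k = jT ≫ M := Over.OverMorphism.ext hn
  refine ⟨A, inferInstance, inferInstance, inferInstance, sA, BasedFunctor.comp (AlgSt.overMap M) b',
    BasedFunctor.comp (AlgSt.overMap N) (BasedFunctor.comp c (FibCat.fpSnd b' f)), ⟨?_⟩, ?_⟩
  · change BasedFunctor.comp (BasedFunctor.comp (AlgSt.overMap N) (BasedFunctor.comp c (FibCat.fpSnd b' f))) f ≅
      BasedFunctor.comp (AlgSt.overMap jT) (BasedFunctor.comp (AlgSt.overMap M) b')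
    exact (eqToIso (Groth.Agent.ASt.basedFunctor_ext rfl)).trans <|
      (wL (AlgSt.overMap N) ((wL c (FibCat.fpIso b' f)).symm.trans (wR γ b'))).trans <|
      (eqToIso (Groth.Agent.ASt.basedFunctor_ext rfl)).trans <|
      (wR ((overMapComp N k).trans ((eqToIso (by rw [eN])).trans (overMapComp jT M).symm)) b').trans <|
      eqToIso (Groth.Agent.ASt.basedFunctor_ext rfl)
  · rw [ofChart_overMap, ← hv₀]
    congr 1
    change l (IsLocalRing.closedPoint A) = v₀
    have : Spec.map a₀ (IsLocalRing.closedPoint A) = IsLocalRing.closedPoint (V₀.left.presheaf.stalk v₀) :=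
      IsLocalRing.comap_closedPoint (S := A) (φ.hom.codRestrict A.toSubring hA)
    rw [Scheme.Hom.comp_apply]
    exact (congrArg (V₀.left.fromSpecStalk v₀) this).trans V₀.left.fromSpecStalk_closedPoint

end Groth.Agent.DecSec
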