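import Groth.Agent.DecSec.GrpLocus
import Groth.Agent.ASp.FlatLocusSp
import Groth.Agent.ASp.UnramMono
import Groth.Agent.ASp.MorCancel
import Groth.Agent.ASp.MonoFlat
import Groth.Agent.ASp.LargestOpen
import Groth.Agent.S9938
import Groth.Agent.S10614

/-! Open loci of the base over which a morphism over the base has a property. -/

set_option autoImplicit false
set_option backward.isDefEq.respectTransparency false
set_option backward.isDefEq.respectTransparency.types false

universe u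

open CategoryTheory CategoryTheory.Limits AlgebraicGeometry Opposite

namespace Groth.Agent.DecSec

open _root_.AlgSp Groth.Agent.ASp Groth.Agent.Inf

variable {S : Scheme.{u}}

/-- An open set `Ω` of the base is the locus over which `f` has the property `P`. -/
def IsWhereSet (P : MorphismProperty (Sp S)) {X Y Z : Space S} (f : X ⟶ Y) (q : Y ⟶ Z)
    (Ω : Set (Points Z.obj)) : Prop :=
  IsOpen Ω ∧ ∀ (Z' : Space S) (g : Z' ⟶ Z), Set.range (Points.map g.hom) ⊆ Ω ↔
    ∀ (Y' : Space S) (gY : Y' ⟶ Y) (q' : Y' ⟶ Z'), IsPullback gY.hom q'.hom q.hom g.hom →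
      ∀ (X' : Space S) (gX : X' ⟶ X) (f' : X' ⟶ Y'), IsPullback gX.hom f'.hom f.hom gY.hom → P f'.hom

/-- An open locus gives an open subspace with the universal property. -/
theorem IsWhereSet.exists_open {P : MorphismProperty (Sp S)} {X Y Z : Space S} {f : X ⟶ Y} {q : Y ⟶ Z}
    {Ω : Set (Points Z.obj)} (h : IsWhereSet P f q Ω) :
    ∃ (W : Space S) (w : W ⟶ Z), RepWith @IsOpenImmersion w.hom ∧
      ∀ (Z' : Space S) (g : Z' ⟶ Z), (∃ k : Z' ⟶ W, k ≫ w = g) ↔
        ∀ (Y' : Space S) (gY : Y' ⟶ Y) (q' : Y' ⟶ Z'), IsPullback gY.hom q'.hom q.hom g.hom →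
          ∀ (X' : Space S) (gX : X' ⟶ X) (f' : X' ⟶ Y'), IsPullback gX.hom f'.hom f.hom gY.hom → P f'.hom := by
  refine ⟨⟨subSp Z.obj Ω, isAlgSpace_subSp Z.property h.1⟩, ObjectProperty.homMk (subι Z.obj Ω),
    repWith_subι Z.obj Ω h.1, fun Z' g => ?_⟩
  rw [← h.2 Z' g]
  constructor
  · rintro ⟨k, rfl⟩
    rintro _ ⟨x, rfl⟩
    change Points.map (k.hom ≫ subι Z.obj Ω) x ∈ Ω
    rw [Points.map_comp]
    exact (range_map_subι Z.obj Ω).le ⟨_, rfl⟩
  · intro hr
    obtain ⟨k, hk⟩ := exists_fac_subι g.hom hr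
    exact ⟨ObjectProperty.homMk k, ObjectProperty.hom_ext _ hk⟩

theorem exists_baseChange {X Y Z Z' : Space S} (f : X ⟶ Y) (q : Y ⟶ Z) (g : Z' ⟶ Z) :
    ∃ (Y' : Space S) (gY : Y' ⟶ Y) (q' : Y' ⟶ Z'), IsPullback gY.hom q'.hom q.hom g.hom ∧
      ∃ (X' : Space S) (gX : X' ⟶ X) (f' : X' ⟶ Y'), IsPullback gX.hom f'.hom f.hom gY.hom := by
  let Y' : Space S := ⟨_, isAlgSpace_pullback Z.property.diag Y.property Z'.property q.hom g.hom⟩
  let gY : Y' ⟶ Y := ObjectProperty.homMk (pullback.fst q.hom g.hom)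
  exact ⟨Y', gY, ObjectProperty.homMk (pullback.snd q.hom g.hom), IsPullback.of_hasPullback _ _,
    ⟨_, isAlgSpace_pullback Y.property.diag X.property Y'.property f.hom gY.hom⟩,
    ObjectProperty.homMk (pullback.fst f.hom gY.hom), ObjectProperty.homMk (pullback.snd f.hom gY.hom),
    IsPullback.of_hasPullback _ _⟩

theorem IsWhereSet.inter {P Q : MorphismProperty (Sp S)} {X Y Z : Space S} {f : X ⟶ Y} {q : Y ⟶ Z}
    {Ω Ω' : Set (Points Z.obj)} (h : IsWhereSet P f q Ω) (h' : IsWhereSet Q f q Ω') :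
    IsWhereSet (P ⊓ Q) f q (Ω ∩ Ω') :=
  ⟨h.1.inter h'.1, fun Z' g => by
    rw [Set.subset_inter_iff, h.2, h'.2]
    exact ⟨fun H Y' gY q' sY X' gX f' sX => ⟨H.1 Y' gY q' sY X' gX f' sX, H.2 Y' gY q' sY X' gX f' sX⟩,
      fun H => ⟨fun Y' gY q' sY X' gX f' sX => (H Y' gY q' sY X' gX f' sX).1,
        fun Y' gY q' sY X' gX f' sX => (H Y' gY q' sY X' gX f' sX).2⟩⟩⟩

theorem IsWhereSet.congr {P Q : MorphismProperty (Sp S)} {X Y Z : Space S} {f : X ⟶ Y} {q : Y ⟶ Z}
    {Ω : Set (Points Z.obj)} (h : IsWhereSet P f q Ω)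
    (e : ∀ (Z' : Space S) (g : Z' ⟶ Z) (Y' : Space S) (gY : Y' ⟶ Y) (q' : Y' ⟶ Z'),
      IsPullback gY.hom q'.hom q.hom g.hom → ∀ (X' : Space S) (gX : X' ⟶ X) (f' : X' ⟶ Y'),
        IsPullback gX.hom f'.hom f.hom gY.hom → (P f'.hom ↔ Q f'.hom)) : IsWhereSet Q f q Ω :=
  ⟨h.1, fun Z' g => (h.2 Z' g).trans
    ⟨fun H Y' gY q' sY X' gX f' sX => (e Z' g Y' gY q' sY X' gX f' sX).1 (H Y' gY q' sY X' gX f' sX),
      fun H Y' gY q' sY X' gX f' sX => (e Z' g Y' gY q' sY X' gX f' sX).2 (H Y' gY q' sY X' gX f' sX)⟩⟩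

variable {X Y Z : Space S} (f : X ⟶ Y) (p : X ⟶ Z) (q : Y ⟶ Z) (hc : f ≫ q = p)

/-- A pointwise property, stable under base change and open on the source, gives an open locus. -/
theorem isWhereSet_of_locus (hc : f ≫ q = p) (hp : IsClosedMor p.hom) (P : MorphismProperty (Sp S))
    (L : ∀ ⦃U V : Sp S⦄, (U ⟶ V) → Points U → Prop) (ho : IsOpen {x | L f.hom x})
    (hbc : ∀ (Z' : Space S) (g : Z' ⟶ Z) (Y' : Space S) (gY : Y' ⟶ Y) (q' : Y' ⟶ Z'),
      IsPullback gY.hom q'.hom q.hom g.hom → ∀ (X' : Space S) (gX : X' ⟶ X) (f' : X' ⟶ Y'),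
        IsPullback gX.hom f'.hom f.hom gY.hom → (P f'.hom ↔ ∀ x', L f.hom (Points.map gX.hom x'))) :
    IsWhereSet P f q (Points.map p.hom '' {x | L f.hom x}ᶜ)ᶜ := by
  subst hc
  refine ⟨(hp _ ho.isClosed_compl).isOpen_compl, fun Z' g => ?_⟩
  constructor
  · intro hr Y' gY q' sY X' gX f' sX
    refine (hbc Z' g Y' gY q' sY X' gX f' sX).2 fun x' => ?_
    by_contra hb
    refine hr ⟨Points.map (f'.hom ≫ q'.hom) x', rfl⟩ ⟨Points.map gX.hom x', hb, ?_⟩
    change Points.map (f.hom ≫ q.hom) _ = _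
    rw [← Points.map_comp, ← Points.map_comp, (sX.paste_vert sY).w]
  · rintro H _ ⟨z', rfl⟩ ⟨x, hx, e⟩
    obtain ⟨Y', gY, q', sY, X', gX, f', sX⟩ := exists_baseChange f q g
    obtain ⟨x', h1, -⟩ := points_exists_of_isPullback (sX.paste_vert sY) x z' e
    exact hx (h1 ▸ (hbc Z' g Y' gY q' sY X' gX f' sX).1 (H Y' gY q' sY X' gX f' sX) x')

theorem lft_first (hc : f ≫ q = p) (hp : LocP @LocallyOfFiniteType p.hom) :
    LocP @LocallyOfFiniteType f.hom := by
  subst hc
  refine ASp.locP_of_comp (Q := ⊤) (fun f g (h : LocallyOfFiniteType (f ≫ g)) _ => ?_) (g := q.hom)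
    Z.property hp fun _ _ _ _ _ _ _ _ => trivial
  exact locallyOfFiniteType_of_comp f g

theorem lfp_first (hc : f ≫ q = p) (hp : LocP @LocallyOfFinitePresentation p.hom)
    (hq : LocP @LocallyOfFiniteType q.hom) : LocP @LocallyOfFinitePresentation f.hom := by
  subst hc
  exact ASp.locP_of_comp (P := @LocallyOfFinitePresentation) (Q := @LocallyOfFiniteType)
    (fun a b h₁ h₂ => by
      haveI := h₁; haveI := h₂
      exact FlatLocus.locallyOfFinitePresentation_of_comp a b) Z.property hp hq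

/-- Where a morphism is unramified. -/
theorem isWhereSet_unram (hc : f ≫ q = p) (hp : IsClosedMor p.hom) (hp1 : LocP @LocallyOfFiniteType p.hom) :
    IsWhereSet (LocP (@LocallyOfFiniteType ⊓ @FormallyUnramified)) f q
      (Points.map p.hom '' {x | IsUnramNbhd f.hom x}ᶜ)ᶜ := by
  have hf := lft_first f p q hc hp1
  refine isWhereSet_of_locus f p q hc hp _ (fun _ _ h x => IsUnramNbhd h x) (isOpen_unramLocus f hf)
    fun Z' g Y' gY q' sY X' gX f' sX => ?_
  rw [locP_unram_iff_forall f' (locP_of_isPullback sX.flip X.property Y.property Y'.property hf)]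
  exact forall_congr' fun x' => isUnramNbhd_baseChange_iff hf sX x'

theorem locP_flat_iff_forall {A B : Space S} (f : A ⟶ B) (hfp : LocP @LocallyOfFinitePresentation f.hom) :
    LocP @Flat f.hom ↔ ∀ x, IsFlatAtMor f.hom x := by
  refine ⟨fun h x U V a b k u ha hb e _ => ?_, fun h U V a b k ha hb e => ?_⟩
  · haveI : Flat k.left := h a b k ha hb e
    exact Flat.stalkMap k.left u
  · exact (Flat.iff_flat_stalkMap _).2 fun u => (isFlatAtMor_iff_of_chart hfp ha hb e u).1 (h _)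

/-- Where a morphism is flat. -/
theorem isWhereSet_flat (hc : f ≫ q = p) (hp : IsClosedMor p.hom) (hp1 : LocP @LocallyOfFinitePresentation p.hom)
    (hp2 : LocP @Flat p.hom) (hq : LocP @LocallyOfFiniteType q.hom) :
    IsWhereSet (LocP @Flat) f q (Points.map p.hom '' {x | IsFlatAtMor f.hom x}ᶜ)ᶜ := by
  have hf := lfp_first f p q hc hp1 hq
  refine isWhereSet_of_locus f p q hc hp _ (fun _ _ h x => IsFlatAtMor h x)
    (ASp.isOpen_flatLocus X.property Y.property hf) fun Z' g Y' gY q' sY X' gX f' sX => ?_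
  have hf' := locP_of_isPullback sX.flip X.property Y.property Y'.property hf
  rw [locP_flat_iff_forall f' hf']
  subst hc
  exact forall_congr' fun x' => ASp.isFlatAtMor_baseChange_iff X.property Y.property Z.property X'.property
    Z'.property hp1 hp2 hq sY sX hf hf' x'

theorem locP_of_open {P : MorphismProperty Scheme.{u}} {A B : Sp S} (h : A ⟶ B) (hl : LocP P h)
    {Ω : Set (Points A)} (hΩ : IsOpen Ω) : LocP P (subι A Ω ≫ h) := fun U V a b k ha hb e =>
  hl (a ≫ subι A Ω) b k (repWith_comp ha (repWith_mono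
    (fun _ _ g hg => by haveI : IsOpenImmersion g := hg; exact (inferInstance : Etale g)) (repWith_subι A Ω hΩ))) hb
    (by rw [Category.assoc, e])

/-- The image of the flat locus is open. -/
theorem isOpen_image_flatLocus (hf : LocP @LocallyOfFinitePresentation f.hom) :
    IsOpen (Points.map f.hom '' {x | IsFlatAtMor f.hom x}) := by
  set Ω := {x | IsFlatAtMor f.hom x}
  have hΩ : IsOpen Ω := ASp.isOpen_flatLocus X.property Y.property hf
  have h1 := locP_of_open f.hom hf hΩ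
  have h2 : LocP @Flat (subι X.obj Ω ≫ f.hom) := fun U V a b k ha hb e => by
    have ha' : RepWith @Etale (a ≫ subι X.obj Ω) := repWith_comp ha (repWith_mono
      (fun _ _ g hg => by haveI : IsOpenImmersion g := hg; exact (inferInstance : Etale g))
      (repWith_subι X.obj Ω hΩ))
    refine (Flat.iff_flat_stalkMap _).2 fun u => ?_
    refine (isFlatAtMor_iff_of_chart hf ha' hb (by rw [Category.assoc, e]) u).1 ?_
    change Points.ofPt (a ≫ subι X.obj Ω) u ∈ Ω
    rw [← Points.map_ofPt]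
    exact (range_map_subι X.obj Ω).le ⟨_, rfl⟩
  have := (isOpenMap_map_of_fppf Y.property (isAlgSpace_subSp X.property hΩ) _ h2 h1).isOpen_range
  rwa [show Points.map (subι X.obj Ω ≫ f.hom) = Points.map f.hom ∘ Points.map (subι X.obj Ω) from
    funext (Points.map_comp _ _), Set.range_comp, range_map_subι] at this

/-- Where a morphism is flat and surjective. -/
theorem isWhereSet_surjective_flat (hc : f ≫ q = p) (hp : IsClosedMor p.hom)
    (hp1 : LocP @LocallyOfFinitePresentation p.hom) (hp2 : LocP @Flat p.hom)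
    (hq : LocP @LocallyOfFiniteType q.hom) (hq2 : IsClosedMor q.hom) :
    IsWhereSet (IsSurjectiveMor ⊓ LocP @Flat) f q
      ((Points.map p.hom '' {x | IsFlatAtMor f.hom x}ᶜ)ᶜ ∩
        (Points.map q.hom '' (Points.map f.hom '' {x | IsFlatAtMor f.hom x})ᶜ)ᶜ) := by
  have hF := isWhereSet_flat f p q hc hp hp1 hp2 hq
  have hf := lfp_first f p q hc hp1 hq
  refine ⟨hF.1.inter (hq2 _ (isOpen_image_flatLocus f hf).isClosed_compl).isOpen_compl, fun Z' g => ?_⟩
  rw [Set.subset_inter_iff]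
  constructor
  · rintro ⟨h1, h2⟩ Y' gY q' sY X' gX f' sX
    refine ⟨fun y' => ?_, (hF.2 Z' g).1 h1 Y' gY q' sY X' gX f' sX⟩
    by_contra hy
    refine h2 ⟨Points.map q'.hom y', rfl⟩ ⟨Points.map gY.hom y', ?_, ?_⟩
    · rintro ⟨x, -, e⟩
      obtain ⟨x', -, hx'⟩ := points_exists_of_isPullback sX x y' e
      exact hy ⟨x', hx'⟩
    · rw [← Points.map_comp, ← Points.map_comp, sY.w]
  · intro H
    have hfl : Set.range (Points.map g.hom) ⊆ (Points.map p.hom '' {x | IsFlatAtMor f.hom x}ᶜ)ᶜ :=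
      (hF.2 Z' g).2 fun Y' gY q' sY X' gX f' sX => (H Y' gY q' sY X' gX f' sX).2
    refine ⟨hfl, ?_⟩
    rintro _ ⟨z', rfl⟩ ⟨y, hy, e⟩
    obtain ⟨Y', gY, q', sY, X', gX, f', sX⟩ := exists_baseChange f q g
    obtain ⟨y', h1, h2⟩ := points_exists_of_isPullback sY y z' e
    obtain ⟨x', hx'⟩ := (H Y' gY q' sY X' gX f' sX).1 y'
    refine hy ⟨Points.map gX.hom x', ?_, ?_⟩
    · by_contra hb
      refine hfl ⟨z', rfl⟩ ⟨Points.map gX.hom x', hb, ?_⟩
      subst hc
      change Points.map (f.hom ≫ q.hom) _ = _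
      rw [← Points.map_comp, (sX.paste_vert sY).w, Points.map_comp, Points.map_comp, hx', h2]
    · rw [← Points.map_comp, sX.w, Points.map_comp, hx', h1]

/-- The unramified locus is mapped by the diagonal onto an open set. -/
theorem isOpen_image_diagonal {XX : Space S} {pr0 pr1 : XX ⟶ X} (hXX : IsPullback pr0.hom pr1.hom f.hom f.hom)
    (hf : LocP @LocallyOfFiniteType f.hom) :
    IsOpen (Points.map (hXX.lift (𝟙 X.obj) (𝟙 X.obj) rfl) '' {x | IsUnramNbhd f.hom x}) := by
  set Ω := {x | IsUnramNbhd f.hom x}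
  have hΩ : IsOpen Ω := isOpen_unramLocus f hf
  let U : Space S := ⟨subSp X.obj Ω, isAlgSpace_subSp X.property hΩ⟩
  let j : U.obj ⟶ X.obj := subι X.obj Ω
  have hj : RepWith @IsOpenImmersion j := repWith_subι X.obj Ω hΩ
  have hU : LocP (@LocallyOfFiniteType ⊓ @FormallyUnramified) (j ≫ f.hom) := fun A B a b k ha hb e => by
    have ha' : RepWith @Etale (a ≫ j) := repWith_comp ha (repWith_mono
      (fun _ _ g hg => by haveI : IsOpenImmersion g := hg; exact (inferInstance : Etale g)) hj)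
    have e' : (a ≫ j) ≫ f.hom = (yon S).map k ≫ b := by rw [Category.assoc, e]
    haveI : LocallyOfFiniteType k.left := hf _ b k ha' hb e'
    refine ⟨inferInstance, ?_⟩
    choose W hW hW' using fun u => (FlatLocus.exists_formallyUnramified_nhd_iff k.left u).2
      ((isUnramNbhd_iff_of_chart hf ha' hb e' u).1 (by
        change Points.ofPt (a ≫ j) u ∈ Ω
        rw [← Points.map_ofPt]
        exact (range_map_subι X.obj Ω).le ⟨_, rfl⟩))
    exact IsZariskiLocalAtSource.of_iSup_eq_top (P := @FormallyUnramified) W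
      (top_unique fun u _ => TopologicalSpace.Opens.mem_iSup.2 ⟨u, hW u⟩) fun i => hW' i
  have hd := repWith_diagonal_isOpenImmersion_of_unramified U.property Y.property hU
  let m1 : pullback (j ≫ f.hom) (j ≫ f.hom) ⟶ pullback f.hom (j ≫ f.hom) :=
    pullback.lift (pullback.fst _ _ ≫ j) (pullback.snd _ _) (by rw [Category.assoc, pullback.condition])
  have s1 : IsPullback (pullback.fst (j ≫ f.hom) (j ≫ f.hom)) m1 j (pullback.fst f.hom (j ≫ f.hom)) :=
    IsPullback.of_bot (v₂₁ := pullback.snd f.hom (j ≫ f.hom)) (v₂₂ := f.hom) (h₃₁ := j ≫ f.hom)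
      (by simpa [m1] using IsPullback.of_hasPullback (j ≫ f.hom) (j ≫ f.hom)) (pullback.lift_fst _ _ _).symm
      (IsPullback.of_hasPullback _ _)
  let m2 : pullback f.hom (j ≫ f.hom) ⟶ XX.obj :=
    hXX.lift (pullback.fst _ _) (pullback.snd _ _ ≫ j) (by rw [Category.assoc, pullback.condition])
  have s2 : IsPullback (pullback.snd f.hom (j ≫ f.hom)) m2 j pr1.hom :=
    IsPullback.of_bot (v₂₁ := pr0.hom) (v₂₂ := f.hom) (h₃₁ := f.hom)
      (by simpa [m2] using (IsPullback.of_hasPullback f.hom (j ≫ f.hom)).flip) (hXX.lift_snd _ _ _).symm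
      hXX.flip
  have hm1 : RepWith @IsOpenImmersion m1 := repWith_of_isPullback s1 hj
  have hm2 : RepWith @IsOpenImmersion m2 := repWith_of_isPullback s2 hj
  have hop : IsOpenMap (Points.map (pullback.diagonal (j ≫ f.hom) ≫ m1 ≫ m2)) :=
    isOpenMap_map_of_repWith (P := @IsOpenImmersion) (fun g hg => by
      haveI : IsOpenImmersion g := hg; exact g.isOpenEmbedding.isOpenMap) (repWith_comp hd (repWith_comp hm1 hm2))
  have e : pullback.diagonal (j ≫ f.hom) ≫ m1 ≫ m2 = j ≫ hXX.lift (𝟙 X.obj) (𝟙 X.obj) rfl := by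
    apply hXX.hom_ext <;> simp [m1, m2]
  have := hop.isOpen_range
  rwa [e, show Points.map (j ≫ hXX.lift (𝟙 X.obj) (𝟙 X.obj) rfl) =
    Points.map (hXX.lift (𝟙 X.obj) (𝟙 X.obj) rfl) ∘ Points.map j from funext (Points.map_comp _ _),
    Set.range_comp, range_map_subι] at this

/-- The map on self products of a base change. -/
theorem exists_pair_baseChange {XX : Space S} {pr0 pr1 : XX ⟶ X} (hXX : IsPullback pr0.hom pr1.hom f.hom f.hom)
    {X' Y' : Space S} {gY : Y' ⟶ Y} {gX : X' ⟶ X} {f' : X' ⟶ Y'}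
    (sX : IsPullback gX.hom f'.hom f.hom gY.hom) :
    ∃ m : pullback f'.hom f'.hom ⟶ XX.obj, IsPullback m (pullback.snd f'.hom f'.hom) pr1.hom gX.hom ∧
      IsPullback gX.hom (pullback.diagonal f'.hom) (hXX.lift (𝟙 X.obj) (𝟙 X.obj) rfl) m := by
  refine ⟨hXX.lift (pullback.fst _ _ ≫ gX.hom) (pullback.snd _ _ ≫ gX.hom)
    (by rw [Category.assoc, Category.assoc, sX.w, pullback.condition_assoc]), ?_, ?_⟩
  · refine IsPullback.of_right (h₁₂ := pr0.hom) (v₁₃ := f.hom) (h₂₂ := f.hom) ?_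
      (hXX.lift_snd _ _ _) hXX
    rw [hXX.lift_fst, sX.w]
    exact (IsPullback.of_hasPullback f'.hom f'.hom).paste_horiz sX
  · refine IsPullback.of_bot (h₃₁ := gX.hom) (v₂₁ := pullback.snd f'.hom f'.hom) (v₂₂ := pr1.hom) ?_ ?_ ?_
    · rw [pullback.diagonal_snd, hXX.lift_snd]
      exact IsPullback.of_vert_isIso ⟨by simp⟩
    · apply hXX.hom_ext <;> simp
    · refine IsPullback.of_right (h₁₂ := pr0.hom) (v₁₃ := f.hom) (h₂₂ := f.hom) ?_
        (hXX.lift_snd _ _ _) hXX
      rw [hXX.lift_fst, sX.w]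
      exact (IsPullback.of_hasPullback f'.hom f'.hom).paste_horiz sX

/-- Where a morphism is unramified and universally injective. -/
theorem isWhereSet_unram_univInjective (hc : f ≫ q = p) {XX : Space S} {pr0 pr1 : XX ⟶ X}
    (hXX : IsPullback pr0.hom pr1.hom f.hom f.hom) (hp : IsClosedMor p.hom)
    (hp1 : LocP @LocallyOfFiniteType p.hom) (hp3 : IsClosedMor (pr1 ≫ p).hom) :
    IsWhereSet (LocP (@LocallyOfFiniteType ⊓ @FormallyUnramified) ⊓ IsUnivInjectiveMor) f q
      ((Points.map p.hom '' {x | IsUnramNbhd f.hom x}ᶜ)ᶜ ∩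
        (Points.map (pr1 ≫ p).hom ''
          (Points.map (hXX.lift (𝟙 X.obj) (𝟙 X.obj) rfl) '' {x | IsUnramNbhd f.hom x})ᶜ)ᶜ) := by
  have hU := isWhereSet_unram f p q hc hp hp1
  have hf := lft_first f p q hc hp1
  refine ⟨hU.1.inter (hp3 _ (isOpen_image_diagonal f hXX hf).isClosed_compl).isOpen_compl, fun Z' g => ?_⟩
  rw [Set.subset_inter_iff]
  subst hc
  constructor
  · rintro ⟨h1, h2⟩ Y' gY q' sY X' gX f' sX
    refine ⟨(hU.2 Z' g).1 h1 Y' gY q' sY X' gX f' sX, (Groth.Agent.S9938.result f').2.2 fun t => ?_⟩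
    obtain ⟨m, hm1, hm2⟩ := exists_pair_baseChange f hXX sX
    by_contra ht
    refine h2 ⟨Points.map (pullback.snd f'.hom f'.hom ≫ f'.hom ≫ q'.hom) t, rfl⟩ ⟨Points.map m t, ?_, ?_⟩
    · rintro ⟨x, -, e⟩
      obtain ⟨x', -, hx'⟩ := points_exists_of_isPullback hm2 x t e
      exact ht ⟨x', hx'⟩
    · change Points.map (pr1.hom ≫ f.hom ≫ q.hom) _ = _
      rw [← Points.map_comp, ← Points.map_comp, (hm1.paste_vert (sX.paste_vert sY)).w]
  · intro H
    have hun : Set.range (Points.map g.hom) ⊆ (Points.map (f ≫ q).hom '' {x | IsUnramNbhd f.hom x}ᶜ)ᶜ :=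
      (hU.2 Z' g).2 fun Y' gY q' sY X' gX f' sX => (H Y' gY q' sY X' gX f' sX).1
    refine ⟨hun, ?_⟩
    rintro _ ⟨z', rfl⟩ ⟨ξ, hξ, e⟩
    obtain ⟨Y', gY, q', sY, X', gX, f', sX⟩ := exists_baseChange f q g
    obtain ⟨m, hm1, hm2⟩ := exists_pair_baseChange f hXX sX
    obtain ⟨t, h1, h2⟩ := points_exists_of_isPullback (hm1.paste_vert (sX.paste_vert sY)) ξ z' e
    obtain ⟨x', hx'⟩ := ((Groth.Agent.S9938.result f').2.1 (H Y' gY q' sY X' gX f' sX).2) t
    refine hξ ⟨Points.map gX.hom x', ?_, ?_⟩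
    · by_contra hb
      refine hun ⟨Points.map (f'.hom ≫ q'.hom) x', rfl⟩ ⟨Points.map gX.hom x', hb, ?_⟩
      change Points.map (f.hom ≫ q.hom) _ = _
      rw [← Points.map_comp, ← Points.map_comp, (sX.paste_vert sY).w]
    · rw [← Points.map_comp, hm2.w, Points.map_comp, hx', h1]

/-- Where a morphism is a closed immersion. -/
theorem exists_isWhereSet_closedImmersion (hc : f ≫ q = p) (hp1 : LocP @LocallyOfFiniteType p.hom)
    (hp : IsUnivClosedMor p.hom) (hq : IsSeparatedMor q.hom) :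
    ∃ Ω, IsWhereSet (RepWith @IsClosedImmersion) f q Ω := by
  let XX : Space S := ⟨_, isAlgSpace_pullback Y.property.diag X.property X.property f.hom f.hom⟩
  let pr0 : XX ⟶ X := ObjectProperty.homMk (pullback.fst f.hom f.hom)
  let pr1 : XX ⟶ X := ObjectProperty.homMk (pullback.snd f.hom f.hom)
  have hXX : IsPullback pr0.hom pr1.hom f.hom f.hom := IsPullback.of_hasPullback _ _
  have hfc : IsUnivClosedMor f.hom := univClosed_of_comp_separated X.property Y.property Z.property f.hom q.hom hq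
    (by subst hc; exact hp)
  have hpc : IsClosedMor p.hom := univClosed_closed Z.property hp
  have hp3 : IsClosedMor (pr1 ≫ p).hom :=
    univClosed_closed Z.property (univClosed_comp X.property Z.property (univSp_baseChange hXX hfc) hp)
  refine ⟨_, (isWhereSet_unram_univInjective f p q hc hXX hpc hp1 hp3).congr
    fun Z' g Y' gY q' sY X' gX f' sX => ?_⟩
  exact ((Groth.Agent.S10614.result f').2.1.trans (and_iff_right (univSp_baseChange sX hfc))).symm

/-- Where a morphism is an isomorphism. -/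
theorem exists_isWhereSet_isIso (hc : f ≫ q = p) (hp1 : LocP @LocallyOfFinitePresentation p.hom)
    (hp2 : LocP @Flat p.hom) (hp : IsUnivClosedMor p.hom) (hq1 : LocP @LocallyOfFiniteType q.hom)
    (hq2 : IsClosedMor q.hom) (hq : IsSeparatedMor q.hom) :
    ∃ Ω, IsWhereSet (fun _ _ h => IsIso h) f q Ω := by
  have hpl : LocP @LocallyOfFiniteType p.hom := ASp.locP_mono (fun _ _ g hg => by
    haveI : LocallyOfFinitePresentation g := hg; exact (inferInstance : LocallyOfFiniteType g)) hp1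
  obtain ⟨Ω, hΩ⟩ := exists_isWhereSet_closedImmersion f p q hc hpl hp hq
  refine ⟨_, (hΩ.inter (isWhereSet_surjective_flat f p q hc (univClosed_closed Z.property hp) hp1 hp2 hq1
    hq2)).congr fun Z' g Y' gY q' sY X' gX f' sX => ⟨fun ⟨h1, h2, h3⟩ => ?_, fun h => ?_⟩⟩
  · haveI : Mono f'.hom := mono_of_repWith (P := @IsClosedImmersion) (fun g hg => by
      have : IsClosedImmersion g := hg; infer_instance) h1
    exact isIso_of_mono_qc_flat X'.property Y'.property f'.hom (repWith_le_quasiCompact h1) h3 h2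
  · haveI : IsIso f'.hom := h
    exact ⟨repWith_of_isIso _, fun y => ⟨Points.map (inv f'.hom) y, by
      rw [← Points.map_comp, IsIso.inv_hom_id, Points.map_id]⟩, locP_of_repWith (repWith_of_isIso _)⟩

end Groth.Agent.DecSec
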